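import Groth.Agent.Lib.Helper6.NumType16

/-! Generated case analysis for the genus one classification, n = 7, part 0. -/

set_option linter.unusedVariables false

namespace Groth.Agent.Helper6.G1

theorem cut7_2 (T : Models.NumericalType 7) (h2 : ∀ i, T.IsMinusTwo i) (u0 u1 u2 u3 u4 : Fin 7)
    (hn_1_0 : u1 ≠ u0)
    (e_0_1 : T.a u0 u1 ≠ 0)
    (tw_0_1 : T.w u1 = T.w u0)
    (tap_0_1 : T.a u0 u1 = T.w u0)
    (taq_0_1 : T.a u0 u1 = T.w u1)
    (hn_2_0 : u2 ≠ u0)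
    (hn_2_1 : u2 ≠ u1)
    (e_0_2 : T.a u0 u2 ≠ 0)
    (tw_0_2 : T.w u2 = T.w u0)
    (tap_0_2 : T.a u0 u2 = T.w u0)
    (taq_0_2 : T.a u0 u2 = T.w u2)
    (z_1_2 : T.a u1 u2 = 0)
    (hn_3_0 : u3 ≠ u0)
    (hn_3_1 : u3 ≠ u1)
    (hn_3_2 : u3 ≠ u2)
    (e_0_3 : T.a u0 u3 ≠ 0)
    (tw_0_3 : T.w u3 = T.w u0)
    (tap_0_3 : T.a u0 u3 = T.w u0)
    (taq_0_3 : T.a u0 u3 = T.w u3)
    (z_1_3 : T.a u1 u3 = 0)
    (z_2_3 : T.a u2 u3 = 0)
    (cl_0 : ∀ j : Fin 7, (j ≠ u0 ∧ j ≠ u1 ∧ j ≠ u2 ∧ j ≠ u3) → T.a u0 j = 0)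
    (hn_4_0 : u4 ≠ u0)
    (hn_4_1 : u4 ≠ u1)
    (hn_4_2 : u4 ≠ u2)
    (hn_4_3 : u4 ≠ u3)
    (e_1_4 : T.a u1 u4 ≠ 0)
    (z_0_4 : T.a u0 u4 = 0)
    (tw_1_4 : T.w u4 = T.w u1)
    (tap_1_4 : T.a u1 u4 = T.w u1)
    (taq_1_4 : T.a u1 u4 = T.w u4)
    (z_2_4 : T.a u2 u4 = 0)
    (z_3_4 : T.a u3 u4 = 0) :
    ∃ (σ : Equiv.Perm (Fin 7)) (m w : ℤ), ((T.m (σ 0) = m ∧ T.m (σ 1) = m ∧ T.m (σ 2) = m ∧ T.m (σ 3) = m ∧ T.m (σ 4) = m ∧ T.m (σ 5) = m ∧ T.m (σ 6) = m ∧ T.w (σ 0) = w ∧ T.w (σ 1) = w ∧ T.w (σ 2) = w ∧ T.w (σ 3) = w ∧ T.w (σ 4) = w ∧ T.w (σ 5) = w ∧ T.w (σ 6) = w ∧ T.a (σ 0) (σ 0) = -2 * w ∧ T.a (σ 0) (σ 1) = w ∧ T.a (σ 0) (σ 2) = 0 ∧ T.a (σ 0) (σ 3) = 0 ∧ T.a (σ 0) (σ 4) = 0 ∧ T.a (σ 0) (σ 5) = 0 ∧ T.a (σ 0) (σ 6) = w ∧ T.a (σ 1) (σ 1) = -2 * w ∧ T.a (σ 1) (σ 2) = w ∧ T.a (σ 1) (σ 3) = 0 ∧ T.a (σ 1) (σ 4) = 0 ∧ T.a (σ 1) (σ 5) = 0 ∧ T.a (σ 1) (σ 6) = 0 ∧ T.a (σ 2) (σ 2) = -2 * w ∧ T.a (σ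 2) (σ 3) = w ∧ T.a (σ 2) (σ 4) = 0 ∧ T.a (σ 2) (σ 5) = 0 ∧ T.a (σ 2) (σ 6) = 0 ∧ T.a (σ 3) (σ 3) = -2 * w ∧ T.a (σ 3) (σ 4) = w ∧ T.a (σ 3) (σ 5) = 0 ∧ T.a (σ 3) (σ 6) = 0 ∧ T.a (σ 4) (σ 4) = -2 * w ∧ T.a (σ 4) (σ 5) = w ∧ T.a (σ 4) (σ 6) = 0 ∧ T.a (σ 5) (σ 5) = -2 * w ∧ T.a (σ 5) (σ 6) = w ∧ T.a (σ 6) (σ 6) = -2 * w) ∨ (T.m (σ 0) = 2 * m ∧ T.m (σ 1) = 2 * m ∧ T.m (σ 2) = 2 * m ∧ T.m (σ 3) = 2 * m ∧ T.m (σ 4) = 2 * m ∧ T.m (σ 5) = 2 * m ∧ T.m (σ 6) = m ∧ T.w (σ 0) = w ∧ T.w (σ 1) = 2 * w ∧ T.w (σ 2) = 2 * w ∧ T.w (σ 3) = 2 * w ∧ T.w (σ 4) = 2 * w ∧ T.w (σ 5) = 2 * w ∧ T.w (σ 6) = 4 * w ∧ T.a (σ 0) (σ 0) = -2 * w ∧ T.a (σ 0) (σ 1) = 2 * w ∧ T.a (σ 0) (σ 2) = 0 ∧ T.a (σ 0) (σ 3) = 0 ∧ T.a (σ 0) (σ 4) = 0 ∧ T.a (σ 0) (σ 5) = 0 ∧ T.a (σ 0) (σ 6) = 0 ∧ T.a (σ 1) (σ 1) = -4 * w ∧ T.a (σ 1) (σ 2) = 2 * w ∧ T.a (σ 1) (σ 3) = 0 ∧ T.a (σ 1) (σ 4) = 0 ∧ T.a (σ 1) (σ 5) = 0 ∧ T.a (σ 1) (σ 6) = 0 ∧ T.a (σ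 2) (σ 2) = -4 * w ∧ T.a (σ 2) (σ 3) = 2 * w ∧ T.a (σ 2) (σ 4) = 0 ∧ T.a (σ 2) (σ 5) = 0 ∧ T.a (σ 2) (σ 6) = 0 ∧ T.a (σ 3) (σ 3) = -4 * w ∧ T.a (σ 3) (σ 4) = 2 * w ∧ T.a (σ 3) (σ 5) = 0 ∧ T.a (σ 3) (σ 6) = 0 ∧ T.a (σ 4) (σ 4) = -4 * w ∧ T.a (σ 4) (σ 5) = 2 * w ∧ T.a (σ 4) (σ 6) = 0 ∧ T.a (σ 5) (σ 5) = -4 * w ∧ T.a (σ 5) (σ 6) = 4 * w ∧ T.a (σ 6) (σ 6) = -8 * w) ∨ (T.m (σ 0) = m ∧ T.m (σ 1) = m ∧ T.m (σ 2) = m ∧ T.m (σ 3) = m ∧ T.m (σ 4) = m ∧ T.m (σ 5) = m ∧ T.m (σ 6) = m ∧ T.w (σ 0) = w ∧ T.w (σ 1) = 2 * w ∧ T.w (σ 2) = 2 * w ∧ T.w (σ 3) = 2 * w ∧ T.w (σ 4) = 2 * w ∧ T.w (σ 5) = 2 * w ∧ T.w (σ 6) = w ∧ T.a (σ 0) (σ 0) = -2 * w ∧ T.a (σ 0) (σ 1) = 2 * w ∧ T.a (σ 0) (σ 2) = 0 ∧ T.a (σ 0) (σ 3) = 0 ∧ T.a (σ 0) (σ 4) = 0 ∧ T.a (σ 0) (σ 5) = 0 ∧ T.a (σ 0) (σ 6) = 0 ∧ T.a (σ 1) (σ 1) = -4 * w ∧ T.a (σ 1) (σ 2) = 2 * w ∧ T.a (σ 1) (σ 3) = 0 ∧ T.a (σ 1) (σ 4) = 0 ∧ T.a (σ 1) (σ 5) = 0 ∧ T.a (σ 1) (σ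 6) = 0 ∧ T.a (σ 2) (σ 2) = -4 * w ∧ T.a (σ 2) (σ 3) = 2 * w ∧ T.a (σ 2) (σ 4) = 0 ∧ T.a (σ 2) (σ 5) = 0 ∧ T.a (σ 2) (σ 6) = 0 ∧ T.a (σ 3) (σ 3) = -4 * w ∧ T.a (σ 3) (σ 4) = 2 * w ∧ T.a (σ 3) (σ 5) = 0 ∧ T.a (σ 3) (σ 6) = 0 ∧ T.a (σ 4) (σ 4) = -4 * w ∧ T.a (σ 4) (σ 5) = 2 * w ∧ T.a (σ 4) (σ 6) = 0 ∧ T.a (σ 5) (σ 5) = -4 * w ∧ T.a (σ 5) (σ 6) = 2 * w ∧ T.a (σ 6) (σ 6) = -2 * w) ∨ (T.m (σ 0) = m ∧ T.m (σ 1) = 2 * m ∧ T.m (σ 2) = 2 * m ∧ T.m (σ 3) = 2 * m ∧ T.m (σ 4) = 2 * m ∧ T.m (σ 5) = 2 * m ∧ T.m (σ 6) = m ∧ T.w (σ 0) = 2 * w ∧ T.w (σ 1) = w ∧ T.w (σ 2) = w ∧ T.w (σ 3) = w ∧ T.w (σ 4) = w ∧ T.w (σ 5) = w ∧ T.w (σ 6) = 2 * w ∧ T.a (σ 0) (σ 0) = -4 * w ∧ T.a (σ 0) (σ 1) = 2 * w ∧ T.a (σ 0) (σ 2) = 0 ∧ T.a (σ 0) (σ 3) = 0 ∧ T.a (σ 0) (σ 4) = 0 ∧ T.a (σ 0) (σ 5) = 0 ∧ T.a (σ 0) (σ 6) = 0 ∧ T.a (σ 1) (σ 1) = -2 * w ∧ T.a (σ 1) (σ 2) = w ∧ T.a (σ 1) (σ 3) = 0 ∧ T.a (σ 1) (σ 4) = 0 ∧ T.a (σ 1) (σ 5)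 = 0 ∧ T.a (σ 1) (σ 6) = 0 ∧ T.a (σ 2) (σ 2) = -2 * w ∧ T.a (σ 2) (σ 3) = w ∧ T.a (σ 2) (σ 4) = 0 ∧ T.a (σ 2) (σ 5) = 0 ∧ T.a (σ 2) (σ 6) = 0 ∧ T.a (σ 3) (σ 3) = -2 * w ∧ T.a (σ 3) (σ 4) = w ∧ T.a (σ 3) (σ 5) = 0 ∧ T.a (σ 3) (σ 6) = 0 ∧ T.a (σ 4) (σ 4) = -2 * w ∧ T.a (σ 4) (σ 5) = w ∧ T.a (σ 4) (σ 6) = 0 ∧ T.a (σ 5) (σ 5) = -2 * w ∧ T.a (σ 5) (σ 6) = 2 * w ∧ T.a (σ 6) (σ 6) = -4 * w) ∨ (T.m (σ 0) = m ∧ T.m (σ 1) = 2 * m ∧ T.m (σ 2) = 2 * m ∧ T.m (σ 3) = 2 * m ∧ T.m (σ 4) = 2 * m ∧ T.m (σ 5) = m ∧ T.m (σ 6) = m ∧ T.w (σ 0) = 2 * w ∧ T.w (σ 1) = w ∧ T.w (σ 2) = w ∧ T.w (σ 3) = w ∧ T.w (σ 4) = w ∧ T.w (σ 5) = w ∧ T.w (σ 6) = w ∧ T.a (σ 0) (σ 0) = -4 * w ∧ T.a (σ 0) (σ 1) = 2 * w ∧ T.a (σ 0) (σ 2) = 0 ∧ T.a (σ 0) (σ 3) = 0 ∧ T.a (σ 0) (σ 4) = 0 ∧ T.a (σ 0) (σ 5) = 0 ∧ T.a (σ 0) (σ 6) = 0 ∧ T.a (σ 1) (σ 1) = -2 * w ∧ T.a (σ 1) (σ 2) = w ∧ T.a (σ 1) (σ 3) = 0 ∧ T.a (σ 1) (σ 4) = 0 ∧ T.a (σ 1) (σ 5)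 = 0 ∧ T.a (σ 1) (σ 6) = 0 ∧ T.a (σ 2) (σ 2) = -2 * w ∧ T.a (σ 2) (σ 3) = w ∧ T.a (σ 2) (σ 4) = 0 ∧ T.a (σ 2) (σ 5) = 0 ∧ T.a (σ 2) (σ 6) = 0 ∧ T.a (σ 3) (σ 3) = -2 * w ∧ T.a (σ 3) (σ 4) = w ∧ T.a (σ 3) (σ 5) = 0 ∧ T.a (σ 3) (σ 6) = 0 ∧ T.a (σ 4) (σ 4) = -2 * w ∧ T.a (σ 4) (σ 5) = w ∧ T.a (σ 4) (σ 6) = w ∧ T.a (σ 5) (σ 5) = -2 * w ∧ T.a (σ 5) (σ 6) = 0 ∧ T.a (σ 6) (σ 6) = -2 * w) ∨ (T.m (σ 0) = 2 * m ∧ T.m (σ 1) = 2 * m ∧ T.m (σ 2) = 2 * m ∧ T.m (σ 3) = 2 * m ∧ T.m (σ 4) = 2 * m ∧ T.m (σ 5) = m ∧ T.m (σ 6) = m ∧ T.w (σ 0) = w ∧ T.w (σ 1) = 2 * w ∧ T.w (σ 2) = 2 * w ∧ T.w (σ 3) = 2 * w ∧ T.w (σ 4) = 2 * w ∧ T.w (σ 5) = 2 * w ∧ T.w (σ 6) = 2 * w ∧ T.a (σ 0) (σ 0) = -2 * w ∧ T.a (σ 0) (σ 1) = 2 * w ∧ T.a (σ 0) (σ 2) = 0 ∧ T.a (σ 0) (σ 3) = 0 ∧ T.a (σ 0) (σ 4) = 0 ∧ T.a (σ 0) (σ 5) = 0 ∧ T.a (σ 0) (σ 6) = 0 ∧ T.a (σ 1) (σ 1) = -4 * w ∧ T.a (σ 1) (σ 2) = 2 * w ∧ T.a (σ 1) (σ 3) = 0 ∧ T.a (σ 1) (σ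 4) = 0 ∧ T.a (σ 1) (σ 5) = 0 ∧ T.a (σ 1) (σ 6) = 0 ∧ T.a (σ 2) (σ 2) = -4 * w ∧ T.a (σ 2) (σ 3) = 2 * w ∧ T.a (σ 2) (σ 4) = 0 ∧ T.a (σ 2) (σ 5) = 0 ∧ T.a (σ 2) (σ 6) = 0 ∧ T.a (σ 3) (σ 3) = -4 * w ∧ T.a (σ 3) (σ 4) = 2 * w ∧ T.a (σ 3) (σ 5) = 0 ∧ T.a (σ 3) (σ 6) = 0 ∧ T.a (σ 4) (σ 4) = -4 * w ∧ T.a (σ 4) (σ 5) = 2 * w ∧ T.a (σ 4) (σ 6) = 2 * w ∧ T.a (σ 5) (σ 5) = -4 * w ∧ T.a (σ 5) (σ 6) = 0 ∧ T.a (σ 6) (σ 6) = -4 * w) ∨ (T.m (σ 0) = m ∧ T.m (σ 1) = m ∧ T.m (σ 2) = 2 * m ∧ T.m (σ 3) = 2 * m ∧ T.m (σ 4) = 2 * m ∧ T.m (σ 5) = m ∧ T.m (σ 6) = m ∧ T.w (σ 0) = w ∧ T.w (σ 1) = w ∧ T.w (σ 2) = w ∧ T.w (σ 3) = w ∧ T.w (σ 4) = w ∧ T.w (σ 5) = w ∧ T.w (σ 6) = w ∧ T.a (σ 0) (σ 0) = -2 * w ∧ T.a (σ 0) (σ 1) = 0 ∧ T.a (σ 0) (σ 2) = w ∧ T.a (σ 0) (σ 3) = 0 ∧ T.a (σ 0) (σ 4) = 0 ∧ T.a (σ 0) (σ 5) = 0 ∧ T.a (σ 0) (σ 6) = 0 ∧ T.a (σ 1) (σ 1) = -2 * w ∧ T.a (σ 1) (σ 2) = w ∧ T.a (σ 1) (σ 3) = 0 ∧ T.a (σ 1) (σ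 4) = 0 ∧ T.a (σ 1) (σ 5) = 0 ∧ T.a (σ 1) (σ 6) = 0 ∧ T.a (σ 2) (σ 2) = -2 * w ∧ T.a (σ 2) (σ 3) = w ∧ T.a (σ 2) (σ 4) = 0 ∧ T.a (σ 2) (σ 5) = 0 ∧ T.a (σ 2) (σ 6) = 0 ∧ T.a (σ 3) (σ 3) = -2 * w ∧ T.a (σ 3) (σ 4) = w ∧ T.a (σ 3) (σ 5) = 0 ∧ T.a (σ 3) (σ 6) = 0 ∧ T.a (σ 4) (σ 4) = -2 * w ∧ T.a (σ 4) (σ 5) = w ∧ T.a (σ 4) (σ 6) = w ∧ T.a (σ 5) (σ 5) = -2 * w ∧ T.a (σ 5) (σ 6) = 0 ∧ T.a (σ 6) (σ 6) = -2 * w) ∨ (T.m (σ 0) = m ∧ T.m (σ 1) = 2 * m ∧ T.m (σ 2) = 3 * m ∧ T.m (σ 3) = m ∧ T.m (σ 4) = 2 * m ∧ T.m (σ 5) = m ∧ T.m (σ 6) = 2 * m ∧ T.w (σ 0) = w ∧ T.w (σ 1) = w ∧ T.w (σ 2) = w ∧ T.w (σ 3) = w ∧ T.w (σ 4) = w ∧ T.w (σ 5) = w ∧ T.w (σ 6) = w ∧ T.a (σ 0) (σ 0) = -2 * w ∧ T.a (σ 0) (σ 1) = w ∧ T.a (σ 0) (σ 2) = 0 ∧ T.a (σ 0) (σ 3) = 0 ∧ T.a (σ 0) (σ 4) = 0 ∧ T.a (σ 0) (σ 5) = 0 ∧ T.a (σ 0) (σ 6) = 0 ∧ T.a (σ 1) (σ 1) = -2 * w ∧ T.a (σ 1) (σ 2) = w ∧ T.a (σ 1) (σ 3) = 0 ∧ T.a (σ 1) (σ 4) = 0 ∧ T.a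 (σ 1) (σ 5) = 0 ∧ T.a (σ 1) (σ 6) = 0 ∧ T.a (σ 2) (σ 2) = -2 * w ∧ T.a (σ 2) (σ 3) = 0 ∧ T.a (σ 2) (σ 4) = w ∧ T.a (σ 2) (σ 5) = 0 ∧ T.a (σ 2) (σ 6) = w ∧ T.a (σ 3) (σ 3) = -2 * w ∧ T.a (σ 3) (σ 4) = w ∧ T.a (σ 3) (σ 5) = 0 ∧ T.a (σ 3) (σ 6) = 0 ∧ T.a (σ 4) (σ 4) = -2 * w ∧ T.a (σ 4) (σ 5) = 0 ∧ T.a (σ 4) (σ 6) = 0 ∧ T.a (σ 5) (σ 5) = -2 * w ∧ T.a (σ 5) (σ 6) = w ∧ T.a (σ 6) (σ 6) = -2 * w)) := by
  by_cases hx : ∃ j, (j ≠ u0 ∧ j ≠ u1 ∧ j ≠ u2 ∧ j ≠ u3 ∧ j ≠ u4) ∧ T.a u1 j ≠ 0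
  · obtain ⟨u5, ⟨hn_5_0, hn_5_1, hn_5_2, hn_5_3, hn_5_4⟩, e_1_5⟩ := hx
    have z_0_5 : T.a u0 u5 = 0 := cl_0 u5 ⟨hn_5_0, hn_5_1, hn_5_2, hn_5_3⟩
    rcases Groth.Agent.Helper6.NT.edge5 T h2 (by norm_num) u1 u5 hn_5_1.symm e_1_5 with ⟨tw_1_5, tap_1_5, taq_1_5⟩ | ⟨tw_1_5, tap_1_5, taq_1_5⟩ | ⟨tw_1_5, tap_1_5, taq_1_5⟩ | ⟨tw_1_5, tap_1_5, taq_1_5⟩ | ⟨tw_1_5, tap_1_5, taq_1_5⟩
    · -- (1,5) S
      exfalso
      have key := Groth.Agent.Helper6.NT.negfun6 T h2 u0 u1 u2 u3 u4 u5 (by norm_num) 2 2 1 1 1 1 (by norm_num) (by norm_num)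
      linarith only [key, tap_0_1, taq_0_1, tap_0_2, taq_0_2, tap_0_3, taq_0_3, z_0_4, z_0_5, z_1_2, z_1_3, tap_1_4, taq_1_4, tap_1_5, taq_1_5, z_2_3, z_2_4, T.offDiag_nonneg u2 u5 hn_5_2.symm, z_3_4, T.offDiag_nonneg u3 u5 hn_5_3.symm, T.offDiag_nonneg u4 u5 hn_5_4.symm, T.w_pos u0, T.w_pos u1, T.w_pos u2, T.w_pos u3, T.w_pos u4, T.w_pos u5]
    · -- (1,5) Dp
      exfalso
      have key := Groth.Agent.Helper6.NT.negfun4 T h2 u0 u1 u4 u5 (by norm_num) 1 2 1 1 (by norm_num) (by norm_num)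
      linarith only [key, tap_0_1, taq_0_1, z_0_4, z_0_5, tap_1_4, taq_1_4, tap_1_5, taq_1_5, T.offDiag_nonneg u4 u5 hn_5_4.symm, T.w_pos u0, T.w_pos u1, T.w_pos u4, T.w_pos u5]
    · -- (1,5) Dm
      exfalso
      have key := Groth.Agent.Helper6.NT.negfun4 T h2 u0 u1 u4 u5 (by norm_num) 1 2 1 2 (by norm_num) (by norm_num)
      linarith only [key, tap_0_1, taq_0_1, z_0_4, z_0_5, tap_1_4, taq_1_4, tap_1_5, taq_1_5, T.offDiag_nonneg u4 u5 hn_5_4.symm, T.w_pos u0, T.w_pos u1, T.w_pos u4, T.w_pos u5]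
    · -- (1,5) Tp
      exfalso
      have key := Groth.Agent.Helper6.NT.negfun3 T h2 u1 u4 u5 (by norm_num) 2 1 1 (by norm_num) (by norm_num)
      linarith only [key, tap_1_4, taq_1_4, tap_1_5, taq_1_5, T.offDiag_nonneg u4 u5 hn_5_4.symm, T.w_pos u1, T.w_pos u4, T.w_pos u5]
    · -- (1,5) Tm
      exfalso
      have key := Groth.Agent.Helper6.NT.negfun3 T h2 u1 u4 u5 (by norm_num) 2 1 3 (by norm_num) (by norm_num)
      linarith only [key, tap_1_4, taq_1_4, tap_1_5, taq_1_5, T.offDiag_nonneg u4 u5 hn_5_4.symm, T.w_pos u1, T.w_pos u4, T.w_pos u5]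
  · push Not at hx
    have cl_1 := hx
    clear hx
    by_cases hx : ∃ j, (j ≠ u0 ∧ j ≠ u1 ∧ j ≠ u2 ∧ j ≠ u3 ∧ j ≠ u4) ∧ T.a u2 j ≠ 0
    · obtain ⟨u5, ⟨hn_5_0, hn_5_1, hn_5_2, hn_5_3, hn_5_4⟩, e_2_5⟩ := hx
      have z_0_5 : T.a u0 u5 = 0 := cl_0 u5 ⟨hn_5_0, hn_5_1, hn_5_2, hn_5_3⟩
      have z_1_5 : T.a u1 u5 = 0 := cl_1 u5 ⟨hn_5_0, hn_5_1, hn_5_2, hn_5_3, hn_5_4⟩
      rcases Groth.Agent.Helper6.NT.edge5 T h2 (by norm_num) u2 u5 hn_5_2.symm e_2_5 with ⟨tw_2_5, tap_2_5, taq_2_5⟩ | ⟨tw_2_5, tap_2_5, taq_2_5⟩ | ⟨tw_2_5, tap_2_5, taq_2_5⟩ | ⟨tw_2_5, tap_2_5, taq_2_5⟩ | ⟨tw_2_5, tap_2_5, taq_2_5⟩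
      · -- (2,5) S
        rcases eq_or_ne (T.a u3 u5) 0 with z_3_5 | nz_3_5
        · -- (3,5) zero
          rcases eq_or_ne (T.a u4 u5) 0 with z_4_5 | nz_4_5
          · -- (4,5) zero
            by_cases hx : ∃ j, (j ≠ u0 ∧ j ≠ u1 ∧ j ≠ u2 ∧ j ≠ u3 ∧ j ≠ u4 ∧ j ≠ u5) ∧ T.a u2 j ≠ 0
            · obtain ⟨u6, ⟨hn_6_0, hn_6_1, hn_6_2, hn_6_3, hn_6_4, hn_6_5⟩, e_2_6⟩ := hx
              have z_0_6 : T.a u0 u6 = 0 := cl_0 u6 ⟨hn_6_0, hn_6_1, hn_6_2, hn_6_3⟩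
              have z_1_6 : T.a u1 u6 = 0 := cl_1 u6 ⟨hn_6_0, hn_6_1, hn_6_2, hn_6_3, hn_6_4⟩
              rcases Groth.Agent.Helper6.NT.edge5 T h2 (by norm_num) u2 u6 hn_6_2.symm e_2_6 with ⟨tw_2_6, tap_2_6, taq_2_6⟩ | ⟨tw_2_6, tap_2_6, taq_2_6⟩ | ⟨tw_2_6, tap_2_6, taq_2_6⟩ | ⟨tw_2_6, tap_2_6, taq_2_6⟩ | ⟨tw_2_6, tap_2_6, taq_2_6⟩
              · -- (2,6) S
                exfalso
                have key := Groth.Agent.Helper6.NT.negfun6 T h2 u0 u1 u2 u3 u5 u6 (by norm_num) 2 1 2 1 1 1 (by norm_num) (by norm_num)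
                linarith only [key, tap_0_1, taq_0_1, tap_0_2, taq_0_2, tap_0_3, taq_0_3, z_0_5, z_0_6, z_1_2, z_1_3, z_1_5, z_1_6, z_2_3, tap_2_5, taq_2_5, tap_2_6, taq_2_6, z_3_5, T.offDiag_nonneg u3 u6 hn_6_3.symm, T.offDiag_nonneg u5 u6 hn_6_5.symm, T.w_pos u0, T.w_pos u1, T.w_pos u2, T.w_pos u3, T.w_pos u5, T.w_pos u6]
              · -- (2,6) Dp
                exfalso
                have key := Groth.Agent.Helper6.NT.negfun4 T h2 u0 u2 u5 u6 (by norm_num) 1 2 1 1 (by norm_num) (by norm_num)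
                linarith only [key, tap_0_2, taq_0_2, z_0_5, z_0_6, tap_2_5, taq_2_5, tap_2_6, taq_2_6, T.offDiag_nonneg u5 u6 hn_6_5.symm, T.w_pos u0, T.w_pos u2, T.w_pos u5, T.w_pos u6]
              · -- (2,6) Dm
                exfalso
                have key := Groth.Agent.Helper6.NT.negfun4 T h2 u0 u2 u5 u6 (by norm_num) 1 2 1 2 (by norm_num) (by norm_num)
                linarith only [key, tap_0_2, taq_0_2, z_0_5, z_0_6, tap_2_5, taq_2_5, tap_2_6, taq_2_6, T.offDiag_nonneg u5 u6 hn_6_5.symm, T.w_pos u0, T.w_pos u2, T.w_pos u5, T.w_pos u6]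
              · -- (2,6) Tp
                exfalso
                have key := Groth.Agent.Helper6.NT.negfun3 T h2 u2 u5 u6 (by norm_num) 2 1 1 (by norm_num) (by norm_num)
                linarith only [key, tap_2_5, taq_2_5, tap_2_6, taq_2_6, T.offDiag_nonneg u5 u6 hn_6_5.symm, T.w_pos u2, T.w_pos u5, T.w_pos u6]
              · -- (2,6) Tm
                exfalso
                have key := Groth.Agent.Helper6.NT.negfun3 T h2 u2 u5 u6 (by norm_num) 2 1 3 (by norm_num) (by norm_num)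
                linarith only [key, tap_2_5, taq_2_5, tap_2_6, taq_2_6, T.offDiag_nonneg u5 u6 hn_6_5.symm, T.w_pos u2, T.w_pos u5, T.w_pos u6]
            · push Not at hx
              have cl_2 := hx
              clear hx
              by_cases hx : ∃ j, (j ≠ u0 ∧ j ≠ u1 ∧ j ≠ u2 ∧ j ≠ u3 ∧ j ≠ u4 ∧ j ≠ u5) ∧ T.a u3 j ≠ 0
              · obtain ⟨u6, ⟨hn_6_0, hn_6_1, hn_6_2, hn_6_3, hn_6_4, hn_6_5⟩, e_3_6⟩ := hx
                have z_0_6 : T.a u0 u6 = 0 := cl_0 u6 ⟨hn_6_0, hn_6_1, hn_6_2, hn_6_3⟩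
                have z_1_6 : T.a u1 u6 = 0 := cl_1 u6 ⟨hn_6_0, hn_6_1, hn_6_2, hn_6_3, hn_6_4⟩
                have z_2_6 : T.a u2 u6 = 0 := cl_2 u6 ⟨hn_6_0, hn_6_1, hn_6_2, hn_6_3, hn_6_4, hn_6_5⟩
                rcases Groth.Agent.Helper6.NT.edge5 T h2 (by norm_num) u3 u6 hn_6_3.symm e_3_6 with ⟨tw_3_6, tap_3_6, taq_3_6⟩ | ⟨tw_3_6, tap_3_6, taq_3_6⟩ | ⟨tw_3_6, tap_3_6, taq_3_6⟩ | ⟨tw_3_6, tap_3_6, taq_3_6⟩ | ⟨tw_3_6, tap_3_6, taq_3_6⟩
                · -- (3,6) S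
                  rcases eq_or_ne (T.a u4 u6) 0 with z_4_6 | nz_4_6
                  · -- (4,6) zero
                    rcases eq_or_ne (T.a u5 u6) 0 with z_5_6 | nz_5_6
                    · -- (5,6) zero
                      have hinj := Groth.Agent.Helper6.NT.inj7 u0 u1 u2 u3 u4 u5 u6 hn_1_0 hn_2_0 hn_2_1 hn_3_0 hn_3_1 hn_3_2 hn_4_0 hn_4_1 hn_4_2 hn_4_3 hn_5_0 hn_5_1 hn_5_2 hn_5_3 hn_5_4 hn_6_0 hn_6_1 hn_6_2 hn_6_3 hn_6_4 hn_6_5
                      have r_0 : -2 * T.m u0 + 1 * T.m u1 + 1 * T.m u2 + 1 * T.m u3 = 0 := by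
                        have key := Groth.Agent.Helper6.NT.rowfun7 T u0 u1 u2 u3 u4 u5 u6 hinj u0
                        rw [(h2 u0).2, tap_0_1, tap_0_2, tap_0_3, z_0_4, z_0_5, z_0_6] at key
                        exact mul_left_cancel₀ (T.w_pos u0).ne' (by linarith only [key])
                      have r_1 : 1 * T.m u0 + -2 * T.m u1 + 1 * T.m u4 = 0 := by
                        have key := Groth.Agent.Helper6.NT.rowfun7 T u0 u1 u2 u3 u4 u5 u6 hinj u1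
                        rw [Groth.Agent.Helper6.NT.symm' T u1 u0, taq_0_1, (h2 u1).2, z_1_2, z_1_3, tap_1_4, z_1_5, z_1_6] at key
                        exact mul_left_cancel₀ (T.w_pos u1).ne' (by linarith only [key])
                      have r_2 : 1 * T.m u0 + -2 * T.m u2 + 1 * T.m u5 = 0 := by
                        have key := Groth.Agent.Helper6.NT.rowfun7 T u0 u1 u2 u3 u4 u5 u6 hinj u2
                        rw [Groth.Agent.Helper6.NT.symm' T u2 u0, taq_0_2, Groth.Agent.Helper6.NT.symm' T u2 u1, z_1_2, (h2 u2).2, z_2_3, z_2_4, tap_2_5, z_2_6] at key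
                        exact mul_left_cancel₀ (T.w_pos u2).ne' (by linarith only [key])
                      have r_3 : 1 * T.m u0 + -2 * T.m u3 + 1 * T.m u6 = 0 := by
                        have key := Groth.Agent.Helper6.NT.rowfun7 T u0 u1 u2 u3 u4 u5 u6 hinj u3
                        rw [Groth.Agent.Helper6.NT.symm' T u3 u0, taq_0_3, Groth.Agent.Helper6.NT.symm' T u3 u1, z_1_3, Groth.Agent.Helper6.NT.symm' T u3 u2, z_2_3, (h2 u3).2, z_3_4, z_3_5, tap_3_6] at key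
                        exact mul_left_cancel₀ (T.w_pos u3).ne' (by linarith only [key])
                      have r_4 : 1 * T.m u1 + -2 * T.m u4 = 0 := by
                        have key := Groth.Agent.Helper6.NT.rowfun7 T u0 u1 u2 u3 u4 u5 u6 hinj u4
                        rw [Groth.Agent.Helper6.NT.symm' T u4 u0, z_0_4, Groth.Agent.Helper6.NT.symm' T u4 u1, taq_1_4, Groth.Agent.Helper6.NT.symm' T u4 u2, z_2_4, Groth.Agent.Helper6.NT.symm' T u4 u3, z_3_4, (h2 u4).2, z_4_5, z_4_6] at key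
                        exact mul_left_cancel₀ (T.w_pos u4).ne' (by linarith only [key])
                      have r_5 : 1 * T.m u2 + -2 * T.m u5 = 0 := by
                        have key := Groth.Agent.Helper6.NT.rowfun7 T u0 u1 u2 u3 u4 u5 u6 hinj u5
                        rw [Groth.Agent.Helper6.NT.symm' T u5 u0, z_0_5, Groth.Agent.Helper6.NT.symm' T u5 u1, z_1_5, Groth.Agent.Helper6.NT.symm' T u5 u2, taq_2_5, Groth.Agent.Helper6.NT.symm' T u5 u3, z_3_5, Groth.Agent.Helper6.NT.symm' T u5 u4, z_4_5, (h2 u5).2, z_5_6] at key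
                        exact mul_left_cancel₀ (T.w_pos u5).ne' (by linarith only [key])
                      have r_6 : 1 * T.m u3 + -2 * T.m u6 = 0 := by
                        have key := Groth.Agent.Helper6.NT.rowfun7 T u0 u1 u2 u3 u4 u5 u6 hinj u6
                        rw [Groth.Agent.Helper6.NT.symm' T u6 u0, z_0_6, Groth.Agent.Helper6.NT.symm' T u6 u1, z_1_6, Groth.Agent.Helper6.NT.symm' T u6 u2, z_2_6, Groth.Agent.Helper6.NT.symm' T u6 u3, taq_3_6, Groth.Agent.Helper6.NT.symm' T u6 u4, z_4_6, Groth.Agent.Helper6.NT.symm' T u6 u5, z_5_6, (h2 u6).2] at key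
                        exact mul_left_cancel₀ (T.w_pos u6).ne' (by linarith only [key])
                      have f0 : T.m u4 = T.m u4 := rfl
                      have f1 : T.m u1 = 2 * T.m u4 := by linarith only [r_0, r_1, r_2, r_3, r_4, r_5, r_6]
                      have f2 : T.m u0 = 3 * T.m u4 := by linarith only [r_0, r_1, r_2, r_3, r_4, r_5, r_6]
                      have f3 : T.m u5 = T.m u4 := by linarith only [r_0, r_1, r_2, r_3, r_4, r_5, r_6]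
                      have f4 : T.m u2 = 2 * T.m u4 := by linarith only [r_0, r_1, r_2, r_3, r_4, r_5, r_6]
                      have f5 : T.m u6 = T.m u4 := by linarith only [r_0, r_1, r_2, r_3, r_4, r_5, r_6]
                      have f6 : T.m u3 = 2 * T.m u4 := by linarith only [r_0, r_1, r_2, r_3, r_4, r_5, r_6]
                      have f7 : T.w u4 = T.w u4 := rfl
                      have f8 : T.w u1 = T.w u4 := by linarith only [tw_0_1, tw_0_2, tw_0_3, tw_1_4, tw_2_5, tw_3_6]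
                      have f9 : T.w u0 = T.w u4 := by linarith only [tw_0_1, tw_0_2, tw_0_3, tw_1_4, tw_2_5, tw_3_6]
                      have f10 : T.w u5 = T.w u4 := by linarith only [tw_0_1, tw_0_2, tw_0_3, tw_1_4, tw_2_5, tw_3_6]
                      have f11 : T.w u2 = T.w u4 := by linarith only [tw_0_1, tw_0_2, tw_0_3, tw_1_4, tw_2_5, tw_3_6]
                      have f12 : T.w u6 = T.w u4 := by linarith only [tw_0_1, tw_0_2, tw_0_3, tw_1_4, tw_2_5, tw_3_6]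
                      have f13 : T.w u3 = T.w u4 := by linarith only [tw_0_1, tw_0_2, tw_0_3, tw_1_4, tw_2_5, tw_3_6]
                      have f14 : T.a u4 u4 = -2 * T.w u4 := by have := (h2 u4).2; linarith only [this, tw_0_1, tw_0_2, tw_0_3, tw_1_4, tw_2_5, tw_3_6]
                      have f15 : T.a u4 u1 = T.w u4 := by rw [Groth.Agent.Helper6.NT.symm' T u4 u1]; linarith only [tap_1_4, tw_0_1, tw_0_2, tw_0_3, tw_1_4, tw_2_5, tw_3_6]
                      have f16 : T.a u4 u0 = 0 := by rw [Groth.Agent.Helper6.NT.symm' T u4 u0]; exact z_0_4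
                      have f17 : T.a u4 u5 = 0 := by exact z_4_5
                      have f18 : T.a u4 u2 = 0 := by rw [Groth.Agent.Helper6.NT.symm' T u4 u2]; exact z_2_4
                      have f19 : T.a u4 u6 = 0 := by exact z_4_6
                      have f20 : T.a u4 u3 = 0 := by rw [Groth.Agent.Helper6.NT.symm' T u4 u3]; exact z_3_4
                      have f21 : T.a u1 u1 = -2 * T.w u4 := by have := (h2 u1).2; linarith only [this, tw_0_1, tw_0_2, tw_0_3, tw_1_4, tw_2_5, tw_3_6]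
                      have f22 : T.a u1 u0 = T.w u4 := by rw [Groth.Agent.Helper6.NT.symm' T u1 u0]; linarith only [tap_0_1, tw_0_1, tw_0_2, tw_0_3, tw_1_4, tw_2_5, tw_3_6]
                      have f23 : T.a u1 u5 = 0 := by exact z_1_5
                      have f24 : T.a u1 u2 = 0 := by exact z_1_2
                      have f25 : T.a u1 u6 = 0 := by exact z_1_6
                      have f26 : T.a u1 u3 = 0 := by exact z_1_3
                      have f27 : T.a u0 u0 = -2 * T.w u4 := by have := (h2 u0).2; linarith only [this, tw_0_1, tw_0_2, tw_0_3, tw_1_4, tw_2_5, tw_3_6]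
                      have f28 : T.a u0 u5 = 0 := by exact z_0_5
                      have f29 : T.a u0 u2 = T.w u4 := by linarith only [tap_0_2, tw_0_1, tw_0_2, tw_0_3, tw_1_4, tw_2_5, tw_3_6]
                      have f30 : T.a u0 u6 = 0 := by exact z_0_6
                      have f31 : T.a u0 u3 = T.w u4 := by linarith only [tap_0_3, tw_0_1, tw_0_2, tw_0_3, tw_1_4, tw_2_5, tw_3_6]
                      have f32 : T.a u5 u5 = -2 * T.w u4 := by have := (h2 u5).2; linarith only [this, tw_0_1, tw_0_2, tw_0_3, tw_1_4, tw_2_5, tw_3_6]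
                      have f33 : T.a u5 u2 = T.w u4 := by rw [Groth.Agent.Helper6.NT.symm' T u5 u2]; linarith only [tap_2_5, tw_0_1, tw_0_2, tw_0_3, tw_1_4, tw_2_5, tw_3_6]
                      have f34 : T.a u5 u6 = 0 := by exact z_5_6
                      have f35 : T.a u5 u3 = 0 := by rw [Groth.Agent.Helper6.NT.symm' T u5 u3]; exact z_3_5
                      have f36 : T.a u2 u2 = -2 * T.w u4 := by have := (h2 u2).2; linarith only [this, tw_0_1, tw_0_2, tw_0_3, tw_1_4, tw_2_5, tw_3_6]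
                      have f37 : T.a u2 u6 = 0 := by exact z_2_6
                      have f38 : T.a u2 u3 = 0 := by exact z_2_3
                      have f39 : T.a u6 u6 = -2 * T.w u4 := by have := (h2 u6).2; linarith only [this, tw_0_1, tw_0_2, tw_0_3, tw_1_4, tw_2_5, tw_3_6]
                      have f40 : T.a u6 u3 = T.w u4 := by rw [Groth.Agent.Helper6.NT.symm' T u6 u3]; linarith only [tap_3_6, tw_0_1, tw_0_2, tw_0_3, tw_1_4, tw_2_5, tw_3_6]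
                      have f41 : T.a u3 u3 = -2 * T.w u4 := by have := (h2 u3).2; linarith only [this, tw_0_1, tw_0_2, tw_0_3, tw_1_4, tw_2_5, tw_3_6]
                      have hsig := Groth.Agent.Helper6.NT.inj7 u4 u1 u0 u5 u2 u6 u3 hn_4_1.symm hn_4_0.symm hn_1_0.symm hn_5_4 hn_5_1 hn_5_0 hn_4_2.symm hn_2_1 hn_2_0 hn_5_2.symm hn_6_4 hn_6_1 hn_6_0 hn_6_5 hn_6_2 hn_4_3.symm hn_3_1 hn_3_0 hn_5_3.symm hn_3_2 hn_6_3.symm
                      exact ⟨Equiv.ofBijective _ (Finite.injective_iff_bijective.1 hsig), T.m u4, T.w u4, Or.inr (Or.inr (Or.inr (Or.inr (Or.inr (Or.inr (Or.inr (⟨f0, f1, f2, f3, f4, f5, f6, f7, f8, f9, f10, f11, f12, f13, f14, f15, f16, f17, f18, f19, f20, f21, f22, f23, f24, f25, f26, f27, f28, f29, f30, f31, f32, f33, f34, f35, f36, f37, f38, f39, f40, f41⟩)))))))⟩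
                    · -- (5,6) nonzero
                      obtain ⟨lbp_5_6, lbq_5_6⟩ := Groth.Agent.Helper6.NT.lb T u5 u6 hn_6_5.symm nz_5_6
                      exfalso
                      have key := Groth.Agent.Helper6.NT.negfun5 T h2 u0 u2 u3 u5 u6 (by norm_num) 1 1 1 1 1 (by norm_num) (by norm_num)
                      linarith only [key, tap_0_2, taq_0_2, tap_0_3, taq_0_3, z_0_5, z_0_6, z_2_3, tap_2_5, taq_2_5, z_2_6, z_3_5, tap_3_6, taq_3_6, lbp_5_6, lbq_5_6, T.w_pos u0, T.w_pos u2, T.w_pos u3, T.w_pos u5, T.w_pos u6]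
                  · -- (4,6) nonzero
                    obtain ⟨lbp_4_6, lbq_4_6⟩ := Groth.Agent.Helper6.NT.lb T u4 u6 hn_6_4.symm nz_4_6
                    exfalso
                    have key := Groth.Agent.Helper6.NT.negfun5 T h2 u0 u1 u3 u4 u6 (by norm_num) 1 1 1 1 1 (by norm_num) (by norm_num)
                    linarith only [key, tap_0_1, taq_0_1, tap_0_3, taq_0_3, z_0_4, z_0_6, z_1_3, tap_1_4, taq_1_4, z_1_6, z_3_4, tap_3_6, taq_3_6, lbp_4_6, lbq_4_6, T.w_pos u0, T.w_pos u1, T.w_pos u3, T.w_pos u4, T.w_pos u6]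
                · -- (3,6) Dp
                  exfalso
                  have key := Groth.Agent.Helper6.NT.negfun5 T h2 u0 u1 u2 u3 u6 (by norm_num) 2 1 1 2 1 (by norm_num) (by norm_num)
                  linarith only [key, tap_0_1, taq_0_1, tap_0_2, taq_0_2, tap_0_3, taq_0_3, z_0_6, z_1_2, z_1_3, z_1_6, z_2_3, z_2_6, tap_3_6, taq_3_6, T.w_pos u0, T.w_pos u1, T.w_pos u2, T.w_pos u3, T.w_pos u6]
                · -- (3,6) Dm
                  exfalso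
                  have key := Groth.Agent.Helper6.NT.negfun5 T h2 u0 u1 u2 u3 u6 (by norm_num) 2 1 1 2 2 (by norm_num) (by norm_num)
                  linarith only [key, tap_0_1, taq_0_1, tap_0_2, taq_0_2, tap_0_3, taq_0_3, z_0_6, z_1_2, z_1_3, z_1_6, z_2_3, z_2_6, tap_3_6, taq_3_6, T.w_pos u0, T.w_pos u1, T.w_pos u2, T.w_pos u3, T.w_pos u6]
                · -- (3,6) Tp
                  exfalso
                  have key := Groth.Agent.Helper6.NT.negfun3 T h2 u0 u3 u6 (by norm_num) 1 2 1 (by norm_num) (by norm_num)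
                  linarith only [key, tap_0_3, taq_0_3, z_0_6, tap_3_6, taq_3_6, T.w_pos u0, T.w_pos u3, T.w_pos u6]
                · -- (3,6) Tm
                  exfalso
                  have key := Groth.Agent.Helper6.NT.negfun3 T h2 u0 u3 u6 (by norm_num) 1 2 3 (by norm_num) (by norm_num)
                  linarith only [key, tap_0_3, taq_0_3, z_0_6, tap_3_6, taq_3_6, T.w_pos u0, T.w_pos u3, T.w_pos u6]
              · push Not at hx
                have cl_3 := hx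
                clear hx
                by_cases hx : ∃ j, (j ≠ u0 ∧ j ≠ u1 ∧ j ≠ u2 ∧ j ≠ u3 ∧ j ≠ u4 ∧ j ≠ u5) ∧ T.a u4 j ≠ 0
                · obtain ⟨u6, ⟨hn_6_0, hn_6_1, hn_6_2, hn_6_3, hn_6_4, hn_6_5⟩, e_4_6⟩ := hx
                  have z_0_6 : T.a u0 u6 = 0 := cl_0 u6 ⟨hn_6_0, hn_6_1, hn_6_2, hn_6_3⟩
                  have z_1_6 : T.a u1 u6 = 0 := cl_1 u6 ⟨hn_6_0, hn_6_1, hn_6_2, hn_6_3, hn_6_4⟩
                  have z_2_6 : T.a u2 u6 = 0 := cl_2 u6 ⟨hn_6_0, hn_6_1, hn_6_2, hn_6_3, hn_6_4, hn_6_5⟩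
                  have z_3_6 : T.a u3 u6 = 0 := cl_3 u6 ⟨hn_6_0, hn_6_1, hn_6_2, hn_6_3, hn_6_4, hn_6_5⟩
                  rcases Groth.Agent.Helper6.NT.edge5 T h2 (by norm_num) u4 u6 hn_6_4.symm e_4_6 with ⟨tw_4_6, tap_4_6, taq_4_6⟩ | ⟨tw_4_6, tap_4_6, taq_4_6⟩ | ⟨tw_4_6, tap_4_6, taq_4_6⟩ | ⟨tw_4_6, tap_4_6, taq_4_6⟩ | ⟨tw_4_6, tap_4_6, taq_4_6⟩
                  · -- (4,6) S
                    rcases eq_or_ne (T.a u5 u6) 0 with z_5_6 | nz_5_6
                    · -- (5,6) zero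
                      have hinj := Groth.Agent.Helper6.NT.inj7 u0 u1 u2 u3 u4 u5 u6 hn_1_0 hn_2_0 hn_2_1 hn_3_0 hn_3_1 hn_3_2 hn_4_0 hn_4_1 hn_4_2 hn_4_3 hn_5_0 hn_5_1 hn_5_2 hn_5_3 hn_5_4 hn_6_0 hn_6_1 hn_6_2 hn_6_3 hn_6_4 hn_6_5
                      have r_0 : -2 * T.m u0 + 1 * T.m u1 + 1 * T.m u2 + 1 * T.m u3 = 0 := by
                        have key := Groth.Agent.Helper6.NT.rowfun7 T u0 u1 u2 u3 u4 u5 u6 hinj u0
                        rw [(h2 u0).2, tap_0_1, tap_0_2, tap_0_3, z_0_4, z_0_5, z_0_6] at key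
                        exact mul_left_cancel₀ (T.w_pos u0).ne' (by linarith only [key])
                      have r_1 : 1 * T.m u0 + -2 * T.m u1 + 1 * T.m u4 = 0 := by
                        have key := Groth.Agent.Helper6.NT.rowfun7 T u0 u1 u2 u3 u4 u5 u6 hinj u1
                        rw [Groth.Agent.Helper6.NT.symm' T u1 u0, taq_0_1, (h2 u1).2, z_1_2, z_1_3, tap_1_4, z_1_5, z_1_6] at key
                        exact mul_left_cancel₀ (T.w_pos u1).ne' (by linarith only [key])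
                      have r_2 : 1 * T.m u0 + -2 * T.m u2 + 1 * T.m u5 = 0 := by
                        have key := Groth.Agent.Helper6.NT.rowfun7 T u0 u1 u2 u3 u4 u5 u6 hinj u2
                        rw [Groth.Agent.Helper6.NT.symm' T u2 u0, taq_0_2, Groth.Agent.Helper6.NT.symm' T u2 u1, z_1_2, (h2 u2).2, z_2_3, z_2_4, tap_2_5, z_2_6] at key
                        exact mul_left_cancel₀ (T.w_pos u2).ne' (by linarith only [key])
                      have r_3 : 1 * T.m u0 + -2 * T.m u3 = 0 := by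
                        have key := Groth.Agent.Helper6.NT.rowfun7 T u0 u1 u2 u3 u4 u5 u6 hinj u3
                        rw [Groth.Agent.Helper6.NT.symm' T u3 u0, taq_0_3, Groth.Agent.Helper6.NT.symm' T u3 u1, z_1_3, Groth.Agent.Helper6.NT.symm' T u3 u2, z_2_3, (h2 u3).2, z_3_4, z_3_5, z_3_6] at key
                        exact mul_left_cancel₀ (T.w_pos u3).ne' (by linarith only [key])
                      have r_4 : 1 * T.m u1 + -2 * T.m u4 + 1 * T.m u6 = 0 := by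
                        have key := Groth.Agent.Helper6.NT.rowfun7 T u0 u1 u2 u3 u4 u5 u6 hinj u4
                        rw [Groth.Agent.Helper6.NT.symm' T u4 u0, z_0_4, Groth.Agent.Helper6.NT.symm' T u4 u1, taq_1_4, Groth.Agent.Helper6.NT.symm' T u4 u2, z_2_4, Groth.Agent.Helper6.NT.symm' T u4 u3, z_3_4, (h2 u4).2, z_4_5, tap_4_6] at key
                        exact mul_left_cancel₀ (T.w_pos u4).ne' (by linarith only [key])
                      have r_5 : 1 * T.m u2 + -2 * T.m u5 = 0 := by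
                        have key := Groth.Agent.Helper6.NT.rowfun7 T u0 u1 u2 u3 u4 u5 u6 hinj u5
                        rw [Groth.Agent.Helper6.NT.symm' T u5 u0, z_0_5, Groth.Agent.Helper6.NT.symm' T u5 u1, z_1_5, Groth.Agent.Helper6.NT.symm' T u5 u2, taq_2_5, Groth.Agent.Helper6.NT.symm' T u5 u3, z_3_5, Groth.Agent.Helper6.NT.symm' T u5 u4, z_4_5, (h2 u5).2, z_5_6] at key
                        exact mul_left_cancel₀ (T.w_pos u5).ne' (by linarith only [key])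
                      have r_6 : 1 * T.m u4 + -2 * T.m u6 = 0 := by
                        have key := Groth.Agent.Helper6.NT.rowfun7 T u0 u1 u2 u3 u4 u5 u6 hinj u6
                        rw [Groth.Agent.Helper6.NT.symm' T u6 u0, z_0_6, Groth.Agent.Helper6.NT.symm' T u6 u1, z_1_6, Groth.Agent.Helper6.NT.symm' T u6 u2, z_2_6, Groth.Agent.Helper6.NT.symm' T u6 u3, z_3_6, Groth.Agent.Helper6.NT.symm' T u6 u4, taq_4_6, Groth.Agent.Helper6.NT.symm' T u6 u5, z_5_6, (h2 u6).2] at key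
                        exact mul_left_cancel₀ (T.w_pos u6).ne' (by linarith only [key])
                      exfalso
                      linarith only [r_0, r_1, r_2, r_3, r_4, r_5, r_6, T.m_pos u0, T.m_pos u1, T.m_pos u2, T.m_pos u3, T.m_pos u4, T.m_pos u5, T.m_pos u6]
                    · -- (5,6) nonzero
                      obtain ⟨lbp_5_6, lbq_5_6⟩ := Groth.Agent.Helper6.NT.lb T u5 u6 hn_6_5.symm nz_5_6
                      exfalso
                      have key := Groth.Agent.Helper6.NT.negfun6 T h2 u0 u1 u2 u4 u5 u6 (by norm_num) 1 1 1 1 1 1 (by norm_num) (by norm_num)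
                      linarith only [key, tap_0_1, taq_0_1, tap_0_2, taq_0_2, z_0_4, z_0_5, z_0_6, z_1_2, tap_1_4, taq_1_4, z_1_5, z_1_6, z_2_4, tap_2_5, taq_2_5, z_2_6, z_4_5, tap_4_6, taq_4_6, lbp_5_6, lbq_5_6, T.w_pos u0, T.w_pos u1, T.w_pos u2, T.w_pos u4, T.w_pos u5, T.w_pos u6]
                  · -- (4,6) Dp
                    exfalso
                    have key := Groth.Agent.Helper6.NT.negfun6 T h2 u0 u1 u2 u3 u4 u6 (by norm_num) 2 2 1 1 2 1 (by norm_num) (by norm_num)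
                    linarith only [key, tap_0_1, taq_0_1, tap_0_2, taq_0_2, tap_0_3, taq_0_3, z_0_4, z_0_6, z_1_2, z_1_3, tap_1_4, taq_1_4, z_1_6, z_2_3, z_2_4, z_2_6, z_3_4, z_3_6, tap_4_6, taq_4_6, T.w_pos u0, T.w_pos u1, T.w_pos u2, T.w_pos u3, T.w_pos u4, T.w_pos u6]
                  · -- (4,6) Dm
                    exfalso
                    have key := Groth.Agent.Helper6.NT.negfun6 T h2 u0 u1 u2 u3 u4 u6 (by norm_num) 2 2 1 1 2 2 (by norm_num) (by norm_num)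
                    linarith only [key, tap_0_1, taq_0_1, tap_0_2, taq_0_2, tap_0_3, taq_0_3, z_0_4, z_0_6, z_1_2, z_1_3, tap_1_4, taq_1_4, z_1_6, z_2_3, z_2_4, z_2_6, z_3_4, z_3_6, tap_4_6, taq_4_6, T.w_pos u0, T.w_pos u1, T.w_pos u2, T.w_pos u3, T.w_pos u4, T.w_pos u6]
                  · -- (4,6) Tp
                    exfalso
                    have key := Groth.Agent.Helper6.NT.negfun3 T h2 u1 u4 u6 (by norm_num) 1 2 1 (by norm_num) (by norm_num)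
                    linarith only [key, tap_1_4, taq_1_4, z_1_6, tap_4_6, taq_4_6, T.w_pos u1, T.w_pos u4, T.w_pos u6]
                  · -- (4,6) Tm
                    exfalso
                    have key := Groth.Agent.Helper6.NT.negfun3 T h2 u1 u4 u6 (by norm_num) 1 2 3 (by norm_num) (by norm_num)
                    linarith only [key, tap_1_4, taq_1_4, z_1_6, tap_4_6, taq_4_6, T.w_pos u1, T.w_pos u4, T.w_pos u6]
                · push Not at hx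
                  have cl_4 := hx
                  clear hx
                  by_cases hx : ∃ j, (j ≠ u0 ∧ j ≠ u1 ∧ j ≠ u2 ∧ j ≠ u3 ∧ j ≠ u4 ∧ j ≠ u5) ∧ T.a u5 j ≠ 0
                  · obtain ⟨u6, ⟨hn_6_0, hn_6_1, hn_6_2, hn_6_3, hn_6_4, hn_6_5⟩, e_5_6⟩ := hx
                    have z_0_6 : T.a u0 u6 = 0 := cl_0 u6 ⟨hn_6_0, hn_6_1, hn_6_2, hn_6_3⟩
                    have z_1_6 : T.a u1 u6 = 0 := cl_1 u6 ⟨hn_6_0, hn_6_1, hn_6_2, hn_6_3, hn_6_4⟩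
                    have z_2_6 : T.a u2 u6 = 0 := cl_2 u6 ⟨hn_6_0, hn_6_1, hn_6_2, hn_6_3, hn_6_4, hn_6_5⟩
                    have z_3_6 : T.a u3 u6 = 0 := cl_3 u6 ⟨hn_6_0, hn_6_1, hn_6_2, hn_6_3, hn_6_4, hn_6_5⟩
                    have z_4_6 : T.a u4 u6 = 0 := cl_4 u6 ⟨hn_6_0, hn_6_1, hn_6_2, hn_6_3, hn_6_4, hn_6_5⟩
                    rcases Groth.Agent.Helper6.NT.edge5 T h2 (by norm_num) u5 u6 hn_6_5.symm e_5_6 with ⟨tw_5_6, tap_5_6, taq_5_6⟩ | ⟨tw_5_6, tap_5_6, taq_5_6⟩ | ⟨tw_5_6, tap_5_6, taq_5_6⟩ | ⟨tw_5_6, tap_5_6, taq_5_6⟩ | ⟨tw_5_6, tap_5_6, taq_5_6⟩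
                    · -- (5,6) S
                      have hinj := Groth.Agent.Helper6.NT.inj7 u0 u1 u2 u3 u4 u5 u6 hn_1_0 hn_2_0 hn_2_1 hn_3_0 hn_3_1 hn_3_2 hn_4_0 hn_4_1 hn_4_2 hn_4_3 hn_5_0 hn_5_1 hn_5_2 hn_5_3 hn_5_4 hn_6_0 hn_6_1 hn_6_2 hn_6_3 hn_6_4 hn_6_5
                      have r_0 : -2 * T.m u0 + 1 * T.m u1 + 1 * T.m u2 + 1 * T.m u3 = 0 := by
                        have key := Groth.Agent.Helper6.NT.rowfun7 T u0 u1 u2 u3 u4 u5 u6 hinj u0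
                        rw [(h2 u0).2, tap_0_1, tap_0_2, tap_0_3, z_0_4, z_0_5, z_0_6] at key
                        exact mul_left_cancel₀ (T.w_pos u0).ne' (by linarith only [key])
                      have r_1 : 1 * T.m u0 + -2 * T.m u1 + 1 * T.m u4 = 0 := by
                        have key := Groth.Agent.Helper6.NT.rowfun7 T u0 u1 u2 u3 u4 u5 u6 hinj u1
                        rw [Groth.Agent.Helper6.NT.symm' T u1 u0, taq_0_1, (h2 u1).2, z_1_2, z_1_3, tap_1_4, z_1_5, z_1_6] at key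
                        exact mul_left_cancel₀ (T.w_pos u1).ne' (by linarith only [key])
                      have r_2 : 1 * T.m u0 + -2 * T.m u2 + 1 * T.m u5 = 0 := by
                        have key := Groth.Agent.Helper6.NT.rowfun7 T u0 u1 u2 u3 u4 u5 u6 hinj u2
                        rw [Groth.Agent.Helper6.NT.symm' T u2 u0, taq_0_2, Groth.Agent.Helper6.NT.symm' T u2 u1, z_1_2, (h2 u2).2, z_2_3, z_2_4, tap_2_5, z_2_6] at key
                        exact mul_left_cancel₀ (T.w_pos u2).ne' (by linarith only [key])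
                      have r_3 : 1 * T.m u0 + -2 * T.m u3 = 0 := by
                        have key := Groth.Agent.Helper6.NT.rowfun7 T u0 u1 u2 u3 u4 u5 u6 hinj u3
                        rw [Groth.Agent.Helper6.NT.symm' T u3 u0, taq_0_3, Groth.Agent.Helper6.NT.symm' T u3 u1, z_1_3, Groth.Agent.Helper6.NT.symm' T u3 u2, z_2_3, (h2 u3).2, z_3_4, z_3_5, z_3_6] at key
                        exact mul_left_cancel₀ (T.w_pos u3).ne' (by linarith only [key])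
                      have r_4 : 1 * T.m u1 + -2 * T.m u4 = 0 := by
                        have key := Groth.Agent.Helper6.NT.rowfun7 T u0 u1 u2 u3 u4 u5 u6 hinj u4
                        rw [Groth.Agent.Helper6.NT.symm' T u4 u0, z_0_4, Groth.Agent.Helper6.NT.symm' T u4 u1, taq_1_4, Groth.Agent.Helper6.NT.symm' T u4 u2, z_2_4, Groth.Agent.Helper6.NT.symm' T u4 u3, z_3_4, (h2 u4).2, z_4_5, z_4_6] at key
                        exact mul_left_cancel₀ (T.w_pos u4).ne' (by linarith only [key])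
                      have r_5 : 1 * T.m u2 + -2 * T.m u5 + 1 * T.m u6 = 0 := by
                        have key := Groth.Agent.Helper6.NT.rowfun7 T u0 u1 u2 u3 u4 u5 u6 hinj u5
                        rw [Groth.Agent.Helper6.NT.symm' T u5 u0, z_0_5, Groth.Agent.Helper6.NT.symm' T u5 u1, z_1_5, Groth.Agent.Helper6.NT.symm' T u5 u2, taq_2_5, Groth.Agent.Helper6.NT.symm' T u5 u3, z_3_5, Groth.Agent.Helper6.NT.symm' T u5 u4, z_4_5, (h2 u5).2, tap_5_6] at key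
                        exact mul_left_cancel₀ (T.w_pos u5).ne' (by linarith only [key])
                      have r_6 : 1 * T.m u5 + -2 * T.m u6 = 0 := by
                        have key := Groth.Agent.Helper6.NT.rowfun7 T u0 u1 u2 u3 u4 u5 u6 hinj u6
                        rw [Groth.Agent.Helper6.NT.symm' T u6 u0, z_0_6, Groth.Agent.Helper6.NT.symm' T u6 u1, z_1_6, Groth.Agent.Helper6.NT.symm' T u6 u2, z_2_6, Groth.Agent.Helper6.NT.symm' T u6 u3, z_3_6, Groth.Agent.Helper6.NT.symm' T u6 u4, z_4_6, Groth.Agent.Helper6.NT.symm' T u6 u5, taq_5_6, (h2 u6).2] at key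
                        exact mul_left_cancel₀ (T.w_pos u6).ne' (by linarith only [key])
                      exfalso
                      linarith only [r_0, r_1, r_2, r_3, r_4, r_5, r_6, T.m_pos u0, T.m_pos u1, T.m_pos u2, T.m_pos u3, T.m_pos u4, T.m_pos u5, T.m_pos u6]
                    · -- (5,6) Dp
                      exfalso
                      have key := Groth.Agent.Helper6.NT.negfun6 T h2 u0 u1 u2 u3 u5 u6 (by norm_num) 2 1 2 1 2 1 (by norm_num) (by norm_num)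
                      linarith only [key, tap_0_1, taq_0_1, tap_0_2, taq_0_2, tap_0_3, taq_0_3, z_0_5, z_0_6, z_1_2, z_1_3, z_1_5, z_1_6, z_2_3, tap_2_5, taq_2_5, z_2_6, z_3_5, z_3_6, tap_5_6, taq_5_6, T.w_pos u0, T.w_pos u1, T.w_pos u2, T.w_pos u3, T.w_pos u5, T.w_pos u6]
                    · -- (5,6) Dm
                      exfalso
                      have key := Groth.Agent.Helper6.NT.negfun6 T h2 u0 u1 u2 u3 u5 u6 (by norm_num) 2 1 2 1 2 2 (by norm_num) (by norm_num)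
                      linarith only [key, tap_0_1, taq_0_1, tap_0_2, taq_0_2, tap_0_3, taq_0_3, z_0_5, z_0_6, z_1_2, z_1_3, z_1_5, z_1_6, z_2_3, tap_2_5, taq_2_5, z_2_6, z_3_5, z_3_6, tap_5_6, taq_5_6, T.w_pos u0, T.w_pos u1, T.w_pos u2, T.w_pos u3, T.w_pos u5, T.w_pos u6]
                    · -- (5,6) Tp
                      exfalso
                      have key := Groth.Agent.Helper6.NT.negfun3 T h2 u2 u5 u6 (by norm_num) 1 2 1 (by norm_num) (by norm_num)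
                      linarith only [key, tap_2_5, taq_2_5, z_2_6, tap_5_6, taq_5_6, T.w_pos u2, T.w_pos u5, T.w_pos u6]
                    · -- (5,6) Tm
                      exfalso
                      have key := Groth.Agent.Helper6.NT.negfun3 T h2 u2 u5 u6 (by norm_num) 1 2 3 (by norm_num) (by norm_num)
                      linarith only [key, tap_2_5, taq_2_5, z_2_6, tap_5_6, taq_5_6, T.w_pos u2, T.w_pos u5, T.w_pos u6]
                  · push Not at hx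
                    have cl_5 := hx
                    clear hx
                    exfalso
                    refine Groth.Agent.Helper6.NT.closed_contra T [u0, u1, u2, u3, u4, u5] (by simp) (by simp) ?_
                    intro i hi j hj
                    simp only [List.mem_cons, List.not_mem_nil, or_false, not_or] at hi hj
                    rcases hi with rfl | rfl | rfl | rfl | rfl | rfl
                    · exact cl_0 j ⟨hj.1, hj.2.1, hj.2.2.1, hj.2.2.2.1⟩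
                    · exact cl_1 j ⟨hj.1, hj.2.1, hj.2.2.1, hj.2.2.2.1, hj.2.2.2.2.1⟩
                    · exact cl_2 j ⟨hj.1, hj.2.1, hj.2.2.1, hj.2.2.2.1, hj.2.2.2.2.1, hj.2.2.2.2.2⟩
                    · exact cl_3 j ⟨hj.1, hj.2.1, hj.2.2.1, hj.2.2.2.1, hj.2.2.2.2.1, hj.2.2.2.2.2⟩
                    · exact cl_4 j ⟨hj.1, hj.2.1, hj.2.2.1, hj.2.2.2.1, hj.2.2.2.2.1, hj.2.2.2.2.2⟩
                    · exact cl_5 j ⟨hj.1, hj.2.1, hj.2.2.1, hj.2.2.2.1, hj.2.2.2.2.1, hj.2.2.2.2.2⟩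
          · -- (4,5) nonzero
            obtain ⟨lbp_4_5, lbq_4_5⟩ := Groth.Agent.Helper6.NT.lb T u4 u5 hn_5_4.symm nz_4_5
            exfalso
            have key := Groth.Agent.Helper6.NT.negfun5 T h2 u0 u1 u2 u4 u5 (by norm_num) 1 1 1 1 1 (by norm_num) (by norm_num)
            linarith only [key, tap_0_1, taq_0_1, tap_0_2, taq_0_2, z_0_4, z_0_5, z_1_2, tap_1_4, taq_1_4, z_1_5, z_2_4, tap_2_5, taq_2_5, lbp_4_5, lbq_4_5, T.w_pos u0, T.w_pos u1, T.w_pos u2, T.w_pos u4, T.w_pos u5]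
        · -- (3,5) nonzero
          obtain ⟨lbp_3_5, lbq_3_5⟩ := Groth.Agent.Helper6.NT.lb T u3 u5 hn_5_3.symm nz_3_5
          exfalso
          have key := Groth.Agent.Helper6.NT.negfun4 T h2 u0 u2 u3 u5 (by norm_num) 1 1 1 1 (by norm_num) (by norm_num)
          linarith only [key, tap_0_2, taq_0_2, tap_0_3, taq_0_3, z_0_5, z_2_3, tap_2_5, taq_2_5, lbp_3_5, lbq_3_5, T.w_pos u0, T.w_pos u2, T.w_pos u3, T.w_pos u5]
      · -- (2,5) Dp
        exfalso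
        have key := Groth.Agent.Helper6.NT.negfun5 T h2 u0 u1 u2 u3 u5 (by norm_num) 2 1 2 1 1 (by norm_num) (by norm_num)
        linarith only [key, tap_0_1, taq_0_1, tap_0_2, taq_0_2, tap_0_3, taq_0_3, z_0_5, z_1_2, z_1_3, z_1_5, z_2_3, tap_2_5, taq_2_5, T.offDiag_nonneg u3 u5 hn_5_3.symm, T.w_pos u0, T.w_pos u1, T.w_pos u2, T.w_pos u3, T.w_pos u5]
      · -- (2,5) Dm
        exfalso
        have key := Groth.Agent.Helper6.NT.negfun5 T h2 u0 u1 u2 u3 u5 (by norm_num) 2 1 2 1 2 (by norm_num) (by norm_num)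
        linarith only [key, tap_0_1, taq_0_1, tap_0_2, taq_0_2, tap_0_3, taq_0_3, z_0_5, z_1_2, z_1_3, z_1_5, z_2_3, tap_2_5, taq_2_5, T.offDiag_nonneg u3 u5 hn_5_3.symm, T.w_pos u0, T.w_pos u1, T.w_pos u2, T.w_pos u3, T.w_pos u5]
      · -- (2,5) Tp
        exfalso
        have key := Groth.Agent.Helper6.NT.negfun3 T h2 u0 u2 u5 (by norm_num) 1 2 1 (by norm_num) (by norm_num)
        linarith only [key, tap_0_2, taq_0_2, z_0_5, tap_2_5, taq_2_5, T.w_pos u0, T.w_pos u2, T.w_pos u5]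
      · -- (2,5) Tm
        exfalso
        have key := Groth.Agent.Helper6.NT.negfun3 T h2 u0 u2 u5 (by norm_num) 1 2 3 (by norm_num) (by norm_num)
        linarith only [key, tap_0_2, taq_0_2, z_0_5, tap_2_5, taq_2_5, T.w_pos u0, T.w_pos u2, T.w_pos u5]
    · push Not at hx
      have cl_2 := hx
      clear hx
      by_cases hx : ∃ j, (j ≠ u0 ∧ j ≠ u1 ∧ j ≠ u2 ∧ j ≠ u3 ∧ j ≠ u4) ∧ T.a u3 j ≠ 0
      · obtain ⟨u5, ⟨hn_5_0, hn_5_1, hn_5_2, hn_5_3, hn_5_4⟩, e_3_5⟩ := hx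
        have z_0_5 : T.a u0 u5 = 0 := cl_0 u5 ⟨hn_5_0, hn_5_1, hn_5_2, hn_5_3⟩
        have z_1_5 : T.a u1 u5 = 0 := cl_1 u5 ⟨hn_5_0, hn_5_1, hn_5_2, hn_5_3, hn_5_4⟩
        have z_2_5 : T.a u2 u5 = 0 := cl_2 u5 ⟨hn_5_0, hn_5_1, hn_5_2, hn_5_3, hn_5_4⟩
        rcases Groth.Agent.Helper6.NT.edge5 T h2 (by norm_num) u3 u5 hn_5_3.symm e_3_5 with ⟨tw_3_5, tap_3_5, taq_3_5⟩ | ⟨tw_3_5, tap_3_5, taq_3_5⟩ | ⟨tw_3_5, tap_3_5, taq_3_5⟩ | ⟨tw_3_5, tap_3_5, taq_3_5⟩ | ⟨tw_3_5, tap_3_5, taq_3_5⟩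
        · -- (3,5) S
          rcases eq_or_ne (T.a u4 u5) 0 with z_4_5 | nz_4_5
          · -- (4,5) zero
            by_cases hx : ∃ j, (j ≠ u0 ∧ j ≠ u1 ∧ j ≠ u2 ∧ j ≠ u3 ∧ j ≠ u4 ∧ j ≠ u5) ∧ T.a u3 j ≠ 0
            · obtain ⟨u6, ⟨hn_6_0, hn_6_1, hn_6_2, hn_6_3, hn_6_4, hn_6_5⟩, e_3_6⟩ := hx
              have z_0_6 : T.a u0 u6 = 0 := cl_0 u6 ⟨hn_6_0, hn_6_1, hn_6_2, hn_6_3⟩
              have z_1_6 : T.a u1 u6 = 0 := cl_1 u6 ⟨hn_6_0, hn_6_1, hn_6_2, hn_6_3, hn_6_4⟩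
              have z_2_6 : T.a u2 u6 = 0 := cl_2 u6 ⟨hn_6_0, hn_6_1, hn_6_2, hn_6_3, hn_6_4⟩
              rcases Groth.Agent.Helper6.NT.edge5 T h2 (by norm_num) u3 u6 hn_6_3.symm e_3_6 with ⟨tw_3_6, tap_3_6, taq_3_6⟩ | ⟨tw_3_6, tap_3_6, taq_3_6⟩ | ⟨tw_3_6, tap_3_6, taq_3_6⟩ | ⟨tw_3_6, tap_3_6, taq_3_6⟩ | ⟨tw_3_6, tap_3_6, taq_3_6⟩
              · -- (3,6) S
                exfalso
                have key := Groth.Agent.Helper6.NT.negfun6 T h2 u0 u1 u2 u3 u5 u6 (by norm_num) 2 1 1 2 1 1 (by norm_num) (by norm_num)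
                linarith only [key, tap_0_1, taq_0_1, tap_0_2, taq_0_2, tap_0_3, taq_0_3, z_0_5, z_0_6, z_1_2, z_1_3, z_1_5, z_1_6, z_2_3, z_2_5, z_2_6, tap_3_5, taq_3_5, tap_3_6, taq_3_6, T.offDiag_nonneg u5 u6 hn_6_5.symm, T.w_pos u0, T.w_pos u1, T.w_pos u2, T.w_pos u3, T.w_pos u5, T.w_pos u6]
              · -- (3,6) Dp
                exfalso
                have key := Groth.Agent.Helper6.NT.negfun4 T h2 u0 u3 u5 u6 (by norm_num) 1 2 1 1 (by norm_num) (by norm_num)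
                linarith only [key, tap_0_3, taq_0_3, z_0_5, z_0_6, tap_3_5, taq_3_5, tap_3_6, taq_3_6, T.offDiag_nonneg u5 u6 hn_6_5.symm, T.w_pos u0, T.w_pos u3, T.w_pos u5, T.w_pos u6]
              · -- (3,6) Dm
                exfalso
                have key := Groth.Agent.Helper6.NT.negfun4 T h2 u0 u3 u5 u6 (by norm_num) 1 2 1 2 (by norm_num) (by norm_num)
                linarith only [key, tap_0_3, taq_0_3, z_0_5, z_0_6, tap_3_5, taq_3_5, tap_3_6, taq_3_6, T.offDiag_nonneg u5 u6 hn_6_5.symm, T.w_pos u0, T.w_pos u3, T.w_pos u5, T.w_pos u6]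
              · -- (3,6) Tp
                exfalso
                have key := Groth.Agent.Helper6.NT.negfun3 T h2 u3 u5 u6 (by norm_num) 2 1 1 (by norm_num) (by norm_num)
                linarith only [key, tap_3_5, taq_3_5, tap_3_6, taq_3_6, T.offDiag_nonneg u5 u6 hn_6_5.symm, T.w_pos u3, T.w_pos u5, T.w_pos u6]
              · -- (3,6) Tm
                exfalso
                have key := Groth.Agent.Helper6.NT.negfun3 T h2 u3 u5 u6 (by norm_num) 2 1 3 (by norm_num) (by norm_num)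
                linarith only [key, tap_3_5, taq_3_5, tap_3_6, taq_3_6, T.offDiag_nonneg u5 u6 hn_6_5.symm, T.w_pos u3, T.w_pos u5, T.w_pos u6]
            · push Not at hx
              have cl_3 := hx
              clear hx
              by_cases hx : ∃ j, (j ≠ u0 ∧ j ≠ u1 ∧ j ≠ u2 ∧ j ≠ u3 ∧ j ≠ u4 ∧ j ≠ u5) ∧ T.a u4 j ≠ 0
              · obtain ⟨u6, ⟨hn_6_0, hn_6_1, hn_6_2, hn_6_3, hn_6_4, hn_6_5⟩, e_4_6⟩ := hx
                have z_0_6 : T.a u0 u6 = 0 := cl_0 u6 ⟨hn_6_0, hn_6_1, hn_6_2, hn_6_3⟩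
                have z_1_6 : T.a u1 u6 = 0 := cl_1 u6 ⟨hn_6_0, hn_6_1, hn_6_2, hn_6_3, hn_6_4⟩
                have z_2_6 : T.a u2 u6 = 0 := cl_2 u6 ⟨hn_6_0, hn_6_1, hn_6_2, hn_6_3, hn_6_4⟩
                have z_3_6 : T.a u3 u6 = 0 := cl_3 u6 ⟨hn_6_0, hn_6_1, hn_6_2, hn_6_3, hn_6_4, hn_6_5⟩
                rcases Groth.Agent.Helper6.NT.edge5 T h2 (by norm_num) u4 u6 hn_6_4.symm e_4_6 with ⟨tw_4_6, tap_4_6, taq_4_6⟩ | ⟨tw_4_6, tap_4_6, taq_4_6⟩ | ⟨tw_4_6, tap_4_6, taq_4_6⟩ | ⟨tw_4_6, tap_4_6, taq_4_6⟩ | ⟨tw_4_6, tap_4_6, taq_4_6⟩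
                · -- (4,6) S
                  rcases eq_or_ne (T.a u5 u6) 0 with z_5_6 | nz_5_6
                  · -- (5,6) zero
                    have hinj := Groth.Agent.Helper6.NT.inj7 u0 u1 u2 u3 u4 u5 u6 hn_1_0 hn_2_0 hn_2_1 hn_3_0 hn_3_1 hn_3_2 hn_4_0 hn_4_1 hn_4_2 hn_4_3 hn_5_0 hn_5_1 hn_5_2 hn_5_3 hn_5_4 hn_6_0 hn_6_1 hn_6_2 hn_6_3 hn_6_4 hn_6_5
                    have r_0 : -2 * T.m u0 + 1 * T.m u1 + 1 * T.m u2 + 1 * T.m u3 = 0 := by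
                      have key := Groth.Agent.Helper6.NT.rowfun7 T u0 u1 u2 u3 u4 u5 u6 hinj u0
                      rw [(h2 u0).2, tap_0_1, tap_0_2, tap_0_3, z_0_4, z_0_5, z_0_6] at key
                      exact mul_left_cancel₀ (T.w_pos u0).ne' (by linarith only [key])
                    have r_1 : 1 * T.m u0 + -2 * T.m u1 + 1 * T.m u4 = 0 := by
                      have key := Groth.Agent.Helper6.NT.rowfun7 T u0 u1 u2 u3 u4 u5 u6 hinj u1
                      rw [Groth.Agent.Helper6.NT.symm' T u1 u0, taq_0_1, (h2 u1).2, z_1_2, z_1_3, tap_1_4, z_1_5, z_1_6] at key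
                      exact mul_left_cancel₀ (T.w_pos u1).ne' (by linarith only [key])
                    have r_2 : 1 * T.m u0 + -2 * T.m u2 = 0 := by
                      have key := Groth.Agent.Helper6.NT.rowfun7 T u0 u1 u2 u3 u4 u5 u6 hinj u2
                      rw [Groth.Agent.Helper6.NT.symm' T u2 u0, taq_0_2, Groth.Agent.Helper6.NT.symm' T u2 u1, z_1_2, (h2 u2).2, z_2_3, z_2_4, z_2_5, z_2_6] at key
                      exact mul_left_cancel₀ (T.w_pos u2).ne' (by linarith only [key])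
                    have r_3 : 1 * T.m u0 + -2 * T.m u3 + 1 * T.m u5 = 0 := by
                      have key := Groth.Agent.Helper6.NT.rowfun7 T u0 u1 u2 u3 u4 u5 u6 hinj u3
                      rw [Groth.Agent.Helper6.NT.symm' T u3 u0, taq_0_3, Groth.Agent.Helper6.NT.symm' T u3 u1, z_1_3, Groth.Agent.Helper6.NT.symm' T u3 u2, z_2_3, (h2 u3).2, z_3_4, tap_3_5, z_3_6] at key
                      exact mul_left_cancel₀ (T.w_pos u3).ne' (by linarith only [key])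
                    have r_4 : 1 * T.m u1 + -2 * T.m u4 + 1 * T.m u6 = 0 := by
                      have key := Groth.Agent.Helper6.NT.rowfun7 T u0 u1 u2 u3 u4 u5 u6 hinj u4
                      rw [Groth.Agent.Helper6.NT.symm' T u4 u0, z_0_4, Groth.Agent.Helper6.NT.symm' T u4 u1, taq_1_4, Groth.Agent.Helper6.NT.symm' T u4 u2, z_2_4, Groth.Agent.Helper6.NT.symm' T u4 u3, z_3_4, (h2 u4).2, z_4_5, tap_4_6] at key
                      exact mul_left_cancel₀ (T.w_pos u4).ne' (by linarith only [key])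
                    have r_5 : 1 * T.m u3 + -2 * T.m u5 = 0 := by
                      have key := Groth.Agent.Helper6.NT.rowfun7 T u0 u1 u2 u3 u4 u5 u6 hinj u5
                      rw [Groth.Agent.Helper6.NT.symm' T u5 u0, z_0_5, Groth.Agent.Helper6.NT.symm' T u5 u1, z_1_5, Groth.Agent.Helper6.NT.symm' T u5 u2, z_2_5, Groth.Agent.Helper6.NT.symm' T u5 u3, taq_3_5, Groth.Agent.Helper6.NT.symm' T u5 u4, z_4_5, (h2 u5).2, z_5_6] at key
                      exact mul_left_cancel₀ (T.w_pos u5).ne' (by linarith only [key])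
                    have r_6 : 1 * T.m u4 + -2 * T.m u6 = 0 := by
                      have key := Groth.Agent.Helper6.NT.rowfun7 T u0 u1 u2 u3 u4 u5 u6 hinj u6
                      rw [Groth.Agent.Helper6.NT.symm' T u6 u0, z_0_6, Groth.Agent.Helper6.NT.symm' T u6 u1, z_1_6, Groth.Agent.Helper6.NT.symm' T u6 u2, z_2_6, Groth.Agent.Helper6.NT.symm' T u6 u3, z_3_6, Groth.Agent.Helper6.NT.symm' T u6 u4, taq_4_6, Groth.Agent.Helper6.NT.symm' T u6 u5, z_5_6, (h2 u6).2] at key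
                      exact mul_left_cancel₀ (T.w_pos u6).ne' (by linarith only [key])
                    exfalso
                    linarith only [r_0, r_1, r_2, r_3, r_4, r_5, r_6, T.m_pos u0, T.m_pos u1, T.m_pos u2, T.m_pos u3, T.m_pos u4, T.m_pos u5, T.m_pos u6]
                  · -- (5,6) nonzero
                    obtain ⟨lbp_5_6, lbq_5_6⟩ := Groth.Agent.Helper6.NT.lb T u5 u6 hn_6_5.symm nz_5_6
                    exfalso
                    have key := Groth.Agent.Helper6.NT.negfun6 T h2 u0 u1 u3 u4 u5 u6 (by norm_num) 1 1 1 1 1 1 (by norm_num) (by norm_num)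
                    linarith only [key, tap_0_1, taq_0_1, tap_0_3, taq_0_3, z_0_4, z_0_5, z_0_6, z_1_3, tap_1_4, taq_1_4, z_1_5, z_1_6, z_3_4, tap_3_5, taq_3_5, z_3_6, z_4_5, tap_4_6, taq_4_6, lbp_5_6, lbq_5_6, T.w_pos u0, T.w_pos u1, T.w_pos u3, T.w_pos u4, T.w_pos u5, T.w_pos u6]
                · -- (4,6) Dp
                  exfalso
                  have key := Groth.Agent.Helper6.NT.negfun6 T h2 u0 u1 u2 u3 u4 u6 (by norm_num) 2 2 1 1 2 1 (by norm_num) (by norm_num)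
                  linarith only [key, tap_0_1, taq_0_1, tap_0_2, taq_0_2, tap_0_3, taq_0_3, z_0_4, z_0_6, z_1_2, z_1_3, tap_1_4, taq_1_4, z_1_6, z_2_3, z_2_4, z_2_6, z_3_4, z_3_6, tap_4_6, taq_4_6, T.w_pos u0, T.w_pos u1, T.w_pos u2, T.w_pos u3, T.w_pos u4, T.w_pos u6]
                · -- (4,6) Dm
                  exfalso
                  have key := Groth.Agent.Helper6.NT.negfun6 T h2 u0 u1 u2 u3 u4 u6 (by norm_num) 2 2 1 1 2 2 (by norm_num) (by norm_num)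
                  linarith only [key, tap_0_1, taq_0_1, tap_0_2, taq_0_2, tap_0_3, taq_0_3, z_0_4, z_0_6, z_1_2, z_1_3, tap_1_4, taq_1_4, z_1_6, z_2_3, z_2_4, z_2_6, z_3_4, z_3_6, tap_4_6, taq_4_6, T.w_pos u0, T.w_pos u1, T.w_pos u2, T.w_pos u3, T.w_pos u4, T.w_pos u6]
                · -- (4,6) Tp
                  exfalso
                  have key := Groth.Agent.Helper6.NT.negfun3 T h2 u1 u4 u6 (by norm_num) 1 2 1 (by norm_num) (by norm_num)
                  linarith only [key, tap_1_4, taq_1_4, z_1_6, tap_4_6, taq_4_6, T.w_pos u1, T.w_pos u4, T.w_pos u6]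
                · -- (4,6) Tm
                  exfalso
                  have key := Groth.Agent.Helper6.NT.negfun3 T h2 u1 u4 u6 (by norm_num) 1 2 3 (by norm_num) (by norm_num)
                  linarith only [key, tap_1_4, taq_1_4, z_1_6, tap_4_6, taq_4_6, T.w_pos u1, T.w_pos u4, T.w_pos u6]
              · push Not at hx
                have cl_4 := hx
                clear hx
                by_cases hx : ∃ j, (j ≠ u0 ∧ j ≠ u1 ∧ j ≠ u2 ∧ j ≠ u3 ∧ j ≠ u4 ∧ j ≠ u5) ∧ T.a u5 j ≠ 0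
                · obtain ⟨u6, ⟨hn_6_0, hn_6_1, hn_6_2, hn_6_3, hn_6_4, hn_6_5⟩, e_5_6⟩ := hx
                  have z_0_6 : T.a u0 u6 = 0 := cl_0 u6 ⟨hn_6_0, hn_6_1, hn_6_2, hn_6_3⟩
                  have z_1_6 : T.a u1 u6 = 0 := cl_1 u6 ⟨hn_6_0, hn_6_1, hn_6_2, hn_6_3, hn_6_4⟩
                  have z_2_6 : T.a u2 u6 = 0 := cl_2 u6 ⟨hn_6_0, hn_6_1, hn_6_2, hn_6_3, hn_6_4⟩
                  have z_3_6 : T.a u3 u6 = 0 := cl_3 u6 ⟨hn_6_0, hn_6_1, hn_6_2, hn_6_3, hn_6_4, hn_6_5⟩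
                  have z_4_6 : T.a u4 u6 = 0 := cl_4 u6 ⟨hn_6_0, hn_6_1, hn_6_2, hn_6_3, hn_6_4, hn_6_5⟩
                  rcases Groth.Agent.Helper6.NT.edge5 T h2 (by norm_num) u5 u6 hn_6_5.symm e_5_6 with ⟨tw_5_6, tap_5_6, taq_5_6⟩ | ⟨tw_5_6, tap_5_6, taq_5_6⟩ | ⟨tw_5_6, tap_5_6, taq_5_6⟩ | ⟨tw_5_6, tap_5_6, taq_5_6⟩ | ⟨tw_5_6, tap_5_6, taq_5_6⟩
                  · -- (5,6) S
                    have hinj := Groth.Agent.Helper6.NT.inj7 u0 u1 u2 u3 u4 u5 u6 hn_1_0 hn_2_0 hn_2_1 hn_3_0 hn_3_1 hn_3_2 hn_4_0 hn_4_1 hn_4_2 hn_4_3 hn_5_0 hn_5_1 hn_5_2 hn_5_3 hn_5_4 hn_6_0 hn_6_1 hn_6_2 hn_6_3 hn_6_4 hn_6_5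
                    have r_0 : -2 * T.m u0 + 1 * T.m u1 + 1 * T.m u2 + 1 * T.m u3 = 0 := by
                      have key := Groth.Agent.Helper6.NT.rowfun7 T u0 u1 u2 u3 u4 u5 u6 hinj u0
                      rw [(h2 u0).2, tap_0_1, tap_0_2, tap_0_3, z_0_4, z_0_5, z_0_6] at key
                      exact mul_left_cancel₀ (T.w_pos u0).ne' (by linarith only [key])
                    have r_1 : 1 * T.m u0 + -2 * T.m u1 + 1 * T.m u4 = 0 := by
                      have key := Groth.Agent.Helper6.NT.rowfun7 T u0 u1 u2 u3 u4 u5 u6 hinj u1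
                      rw [Groth.Agent.Helper6.NT.symm' T u1 u0, taq_0_1, (h2 u1).2, z_1_2, z_1_3, tap_1_4, z_1_5, z_1_6] at key
                      exact mul_left_cancel₀ (T.w_pos u1).ne' (by linarith only [key])
                    have r_2 : 1 * T.m u0 + -2 * T.m u2 = 0 := by
                      have key := Groth.Agent.Helper6.NT.rowfun7 T u0 u1 u2 u3 u4 u5 u6 hinj u2
                      rw [Groth.Agent.Helper6.NT.symm' T u2 u0, taq_0_2, Groth.Agent.Helper6.NT.symm' T u2 u1, z_1_2, (h2 u2).2, z_2_3, z_2_4, z_2_5, z_2_6] at key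
                      exact mul_left_cancel₀ (T.w_pos u2).ne' (by linarith only [key])
                    have r_3 : 1 * T.m u0 + -2 * T.m u3 + 1 * T.m u5 = 0 := by
                      have key := Groth.Agent.Helper6.NT.rowfun7 T u0 u1 u2 u3 u4 u5 u6 hinj u3
                      rw [Groth.Agent.Helper6.NT.symm' T u3 u0, taq_0_3, Groth.Agent.Helper6.NT.symm' T u3 u1, z_1_3, Groth.Agent.Helper6.NT.symm' T u3 u2, z_2_3, (h2 u3).2, z_3_4, tap_3_5, z_3_6] at key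
                      exact mul_left_cancel₀ (T.w_pos u3).ne' (by linarith only [key])
                    have r_4 : 1 * T.m u1 + -2 * T.m u4 = 0 := by
                      have key := Groth.Agent.Helper6.NT.rowfun7 T u0 u1 u2 u3 u4 u5 u6 hinj u4
                      rw [Groth.Agent.Helper6.NT.symm' T u4 u0, z_0_4, Groth.Agent.Helper6.NT.symm' T u4 u1, taq_1_4, Groth.Agent.Helper6.NT.symm' T u4 u2, z_2_4, Groth.Agent.Helper6.NT.symm' T u4 u3, z_3_4, (h2 u4).2, z_4_5, z_4_6] at key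
                      exact mul_left_cancel₀ (T.w_pos u4).ne' (by linarith only [key])
                    have r_5 : 1 * T.m u3 + -2 * T.m u5 + 1 * T.m u6 = 0 := by
                      have key := Groth.Agent.Helper6.NT.rowfun7 T u0 u1 u2 u3 u4 u5 u6 hinj u5
                      rw [Groth.Agent.Helper6.NT.symm' T u5 u0, z_0_5, Groth.Agent.Helper6.NT.symm' T u5 u1, z_1_5, Groth.Agent.Helper6.NT.symm' T u5 u2, z_2_5, Groth.Agent.Helper6.NT.symm' T u5 u3, taq_3_5, Groth.Agent.Helper6.NT.symm' T u5 u4, z_4_5, (h2 u5).2, tap_5_6] at key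
                      exact mul_left_cancel₀ (T.w_pos u5).ne' (by linarith only [key])
                    have r_6 : 1 * T.m u5 + -2 * T.m u6 = 0 := by
                      have key := Groth.Agent.Helper6.NT.rowfun7 T u0 u1 u2 u3 u4 u5 u6 hinj u6
                      rw [Groth.Agent.Helper6.NT.symm' T u6 u0, z_0_6, Groth.Agent.Helper6.NT.symm' T u6 u1, z_1_6, Groth.Agent.Helper6.NT.symm' T u6 u2, z_2_6, Groth.Agent.Helper6.NT.symm' T u6 u3, z_3_6, Groth.Agent.Helper6.NT.symm' T u6 u4, z_4_6, Groth.Agent.Helper6.NT.symm' T u6 u5, taq_5_6, (h2 u6).2] at key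
                      exact mul_left_cancel₀ (T.w_pos u6).ne' (by linarith only [key])
                    exfalso
                    linarith only [r_0, r_1, r_2, r_3, r_4, r_5, r_6, T.m_pos u0, T.m_pos u1, T.m_pos u2, T.m_pos u3, T.m_pos u4, T.m_pos u5, T.m_pos u6]
                  · -- (5,6) Dp
                    exfalso
                    have key := Groth.Agent.Helper6.NT.negfun6 T h2 u0 u1 u2 u3 u5 u6 (by norm_num) 2 1 1 2 2 1 (by norm_num) (by norm_num)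
                    linarith only [key, tap_0_1, taq_0_1, tap_0_2, taq_0_2, tap_0_3, taq_0_3, z_0_5, z_0_6, z_1_2, z_1_3, z_1_5, z_1_6, z_2_3, z_2_5, z_2_6, tap_3_5, taq_3_5, z_3_6, tap_5_6, taq_5_6, T.w_pos u0, T.w_pos u1, T.w_pos u2, T.w_pos u3, T.w_pos u5, T.w_pos u6]
                  · -- (5,6) Dm
                    exfalso
                    have key := Groth.Agent.Helper6.NT.negfun6 T h2 u0 u1 u2 u3 u5 u6 (by norm_num) 2 1 1 2 2 2 (by norm_num) (by norm_num)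
                    linarith only [key, tap_0_1, taq_0_1, tap_0_2, taq_0_2, tap_0_3, taq_0_3, z_0_5, z_0_6, z_1_2, z_1_3, z_1_5, z_1_6, z_2_3, z_2_5, z_2_6, tap_3_5, taq_3_5, z_3_6, tap_5_6, taq_5_6, T.w_pos u0, T.w_pos u1, T.w_pos u2, T.w_pos u3, T.w_pos u5, T.w_pos u6]
                  · -- (5,6) Tp
                    exfalso
                    have key := Groth.Agent.Helper6.NT.negfun3 T h2 u3 u5 u6 (by norm_num) 1 2 1 (by norm_num) (by norm_num)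
                    linarith only [key, tap_3_5, taq_3_5, z_3_6, tap_5_6, taq_5_6, T.w_pos u3, T.w_pos u5, T.w_pos u6]
                  · -- (5,6) Tm
                    exfalso
                    have key := Groth.Agent.Helper6.NT.negfun3 T h2 u3 u5 u6 (by norm_num) 1 2 3 (by norm_num) (by norm_num)
                    linarith only [key, tap_3_5, taq_3_5, z_3_6, tap_5_6, taq_5_6, T.w_pos u3, T.w_pos u5, T.w_pos u6]
                · push Not at hx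
                  have cl_5 := hx
                  clear hx
                  exfalso
                  refine Groth.Agent.Helper6.NT.closed_contra T [u0, u1, u2, u3, u4, u5] (by simp) (by simp) ?_
                  intro i hi j hj
                  simp only [List.mem_cons, List.not_mem_nil, or_false, not_or] at hi hj
                  rcases hi with rfl | rfl | rfl | rfl | rfl | rfl
                  · exact cl_0 j ⟨hj.1, hj.2.1, hj.2.2.1, hj.2.2.2.1⟩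
                  · exact cl_1 j ⟨hj.1, hj.2.1, hj.2.2.1, hj.2.2.2.1, hj.2.2.2.2.1⟩
                  · exact cl_2 j ⟨hj.1, hj.2.1, hj.2.2.1, hj.2.2.2.1, hj.2.2.2.2.1⟩
                  · exact cl_3 j ⟨hj.1, hj.2.1, hj.2.2.1, hj.2.2.2.1, hj.2.2.2.2.1, hj.2.2.2.2.2⟩
                  · exact cl_4 j ⟨hj.1, hj.2.1, hj.2.2.1, hj.2.2.2.1, hj.2.2.2.2.1, hj.2.2.2.2.2⟩
                  · exact cl_5 j ⟨hj.1, hj.2.1, hj.2.2.1, hj.2.2.2.1, hj.2.2.2.2.1, hj.2.2.2.2.2⟩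
          · -- (4,5) nonzero
            obtain ⟨lbp_4_5, lbq_4_5⟩ := Groth.Agent.Helper6.NT.lb T u4 u5 hn_5_4.symm nz_4_5
            exfalso
            have key := Groth.Agent.Helper6.NT.negfun5 T h2 u0 u1 u3 u4 u5 (by norm_num) 1 1 1 1 1 (by norm_num) (by norm_num)
            linarith only [key, tap_0_1, taq_0_1, tap_0_3, taq_0_3, z_0_4, z_0_5, z_1_3, tap_1_4, taq_1_4, z_1_5, z_3_4, tap_3_5, taq_3_5, lbp_4_5, lbq_4_5, T.w_pos u0, T.w_pos u1, T.w_pos u3, T.w_pos u4, T.w_pos u5]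
        · -- (3,5) Dp
          exfalso
          have key := Groth.Agent.Helper6.NT.negfun5 T h2 u0 u1 u2 u3 u5 (by norm_num) 2 1 1 2 1 (by norm_num) (by norm_num)
          linarith only [key, tap_0_1, taq_0_1, tap_0_2, taq_0_2, tap_0_3, taq_0_3, z_0_5, z_1_2, z_1_3, z_1_5, z_2_3, z_2_5, tap_3_5, taq_3_5, T.w_pos u0, T.w_pos u1, T.w_pos u2, T.w_pos u3, T.w_pos u5]
        · -- (3,5) Dm
          exfalso
          have key := Groth.Agent.Helper6.NT.negfun5 T h2 u0 u1 u2 u3 u5 (by norm_num) 2 1 1 2 2 (by norm_num) (by norm_num)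
          linarith only [key, tap_0_1, taq_0_1, tap_0_2, taq_0_2, tap_0_3, taq_0_3, z_0_5, z_1_2, z_1_3, z_1_5, z_2_3, z_2_5, tap_3_5, taq_3_5, T.w_pos u0, T.w_pos u1, T.w_pos u2, T.w_pos u3, T.w_pos u5]
        · -- (3,5) Tp
          exfalso
          have key := Groth.Agent.Helper6.NT.negfun3 T h2 u0 u3 u5 (by norm_num) 1 2 1 (by norm_num) (by norm_num)
          linarith only [key, tap_0_3, taq_0_3, z_0_5, tap_3_5, taq_3_5, T.w_pos u0, T.w_pos u3, T.w_pos u5]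
        · -- (3,5) Tm
          exfalso
          have key := Groth.Agent.Helper6.NT.negfun3 T h2 u0 u3 u5 (by norm_num) 1 2 3 (by norm_num) (by norm_num)
          linarith only [key, tap_0_3, taq_0_3, z_0_5, tap_3_5, taq_3_5, T.w_pos u0, T.w_pos u3, T.w_pos u5]
      · push Not at hx
        have cl_3 := hx
        clear hx
        by_cases hx : ∃ j, (j ≠ u0 ∧ j ≠ u1 ∧ j ≠ u2 ∧ j ≠ u3 ∧ j ≠ u4) ∧ T.a u4 j ≠ 0
        · obtain ⟨u5, ⟨hn_5_0, hn_5_1, hn_5_2, hn_5_3, hn_5_4⟩, e_4_5⟩ := hx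
          have z_0_5 : T.a u0 u5 = 0 := cl_0 u5 ⟨hn_5_0, hn_5_1, hn_5_2, hn_5_3⟩
          have z_1_5 : T.a u1 u5 = 0 := cl_1 u5 ⟨hn_5_0, hn_5_1, hn_5_2, hn_5_3, hn_5_4⟩
          have z_2_5 : T.a u2 u5 = 0 := cl_2 u5 ⟨hn_5_0, hn_5_1, hn_5_2, hn_5_3, hn_5_4⟩
          have z_3_5 : T.a u3 u5 = 0 := cl_3 u5 ⟨hn_5_0, hn_5_1, hn_5_2, hn_5_3, hn_5_4⟩
          rcases Groth.Agent.Helper6.NT.edge5 T h2 (by norm_num) u4 u5 hn_5_4.symm e_4_5 with ⟨tw_4_5, tap_4_5, taq_4_5⟩ | ⟨tw_4_5, tap_4_5, taq_4_5⟩ | ⟨tw_4_5, tap_4_5, taq_4_5⟩ | ⟨tw_4_5, tap_4_5, taq_4_5⟩ | ⟨tw_4_5, tap_4_5, taq_4_5⟩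
          · -- (4,5) S
            by_cases hx : ∃ j, (j ≠ u0 ∧ j ≠ u1 ∧ j ≠ u2 ∧ j ≠ u3 ∧ j ≠ u4 ∧ j ≠ u5) ∧ T.a u4 j ≠ 0
            · obtain ⟨u6, ⟨hn_6_0, hn_6_1, hn_6_2, hn_6_3, hn_6_4, hn_6_5⟩, e_4_6⟩ := hx
              have z_0_6 : T.a u0 u6 = 0 := cl_0 u6 ⟨hn_6_0, hn_6_1, hn_6_2, hn_6_3⟩
              have z_1_6 : T.a u1 u6 = 0 := cl_1 u6 ⟨hn_6_0, hn_6_1, hn_6_2, hn_6_3, hn_6_4⟩
              have z_2_6 : T.a u2 u6 = 0 := cl_2 u6 ⟨hn_6_0, hn_6_1, hn_6_2, hn_6_3, hn_6_4⟩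
              have z_3_6 : T.a u3 u6 = 0 := cl_3 u6 ⟨hn_6_0, hn_6_1, hn_6_2, hn_6_3, hn_6_4⟩
              rcases Groth.Agent.Helper6.NT.edge5 T h2 (by norm_num) u4 u6 hn_6_4.symm e_4_6 with ⟨tw_4_6, tap_4_6, taq_4_6⟩ | ⟨tw_4_6, tap_4_6, taq_4_6⟩ | ⟨tw_4_6, tap_4_6, taq_4_6⟩ | ⟨tw_4_6, tap_4_6, taq_4_6⟩ | ⟨tw_4_6, tap_4_6, taq_4_6⟩
              · -- (4,6) S
                rcases eq_or_ne (T.a u5 u6) 0 with z_5_6 | nz_5_6
                · -- (5,6) zero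
                  have hinj := Groth.Agent.Helper6.NT.inj7 u0 u1 u2 u3 u4 u5 u6 hn_1_0 hn_2_0 hn_2_1 hn_3_0 hn_3_1 hn_3_2 hn_4_0 hn_4_1 hn_4_2 hn_4_3 hn_5_0 hn_5_1 hn_5_2 hn_5_3 hn_5_4 hn_6_0 hn_6_1 hn_6_2 hn_6_3 hn_6_4 hn_6_5
                  have r_0 : -2 * T.m u0 + 1 * T.m u1 + 1 * T.m u2 + 1 * T.m u3 = 0 := by
                    have key := Groth.Agent.Helper6.NT.rowfun7 T u0 u1 u2 u3 u4 u5 u6 hinj u0
                    rw [(h2 u0).2, tap_0_1, tap_0_2, tap_0_3, z_0_4, z_0_5, z_0_6] at key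
                    exact mul_left_cancel₀ (T.w_pos u0).ne' (by linarith only [key])
                  have r_1 : 1 * T.m u0 + -2 * T.m u1 + 1 * T.m u4 = 0 := by
                    have key := Groth.Agent.Helper6.NT.rowfun7 T u0 u1 u2 u3 u4 u5 u6 hinj u1
                    rw [Groth.Agent.Helper6.NT.symm' T u1 u0, taq_0_1, (h2 u1).2, z_1_2, z_1_3, tap_1_4, z_1_5, z_1_6] at key
                    exact mul_left_cancel₀ (T.w_pos u1).ne' (by linarith only [key])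
                  have r_2 : 1 * T.m u0 + -2 * T.m u2 = 0 := by
                    have key := Groth.Agent.Helper6.NT.rowfun7 T u0 u1 u2 u3 u4 u5 u6 hinj u2
                    rw [Groth.Agent.Helper6.NT.symm' T u2 u0, taq_0_2, Groth.Agent.Helper6.NT.symm' T u2 u1, z_1_2, (h2 u2).2, z_2_3, z_2_4, z_2_5, z_2_6] at key
                    exact mul_left_cancel₀ (T.w_pos u2).ne' (by linarith only [key])
                  have r_3 : 1 * T.m u0 + -2 * T.m u3 = 0 := by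
                    have key := Groth.Agent.Helper6.NT.rowfun7 T u0 u1 u2 u3 u4 u5 u6 hinj u3
                    rw [Groth.Agent.Helper6.NT.symm' T u3 u0, taq_0_3, Groth.Agent.Helper6.NT.symm' T u3 u1, z_1_3, Groth.Agent.Helper6.NT.symm' T u3 u2, z_2_3, (h2 u3).2, z_3_4, z_3_5, z_3_6] at key
                    exact mul_left_cancel₀ (T.w_pos u3).ne' (by linarith only [key])
                  have r_4 : 1 * T.m u1 + -2 * T.m u4 + 1 * T.m u5 + 1 * T.m u6 = 0 := by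
                    have key := Groth.Agent.Helper6.NT.rowfun7 T u0 u1 u2 u3 u4 u5 u6 hinj u4
                    rw [Groth.Agent.Helper6.NT.symm' T u4 u0, z_0_4, Groth.Agent.Helper6.NT.symm' T u4 u1, taq_1_4, Groth.Agent.Helper6.NT.symm' T u4 u2, z_2_4, Groth.Agent.Helper6.NT.symm' T u4 u3, z_3_4, (h2 u4).2, tap_4_5, tap_4_6] at key
                    exact mul_left_cancel₀ (T.w_pos u4).ne' (by linarith only [key])
                  have r_5 : 1 * T.m u4 + -2 * T.m u5 = 0 := by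
                    have key := Groth.Agent.Helper6.NT.rowfun7 T u0 u1 u2 u3 u4 u5 u6 hinj u5
                    rw [Groth.Agent.Helper6.NT.symm' T u5 u0, z_0_5, Groth.Agent.Helper6.NT.symm' T u5 u1, z_1_5, Groth.Agent.Helper6.NT.symm' T u5 u2, z_2_5, Groth.Agent.Helper6.NT.symm' T u5 u3, z_3_5, Groth.Agent.Helper6.NT.symm' T u5 u4, taq_4_5, (h2 u5).2, z_5_6] at key
                    exact mul_left_cancel₀ (T.w_pos u5).ne' (by linarith only [key])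
                  have r_6 : 1 * T.m u4 + -2 * T.m u6 = 0 := by
                    have key := Groth.Agent.Helper6.NT.rowfun7 T u0 u1 u2 u3 u4 u5 u6 hinj u6
                    rw [Groth.Agent.Helper6.NT.symm' T u6 u0, z_0_6, Groth.Agent.Helper6.NT.symm' T u6 u1, z_1_6, Groth.Agent.Helper6.NT.symm' T u6 u2, z_2_6, Groth.Agent.Helper6.NT.symm' T u6 u3, z_3_6, Groth.Agent.Helper6.NT.symm' T u6 u4, taq_4_6, Groth.Agent.Helper6.NT.symm' T u6 u5, z_5_6, (h2 u6).2] at key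
                    exact mul_left_cancel₀ (T.w_pos u6).ne' (by linarith only [key])
                  have f0 : T.m u2 = T.m u2 := rfl
                  have f1 : T.m u3 = T.m u2 := by linarith only [r_0, r_1, r_2, r_3, r_4, r_5, r_6]
                  have f2 : T.m u0 = 2 * T.m u2 := by linarith only [r_0, r_1, r_2, r_3, r_4, r_5, r_6]
                  have f3 : T.m u1 = 2 * T.m u2 := by linarith only [r_0, r_1, r_2, r_3, r_4, r_5, r_6]
                  have f4 : T.m u4 = 2 * T.m u2 := by linarith only [r_0, r_1, r_2, r_3, r_4, r_5, r_6]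
                  have f5 : T.m u5 = T.m u2 := by linarith only [r_0, r_1, r_2, r_3, r_4, r_5, r_6]
                  have f6 : T.m u6 = T.m u2 := by linarith only [r_0, r_1, r_2, r_3, r_4, r_5, r_6]
                  have f7 : T.w u2 = T.w u2 := rfl
                  have f8 : T.w u3 = T.w u2 := by linarith only [tw_0_1, tw_0_2, tw_0_3, tw_1_4, tw_4_5, tw_4_6]
                  have f9 : T.w u0 = T.w u2 := by linarith only [tw_0_1, tw_0_2, tw_0_3, tw_1_4, tw_4_5, tw_4_6]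
                  have f10 : T.w u1 = T.w u2 := by linarith only [tw_0_1, tw_0_2, tw_0_3, tw_1_4, tw_4_5, tw_4_6]
                  have f11 : T.w u4 = T.w u2 := by linarith only [tw_0_1, tw_0_2, tw_0_3, tw_1_4, tw_4_5, tw_4_6]
                  have f12 : T.w u5 = T.w u2 := by linarith only [tw_0_1, tw_0_2, tw_0_3, tw_1_4, tw_4_5, tw_4_6]
                  have f13 : T.w u6 = T.w u2 := by linarith only [tw_0_1, tw_0_2, tw_0_3, tw_1_4, tw_4_5, tw_4_6]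
                  have f14 : T.a u2 u2 = -2 * T.w u2 := by have := (h2 u2).2; linarith only [this, tw_0_1, tw_0_2, tw_0_3, tw_1_4, tw_4_5, tw_4_6]
                  have f15 : T.a u2 u3 = 0 := by exact z_2_3
                  have f16 : T.a u2 u0 = T.w u2 := by rw [Groth.Agent.Helper6.NT.symm' T u2 u0]; linarith only [tap_0_2, tw_0_1, tw_0_2, tw_0_3, tw_1_4, tw_4_5, tw_4_6]
                  have f17 : T.a u2 u1 = 0 := by rw [Groth.Agent.Helper6.NT.symm' T u2 u1]; exact z_1_2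
                  have f18 : T.a u2 u4 = 0 := by exact z_2_4
                  have f19 : T.a u2 u5 = 0 := by exact z_2_5
                  have f20 : T.a u2 u6 = 0 := by exact z_2_6
                  have f21 : T.a u3 u3 = -2 * T.w u2 := by have := (h2 u3).2; linarith only [this, tw_0_1, tw_0_2, tw_0_3, tw_1_4, tw_4_5, tw_4_6]
                  have f22 : T.a u3 u0 = T.w u2 := by rw [Groth.Agent.Helper6.NT.symm' T u3 u0]; linarith only [tap_0_3, tw_0_1, tw_0_2, tw_0_3, tw_1_4, tw_4_5, tw_4_6]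
                  have f23 : T.a u3 u1 = 0 := by rw [Groth.Agent.Helper6.NT.symm' T u3 u1]; exact z_1_3
                  have f24 : T.a u3 u4 = 0 := by exact z_3_4
                  have f25 : T.a u3 u5 = 0 := by exact z_3_5
                  have f26 : T.a u3 u6 = 0 := by exact z_3_6
                  have f27 : T.a u0 u0 = -2 * T.w u2 := by have := (h2 u0).2; linarith only [this, tw_0_1, tw_0_2, tw_0_3, tw_1_4, tw_4_5, tw_4_6]
                  have f28 : T.a u0 u1 = T.w u2 := by linarith only [tap_0_1, tw_0_1, tw_0_2, tw_0_3, tw_1_4, tw_4_5, tw_4_6]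
                  have f29 : T.a u0 u4 = 0 := by exact z_0_4
                  have f30 : T.a u0 u5 = 0 := by exact z_0_5
                  have f31 : T.a u0 u6 = 0 := by exact z_0_6
                  have f32 : T.a u1 u1 = -2 * T.w u2 := by have := (h2 u1).2; linarith only [this, tw_0_1, tw_0_2, tw_0_3, tw_1_4, tw_4_5, tw_4_6]
                  have f33 : T.a u1 u4 = T.w u2 := by linarith only [tap_1_4, tw_0_1, tw_0_2, tw_0_3, tw_1_4, tw_4_5, tw_4_6]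
                  have f34 : T.a u1 u5 = 0 := by exact z_1_5
                  have f35 : T.a u1 u6 = 0 := by exact z_1_6
                  have f36 : T.a u4 u4 = -2 * T.w u2 := by have := (h2 u4).2; linarith only [this, tw_0_1, tw_0_2, tw_0_3, tw_1_4, tw_4_5, tw_4_6]
                  have f37 : T.a u4 u5 = T.w u2 := by linarith only [tap_4_5, tw_0_1, tw_0_2, tw_0_3, tw_1_4, tw_4_5, tw_4_6]
                  have f38 : T.a u4 u6 = T.w u2 := by linarith only [tap_4_6, tw_0_1, tw_0_2, tw_0_3, tw_1_4, tw_4_5, tw_4_6]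
                  have f39 : T.a u5 u5 = -2 * T.w u2 := by have := (h2 u5).2; linarith only [this, tw_0_1, tw_0_2, tw_0_3, tw_1_4, tw_4_5, tw_4_6]
                  have f40 : T.a u5 u6 = 0 := by exact z_5_6
                  have f41 : T.a u6 u6 = -2 * T.w u2 := by have := (h2 u6).2; linarith only [this, tw_0_1, tw_0_2, tw_0_3, tw_1_4, tw_4_5, tw_4_6]
                  have hsig := Groth.Agent.Helper6.NT.inj7 u2 u3 u0 u1 u4 u5 u6 hn_3_2 hn_2_0.symm hn_3_0.symm hn_2_1.symm hn_3_1.symm hn_1_0 hn_4_2 hn_4_3 hn_4_0 hn_4_1 hn_5_2 hn_5_3 hn_5_0 hn_5_1 hn_5_4 hn_6_2 hn_6_3 hn_6_0 hn_6_1 hn_6_4 hn_6_5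
                  exact ⟨Equiv.ofBijective _ (Finite.injective_iff_bijective.1 hsig), T.m u2, T.w u2, Or.inr (Or.inr (Or.inr (Or.inr (Or.inr (Or.inr (Or.inl ⟨f0, f1, f2, f3, f4, f5, f6, f7, f8, f9, f10, f11, f12, f13, f14, f15, f16, f17, f18, f19, f20, f21, f22, f23, f24, f25, f26, f27, f28, f29, f30, f31, f32, f33, f34, f35, f36, f37, f38, f39, f40, f41⟩))))))⟩
                · -- (5,6) nonzero
                  obtain ⟨lbp_5_6, lbq_5_6⟩ := Groth.Agent.Helper6.NT.lb T u5 u6 hn_6_5.symm nz_5_6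
                  exfalso
                  have key := Groth.Agent.Helper6.NT.negfun3 T h2 u4 u5 u6 (by norm_num) 1 1 1 (by norm_num) (by norm_num)
                  linarith only [key, tap_4_5, taq_4_5, tap_4_6, taq_4_6, lbp_5_6, lbq_5_6, T.w_pos u4, T.w_pos u5, T.w_pos u6]
              · -- (4,6) Dp
                exfalso
                have key := Groth.Agent.Helper6.NT.negfun4 T h2 u1 u4 u5 u6 (by norm_num) 1 2 1 1 (by norm_num) (by norm_num)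
                linarith only [key, tap_1_4, taq_1_4, z_1_5, z_1_6, tap_4_5, taq_4_5, tap_4_6, taq_4_6, T.offDiag_nonneg u5 u6 hn_6_5.symm, T.w_pos u1, T.w_pos u4, T.w_pos u5, T.w_pos u6]
              · -- (4,6) Dm
                exfalso
                have key := Groth.Agent.Helper6.NT.negfun4 T h2 u1 u4 u5 u6 (by norm_num) 1 2 1 2 (by norm_num) (by norm_num)
                linarith only [key, tap_1_4, taq_1_4, z_1_5, z_1_6, tap_4_5, taq_4_5, tap_4_6, taq_4_6, T.offDiag_nonneg u5 u6 hn_6_5.symm, T.w_pos u1, T.w_pos u4, T.w_pos u5, T.w_pos u6]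
              · -- (4,6) Tp
                exfalso
                have key := Groth.Agent.Helper6.NT.negfun3 T h2 u4 u5 u6 (by norm_num) 2 1 1 (by norm_num) (by norm_num)
                linarith only [key, tap_4_5, taq_4_5, tap_4_6, taq_4_6, T.offDiag_nonneg u5 u6 hn_6_5.symm, T.w_pos u4, T.w_pos u5, T.w_pos u6]
              · -- (4,6) Tm
                exfalso
                have key := Groth.Agent.Helper6.NT.negfun3 T h2 u4 u5 u6 (by norm_num) 2 1 3 (by norm_num) (by norm_num)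
                linarith only [key, tap_4_5, taq_4_5, tap_4_6, taq_4_6, T.offDiag_nonneg u5 u6 hn_6_5.symm, T.w_pos u4, T.w_pos u5, T.w_pos u6]
            · push Not at hx
              have cl_4 := hx
              clear hx
              by_cases hx : ∃ j, (j ≠ u0 ∧ j ≠ u1 ∧ j ≠ u2 ∧ j ≠ u3 ∧ j ≠ u4 ∧ j ≠ u5) ∧ T.a u5 j ≠ 0
              · obtain ⟨u6, ⟨hn_6_0, hn_6_1, hn_6_2, hn_6_3, hn_6_4, hn_6_5⟩, e_5_6⟩ := hx
                have z_0_6 : T.a u0 u6 = 0 := cl_0 u6 ⟨hn_6_0, hn_6_1, hn_6_2, hn_6_3⟩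
                have z_1_6 : T.a u1 u6 = 0 := cl_1 u6 ⟨hn_6_0, hn_6_1, hn_6_2, hn_6_3, hn_6_4⟩
                have z_2_6 : T.a u2 u6 = 0 := cl_2 u6 ⟨hn_6_0, hn_6_1, hn_6_2, hn_6_3, hn_6_4⟩
                have z_3_6 : T.a u3 u6 = 0 := cl_3 u6 ⟨hn_6_0, hn_6_1, hn_6_2, hn_6_3, hn_6_4⟩
                have z_4_6 : T.a u4 u6 = 0 := cl_4 u6 ⟨hn_6_0, hn_6_1, hn_6_2, hn_6_3, hn_6_4, hn_6_5⟩
                rcases Groth.Agent.Helper6.NT.edge5 T h2 (by norm_num) u5 u6 hn_6_5.symm e_5_6 with ⟨tw_5_6, tap_5_6, taq_5_6⟩ | ⟨tw_5_6, tap_5_6, taq_5_6⟩ | ⟨tw_5_6, tap_5_6, taq_5_6⟩ | ⟨tw_5_6, tap_5_6, taq_5_6⟩ | ⟨tw_5_6, tap_5_6, taq_5_6⟩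
                · -- (5,6) S
                  have hinj := Groth.Agent.Helper6.NT.inj7 u0 u1 u2 u3 u4 u5 u6 hn_1_0 hn_2_0 hn_2_1 hn_3_0 hn_3_1 hn_3_2 hn_4_0 hn_4_1 hn_4_2 hn_4_3 hn_5_0 hn_5_1 hn_5_2 hn_5_3 hn_5_4 hn_6_0 hn_6_1 hn_6_2 hn_6_3 hn_6_4 hn_6_5
                  have r_0 : -2 * T.m u0 + 1 * T.m u1 + 1 * T.m u2 + 1 * T.m u3 = 0 := by
                    have key := Groth.Agent.Helper6.NT.rowfun7 T u0 u1 u2 u3 u4 u5 u6 hinj u0
                    rw [(h2 u0).2, tap_0_1, tap_0_2, tap_0_3, z_0_4, z_0_5, z_0_6] at key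
                    exact mul_left_cancel₀ (T.w_pos u0).ne' (by linarith only [key])
                  have r_1 : 1 * T.m u0 + -2 * T.m u1 + 1 * T.m u4 = 0 := by
                    have key := Groth.Agent.Helper6.NT.rowfun7 T u0 u1 u2 u3 u4 u5 u6 hinj u1
                    rw [Groth.Agent.Helper6.NT.symm' T u1 u0, taq_0_1, (h2 u1).2, z_1_2, z_1_3, tap_1_4, z_1_5, z_1_6] at key
                    exact mul_left_cancel₀ (T.w_pos u1).ne' (by linarith only [key])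
                  have r_2 : 1 * T.m u0 + -2 * T.m u2 = 0 := by
                    have key := Groth.Agent.Helper6.NT.rowfun7 T u0 u1 u2 u3 u4 u5 u6 hinj u2
                    rw [Groth.Agent.Helper6.NT.symm' T u2 u0, taq_0_2, Groth.Agent.Helper6.NT.symm' T u2 u1, z_1_2, (h2 u2).2, z_2_3, z_2_4, z_2_5, z_2_6] at key
                    exact mul_left_cancel₀ (T.w_pos u2).ne' (by linarith only [key])
                  have r_3 : 1 * T.m u0 + -2 * T.m u3 = 0 := by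
                    have key := Groth.Agent.Helper6.NT.rowfun7 T u0 u1 u2 u3 u4 u5 u6 hinj u3
                    rw [Groth.Agent.Helper6.NT.symm' T u3 u0, taq_0_3, Groth.Agent.Helper6.NT.symm' T u3 u1, z_1_3, Groth.Agent.Helper6.NT.symm' T u3 u2, z_2_3, (h2 u3).2, z_3_4, z_3_5, z_3_6] at key
                    exact mul_left_cancel₀ (T.w_pos u3).ne' (by linarith only [key])
                  have r_4 : 1 * T.m u1 + -2 * T.m u4 + 1 * T.m u5 = 0 := by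
                    have key := Groth.Agent.Helper6.NT.rowfun7 T u0 u1 u2 u3 u4 u5 u6 hinj u4
                    rw [Groth.Agent.Helper6.NT.symm' T u4 u0, z_0_4, Groth.Agent.Helper6.NT.symm' T u4 u1, taq_1_4, Groth.Agent.Helper6.NT.symm' T u4 u2, z_2_4, Groth.Agent.Helper6.NT.symm' T u4 u3, z_3_4, (h2 u4).2, tap_4_5, z_4_6] at key
                    exact mul_left_cancel₀ (T.w_pos u4).ne' (by linarith only [key])
                  have r_5 : 1 * T.m u4 + -2 * T.m u5 + 1 * T.m u6 = 0 := by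
                    have key := Groth.Agent.Helper6.NT.rowfun7 T u0 u1 u2 u3 u4 u5 u6 hinj u5
                    rw [Groth.Agent.Helper6.NT.symm' T u5 u0, z_0_5, Groth.Agent.Helper6.NT.symm' T u5 u1, z_1_5, Groth.Agent.Helper6.NT.symm' T u5 u2, z_2_5, Groth.Agent.Helper6.NT.symm' T u5 u3, z_3_5, Groth.Agent.Helper6.NT.symm' T u5 u4, taq_4_5, (h2 u5).2, tap_5_6] at key
                    exact mul_left_cancel₀ (T.w_pos u5).ne' (by linarith only [key])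
                  have r_6 : 1 * T.m u5 + -2 * T.m u6 = 0 := by
                    have key := Groth.Agent.Helper6.NT.rowfun7 T u0 u1 u2 u3 u4 u5 u6 hinj u6
                    rw [Groth.Agent.Helper6.NT.symm' T u6 u0, z_0_6, Groth.Agent.Helper6.NT.symm' T u6 u1, z_1_6, Groth.Agent.Helper6.NT.symm' T u6 u2, z_2_6, Groth.Agent.Helper6.NT.symm' T u6 u3, z_3_6, Groth.Agent.Helper6.NT.symm' T u6 u4, z_4_6, Groth.Agent.Helper6.NT.symm' T u6 u5, taq_5_6, (h2 u6).2] at key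
                    exact mul_left_cancel₀ (T.w_pos u6).ne' (by linarith only [key])
                  exfalso
                  linarith only [r_0, r_1, r_2, r_3, r_4, r_5, r_6, T.m_pos u0, T.m_pos u1, T.m_pos u2, T.m_pos u3, T.m_pos u4, T.m_pos u5, T.m_pos u6]
                · -- (5,6) Dp
                  have hinj := Groth.Agent.Helper6.NT.inj7 u0 u1 u2 u3 u4 u5 u6 hn_1_0 hn_2_0 hn_2_1 hn_3_0 hn_3_1 hn_3_2 hn_4_0 hn_4_1 hn_4_2 hn_4_3 hn_5_0 hn_5_1 hn_5_2 hn_5_3 hn_5_4 hn_6_0 hn_6_1 hn_6_2 hn_6_3 hn_6_4 hn_6_5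
                  have r_0 : -2 * T.m u0 + 1 * T.m u1 + 1 * T.m u2 + 1 * T.m u3 = 0 := by
                    have key := Groth.Agent.Helper6.NT.rowfun7 T u0 u1 u2 u3 u4 u5 u6 hinj u0
                    rw [(h2 u0).2, tap_0_1, tap_0_2, tap_0_3, z_0_4, z_0_5, z_0_6] at key
                    exact mul_left_cancel₀ (T.w_pos u0).ne' (by linarith only [key])
                  have r_1 : 1 * T.m u0 + -2 * T.m u1 + 1 * T.m u4 = 0 := by
                    have key := Groth.Agent.Helper6.NT.rowfun7 T u0 u1 u2 u3 u4 u5 u6 hinj u1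
                    rw [Groth.Agent.Helper6.NT.symm' T u1 u0, taq_0_1, (h2 u1).2, z_1_2, z_1_3, tap_1_4, z_1_5, z_1_6] at key
                    exact mul_left_cancel₀ (T.w_pos u1).ne' (by linarith only [key])
                  have r_2 : 1 * T.m u0 + -2 * T.m u2 = 0 := by
                    have key := Groth.Agent.Helper6.NT.rowfun7 T u0 u1 u2 u3 u4 u5 u6 hinj u2
                    rw [Groth.Agent.Helper6.NT.symm' T u2 u0, taq_0_2, Groth.Agent.Helper6.NT.symm' T u2 u1, z_1_2, (h2 u2).2, z_2_3, z_2_4, z_2_5, z_2_6] at key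
                    exact mul_left_cancel₀ (T.w_pos u2).ne' (by linarith only [key])
                  have r_3 : 1 * T.m u0 + -2 * T.m u3 = 0 := by
                    have key := Groth.Agent.Helper6.NT.rowfun7 T u0 u1 u2 u3 u4 u5 u6 hinj u3
                    rw [Groth.Agent.Helper6.NT.symm' T u3 u0, taq_0_3, Groth.Agent.Helper6.NT.symm' T u3 u1, z_1_3, Groth.Agent.Helper6.NT.symm' T u3 u2, z_2_3, (h2 u3).2, z_3_4, z_3_5, z_3_6] at key
                    exact mul_left_cancel₀ (T.w_pos u3).ne' (by linarith only [key])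
                  have r_4 : 1 * T.m u1 + -2 * T.m u4 + 1 * T.m u5 = 0 := by
                    have key := Groth.Agent.Helper6.NT.rowfun7 T u0 u1 u2 u3 u4 u5 u6 hinj u4
                    rw [Groth.Agent.Helper6.NT.symm' T u4 u0, z_0_4, Groth.Agent.Helper6.NT.symm' T u4 u1, taq_1_4, Groth.Agent.Helper6.NT.symm' T u4 u2, z_2_4, Groth.Agent.Helper6.NT.symm' T u4 u3, z_3_4, (h2 u4).2, tap_4_5, z_4_6] at key
                    exact mul_left_cancel₀ (T.w_pos u4).ne' (by linarith only [key])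
                  have r_5 : 1 * T.m u4 + -2 * T.m u5 + 2 * T.m u6 = 0 := by
                    have key := Groth.Agent.Helper6.NT.rowfun7 T u0 u1 u2 u3 u4 u5 u6 hinj u5
                    rw [Groth.Agent.Helper6.NT.symm' T u5 u0, z_0_5, Groth.Agent.Helper6.NT.symm' T u5 u1, z_1_5, Groth.Agent.Helper6.NT.symm' T u5 u2, z_2_5, Groth.Agent.Helper6.NT.symm' T u5 u3, z_3_5, Groth.Agent.Helper6.NT.symm' T u5 u4, taq_4_5, (h2 u5).2, tap_5_6] at key
                    exact mul_left_cancel₀ (T.w_pos u5).ne' (by linarith only [key])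
                  have r_6 : 1 * T.m u5 + -2 * T.m u6 = 0 := by
                    have key := Groth.Agent.Helper6.NT.rowfun7 T u0 u1 u2 u3 u4 u5 u6 hinj u6
                    rw [Groth.Agent.Helper6.NT.symm' T u6 u0, z_0_6, Groth.Agent.Helper6.NT.symm' T u6 u1, z_1_6, Groth.Agent.Helper6.NT.symm' T u6 u2, z_2_6, Groth.Agent.Helper6.NT.symm' T u6 u3, z_3_6, Groth.Agent.Helper6.NT.symm' T u6 u4, z_4_6, Groth.Agent.Helper6.NT.symm' T u6 u5, taq_5_6, (h2 u6).2] at key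
                    exact mul_left_cancel₀ (T.w_pos u6).ne' (by linarith only [key])
                  have f0 : T.m u6 = T.m u6 := rfl
                  have f1 : T.m u5 = 2 * T.m u6 := by linarith only [r_0, r_1, r_2, r_3, r_4, r_5, r_6]
                  have f2 : T.m u4 = 2 * T.m u6 := by linarith only [r_0, r_1, r_2, r_3, r_4, r_5, r_6]
                  have f3 : T.m u1 = 2 * T.m u6 := by linarith only [r_0, r_1, r_2, r_3, r_4, r_5, r_6]
                  have f4 : T.m u0 = 2 * T.m u6 := by linarith only [r_0, r_1, r_2, r_3, r_4, r_5, r_6]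
                  have f5 : T.m u2 = T.m u6 := by linarith only [r_0, r_1, r_2, r_3, r_4, r_5, r_6]
                  have f6 : T.m u3 = T.m u6 := by linarith only [r_0, r_1, r_2, r_3, r_4, r_5, r_6]
                  have f7 : T.w u6 = 2 * T.w u5 := by linarith only [tw_0_1, tw_0_2, tw_0_3, tw_1_4, tw_4_5, tw_5_6]
                  have f8 : T.w u5 = T.w u5 := rfl
                  have f9 : T.w u4 = T.w u5 := by linarith only [tw_0_1, tw_0_2, tw_0_3, tw_1_4, tw_4_5, tw_5_6]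
                  have f10 : T.w u1 = T.w u5 := by linarith only [tw_0_1, tw_0_2, tw_0_3, tw_1_4, tw_4_5, tw_5_6]
                  have f11 : T.w u0 = T.w u5 := by linarith only [tw_0_1, tw_0_2, tw_0_3, tw_1_4, tw_4_5, tw_5_6]
                  have f12 : T.w u2 = T.w u5 := by linarith only [tw_0_1, tw_0_2, tw_0_3, tw_1_4, tw_4_5, tw_5_6]
                  have f13 : T.w u3 = T.w u5 := by linarith only [tw_0_1, tw_0_2, tw_0_3, tw_1_4, tw_4_5, tw_5_6]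
                  have f14 : T.a u6 u6 = -4 * T.w u5 := by have := (h2 u6).2; linarith only [this, tw_0_1, tw_0_2, tw_0_3, tw_1_4, tw_4_5, tw_5_6]
                  have f15 : T.a u6 u5 = 2 * T.w u5 := by rw [Groth.Agent.Helper6.NT.symm' T u6 u5]; linarith only [tap_5_6, tw_0_1, tw_0_2, tw_0_3, tw_1_4, tw_4_5, tw_5_6]
                  have f16 : T.a u6 u4 = 0 := by rw [Groth.Agent.Helper6.NT.symm' T u6 u4]; exact z_4_6
                  have f17 : T.a u6 u1 = 0 := by rw [Groth.Agent.Helper6.NT.symm' T u6 u1]; exact z_1_6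
                  have f18 : T.a u6 u0 = 0 := by rw [Groth.Agent.Helper6.NT.symm' T u6 u0]; exact z_0_6
                  have f19 : T.a u6 u2 = 0 := by rw [Groth.Agent.Helper6.NT.symm' T u6 u2]; exact z_2_6
                  have f20 : T.a u6 u3 = 0 := by rw [Groth.Agent.Helper6.NT.symm' T u6 u3]; exact z_3_6
                  have f21 : T.a u5 u5 = -2 * T.w u5 := by have := (h2 u5).2; linarith only [this, tw_0_1, tw_0_2, tw_0_3, tw_1_4, tw_4_5, tw_5_6]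
                  have f22 : T.a u5 u4 = T.w u5 := by rw [Groth.Agent.Helper6.NT.symm' T u5 u4]; linarith only [tap_4_5, tw_0_1, tw_0_2, tw_0_3, tw_1_4, tw_4_5, tw_5_6]
                  have f23 : T.a u5 u1 = 0 := by rw [Groth.Agent.Helper6.NT.symm' T u5 u1]; exact z_1_5
                  have f24 : T.a u5 u0 = 0 := by rw [Groth.Agent.Helper6.NT.symm' T u5 u0]; exact z_0_5
                  have f25 : T.a u5 u2 = 0 := by rw [Groth.Agent.Helper6.NT.symm' T u5 u2]; exact z_2_5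
                  have f26 : T.a u5 u3 = 0 := by rw [Groth.Agent.Helper6.NT.symm' T u5 u3]; exact z_3_5
                  have f27 : T.a u4 u4 = -2 * T.w u5 := by have := (h2 u4).2; linarith only [this, tw_0_1, tw_0_2, tw_0_3, tw_1_4, tw_4_5, tw_5_6]
                  have f28 : T.a u4 u1 = T.w u5 := by rw [Groth.Agent.Helper6.NT.symm' T u4 u1]; linarith only [tap_1_4, tw_0_1, tw_0_2, tw_0_3, tw_1_4, tw_4_5, tw_5_6]
                  have f29 : T.a u4 u0 = 0 := by rw [Groth.Agent.Helper6.NT.symm' T u4 u0]; exact z_0_4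
                  have f30 : T.a u4 u2 = 0 := by rw [Groth.Agent.Helper6.NT.symm' T u4 u2]; exact z_2_4
                  have f31 : T.a u4 u3 = 0 := by rw [Groth.Agent.Helper6.NT.symm' T u4 u3]; exact z_3_4
                  have f32 : T.a u1 u1 = -2 * T.w u5 := by have := (h2 u1).2; linarith only [this, tw_0_1, tw_0_2, tw_0_3, tw_1_4, tw_4_5, tw_5_6]
                  have f33 : T.a u1 u0 = T.w u5 := by rw [Groth.Agent.Helper6.NT.symm' T u1 u0]; linarith only [tap_0_1, tw_0_1, tw_0_2, tw_0_3, tw_1_4, tw_4_5, tw_5_6]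
                  have f34 : T.a u1 u2 = 0 := by exact z_1_2
                  have f35 : T.a u1 u3 = 0 := by exact z_1_3
                  have f36 : T.a u0 u0 = -2 * T.w u5 := by have := (h2 u0).2; linarith only [this, tw_0_1, tw_0_2, tw_0_3, tw_1_4, tw_4_5, tw_5_6]
                  have f37 : T.a u0 u2 = T.w u5 := by linarith only [tap_0_2, tw_0_1, tw_0_2, tw_0_3, tw_1_4, tw_4_5, tw_5_6]
                  have f38 : T.a u0 u3 = T.w u5 := by linarith only [tap_0_3, tw_0_1, tw_0_2, tw_0_3, tw_1_4, tw_4_5, tw_5_6]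
                  have f39 : T.a u2 u2 = -2 * T.w u5 := by have := (h2 u2).2; linarith only [this, tw_0_1, tw_0_2, tw_0_3, tw_1_4, tw_4_5, tw_5_6]
                  have f40 : T.a u2 u3 = 0 := by exact z_2_3
                  have f41 : T.a u3 u3 = -2 * T.w u5 := by have := (h2 u3).2; linarith only [this, tw_0_1, tw_0_2, tw_0_3, tw_1_4, tw_4_5, tw_5_6]
                  have hsig := Groth.Agent.Helper6.NT.inj7 u6 u5 u4 u1 u0 u2 u3 hn_6_5.symm hn_6_4.symm hn_5_4.symm hn_6_1.symm hn_5_1.symm hn_4_1.symm hn_6_0.symm hn_5_0.symm hn_4_0.symm hn_1_0.symm hn_6_2.symm hn_5_2.symm hn_4_2.symm hn_2_1 hn_2_0 hn_6_3.symm hn_5_3.symm hn_4_3.symm hn_3_1 hn_3_0 hn_3_2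
                  exact ⟨Equiv.ofBijective _ (Finite.injective_iff_bijective.1 hsig), T.m u6, T.w u5, Or.inr (Or.inr (Or.inr (Or.inr (Or.inl ⟨f0, f1, f2, f3, f4, f5, f6, f7, f8, f9, f10, f11, f12, f13, f14, f15, f16, f17, f18, f19, f20, f21, f22, f23, f24, f25, f26, f27, f28, f29, f30, f31, f32, f33, f34, f35, f36, f37, f38, f39, f40, f41⟩))))⟩
                · -- (5,6) Dm
                  have hinj := Groth.Agent.Helper6.NT.inj7 u0 u1 u2 u3 u4 u5 u6 hn_1_0 hn_2_0 hn_2_1 hn_3_0 hn_3_1 hn_3_2 hn_4_0 hn_4_1 hn_4_2 hn_4_3 hn_5_0 hn_5_1 hn_5_2 hn_5_3 hn_5_4 hn_6_0 hn_6_1 hn_6_2 hn_6_3 hn_6_4 hn_6_5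
                  have r_0 : -2 * T.m u0 + 1 * T.m u1 + 1 * T.m u2 + 1 * T.m u3 = 0 := by
                    have key := Groth.Agent.Helper6.NT.rowfun7 T u0 u1 u2 u3 u4 u5 u6 hinj u0
                    rw [(h2 u0).2, tap_0_1, tap_0_2, tap_0_3, z_0_4, z_0_5, z_0_6] at key
                    exact mul_left_cancel₀ (T.w_pos u0).ne' (by linarith only [key])
                  have r_1 : 1 * T.m u0 + -2 * T.m u1 + 1 * T.m u4 = 0 := by
                    have key := Groth.Agent.Helper6.NT.rowfun7 T u0 u1 u2 u3 u4 u5 u6 hinj u1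
                    rw [Groth.Agent.Helper6.NT.symm' T u1 u0, taq_0_1, (h2 u1).2, z_1_2, z_1_3, tap_1_4, z_1_5, z_1_6] at key
                    exact mul_left_cancel₀ (T.w_pos u1).ne' (by linarith only [key])
                  have r_2 : 1 * T.m u0 + -2 * T.m u2 = 0 := by
                    have key := Groth.Agent.Helper6.NT.rowfun7 T u0 u1 u2 u3 u4 u5 u6 hinj u2
                    rw [Groth.Agent.Helper6.NT.symm' T u2 u0, taq_0_2, Groth.Agent.Helper6.NT.symm' T u2 u1, z_1_2, (h2 u2).2, z_2_3, z_2_4, z_2_5, z_2_6] at key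
                    exact mul_left_cancel₀ (T.w_pos u2).ne' (by linarith only [key])
                  have r_3 : 1 * T.m u0 + -2 * T.m u3 = 0 := by
                    have key := Groth.Agent.Helper6.NT.rowfun7 T u0 u1 u2 u3 u4 u5 u6 hinj u3
                    rw [Groth.Agent.Helper6.NT.symm' T u3 u0, taq_0_3, Groth.Agent.Helper6.NT.symm' T u3 u1, z_1_3, Groth.Agent.Helper6.NT.symm' T u3 u2, z_2_3, (h2 u3).2, z_3_4, z_3_5, z_3_6] at key
                    exact mul_left_cancel₀ (T.w_pos u3).ne' (by linarith only [key])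
                  have r_4 : 1 * T.m u1 + -2 * T.m u4 + 1 * T.m u5 = 0 := by
                    have key := Groth.Agent.Helper6.NT.rowfun7 T u0 u1 u2 u3 u4 u5 u6 hinj u4
                    rw [Groth.Agent.Helper6.NT.symm' T u4 u0, z_0_4, Groth.Agent.Helper6.NT.symm' T u4 u1, taq_1_4, Groth.Agent.Helper6.NT.symm' T u4 u2, z_2_4, Groth.Agent.Helper6.NT.symm' T u4 u3, z_3_4, (h2 u4).2, tap_4_5, z_4_6] at key
                    exact mul_left_cancel₀ (T.w_pos u4).ne' (by linarith only [key])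
                  have r_5 : 1 * T.m u4 + -2 * T.m u5 + 1 * T.m u6 = 0 := by
                    have key := Groth.Agent.Helper6.NT.rowfun7 T u0 u1 u2 u3 u4 u5 u6 hinj u5
                    rw [Groth.Agent.Helper6.NT.symm' T u5 u0, z_0_5, Groth.Agent.Helper6.NT.symm' T u5 u1, z_1_5, Groth.Agent.Helper6.NT.symm' T u5 u2, z_2_5, Groth.Agent.Helper6.NT.symm' T u5 u3, z_3_5, Groth.Agent.Helper6.NT.symm' T u5 u4, taq_4_5, (h2 u5).2, tap_5_6] at key
                    exact mul_left_cancel₀ (T.w_pos u5).ne' (by linarith only [key])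
                  have r_6 : 2 * T.m u5 + -2 * T.m u6 = 0 := by
                    have key := Groth.Agent.Helper6.NT.rowfun7 T u0 u1 u2 u3 u4 u5 u6 hinj u6
                    rw [Groth.Agent.Helper6.NT.symm' T u6 u0, z_0_6, Groth.Agent.Helper6.NT.symm' T u6 u1, z_1_6, Groth.Agent.Helper6.NT.symm' T u6 u2, z_2_6, Groth.Agent.Helper6.NT.symm' T u6 u3, z_3_6, Groth.Agent.Helper6.NT.symm' T u6 u4, z_4_6, Groth.Agent.Helper6.NT.symm' T u6 u5, taq_5_6, (h2 u6).2] at key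
                    exact mul_left_cancel₀ (T.w_pos u6).ne' (by linarith only [key])
                  have f0 : T.m u6 = 2 * T.m u2 := by linarith only [r_0, r_1, r_2, r_3, r_4, r_5, r_6]
                  have f1 : T.m u5 = 2 * T.m u2 := by linarith only [r_0, r_1, r_2, r_3, r_4, r_5, r_6]
                  have f2 : T.m u4 = 2 * T.m u2 := by linarith only [r_0, r_1, r_2, r_3, r_4, r_5, r_6]
                  have f3 : T.m u1 = 2 * T.m u2 := by linarith only [r_0, r_1, r_2, r_3, r_4, r_5, r_6]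
                  have f4 : T.m u0 = 2 * T.m u2 := by linarith only [r_0, r_1, r_2, r_3, r_4, r_5, r_6]
                  have f5 : T.m u2 = T.m u2 := rfl
                  have f6 : T.m u3 = T.m u2 := by linarith only [r_0, r_1, r_2, r_3, r_4, r_5, r_6]
                  have f7 : T.w u6 = T.w u6 := rfl
                  have f8 : T.w u5 = 2 * T.w u6 := by linarith only [tw_0_1, tw_0_2, tw_0_3, tw_1_4, tw_4_5, tw_5_6]
                  have f9 : T.w u4 = 2 * T.w u6 := by linarith only [tw_0_1, tw_0_2, tw_0_3, tw_1_4, tw_4_5, tw_5_6]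
                  have f10 : T.w u1 = 2 * T.w u6 := by linarith only [tw_0_1, tw_0_2, tw_0_3, tw_1_4, tw_4_5, tw_5_6]
                  have f11 : T.w u0 = 2 * T.w u6 := by linarith only [tw_0_1, tw_0_2, tw_0_3, tw_1_4, tw_4_5, tw_5_6]
                  have f12 : T.w u2 = 2 * T.w u6 := by linarith only [tw_0_1, tw_0_2, tw_0_3, tw_1_4, tw_4_5, tw_5_6]
                  have f13 : T.w u3 = 2 * T.w u6 := by linarith only [tw_0_1, tw_0_2, tw_0_3, tw_1_4, tw_4_5, tw_5_6]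
                  have f14 : T.a u6 u6 = -2 * T.w u6 := by have := (h2 u6).2; linarith only [this, tw_0_1, tw_0_2, tw_0_3, tw_1_4, tw_4_5, tw_5_6]
                  have f15 : T.a u6 u5 = 2 * T.w u6 := by rw [Groth.Agent.Helper6.NT.symm' T u6 u5]; linarith only [tap_5_6, tw_0_1, tw_0_2, tw_0_3, tw_1_4, tw_4_5, tw_5_6]
                  have f16 : T.a u6 u4 = 0 := by rw [Groth.Agent.Helper6.NT.symm' T u6 u4]; exact z_4_6
                  have f17 : T.a u6 u1 = 0 := by rw [Groth.Agent.Helper6.NT.symm' T u6 u1]; exact z_1_6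
                  have f18 : T.a u6 u0 = 0 := by rw [Groth.Agent.Helper6.NT.symm' T u6 u0]; exact z_0_6
                  have f19 : T.a u6 u2 = 0 := by rw [Groth.Agent.Helper6.NT.symm' T u6 u2]; exact z_2_6
                  have f20 : T.a u6 u3 = 0 := by rw [Groth.Agent.Helper6.NT.symm' T u6 u3]; exact z_3_6
                  have f21 : T.a u5 u5 = -4 * T.w u6 := by have := (h2 u5).2; linarith only [this, tw_0_1, tw_0_2, tw_0_3, tw_1_4, tw_4_5, tw_5_6]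
                  have f22 : T.a u5 u4 = 2 * T.w u6 := by rw [Groth.Agent.Helper6.NT.symm' T u5 u4]; linarith only [tap_4_5, tw_0_1, tw_0_2, tw_0_3, tw_1_4, tw_4_5, tw_5_6]
                  have f23 : T.a u5 u1 = 0 := by rw [Groth.Agent.Helper6.NT.symm' T u5 u1]; exact z_1_5
                  have f24 : T.a u5 u0 = 0 := by rw [Groth.Agent.Helper6.NT.symm' T u5 u0]; exact z_0_5
                  have f25 : T.a u5 u2 = 0 := by rw [Groth.Agent.Helper6.NT.symm' T u5 u2]; exact z_2_5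
                  have f26 : T.a u5 u3 = 0 := by rw [Groth.Agent.Helper6.NT.symm' T u5 u3]; exact z_3_5
                  have f27 : T.a u4 u4 = -4 * T.w u6 := by have := (h2 u4).2; linarith only [this, tw_0_1, tw_0_2, tw_0_3, tw_1_4, tw_4_5, tw_5_6]
                  have f28 : T.a u4 u1 = 2 * T.w u6 := by rw [Groth.Agent.Helper6.NT.symm' T u4 u1]; linarith only [tap_1_4, tw_0_1, tw_0_2, tw_0_3, tw_1_4, tw_4_5, tw_5_6]
                  have f29 : T.a u4 u0 = 0 := by rw [Groth.Agent.Helper6.NT.symm' T u4 u0]; exact z_0_4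
                  have f30 : T.a u4 u2 = 0 := by rw [Groth.Agent.Helper6.NT.symm' T u4 u2]; exact z_2_4
                  have f31 : T.a u4 u3 = 0 := by rw [Groth.Agent.Helper6.NT.symm' T u4 u3]; exact z_3_4
                  have f32 : T.a u1 u1 = -4 * T.w u6 := by have := (h2 u1).2; linarith only [this, tw_0_1, tw_0_2, tw_0_3, tw_1_4, tw_4_5, tw_5_6]
                  have f33 : T.a u1 u0 = 2 * T.w u6 := by rw [Groth.Agent.Helper6.NT.symm' T u1 u0]; linarith only [tap_0_1, tw_0_1, tw_0_2, tw_0_3, tw_1_4, tw_4_5, tw_5_6]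
                  have f34 : T.a u1 u2 = 0 := by exact z_1_2
                  have f35 : T.a u1 u3 = 0 := by exact z_1_3
                  have f36 : T.a u0 u0 = -4 * T.w u6 := by have := (h2 u0).2; linarith only [this, tw_0_1, tw_0_2, tw_0_3, tw_1_4, tw_4_5, tw_5_6]
                  have f37 : T.a u0 u2 = 2 * T.w u6 := by linarith only [tap_0_2, tw_0_1, tw_0_2, tw_0_3, tw_1_4, tw_4_5, tw_5_6]
                  have f38 : T.a u0 u3 = 2 * T.w u6 := by linarith only [tap_0_3, tw_0_1, tw_0_2, tw_0_3, tw_1_4, tw_4_5, tw_5_6]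
                  have f39 : T.a u2 u2 = -4 * T.w u6 := by have := (h2 u2).2; linarith only [this, tw_0_1, tw_0_2, tw_0_3, tw_1_4, tw_4_5, tw_5_6]
                  have f40 : T.a u2 u3 = 0 := by exact z_2_3
                  have f41 : T.a u3 u3 = -4 * T.w u6 := by have := (h2 u3).2; linarith only [this, tw_0_1, tw_0_2, tw_0_3, tw_1_4, tw_4_5, tw_5_6]
                  have hsig := Groth.Agent.Helper6.NT.inj7 u6 u5 u4 u1 u0 u2 u3 hn_6_5.symm hn_6_4.symm hn_5_4.symm hn_6_1.symm hn_5_1.symm hn_4_1.symm hn_6_0.symm hn_5_0.symm hn_4_0.symm hn_1_0.symm hn_6_2.symm hn_5_2.symm hn_4_2.symm hn_2_1 hn_2_0 hn_6_3.symm hn_5_3.symm hn_4_3.symm hn_3_1 hn_3_0 hn_3_2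
                  exact ⟨Equiv.ofBijective _ (Finite.injective_iff_bijective.1 hsig), T.m u2, T.w u6, Or.inr (Or.inr (Or.inr (Or.inr (Or.inr (Or.inl ⟨f0, f1, f2, f3, f4, f5, f6, f7, f8, f9, f10, f11, f12, f13, f14, f15, f16, f17, f18, f19, f20, f21, f22, f23, f24, f25, f26, f27, f28, f29, f30, f31, f32, f33, f34, f35, f36, f37, f38, f39, f40, f41⟩)))))⟩
                · -- (5,6) Tp
                  exfalso
                  have key := Groth.Agent.Helper6.NT.negfun3 T h2 u4 u5 u6 (by norm_num) 1 2 1 (by norm_num) (by norm_num)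
                  linarith only [key, tap_4_5, taq_4_5, z_4_6, tap_5_6, taq_5_6, T.w_pos u4, T.w_pos u5, T.w_pos u6]
                · -- (5,6) Tm
                  exfalso
                  have key := Groth.Agent.Helper6.NT.negfun3 T h2 u4 u5 u6 (by norm_num) 1 2 3 (by norm_num) (by norm_num)
                  linarith only [key, tap_4_5, taq_4_5, z_4_6, tap_5_6, taq_5_6, T.w_pos u4, T.w_pos u5, T.w_pos u6]
              · push Not at hx
                have cl_5 := hx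
                clear hx
                exfalso
                refine Groth.Agent.Helper6.NT.closed_contra T [u0, u1, u2, u3, u4, u5] (by simp) (by simp) ?_
                intro i hi j hj
                simp only [List.mem_cons, List.not_mem_nil, or_false, not_or] at hi hj
                rcases hi with rfl | rfl | rfl | rfl | rfl | rfl
                · exact cl_0 j ⟨hj.1, hj.2.1, hj.2.2.1, hj.2.2.2.1⟩
                · exact cl_1 j ⟨hj.1, hj.2.1, hj.2.2.1, hj.2.2.2.1, hj.2.2.2.2.1⟩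
                · exact cl_2 j ⟨hj.1, hj.2.1, hj.2.2.1, hj.2.2.2.1, hj.2.2.2.2.1⟩
                · exact cl_3 j ⟨hj.1, hj.2.1, hj.2.2.1, hj.2.2.2.1, hj.2.2.2.2.1⟩
                · exact cl_4 j ⟨hj.1, hj.2.1, hj.2.2.1, hj.2.2.2.1, hj.2.2.2.2.1, hj.2.2.2.2.2⟩
                · exact cl_5 j ⟨hj.1, hj.2.1, hj.2.2.1, hj.2.2.2.1, hj.2.2.2.2.1, hj.2.2.2.2.2⟩
          · -- (4,5) Dp
            exfalso
            have key := Groth.Agent.Helper6.NT.negfun6 T h2 u0 u1 u2 u3 u4 u5 (by norm_num) 2 2 1 1 2 1 (by norm_num) (by norm_num)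
            linarith only [key, tap_0_1, taq_0_1, tap_0_2, taq_0_2, tap_0_3, taq_0_3, z_0_4, z_0_5, z_1_2, z_1_3, tap_1_4, taq_1_4, z_1_5, z_2_3, z_2_4, z_2_5, z_3_4, z_3_5, tap_4_5, taq_4_5, T.w_pos u0, T.w_pos u1, T.w_pos u2, T.w_pos u3, T.w_pos u4, T.w_pos u5]
          · -- (4,5) Dm
            exfalso
            have key := Groth.Agent.Helper6.NT.negfun6 T h2 u0 u1 u2 u3 u4 u5 (by norm_num) 2 2 1 1 2 2 (by norm_num) (by norm_num)
            linarith only [key, tap_0_1, taq_0_1, tap_0_2, taq_0_2, tap_0_3, taq_0_3, z_0_4, z_0_5, z_1_2, z_1_3, tap_1_4, taq_1_4, z_1_5, z_2_3, z_2_4, z_2_5, z_3_4, z_3_5, tap_4_5, taq_4_5, T.w_pos u0, T.w_pos u1, T.w_pos u2, T.w_pos u3, T.w_pos u4, T.w_pos u5]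
          · -- (4,5) Tp
            exfalso
            have key := Groth.Agent.Helper6.NT.negfun3 T h2 u1 u4 u5 (by norm_num) 1 2 1 (by norm_num) (by norm_num)
            linarith only [key, tap_1_4, taq_1_4, z_1_5, tap_4_5, taq_4_5, T.w_pos u1, T.w_pos u4, T.w_pos u5]
          · -- (4,5) Tm
            exfalso
            have key := Groth.Agent.Helper6.NT.negfun3 T h2 u1 u4 u5 (by norm_num) 1 2 3 (by norm_num) (by norm_num)
            linarith only [key, tap_1_4, taq_1_4, z_1_5, tap_4_5, taq_4_5, T.w_pos u1, T.w_pos u4, T.w_pos u5]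
        · push Not at hx
          have cl_4 := hx
          clear hx
          exfalso
          refine Groth.Agent.Helper6.NT.closed_contra T [u0, u1, u2, u3, u4] (by simp) (by simp) ?_
          intro i hi j hj
          simp only [List.mem_cons, List.not_mem_nil, or_false, not_or] at hi hj
          rcases hi with rfl | rfl | rfl | rfl | rfl
          · exact cl_0 j ⟨hj.1, hj.2.1, hj.2.2.1, hj.2.2.2.1⟩
          · exact cl_1 j ⟨hj.1, hj.2.1, hj.2.2.1, hj.2.2.2.1, hj.2.2.2.2⟩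
          · exact cl_2 j ⟨hj.1, hj.2.1, hj.2.2.1, hj.2.2.2.1, hj.2.2.2.2⟩
          · exact cl_3 j ⟨hj.1, hj.2.1, hj.2.2.1, hj.2.2.2.1, hj.2.2.2.2⟩
          · exact cl_4 j ⟨hj.1, hj.2.1, hj.2.2.1, hj.2.2.2.1, hj.2.2.2.2⟩

theorem cut7_3 (T : Models.NumericalType 7) (h2 : ∀ i, T.IsMinusTwo i) (u0 u1 u2 u3 u4 : Fin 7)
    (hn_1_0 : u1 ≠ u0)
    (e_0_1 : T.a u0 u1 ≠ 0)
    (tw_0_1 : T.w u1 = T.w u0)
    (tap_0_1 : T.a u0 u1 = T.w u0)
    (taq_0_1 : T.a u0 u1 = T.w u1)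
    (hn_2_0 : u2 ≠ u0)
    (hn_2_1 : u2 ≠ u1)
    (e_0_2 : T.a u0 u2 ≠ 0)
    (tw_0_2 : T.w u2 = T.w u0)
    (tap_0_2 : T.a u0 u2 = T.w u0)
    (taq_0_2 : T.a u0 u2 = T.w u2)
    (z_1_2 : T.a u1 u2 = 0)
    (hn_3_0 : u3 ≠ u0)
    (hn_3_1 : u3 ≠ u1)
    (hn_3_2 : u3 ≠ u2)
    (e_0_3 : T.a u0 u3 ≠ 0)
    (tw_0_3 : T.w u3 = T.w u0)
    (tap_0_3 : T.a u0 u3 = T.w u0)
    (taq_0_3 : T.a u0 u3 = T.w u3)
    (z_1_3 : T.a u1 u3 = 0)
    (z_2_3 : T.a u2 u3 = 0)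
    (cl_0 : ∀ j : Fin 7, (j ≠ u0 ∧ j ≠ u1 ∧ j ≠ u2 ∧ j ≠ u3) → T.a u0 j = 0)
    (cl_1 : ∀ j : Fin 7, (j ≠ u0 ∧ j ≠ u1 ∧ j ≠ u2 ∧ j ≠ u3) → T.a u1 j = 0)
    (hn_4_0 : u4 ≠ u0)
    (hn_4_1 : u4 ≠ u1)
    (hn_4_2 : u4 ≠ u2)
    (hn_4_3 : u4 ≠ u3)
    (e_2_4 : T.a u2 u4 ≠ 0)
    (z_0_4 : T.a u0 u4 = 0)
    (z_1_4 : T.a u1 u4 = 0)
    (tw_2_4 : T.w u4 = T.w u2)
    (tap_2_4 : T.a u2 u4 = T.w u2)
    (taq_2_4 : T.a u2 u4 = T.w u4)
    (z_3_4 : T.a u3 u4 = 0) :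
    ∃ (σ : Equiv.Perm (Fin 7)) (m w : ℤ), ((T.m (σ 0) = m ∧ T.m (σ 1) = m ∧ T.m (σ 2) = m ∧ T.m (σ 3) = m ∧ T.m (σ 4) = m ∧ T.m (σ 5) = m ∧ T.m (σ 6) = m ∧ T.w (σ 0) = w ∧ T.w (σ 1) = w ∧ T.w (σ 2) = w ∧ T.w (σ 3) = w ∧ T.w (σ 4) = w ∧ T.w (σ 5) = w ∧ T.w (σ 6) = w ∧ T.a (σ 0) (σ 0) = -2 * w ∧ T.a (σ 0) (σ 1) = w ∧ T.a (σ 0) (σ 2) = 0 ∧ T.a (σ 0) (σ 3) = 0 ∧ T.a (σ 0) (σ 4) = 0 ∧ T.a (σ 0) (σ 5) = 0 ∧ T.a (σ 0) (σ 6) = w ∧ T.a (σ 1) (σ 1) = -2 * w ∧ T.a (σ 1) (σ 2) = w ∧ T.a (σ 1) (σ 3) = 0 ∧ T.a (σ 1) (σ 4) = 0 ∧ T.a (σ 1) (σ 5) = 0 ∧ T.a (σ 1) (σ 6) = 0 ∧ T.a (σ 2) (σ 2) = -2 * w ∧ T.a (σ 2) (σ 3) = w ∧ T.a (σ 2) (σ 4) = 0 ∧ T.a (σ 2) (σ 5) = 0 ∧ T.a (σ 2) (σ 6) = 0 ∧ T.a (σ 3) (σ 3) = -2 * w ∧ T.a (σ 3) (σ 4) = w ∧ T.a (σ 3) (σ 5) = 0 ∧ T.a (σ 3) (σ 6) = 0 ∧ T.a (σ 4) (σ 4) = -2 * w ∧ T.a (σ 4) (σ 5) = w ∧ T.a (σ 4) (σ 6) = 0 ∧ T.a (σ 5) (σ 5) = -2 * w ∧ T.a (σ 5) (σ 6) = w ∧ T.a (σ 6) (σ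 6) = -2 * w) ∨ (T.m (σ 0) = 2 * m ∧ T.m (σ 1) = 2 * m ∧ T.m (σ 2) = 2 * m ∧ T.m (σ 3) = 2 * m ∧ T.m (σ 4) = 2 * m ∧ T.m (σ 5) = 2 * m ∧ T.m (σ 6) = m ∧ T.w (σ 0) = w ∧ T.w (σ 1) = 2 * w ∧ T.w (σ 2) = 2 * w ∧ T.w (σ 3) = 2 * w ∧ T.w (σ 4) = 2 * w ∧ T.w (σ 5) = 2 * w ∧ T.w (σ 6) = 4 * w ∧ T.a (σ 0) (σ 0) = -2 * w ∧ T.a (σ 0) (σ 1) = 2 * w ∧ T.a (σ 0) (σ 2) = 0 ∧ T.a (σ 0) (σ 3) = 0 ∧ T.a (σ 0) (σ 4) = 0 ∧ T.a (σ 0) (σ 5) = 0 ∧ T.a (σ 0) (σ 6) = 0 ∧ T.a (σ 1) (σ 1) = -4 * w ∧ T.a (σ 1) (σ 2) = 2 * w ∧ T.a (σ 1) (σ 3) = 0 ∧ T.a (σ 1) (σ 4) = 0 ∧ T.a (σ 1) (σ 5) = 0 ∧ T.a (σ 1) (σ 6) = 0 ∧ T.a (σ 2) (σ 2) = -4 * w ∧ T.a (σ 2) (σ 3) = 2 * w ∧ T.a (σ 2) (σ 4) = 0 ∧ T.a (σ 2) (σ 5) = 0 ∧ T.a (σ 2) (σ 6) = 0 ∧ T.a (σ 3) (σ 3) = -4 * w ∧ T.a (σ 3) (σ 4) = 2 * w ∧ T.a (σ 3) (σ 5) = 0 ∧ T.a (σ 3) (σ 6) = 0 ∧ T.a (σ 4) (σ 4) = -4 * w ∧ T.a (σ 4) (σ 5) = 2 * w ∧ T.a (σ 4) (σ 6) = 0 ∧ T.a (σ 5) (σ 5) = -4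 * w ∧ T.a (σ 5) (σ 6) = 4 * w ∧ T.a (σ 6) (σ 6) = -8 * w) ∨ (T.m (σ 0) = m ∧ T.m (σ 1) = m ∧ T.m (σ 2) = m ∧ T.m (σ 3) = m ∧ T.m (σ 4) = m ∧ T.m (σ 5) = m ∧ T.m (σ 6) = m ∧ T.w (σ 0) = w ∧ T.w (σ 1) = 2 * w ∧ T.w (σ 2) = 2 * w ∧ T.w (σ 3) = 2 * w ∧ T.w (σ 4) = 2 * w ∧ T.w (σ 5) = 2 * w ∧ T.w (σ 6) = w ∧ T.a (σ 0) (σ 0) = -2 * w ∧ T.a (σ 0) (σ 1) = 2 * w ∧ T.a (σ 0) (σ 2) = 0 ∧ T.a (σ 0) (σ 3) = 0 ∧ T.a (σ 0) (σ 4) = 0 ∧ T.a (σ 0) (σ 5) = 0 ∧ T.a (σ 0) (σ 6) = 0 ∧ T.a (σ 1) (σ 1) = -4 * w ∧ T.a (σ 1) (σ 2) = 2 * w ∧ T.a (σ 1) (σ 3) = 0 ∧ T.a (σ 1) (σ 4) = 0 ∧ T.a (σ 1) (σ 5) = 0 ∧ T.a (σ 1) (σ 6) = 0 ∧ T.a (σ 2) (σ 2) = -4 * w ∧ T.a (σ 2) (σ 3) = 2 * w ∧ T.a (σ 2) (σ 4) = 0 ∧ T.a (σ 2) (σ 5) = 0 ∧ T.a (σ 2) (σ 6) = 0 ∧ T.a (σ 3) (σ 3) = -4 * w ∧ T.a (σ 3) (σ 4) = 2 * w ∧ T.a (σ 3) (σ 5) = 0 ∧ T.a (σ 3) (σ 6) = 0 ∧ T.a (σ 4) (σ 4) = -4 * w ∧ T.a (σ 4) (σ 5) = 2 * w ∧ T.a (σ 4) (σ 6) = 0 ∧ T.a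 (σ 5) (σ 5) = -4 * w ∧ T.a (σ 5) (σ 6) = 2 * w ∧ T.a (σ 6) (σ 6) = -2 * w) ∨ (T.m (σ 0) = m ∧ T.m (σ 1) = 2 * m ∧ T.m (σ 2) = 2 * m ∧ T.m (σ 3) = 2 * m ∧ T.m (σ 4) = 2 * m ∧ T.m (σ 5) = 2 * m ∧ T.m (σ 6) = m ∧ T.w (σ 0) = 2 * w ∧ T.w (σ 1) = w ∧ T.w (σ 2) = w ∧ T.w (σ 3) = w ∧ T.w (σ 4) = w ∧ T.w (σ 5) = w ∧ T.w (σ 6) = 2 * w ∧ T.a (σ 0) (σ 0) = -4 * w ∧ T.a (σ 0) (σ 1) = 2 * w ∧ T.a (σ 0) (σ 2) = 0 ∧ T.a (σ 0) (σ 3) = 0 ∧ T.a (σ 0) (σ 4) = 0 ∧ T.a (σ 0) (σ 5) = 0 ∧ T.a (σ 0) (σ 6) = 0 ∧ T.a (σ 1) (σ 1) = -2 * w ∧ T.a (σ 1) (σ 2) = w ∧ T.a (σ 1) (σ 3) = 0 ∧ T.a (σ 1) (σ 4) = 0 ∧ T.a (σ 1) (σ 5) = 0 ∧ T.a (σ 1) (σ 6) = 0 ∧ T.a (σ 2) (σ 2) = -2 * w ∧ T.a (σ 2) (σ 3) = w ∧ T.a (σ 2) (σ 4) = 0 ∧ T.a (σ 2) (σ 5) = 0 ∧ T.a (σ 2) (σ 6) = 0 ∧ T.a (σ 3) (σ 3) = -2 * w ∧ T.a (σ 3) (σ 4) = w ∧ T.a (σ 3) (σ 5) = 0 ∧ T.a (σ 3) (σ 6) = 0 ∧ T.a (σ 4) (σ 4) = -2 * w ∧ T.a (σ 4) (σ 5) = w ∧ T.a (σ 4) (σ 6) =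 0 ∧ T.a (σ 5) (σ 5) = -2 * w ∧ T.a (σ 5) (σ 6) = 2 * w ∧ T.a (σ 6) (σ 6) = -4 * w) ∨ (T.m (σ 0) = m ∧ T.m (σ 1) = 2 * m ∧ T.m (σ 2) = 2 * m ∧ T.m (σ 3) = 2 * m ∧ T.m (σ 4) = 2 * m ∧ T.m (σ 5) = m ∧ T.m (σ 6) = m ∧ T.w (σ 0) = 2 * w ∧ T.w (σ 1) = w ∧ T.w (σ 2) = w ∧ T.w (σ 3) = w ∧ T.w (σ 4) = w ∧ T.w (σ 5) = w ∧ T.w (σ 6) = w ∧ T.a (σ 0) (σ 0) = -4 * w ∧ T.a (σ 0) (σ 1) = 2 * w ∧ T.a (σ 0) (σ 2) = 0 ∧ T.a (σ 0) (σ 3) = 0 ∧ T.a (σ 0) (σ 4) = 0 ∧ T.a (σ 0) (σ 5) = 0 ∧ T.a (σ 0) (σ 6) = 0 ∧ T.a (σ 1) (σ 1) = -2 * w ∧ T.a (σ 1) (σ 2) = w ∧ T.a (σ 1) (σ 3) = 0 ∧ T.a (σ 1) (σ 4) = 0 ∧ T.a (σ 1) (σ 5) = 0 ∧ T.a (σ 1) (σ 6) = 0 ∧ T.a (σ 2) (σ 2) = -2 * w ∧ T.a (σ 2) (σ 3) = w ∧ T.a (σ 2) (σ 4) = 0 ∧ T.a (σ 2) (σ 5) = 0 ∧ T.a (σ 2) (σ 6) = 0 ∧ T.a (σ 3) (σ 3) = -2 * w ∧ T.a (σ 3) (σ 4) = w ∧ T.a (σ 3) (σ 5) = 0 ∧ T.a (σ 3) (σ 6) = 0 ∧ T.a (σ 4) (σ 4) = -2 * w ∧ T.a (σ 4) (σ 5) = w ∧ T.a (σ 4) (σ 6) =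 w ∧ T.a (σ 5) (σ 5) = -2 * w ∧ T.a (σ 5) (σ 6) = 0 ∧ T.a (σ 6) (σ 6) = -2 * w) ∨ (T.m (σ 0) = 2 * m ∧ T.m (σ 1) = 2 * m ∧ T.m (σ 2) = 2 * m ∧ T.m (σ 3) = 2 * m ∧ T.m (σ 4) = 2 * m ∧ T.m (σ 5) = m ∧ T.m (σ 6) = m ∧ T.w (σ 0) = w ∧ T.w (σ 1) = 2 * w ∧ T.w (σ 2) = 2 * w ∧ T.w (σ 3) = 2 * w ∧ T.w (σ 4) = 2 * w ∧ T.w (σ 5) = 2 * w ∧ T.w (σ 6) = 2 * w ∧ T.a (σ 0) (σ 0) = -2 * w ∧ T.a (σ 0) (σ 1) = 2 * w ∧ T.a (σ 0) (σ 2) = 0 ∧ T.a (σ 0) (σ 3) = 0 ∧ T.a (σ 0) (σ 4) = 0 ∧ T.a (σ 0) (σ 5) = 0 ∧ T.a (σ 0) (σ 6) = 0 ∧ T.a (σ 1) (σ 1) = -4 * w ∧ T.a (σ 1) (σ 2) = 2 * w ∧ T.a (σ 1) (σ 3) = 0 ∧ T.a (σ 1) (σ 4) = 0 ∧ T.a (σ 1) (σ 5) = 0 ∧ T.a (σ 1) (σ 6) = 0 ∧ T.a (σ 2) (σ 2) = -4 * w ∧ T.a (σ 2) (σ 3) = 2 * w ∧ T.a (σ 2) (σ 4) = 0 ∧ T.a (σ 2) (σ 5) = 0 ∧ T.a (σ 2) (σ 6) = 0 ∧ T.a (σ 3) (σ 3) = -4 * w ∧ T.a (σ 3) (σ 4) = 2 * w ∧ T.a (σ 3) (σ 5) = 0 ∧ T.a (σ 3) (σ 6) = 0 ∧ T.a (σ 4) (σ 4) = -4 * w ∧ T.a (σ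 4) (σ 5) = 2 * w ∧ T.a (σ 4) (σ 6) = 2 * w ∧ T.a (σ 5) (σ 5) = -4 * w ∧ T.a (σ 5) (σ 6) = 0 ∧ T.a (σ 6) (σ 6) = -4 * w) ∨ (T.m (σ 0) = m ∧ T.m (σ 1) = m ∧ T.m (σ 2) = 2 * m ∧ T.m (σ 3) = 2 * m ∧ T.m (σ 4) = 2 * m ∧ T.m (σ 5) = m ∧ T.m (σ 6) = m ∧ T.w (σ 0) = w ∧ T.w (σ 1) = w ∧ T.w (σ 2) = w ∧ T.w (σ 3) = w ∧ T.w (σ 4) = w ∧ T.w (σ 5) = w ∧ T.w (σ 6) = w ∧ T.a (σ 0) (σ 0) = -2 * w ∧ T.a (σ 0) (σ 1) = 0 ∧ T.a (σ 0) (σ 2) = w ∧ T.a (σ 0) (σ 3) = 0 ∧ T.a (σ 0) (σ 4) = 0 ∧ T.a (σ 0) (σ 5) = 0 ∧ T.a (σ 0) (σ 6) = 0 ∧ T.a (σ 1) (σ 1) = -2 * w ∧ T.a (σ 1) (σ 2) = w ∧ T.a (σ 1) (σ 3) = 0 ∧ T.a (σ 1) (σ 4) = 0 ∧ T.a (σ 1) (σ 5) = 0 ∧ T.a (σ 1) (σ 6) = 0 ∧ T.a (σ 2) (σ 2) = -2 * w ∧ T.a (σ 2) (σ 3) = w ∧ T.a (σ 2) (σ 4) = 0 ∧ T.a (σ 2) (σ 5) = 0 ∧ T.a (σ 2) (σ 6) = 0 ∧ T.a (σ 3) (σ 3) = -2 * w ∧ T.a (σ 3) (σ 4) = w ∧ T.a (σ 3) (σ 5) = 0 ∧ T.a (σ 3) (σ 6) = 0 ∧ T.a (σ 4) (σ 4) = -2 * w ∧ T.a (σ 4) (σ 5)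 = w ∧ T.a (σ 4) (σ 6) = w ∧ T.a (σ 5) (σ 5) = -2 * w ∧ T.a (σ 5) (σ 6) = 0 ∧ T.a (σ 6) (σ 6) = -2 * w) ∨ (T.m (σ 0) = m ∧ T.m (σ 1) = 2 * m ∧ T.m (σ 2) = 3 * m ∧ T.m (σ 3) = m ∧ T.m (σ 4) = 2 * m ∧ T.m (σ 5) = m ∧ T.m (σ 6) = 2 * m ∧ T.w (σ 0) = w ∧ T.w (σ 1) = w ∧ T.w (σ 2) = w ∧ T.w (σ 3) = w ∧ T.w (σ 4) = w ∧ T.w (σ 5) = w ∧ T.w (σ 6) = w ∧ T.a (σ 0) (σ 0) = -2 * w ∧ T.a (σ 0) (σ 1) = w ∧ T.a (σ 0) (σ 2) = 0 ∧ T.a (σ 0) (σ 3) = 0 ∧ T.a (σ 0) (σ 4) = 0 ∧ T.a (σ 0) (σ 5) = 0 ∧ T.a (σ 0) (σ 6) = 0 ∧ T.a (σ 1) (σ 1) = -2 * w ∧ T.a (σ 1) (σ 2) = w ∧ T.a (σ 1) (σ 3) = 0 ∧ T.a (σ 1) (σ 4) = 0 ∧ T.a (σ 1) (σ 5) = 0 ∧ T.a (σ 1) (σ 6) = 0 ∧ T.a (σ 2) (σ 2) = -2 * w ∧ T.a (σ 2) (σ 3) = 0 ∧ T.a (σ 2) (σ 4) = w ∧ T.a (σ 2) (σ 5) = 0 ∧ T.a (σ 2) (σ 6) = w ∧ T.a (σ 3) (σ 3) = -2 * w ∧ T.a (σ 3) (σ 4) = w ∧ T.a (σ 3) (σ 5) = 0 ∧ T.a (σ 3) (σ 6) = 0 ∧ T.a (σ 4) (σ 4) = -2 * w ∧ T.a (σ 4) (σ 5) = 0 ∧ T.a (σ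 4) (σ 6) = 0 ∧ T.a (σ 5) (σ 5) = -2 * w ∧ T.a (σ 5) (σ 6) = w ∧ T.a (σ 6) (σ 6) = -2 * w)) := by
  by_cases hx : ∃ j, (j ≠ u0 ∧ j ≠ u1 ∧ j ≠ u2 ∧ j ≠ u3 ∧ j ≠ u4) ∧ T.a u2 j ≠ 0
  · obtain ⟨u5, ⟨hn_5_0, hn_5_1, hn_5_2, hn_5_3, hn_5_4⟩, e_2_5⟩ := hx
    have z_0_5 : T.a u0 u5 = 0 := cl_0 u5 ⟨hn_5_0, hn_5_1, hn_5_2, hn_5_3⟩
    have z_1_5 : T.a u1 u5 = 0 := cl_1 u5 ⟨hn_5_0, hn_5_1, hn_5_2, hn_5_3⟩
    rcases Groth.Agent.Helper6.NT.edge5 T h2 (by norm_num) u2 u5 hn_5_2.symm e_2_5 with ⟨tw_2_5, tap_2_5, taq_2_5⟩ | ⟨tw_2_5, tap_2_5, taq_2_5⟩ | ⟨tw_2_5, tap_2_5, taq_2_5⟩ | ⟨tw_2_5, tap_2_5, taq_2_5⟩ | ⟨tw_2_5, tap_2_5, taq_2_5⟩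
    · -- (2,5) S
      exfalso
      have key := Groth.Agent.Helper6.NT.negfun6 T h2 u0 u1 u2 u3 u4 u5 (by norm_num) 2 1 2 1 1 1 (by norm_num) (by norm_num)
      linarith only [key, tap_0_1, taq_0_1, tap_0_2, taq_0_2, tap_0_3, taq_0_3, z_0_4, z_0_5, z_1_2, z_1_3, z_1_4, z_1_5, z_2_3, tap_2_4, taq_2_4, tap_2_5, taq_2_5, z_3_4, T.offDiag_nonneg u3 u5 hn_5_3.symm, T.offDiag_nonneg u4 u5 hn_5_4.symm, T.w_pos u0, T.w_pos u1, T.w_pos u2, T.w_pos u3, T.w_pos u4, T.w_pos u5]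
    · -- (2,5) Dp
      exfalso
      have key := Groth.Agent.Helper6.NT.negfun4 T h2 u0 u2 u4 u5 (by norm_num) 1 2 1 1 (by norm_num) (by norm_num)
      linarith only [key, tap_0_2, taq_0_2, z_0_4, z_0_5, tap_2_4, taq_2_4, tap_2_5, taq_2_5, T.offDiag_nonneg u4 u5 hn_5_4.symm, T.w_pos u0, T.w_pos u2, T.w_pos u4, T.w_pos u5]
    · -- (2,5) Dm
      exfalso
      have key := Groth.Agent.Helper6.NT.negfun4 T h2 u0 u2 u4 u5 (by norm_num) 1 2 1 2 (by norm_num) (by norm_num)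
      linarith only [key, tap_0_2, taq_0_2, z_0_4, z_0_5, tap_2_4, taq_2_4, tap_2_5, taq_2_5, T.offDiag_nonneg u4 u5 hn_5_4.symm, T.w_pos u0, T.w_pos u2, T.w_pos u4, T.w_pos u5]
    · -- (2,5) Tp
      exfalso
      have key := Groth.Agent.Helper6.NT.negfun3 T h2 u2 u4 u5 (by norm_num) 2 1 1 (by norm_num) (by norm_num)
      linarith only [key, tap_2_4, taq_2_4, tap_2_5, taq_2_5, T.offDiag_nonneg u4 u5 hn_5_4.symm, T.w_pos u2, T.w_pos u4, T.w_pos u5]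
    · -- (2,5) Tm
      exfalso
      have key := Groth.Agent.Helper6.NT.negfun3 T h2 u2 u4 u5 (by norm_num) 2 1 3 (by norm_num) (by norm_num)
      linarith only [key, tap_2_4, taq_2_4, tap_2_5, taq_2_5, T.offDiag_nonneg u4 u5 hn_5_4.symm, T.w_pos u2, T.w_pos u4, T.w_pos u5]
  · push Not at hx
    have cl_2 := hx
    clear hx
    by_cases hx : ∃ j, (j ≠ u0 ∧ j ≠ u1 ∧ j ≠ u2 ∧ j ≠ u3 ∧ j ≠ u4) ∧ T.a u3 j ≠ 0
    · obtain ⟨u5, ⟨hn_5_0, hn_5_1, hn_5_2, hn_5_3, hn_5_4⟩, e_3_5⟩ := hx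
      have z_0_5 : T.a u0 u5 = 0 := cl_0 u5 ⟨hn_5_0, hn_5_1, hn_5_2, hn_5_3⟩
      have z_1_5 : T.a u1 u5 = 0 := cl_1 u5 ⟨hn_5_0, hn_5_1, hn_5_2, hn_5_3⟩
      have z_2_5 : T.a u2 u5 = 0 := cl_2 u5 ⟨hn_5_0, hn_5_1, hn_5_2, hn_5_3, hn_5_4⟩
      rcases Groth.Agent.Helper6.NT.edge5 T h2 (by norm_num) u3 u5 hn_5_3.symm e_3_5 with ⟨tw_3_5, tap_3_5, taq_3_5⟩ | ⟨tw_3_5, tap_3_5, taq_3_5⟩ | ⟨tw_3_5, tap_3_5, taq_3_5⟩ | ⟨tw_3_5, tap_3_5, taq_3_5⟩ | ⟨tw_3_5, tap_3_5, taq_3_5⟩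
      · -- (3,5) S
        rcases eq_or_ne (T.a u4 u5) 0 with z_4_5 | nz_4_5
        · -- (4,5) zero
          by_cases hx : ∃ j, (j ≠ u0 ∧ j ≠ u1 ∧ j ≠ u2 ∧ j ≠ u3 ∧ j ≠ u4 ∧ j ≠ u5) ∧ T.a u3 j ≠ 0
          · obtain ⟨u6, ⟨hn_6_0, hn_6_1, hn_6_2, hn_6_3, hn_6_4, hn_6_5⟩, e_3_6⟩ := hx
            have z_0_6 : T.a u0 u6 = 0 := cl_0 u6 ⟨hn_6_0, hn_6_1, hn_6_2, hn_6_3⟩
            have z_1_6 : T.a u1 u6 = 0 := cl_1 u6 ⟨hn_6_0, hn_6_1, hn_6_2, hn_6_3⟩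
            have z_2_6 : T.a u2 u6 = 0 := cl_2 u6 ⟨hn_6_0, hn_6_1, hn_6_2, hn_6_3, hn_6_4⟩
            rcases Groth.Agent.Helper6.NT.edge5 T h2 (by norm_num) u3 u6 hn_6_3.symm e_3_6 with ⟨tw_3_6, tap_3_6, taq_3_6⟩ | ⟨tw_3_6, tap_3_6, taq_3_6⟩ | ⟨tw_3_6, tap_3_6, taq_3_6⟩ | ⟨tw_3_6, tap_3_6, taq_3_6⟩ | ⟨tw_3_6, tap_3_6, taq_3_6⟩
            · -- (3,6) S
              exfalso
              have key := Groth.Agent.Helper6.NT.negfun6 T h2 u0 u1 u2 u3 u5 u6 (by norm_num) 2 1 1 2 1 1 (by norm_num) (by norm_num)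
              linarith only [key, tap_0_1, taq_0_1, tap_0_2, taq_0_2, tap_0_3, taq_0_3, z_0_5, z_0_6, z_1_2, z_1_3, z_1_5, z_1_6, z_2_3, z_2_5, z_2_6, tap_3_5, taq_3_5, tap_3_6, taq_3_6, T.offDiag_nonneg u5 u6 hn_6_5.symm, T.w_pos u0, T.w_pos u1, T.w_pos u2, T.w_pos u3, T.w_pos u5, T.w_pos u6]
            · -- (3,6) Dp
              exfalso
              have key := Groth.Agent.Helper6.NT.negfun4 T h2 u0 u3 u5 u6 (by norm_num) 1 2 1 1 (by norm_num) (by norm_num)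
              linarith only [key, tap_0_3, taq_0_3, z_0_5, z_0_6, tap_3_5, taq_3_5, tap_3_6, taq_3_6, T.offDiag_nonneg u5 u6 hn_6_5.symm, T.w_pos u0, T.w_pos u3, T.w_pos u5, T.w_pos u6]
            · -- (3,6) Dm
              exfalso
              have key := Groth.Agent.Helper6.NT.negfun4 T h2 u0 u3 u5 u6 (by norm_num) 1 2 1 2 (by norm_num) (by norm_num)
              linarith only [key, tap_0_3, taq_0_3, z_0_5, z_0_6, tap_3_5, taq_3_5, tap_3_6, taq_3_6, T.offDiag_nonneg u5 u6 hn_6_5.symm, T.w_pos u0, T.w_pos u3, T.w_pos u5, T.w_pos u6]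
            · -- (3,6) Tp
              exfalso
              have key := Groth.Agent.Helper6.NT.negfun3 T h2 u3 u5 u6 (by norm_num) 2 1 1 (by norm_num) (by norm_num)
              linarith only [key, tap_3_5, taq_3_5, tap_3_6, taq_3_6, T.offDiag_nonneg u5 u6 hn_6_5.symm, T.w_pos u3, T.w_pos u5, T.w_pos u6]
            · -- (3,6) Tm
              exfalso
              have key := Groth.Agent.Helper6.NT.negfun3 T h2 u3 u5 u6 (by norm_num) 2 1 3 (by norm_num) (by norm_num)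
              linarith only [key, tap_3_5, taq_3_5, tap_3_6, taq_3_6, T.offDiag_nonneg u5 u6 hn_6_5.symm, T.w_pos u3, T.w_pos u5, T.w_pos u6]
          · push Not at hx
            have cl_3 := hx
            clear hx
            by_cases hx : ∃ j, (j ≠ u0 ∧ j ≠ u1 ∧ j ≠ u2 ∧ j ≠ u3 ∧ j ≠ u4 ∧ j ≠ u5) ∧ T.a u4 j ≠ 0
            · obtain ⟨u6, ⟨hn_6_0, hn_6_1, hn_6_2, hn_6_3, hn_6_4, hn_6_5⟩, e_4_6⟩ := hx
              have z_0_6 : T.a u0 u6 = 0 := cl_0 u6 ⟨hn_6_0, hn_6_1, hn_6_2, hn_6_3⟩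
              have z_1_6 : T.a u1 u6 = 0 := cl_1 u6 ⟨hn_6_0, hn_6_1, hn_6_2, hn_6_3⟩
              have z_2_6 : T.a u2 u6 = 0 := cl_2 u6 ⟨hn_6_0, hn_6_1, hn_6_2, hn_6_3, hn_6_4⟩
              have z_3_6 : T.a u3 u6 = 0 := cl_3 u6 ⟨hn_6_0, hn_6_1, hn_6_2, hn_6_3, hn_6_4, hn_6_5⟩
              rcases Groth.Agent.Helper6.NT.edge5 T h2 (by norm_num) u4 u6 hn_6_4.symm e_4_6 with ⟨tw_4_6, tap_4_6, taq_4_6⟩ | ⟨tw_4_6, tap_4_6, taq_4_6⟩ | ⟨tw_4_6, tap_4_6, taq_4_6⟩ | ⟨tw_4_6, tap_4_6, taq_4_6⟩ | ⟨tw_4_6, tap_4_6, taq_4_6⟩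
              · -- (4,6) S
                rcases eq_or_ne (T.a u5 u6) 0 with z_5_6 | nz_5_6
                · -- (5,6) zero
                  have hinj := Groth.Agent.Helper6.NT.inj7 u0 u1 u2 u3 u4 u5 u6 hn_1_0 hn_2_0 hn_2_1 hn_3_0 hn_3_1 hn_3_2 hn_4_0 hn_4_1 hn_4_2 hn_4_3 hn_5_0 hn_5_1 hn_5_2 hn_5_3 hn_5_4 hn_6_0 hn_6_1 hn_6_2 hn_6_3 hn_6_4 hn_6_5
                  have r_0 : -2 * T.m u0 + 1 * T.m u1 + 1 * T.m u2 + 1 * T.m u3 = 0 := by
                    have key := Groth.Agent.Helper6.NT.rowfun7 T u0 u1 u2 u3 u4 u5 u6 hinj u0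
                    rw [(h2 u0).2, tap_0_1, tap_0_2, tap_0_3, z_0_4, z_0_5, z_0_6] at key
                    exact mul_left_cancel₀ (T.w_pos u0).ne' (by linarith only [key])
                  have r_1 : 1 * T.m u0 + -2 * T.m u1 = 0 := by
                    have key := Groth.Agent.Helper6.NT.rowfun7 T u0 u1 u2 u3 u4 u5 u6 hinj u1
                    rw [Groth.Agent.Helper6.NT.symm' T u1 u0, taq_0_1, (h2 u1).2, z_1_2, z_1_3, z_1_4, z_1_5, z_1_6] at key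
                    exact mul_left_cancel₀ (T.w_pos u1).ne' (by linarith only [key])
                  have r_2 : 1 * T.m u0 + -2 * T.m u2 + 1 * T.m u4 = 0 := by
                    have key := Groth.Agent.Helper6.NT.rowfun7 T u0 u1 u2 u3 u4 u5 u6 hinj u2
                    rw [Groth.Agent.Helper6.NT.symm' T u2 u0, taq_0_2, Groth.Agent.Helper6.NT.symm' T u2 u1, z_1_2, (h2 u2).2, z_2_3, tap_2_4, z_2_5, z_2_6] at key
                    exact mul_left_cancel₀ (T.w_pos u2).ne' (by linarith only [key])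
                  have r_3 : 1 * T.m u0 + -2 * T.m u3 + 1 * T.m u5 = 0 := by
                    have key := Groth.Agent.Helper6.NT.rowfun7 T u0 u1 u2 u3 u4 u5 u6 hinj u3
                    rw [Groth.Agent.Helper6.NT.symm' T u3 u0, taq_0_3, Groth.Agent.Helper6.NT.symm' T u3 u1, z_1_3, Groth.Agent.Helper6.NT.symm' T u3 u2, z_2_3, (h2 u3).2, z_3_4, tap_3_5, z_3_6] at key
                    exact mul_left_cancel₀ (T.w_pos u3).ne' (by linarith only [key])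
                  have r_4 : 1 * T.m u2 + -2 * T.m u4 + 1 * T.m u6 = 0 := by
                    have key := Groth.Agent.Helper6.NT.rowfun7 T u0 u1 u2 u3 u4 u5 u6 hinj u4
                    rw [Groth.Agent.Helper6.NT.symm' T u4 u0, z_0_4, Groth.Agent.Helper6.NT.symm' T u4 u1, z_1_4, Groth.Agent.Helper6.NT.symm' T u4 u2, taq_2_4, Groth.Agent.Helper6.NT.symm' T u4 u3, z_3_4, (h2 u4).2, z_4_5, tap_4_6] at key
                    exact mul_left_cancel₀ (T.w_pos u4).ne' (by linarith only [key])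
                  have r_5 : 1 * T.m u3 + -2 * T.m u5 = 0 := by
                    have key := Groth.Agent.Helper6.NT.rowfun7 T u0 u1 u2 u3 u4 u5 u6 hinj u5
                    rw [Groth.Agent.Helper6.NT.symm' T u5 u0, z_0_5, Groth.Agent.Helper6.NT.symm' T u5 u1, z_1_5, Groth.Agent.Helper6.NT.symm' T u5 u2, z_2_5, Groth.Agent.Helper6.NT.symm' T u5 u3, taq_3_5, Groth.Agent.Helper6.NT.symm' T u5 u4, z_4_5, (h2 u5).2, z_5_6] at key
                    exact mul_left_cancel₀ (T.w_pos u5).ne' (by linarith only [key])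
                  have r_6 : 1 * T.m u4 + -2 * T.m u6 = 0 := by
                    have key := Groth.Agent.Helper6.NT.rowfun7 T u0 u1 u2 u3 u4 u5 u6 hinj u6
                    rw [Groth.Agent.Helper6.NT.symm' T u6 u0, z_0_6, Groth.Agent.Helper6.NT.symm' T u6 u1, z_1_6, Groth.Agent.Helper6.NT.symm' T u6 u2, z_2_6, Groth.Agent.Helper6.NT.symm' T u6 u3, z_3_6, Groth.Agent.Helper6.NT.symm' T u6 u4, taq_4_6, Groth.Agent.Helper6.NT.symm' T u6 u5, z_5_6, (h2 u6).2] at key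
                    exact mul_left_cancel₀ (T.w_pos u6).ne' (by linarith only [key])
                  exfalso
                  linarith only [r_0, r_1, r_2, r_3, r_4, r_5, r_6, T.m_pos u0, T.m_pos u1, T.m_pos u2, T.m_pos u3, T.m_pos u4, T.m_pos u5, T.m_pos u6]
                · -- (5,6) nonzero
                  obtain ⟨lbp_5_6, lbq_5_6⟩ := Groth.Agent.Helper6.NT.lb T u5 u6 hn_6_5.symm nz_5_6
                  exfalso
                  have key := Groth.Agent.Helper6.NT.negfun6 T h2 u0 u2 u3 u4 u5 u6 (by norm_num) 1 1 1 1 1 1 (by norm_num) (by norm_num)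
                  linarith only [key, tap_0_2, taq_0_2, tap_0_3, taq_0_3, z_0_4, z_0_5, z_0_6, z_2_3, tap_2_4, taq_2_4, z_2_5, z_2_6, z_3_4, tap_3_5, taq_3_5, z_3_6, z_4_5, tap_4_6, taq_4_6, lbp_5_6, lbq_5_6, T.w_pos u0, T.w_pos u2, T.w_pos u3, T.w_pos u4, T.w_pos u5, T.w_pos u6]
              · -- (4,6) Dp
                exfalso
                have key := Groth.Agent.Helper6.NT.negfun6 T h2 u0 u1 u2 u3 u4 u6 (by norm_num) 2 1 2 1 2 1 (by norm_num) (by norm_num)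
                linarith only [key, tap_0_1, taq_0_1, tap_0_2, taq_0_2, tap_0_3, taq_0_3, z_0_4, z_0_6, z_1_2, z_1_3, z_1_4, z_1_6, z_2_3, tap_2_4, taq_2_4, z_2_6, z_3_4, z_3_6, tap_4_6, taq_4_6, T.w_pos u0, T.w_pos u1, T.w_pos u2, T.w_pos u3, T.w_pos u4, T.w_pos u6]
              · -- (4,6) Dm
                exfalso
                have key := Groth.Agent.Helper6.NT.negfun6 T h2 u0 u1 u2 u3 u4 u6 (by norm_num) 2 1 2 1 2 2 (by norm_num) (by norm_num)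
                linarith only [key, tap_0_1, taq_0_1, tap_0_2, taq_0_2, tap_0_3, taq_0_3, z_0_4, z_0_6, z_1_2, z_1_3, z_1_4, z_1_6, z_2_3, tap_2_4, taq_2_4, z_2_6, z_3_4, z_3_6, tap_4_6, taq_4_6, T.w_pos u0, T.w_pos u1, T.w_pos u2, T.w_pos u3, T.w_pos u4, T.w_pos u6]
              · -- (4,6) Tp
                exfalso
                have key := Groth.Agent.Helper6.NT.negfun3 T h2 u2 u4 u6 (by norm_num) 1 2 1 (by norm_num) (by norm_num)
                linarith only [key, tap_2_4, taq_2_4, z_2_6, tap_4_6, taq_4_6, T.w_pos u2, T.w_pos u4, T.w_pos u6]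
              · -- (4,6) Tm
                exfalso
                have key := Groth.Agent.Helper6.NT.negfun3 T h2 u2 u4 u6 (by norm_num) 1 2 3 (by norm_num) (by norm_num)
                linarith only [key, tap_2_4, taq_2_4, z_2_6, tap_4_6, taq_4_6, T.w_pos u2, T.w_pos u4, T.w_pos u6]
            · push Not at hx
              have cl_4 := hx
              clear hx
              by_cases hx : ∃ j, (j ≠ u0 ∧ j ≠ u1 ∧ j ≠ u2 ∧ j ≠ u3 ∧ j ≠ u4 ∧ j ≠ u5) ∧ T.a u5 j ≠ 0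
              · obtain ⟨u6, ⟨hn_6_0, hn_6_1, hn_6_2, hn_6_3, hn_6_4, hn_6_5⟩, e_5_6⟩ := hx
                have z_0_6 : T.a u0 u6 = 0 := cl_0 u6 ⟨hn_6_0, hn_6_1, hn_6_2, hn_6_3⟩
                have z_1_6 : T.a u1 u6 = 0 := cl_1 u6 ⟨hn_6_0, hn_6_1, hn_6_2, hn_6_3⟩
                have z_2_6 : T.a u2 u6 = 0 := cl_2 u6 ⟨hn_6_0, hn_6_1, hn_6_2, hn_6_3, hn_6_4⟩
                have z_3_6 : T.a u3 u6 = 0 := cl_3 u6 ⟨hn_6_0, hn_6_1, hn_6_2, hn_6_3, hn_6_4, hn_6_5⟩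
                have z_4_6 : T.a u4 u6 = 0 := cl_4 u6 ⟨hn_6_0, hn_6_1, hn_6_2, hn_6_3, hn_6_4, hn_6_5⟩
                rcases Groth.Agent.Helper6.NT.edge5 T h2 (by norm_num) u5 u6 hn_6_5.symm e_5_6 with ⟨tw_5_6, tap_5_6, taq_5_6⟩ | ⟨tw_5_6, tap_5_6, taq_5_6⟩ | ⟨tw_5_6, tap_5_6, taq_5_6⟩ | ⟨tw_5_6, tap_5_6, taq_5_6⟩ | ⟨tw_5_6, tap_5_6, taq_5_6⟩
                · -- (5,6) S
                  have hinj := Groth.Agent.Helper6.NT.inj7 u0 u1 u2 u3 u4 u5 u6 hn_1_0 hn_2_0 hn_2_1 hn_3_0 hn_3_1 hn_3_2 hn_4_0 hn_4_1 hn_4_2 hn_4_3 hn_5_0 hn_5_1 hn_5_2 hn_5_3 hn_5_4 hn_6_0 hn_6_1 hn_6_2 hn_6_3 hn_6_4 hn_6_5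
                  have r_0 : -2 * T.m u0 + 1 * T.m u1 + 1 * T.m u2 + 1 * T.m u3 = 0 := by
                    have key := Groth.Agent.Helper6.NT.rowfun7 T u0 u1 u2 u3 u4 u5 u6 hinj u0
                    rw [(h2 u0).2, tap_0_1, tap_0_2, tap_0_3, z_0_4, z_0_5, z_0_6] at key
                    exact mul_left_cancel₀ (T.w_pos u0).ne' (by linarith only [key])
                  have r_1 : 1 * T.m u0 + -2 * T.m u1 = 0 := by
                    have key := Groth.Agent.Helper6.NT.rowfun7 T u0 u1 u2 u3 u4 u5 u6 hinj u1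
                    rw [Groth.Agent.Helper6.NT.symm' T u1 u0, taq_0_1, (h2 u1).2, z_1_2, z_1_3, z_1_4, z_1_5, z_1_6] at key
                    exact mul_left_cancel₀ (T.w_pos u1).ne' (by linarith only [key])
                  have r_2 : 1 * T.m u0 + -2 * T.m u2 + 1 * T.m u4 = 0 := by
                    have key := Groth.Agent.Helper6.NT.rowfun7 T u0 u1 u2 u3 u4 u5 u6 hinj u2
                    rw [Groth.Agent.Helper6.NT.symm' T u2 u0, taq_0_2, Groth.Agent.Helper6.NT.symm' T u2 u1, z_1_2, (h2 u2).2, z_2_3, tap_2_4, z_2_5, z_2_6] at key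
                    exact mul_left_cancel₀ (T.w_pos u2).ne' (by linarith only [key])
                  have r_3 : 1 * T.m u0 + -2 * T.m u3 + 1 * T.m u5 = 0 := by
                    have key := Groth.Agent.Helper6.NT.rowfun7 T u0 u1 u2 u3 u4 u5 u6 hinj u3
                    rw [Groth.Agent.Helper6.NT.symm' T u3 u0, taq_0_3, Groth.Agent.Helper6.NT.symm' T u3 u1, z_1_3, Groth.Agent.Helper6.NT.symm' T u3 u2, z_2_3, (h2 u3).2, z_3_4, tap_3_5, z_3_6] at key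
                    exact mul_left_cancel₀ (T.w_pos u3).ne' (by linarith only [key])
                  have r_4 : 1 * T.m u2 + -2 * T.m u4 = 0 := by
                    have key := Groth.Agent.Helper6.NT.rowfun7 T u0 u1 u2 u3 u4 u5 u6 hinj u4
                    rw [Groth.Agent.Helper6.NT.symm' T u4 u0, z_0_4, Groth.Agent.Helper6.NT.symm' T u4 u1, z_1_4, Groth.Agent.Helper6.NT.symm' T u4 u2, taq_2_4, Groth.Agent.Helper6.NT.symm' T u4 u3, z_3_4, (h2 u4).2, z_4_5, z_4_6] at key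
                    exact mul_left_cancel₀ (T.w_pos u4).ne' (by linarith only [key])
                  have r_5 : 1 * T.m u3 + -2 * T.m u5 + 1 * T.m u6 = 0 := by
                    have key := Groth.Agent.Helper6.NT.rowfun7 T u0 u1 u2 u3 u4 u5 u6 hinj u5
                    rw [Groth.Agent.Helper6.NT.symm' T u5 u0, z_0_5, Groth.Agent.Helper6.NT.symm' T u5 u1, z_1_5, Groth.Agent.Helper6.NT.symm' T u5 u2, z_2_5, Groth.Agent.Helper6.NT.symm' T u5 u3, taq_3_5, Groth.Agent.Helper6.NT.symm' T u5 u4, z_4_5, (h2 u5).2, tap_5_6] at key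
                    exact mul_left_cancel₀ (T.w_pos u5).ne' (by linarith only [key])
                  have r_6 : 1 * T.m u5 + -2 * T.m u6 = 0 := by
                    have key := Groth.Agent.Helper6.NT.rowfun7 T u0 u1 u2 u3 u4 u5 u6 hinj u6
                    rw [Groth.Agent.Helper6.NT.symm' T u6 u0, z_0_6, Groth.Agent.Helper6.NT.symm' T u6 u1, z_1_6, Groth.Agent.Helper6.NT.symm' T u6 u2, z_2_6, Groth.Agent.Helper6.NT.symm' T u6 u3, z_3_6, Groth.Agent.Helper6.NT.symm' T u6 u4, z_4_6, Groth.Agent.Helper6.NT.symm' T u6 u5, taq_5_6, (h2 u6).2] at key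
                    exact mul_left_cancel₀ (T.w_pos u6).ne' (by linarith only [key])
                  exfalso
                  linarith only [r_0, r_1, r_2, r_3, r_4, r_5, r_6, T.m_pos u0, T.m_pos u1, T.m_pos u2, T.m_pos u3, T.m_pos u4, T.m_pos u5, T.m_pos u6]
                · -- (5,6) Dp
                  exfalso
                  have key := Groth.Agent.Helper6.NT.negfun6 T h2 u0 u1 u2 u3 u5 u6 (by norm_num) 2 1 1 2 2 1 (by norm_num) (by norm_num)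
                  linarith only [key, tap_0_1, taq_0_1, tap_0_2, taq_0_2, tap_0_3, taq_0_3, z_0_5, z_0_6, z_1_2, z_1_3, z_1_5, z_1_6, z_2_3, z_2_5, z_2_6, tap_3_5, taq_3_5, z_3_6, tap_5_6, taq_5_6, T.w_pos u0, T.w_pos u1, T.w_pos u2, T.w_pos u3, T.w_pos u5, T.w_pos u6]
                · -- (5,6) Dm
                  exfalso
                  have key := Groth.Agent.Helper6.NT.negfun6 T h2 u0 u1 u2 u3 u5 u6 (by norm_num) 2 1 1 2 2 2 (by norm_num) (by norm_num)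
                  linarith only [key, tap_0_1, taq_0_1, tap_0_2, taq_0_2, tap_0_3, taq_0_3, z_0_5, z_0_6, z_1_2, z_1_3, z_1_5, z_1_6, z_2_3, z_2_5, z_2_6, tap_3_5, taq_3_5, z_3_6, tap_5_6, taq_5_6, T.w_pos u0, T.w_pos u1, T.w_pos u2, T.w_pos u3, T.w_pos u5, T.w_pos u6]
                · -- (5,6) Tp
                  exfalso
                  have key := Groth.Agent.Helper6.NT.negfun3 T h2 u3 u5 u6 (by norm_num) 1 2 1 (by norm_num) (by norm_num)
                  linarith only [key, tap_3_5, taq_3_5, z_3_6, tap_5_6, taq_5_6, T.w_pos u3, T.w_pos u5, T.w_pos u6]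
                · -- (5,6) Tm
                  exfalso
                  have key := Groth.Agent.Helper6.NT.negfun3 T h2 u3 u5 u6 (by norm_num) 1 2 3 (by norm_num) (by norm_num)
                  linarith only [key, tap_3_5, taq_3_5, z_3_6, tap_5_6, taq_5_6, T.w_pos u3, T.w_pos u5, T.w_pos u6]
              · push Not at hx
                have cl_5 := hx
                clear hx
                exfalso
                refine Groth.Agent.Helper6.NT.closed_contra T [u0, u1, u2, u3, u4, u5] (by simp) (by simp) ?_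
                intro i hi j hj
                simp only [List.mem_cons, List.not_mem_nil, or_false, not_or] at hi hj
                rcases hi with rfl | rfl | rfl | rfl | rfl | rfl
                · exact cl_0 j ⟨hj.1, hj.2.1, hj.2.2.1, hj.2.2.2.1⟩
                · exact cl_1 j ⟨hj.1, hj.2.1, hj.2.2.1, hj.2.2.2.1⟩
                · exact cl_2 j ⟨hj.1, hj.2.1, hj.2.2.1, hj.2.2.2.1, hj.2.2.2.2.1⟩
                · exact cl_3 j ⟨hj.1, hj.2.1, hj.2.2.1, hj.2.2.2.1, hj.2.2.2.2.1, hj.2.2.2.2.2⟩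
                · exact cl_4 j ⟨hj.1, hj.2.1, hj.2.2.1, hj.2.2.2.1, hj.2.2.2.2.1, hj.2.2.2.2.2⟩
                · exact cl_5 j ⟨hj.1, hj.2.1, hj.2.2.1, hj.2.2.2.1, hj.2.2.2.2.1, hj.2.2.2.2.2⟩
        · -- (4,5) nonzero
          obtain ⟨lbp_4_5, lbq_4_5⟩ := Groth.Agent.Helper6.NT.lb T u4 u5 hn_5_4.symm nz_4_5
          exfalso
          have key := Groth.Agent.Helper6.NT.negfun5 T h2 u0 u2 u3 u4 u5 (by norm_num) 1 1 1 1 1 (by norm_num) (by norm_num)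
          linarith only [key, tap_0_2, taq_0_2, tap_0_3, taq_0_3, z_0_4, z_0_5, z_2_3, tap_2_4, taq_2_4, z_2_5, z_3_4, tap_3_5, taq_3_5, lbp_4_5, lbq_4_5, T.w_pos u0, T.w_pos u2, T.w_pos u3, T.w_pos u4, T.w_pos u5]
      · -- (3,5) Dp
        exfalso
        have key := Groth.Agent.Helper6.NT.negfun5 T h2 u0 u1 u2 u3 u5 (by norm_num) 2 1 1 2 1 (by norm_num) (by norm_num)
        linarith only [key, tap_0_1, taq_0_1, tap_0_2, taq_0_2, tap_0_3, taq_0_3, z_0_5, z_1_2, z_1_3, z_1_5, z_2_3, z_2_5, tap_3_5, taq_3_5, T.w_pos u0, T.w_pos u1, T.w_pos u2, T.w_pos u3, T.w_pos u5]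
      · -- (3,5) Dm
        exfalso
        have key := Groth.Agent.Helper6.NT.negfun5 T h2 u0 u1 u2 u3 u5 (by norm_num) 2 1 1 2 2 (by norm_num) (by norm_num)
        linarith only [key, tap_0_1, taq_0_1, tap_0_2, taq_0_2, tap_0_3, taq_0_3, z_0_5, z_1_2, z_1_3, z_1_5, z_2_3, z_2_5, tap_3_5, taq_3_5, T.w_pos u0, T.w_pos u1, T.w_pos u2, T.w_pos u3, T.w_pos u5]
      · -- (3,5) Tp
        exfalso
        have key := Groth.Agent.Helper6.NT.negfun3 T h2 u0 u3 u5 (by norm_num) 1 2 1 (by norm_num) (by norm_num)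
        linarith only [key, tap_0_3, taq_0_3, z_0_5, tap_3_5, taq_3_5, T.w_pos u0, T.w_pos u3, T.w_pos u5]
      · -- (3,5) Tm
        exfalso
        have key := Groth.Agent.Helper6.NT.negfun3 T h2 u0 u3 u5 (by norm_num) 1 2 3 (by norm_num) (by norm_num)
        linarith only [key, tap_0_3, taq_0_3, z_0_5, tap_3_5, taq_3_5, T.w_pos u0, T.w_pos u3, T.w_pos u5]
    · push Not at hx
      have cl_3 := hx
      clear hx
      by_cases hx : ∃ j, (j ≠ u0 ∧ j ≠ u1 ∧ j ≠ u2 ∧ j ≠ u3 ∧ j ≠ u4) ∧ T.a u4 j ≠ 0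
      · obtain ⟨u5, ⟨hn_5_0, hn_5_1, hn_5_2, hn_5_3, hn_5_4⟩, e_4_5⟩ := hx
        have z_0_5 : T.a u0 u5 = 0 := cl_0 u5 ⟨hn_5_0, hn_5_1, hn_5_2, hn_5_3⟩
        have z_1_5 : T.a u1 u5 = 0 := cl_1 u5 ⟨hn_5_0, hn_5_1, hn_5_2, hn_5_3⟩
        have z_2_5 : T.a u2 u5 = 0 := cl_2 u5 ⟨hn_5_0, hn_5_1, hn_5_2, hn_5_3, hn_5_4⟩
        have z_3_5 : T.a u3 u5 = 0 := cl_3 u5 ⟨hn_5_0, hn_5_1, hn_5_2, hn_5_3, hn_5_4⟩
        rcases Groth.Agent.Helper6.NT.edge5 T h2 (by norm_num) u4 u5 hn_5_4.symm e_4_5 with ⟨tw_4_5, tap_4_5, taq_4_5⟩ | ⟨tw_4_5, tap_4_5, taq_4_5⟩ | ⟨tw_4_5, tap_4_5, taq_4_5⟩ | ⟨tw_4_5, tap_4_5, taq_4_5⟩ | ⟨tw_4_5, tap_4_5, taq_4_5⟩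
        · -- (4,5) S
          by_cases hx : ∃ j, (j ≠ u0 ∧ j ≠ u1 ∧ j ≠ u2 ∧ j ≠ u3 ∧ j ≠ u4 ∧ j ≠ u5) ∧ T.a u4 j ≠ 0
          · obtain ⟨u6, ⟨hn_6_0, hn_6_1, hn_6_2, hn_6_3, hn_6_4, hn_6_5⟩, e_4_6⟩ := hx
            have z_0_6 : T.a u0 u6 = 0 := cl_0 u6 ⟨hn_6_0, hn_6_1, hn_6_2, hn_6_3⟩
            have z_1_6 : T.a u1 u6 = 0 := cl_1 u6 ⟨hn_6_0, hn_6_1, hn_6_2, hn_6_3⟩
            have z_2_6 : T.a u2 u6 = 0 := cl_2 u6 ⟨hn_6_0, hn_6_1, hn_6_2, hn_6_3, hn_6_4⟩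
            have z_3_6 : T.a u3 u6 = 0 := cl_3 u6 ⟨hn_6_0, hn_6_1, hn_6_2, hn_6_3, hn_6_4⟩
            rcases Groth.Agent.Helper6.NT.edge5 T h2 (by norm_num) u4 u6 hn_6_4.symm e_4_6 with ⟨tw_4_6, tap_4_6, taq_4_6⟩ | ⟨tw_4_6, tap_4_6, taq_4_6⟩ | ⟨tw_4_6, tap_4_6, taq_4_6⟩ | ⟨tw_4_6, tap_4_6, taq_4_6⟩ | ⟨tw_4_6, tap_4_6, taq_4_6⟩
            · -- (4,6) S
              rcases eq_or_ne (T.a u5 u6) 0 with z_5_6 | nz_5_6
              · -- (5,6) zero
                have hinj := Groth.Agent.Helper6.NT.inj7 u0 u1 u2 u3 u4 u5 u6 hn_1_0 hn_2_0 hn_2_1 hn_3_0 hn_3_1 hn_3_2 hn_4_0 hn_4_1 hn_4_2 hn_4_3 hn_5_0 hn_5_1 hn_5_2 hn_5_3 hn_5_4 hn_6_0 hn_6_1 hn_6_2 hn_6_3 hn_6_4 hn_6_5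
                have r_0 : -2 * T.m u0 + 1 * T.m u1 + 1 * T.m u2 + 1 * T.m u3 = 0 := by
                  have key := Groth.Agent.Helper6.NT.rowfun7 T u0 u1 u2 u3 u4 u5 u6 hinj u0
                  rw [(h2 u0).2, tap_0_1, tap_0_2, tap_0_3, z_0_4, z_0_5, z_0_6] at key
                  exact mul_left_cancel₀ (T.w_pos u0).ne' (by linarith only [key])
                have r_1 : 1 * T.m u0 + -2 * T.m u1 = 0 := by
                  have key := Groth.Agent.Helper6.NT.rowfun7 T u0 u1 u2 u3 u4 u5 u6 hinj u1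
                  rw [Groth.Agent.Helper6.NT.symm' T u1 u0, taq_0_1, (h2 u1).2, z_1_2, z_1_3, z_1_4, z_1_5, z_1_6] at key
                  exact mul_left_cancel₀ (T.w_pos u1).ne' (by linarith only [key])
                have r_2 : 1 * T.m u0 + -2 * T.m u2 + 1 * T.m u4 = 0 := by
                  have key := Groth.Agent.Helper6.NT.rowfun7 T u0 u1 u2 u3 u4 u5 u6 hinj u2
                  rw [Groth.Agent.Helper6.NT.symm' T u2 u0, taq_0_2, Groth.Agent.Helper6.NT.symm' T u2 u1, z_1_2, (h2 u2).2, z_2_3, tap_2_4, z_2_5, z_2_6] at key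
                  exact mul_left_cancel₀ (T.w_pos u2).ne' (by linarith only [key])
                have r_3 : 1 * T.m u0 + -2 * T.m u3 = 0 := by
                  have key := Groth.Agent.Helper6.NT.rowfun7 T u0 u1 u2 u3 u4 u5 u6 hinj u3
                  rw [Groth.Agent.Helper6.NT.symm' T u3 u0, taq_0_3, Groth.Agent.Helper6.NT.symm' T u3 u1, z_1_3, Groth.Agent.Helper6.NT.symm' T u3 u2, z_2_3, (h2 u3).2, z_3_4, z_3_5, z_3_6] at key
                  exact mul_left_cancel₀ (T.w_pos u3).ne' (by linarith only [key])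
                have r_4 : 1 * T.m u2 + -2 * T.m u4 + 1 * T.m u5 + 1 * T.m u6 = 0 := by
                  have key := Groth.Agent.Helper6.NT.rowfun7 T u0 u1 u2 u3 u4 u5 u6 hinj u4
                  rw [Groth.Agent.Helper6.NT.symm' T u4 u0, z_0_4, Groth.Agent.Helper6.NT.symm' T u4 u1, z_1_4, Groth.Agent.Helper6.NT.symm' T u4 u2, taq_2_4, Groth.Agent.Helper6.NT.symm' T u4 u3, z_3_4, (h2 u4).2, tap_4_5, tap_4_6] at key
                  exact mul_left_cancel₀ (T.w_pos u4).ne' (by linarith only [key])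
                have r_5 : 1 * T.m u4 + -2 * T.m u5 = 0 := by
                  have key := Groth.Agent.Helper6.NT.rowfun7 T u0 u1 u2 u3 u4 u5 u6 hinj u5
                  rw [Groth.Agent.Helper6.NT.symm' T u5 u0, z_0_5, Groth.Agent.Helper6.NT.symm' T u5 u1, z_1_5, Groth.Agent.Helper6.NT.symm' T u5 u2, z_2_5, Groth.Agent.Helper6.NT.symm' T u5 u3, z_3_5, Groth.Agent.Helper6.NT.symm' T u5 u4, taq_4_5, (h2 u5).2, z_5_6] at key
                  exact mul_left_cancel₀ (T.w_pos u5).ne' (by linarith only [key])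
                have r_6 : 1 * T.m u4 + -2 * T.m u6 = 0 := by
                  have key := Groth.Agent.Helper6.NT.rowfun7 T u0 u1 u2 u3 u4 u5 u6 hinj u6
                  rw [Groth.Agent.Helper6.NT.symm' T u6 u0, z_0_6, Groth.Agent.Helper6.NT.symm' T u6 u1, z_1_6, Groth.Agent.Helper6.NT.symm' T u6 u2, z_2_6, Groth.Agent.Helper6.NT.symm' T u6 u3, z_3_6, Groth.Agent.Helper6.NT.symm' T u6 u4, taq_4_6, Groth.Agent.Helper6.NT.symm' T u6 u5, z_5_6, (h2 u6).2] at key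
                  exact mul_left_cancel₀ (T.w_pos u6).ne' (by linarith only [key])
                have f0 : T.m u1 = T.m u1 := rfl
                have f1 : T.m u3 = T.m u1 := by linarith only [r_0, r_1, r_2, r_3, r_4, r_5, r_6]
                have f2 : T.m u0 = 2 * T.m u1 := by linarith only [r_0, r_1, r_2, r_3, r_4, r_5, r_6]
                have f3 : T.m u2 = 2 * T.m u1 := by linarith only [r_0, r_1, r_2, r_3, r_4, r_5, r_6]
                have f4 : T.m u4 = 2 * T.m u1 := by linarith only [r_0, r_1, r_2, r_3, r_4, r_5, r_6]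
                have f5 : T.m u5 = T.m u1 := by linarith only [r_0, r_1, r_2, r_3, r_4, r_5, r_6]
                have f6 : T.m u6 = T.m u1 := by linarith only [r_0, r_1, r_2, r_3, r_4, r_5, r_6]
                have f7 : T.w u1 = T.w u1 := rfl
                have f8 : T.w u3 = T.w u1 := by linarith only [tw_0_1, tw_0_2, tw_0_3, tw_2_4, tw_4_5, tw_4_6]
                have f9 : T.w u0 = T.w u1 := by linarith only [tw_0_1, tw_0_2, tw_0_3, tw_2_4, tw_4_5, tw_4_6]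
                have f10 : T.w u2 = T.w u1 := by linarith only [tw_0_1, tw_0_2, tw_0_3, tw_2_4, tw_4_5, tw_4_6]
                have f11 : T.w u4 = T.w u1 := by linarith only [tw_0_1, tw_0_2, tw_0_3, tw_2_4, tw_4_5, tw_4_6]
                have f12 : T.w u5 = T.w u1 := by linarith only [tw_0_1, tw_0_2, tw_0_3, tw_2_4, tw_4_5, tw_4_6]
                have f13 : T.w u6 = T.w u1 := by linarith only [tw_0_1, tw_0_2, tw_0_3, tw_2_4, tw_4_5, tw_4_6]
                have f14 : T.a u1 u1 = -2 * T.w u1 := by have := (h2 u1).2; linarith only [this, tw_0_1, tw_0_2, tw_0_3, tw_2_4, tw_4_5, tw_4_6]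
                have f15 : T.a u1 u3 = 0 := by exact z_1_3
                have f16 : T.a u1 u0 = T.w u1 := by rw [Groth.Agent.Helper6.NT.symm' T u1 u0]; linarith only [tap_0_1, tw_0_1, tw_0_2, tw_0_3, tw_2_4, tw_4_5, tw_4_6]
                have f17 : T.a u1 u2 = 0 := by exact z_1_2
                have f18 : T.a u1 u4 = 0 := by exact z_1_4
                have f19 : T.a u1 u5 = 0 := by exact z_1_5
                have f20 : T.a u1 u6 = 0 := by exact z_1_6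
                have f21 : T.a u3 u3 = -2 * T.w u1 := by have := (h2 u3).2; linarith only [this, tw_0_1, tw_0_2, tw_0_3, tw_2_4, tw_4_5, tw_4_6]
                have f22 : T.a u3 u0 = T.w u1 := by rw [Groth.Agent.Helper6.NT.symm' T u3 u0]; linarith only [tap_0_3, tw_0_1, tw_0_2, tw_0_3, tw_2_4, tw_4_5, tw_4_6]
                have f23 : T.a u3 u2 = 0 := by rw [Groth.Agent.Helper6.NT.symm' T u3 u2]; exact z_2_3
                have f24 : T.a u3 u4 = 0 := by exact z_3_4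
                have f25 : T.a u3 u5 = 0 := by exact z_3_5
                have f26 : T.a u3 u6 = 0 := by exact z_3_6
                have f27 : T.a u0 u0 = -2 * T.w u1 := by have := (h2 u0).2; linarith only [this, tw_0_1, tw_0_2, tw_0_3, tw_2_4, tw_4_5, tw_4_6]
                have f28 : T.a u0 u2 = T.w u1 := by linarith only [tap_0_2, tw_0_1, tw_0_2, tw_0_3, tw_2_4, tw_4_5, tw_4_6]
                have f29 : T.a u0 u4 = 0 := by exact z_0_4
                have f30 : T.a u0 u5 = 0 := by exact z_0_5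
                have f31 : T.a u0 u6 = 0 := by exact z_0_6
                have f32 : T.a u2 u2 = -2 * T.w u1 := by have := (h2 u2).2; linarith only [this, tw_0_1, tw_0_2, tw_0_3, tw_2_4, tw_4_5, tw_4_6]
                have f33 : T.a u2 u4 = T.w u1 := by linarith only [tap_2_4, tw_0_1, tw_0_2, tw_0_3, tw_2_4, tw_4_5, tw_4_6]
                have f34 : T.a u2 u5 = 0 := by exact z_2_5
                have f35 : T.a u2 u6 = 0 := by exact z_2_6
                have f36 : T.a u4 u4 = -2 * T.w u1 := by have := (h2 u4).2; linarith only [this, tw_0_1, tw_0_2, tw_0_3, tw_2_4, tw_4_5, tw_4_6]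
                have f37 : T.a u4 u5 = T.w u1 := by linarith only [tap_4_5, tw_0_1, tw_0_2, tw_0_3, tw_2_4, tw_4_5, tw_4_6]
                have f38 : T.a u4 u6 = T.w u1 := by linarith only [tap_4_6, tw_0_1, tw_0_2, tw_0_3, tw_2_4, tw_4_5, tw_4_6]
                have f39 : T.a u5 u5 = -2 * T.w u1 := by have := (h2 u5).2; linarith only [this, tw_0_1, tw_0_2, tw_0_3, tw_2_4, tw_4_5, tw_4_6]
                have f40 : T.a u5 u6 = 0 := by exact z_5_6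
                have f41 : T.a u6 u6 = -2 * T.w u1 := by have := (h2 u6).2; linarith only [this, tw_0_1, tw_0_2, tw_0_3, tw_2_4, tw_4_5, tw_4_6]
                have hsig := Groth.Agent.Helper6.NT.inj7 u1 u3 u0 u2 u4 u5 u6 hn_3_1 hn_1_0.symm hn_3_0.symm hn_2_1 hn_3_2.symm hn_2_0 hn_4_1 hn_4_3 hn_4_0 hn_4_2 hn_5_1 hn_5_3 hn_5_0 hn_5_2 hn_5_4 hn_6_1 hn_6_3 hn_6_0 hn_6_2 hn_6_4 hn_6_5
                exact ⟨Equiv.ofBijective _ (Finite.injective_iff_bijective.1 hsig), T.m u1, T.w u1, Or.inr (Or.inr (Or.inr (Or.inr (Or.inr (Or.inr (Or.inl ⟨f0, f1, f2, f3, f4, f5, f6, f7, f8, f9, f10, f11, f12, f13, f14, f15, f16, f17, f18, f19, f20, f21, f22, f23, f24, f25, f26, f27, f28, f29, f30, f31, f32, f33, f34, f35, f36, f37, f38, f39, f40, f41⟩))))))⟩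
              · -- (5,6) nonzero
                obtain ⟨lbp_5_6, lbq_5_6⟩ := Groth.Agent.Helper6.NT.lb T u5 u6 hn_6_5.symm nz_5_6
                exfalso
                have key := Groth.Agent.Helper6.NT.negfun3 T h2 u4 u5 u6 (by norm_num) 1 1 1 (by norm_num) (by norm_num)
                linarith only [key, tap_4_5, taq_4_5, tap_4_6, taq_4_6, lbp_5_6, lbq_5_6, T.w_pos u4, T.w_pos u5, T.w_pos u6]
            · -- (4,6) Dp
              exfalso
              have key := Groth.Agent.Helper6.NT.negfun4 T h2 u2 u4 u5 u6 (by norm_num) 1 2 1 1 (by norm_num) (by norm_num)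
              linarith only [key, tap_2_4, taq_2_4, z_2_5, z_2_6, tap_4_5, taq_4_5, tap_4_6, taq_4_6, T.offDiag_nonneg u5 u6 hn_6_5.symm, T.w_pos u2, T.w_pos u4, T.w_pos u5, T.w_pos u6]
            · -- (4,6) Dm
              exfalso
              have key := Groth.Agent.Helper6.NT.negfun4 T h2 u2 u4 u5 u6 (by norm_num) 1 2 1 2 (by norm_num) (by norm_num)
              linarith only [key, tap_2_4, taq_2_4, z_2_5, z_2_6, tap_4_5, taq_4_5, tap_4_6, taq_4_6, T.offDiag_nonneg u5 u6 hn_6_5.symm, T.w_pos u2, T.w_pos u4, T.w_pos u5, T.w_pos u6]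
            · -- (4,6) Tp
              exfalso
              have key := Groth.Agent.Helper6.NT.negfun3 T h2 u4 u5 u6 (by norm_num) 2 1 1 (by norm_num) (by norm_num)
              linarith only [key, tap_4_5, taq_4_5, tap_4_6, taq_4_6, T.offDiag_nonneg u5 u6 hn_6_5.symm, T.w_pos u4, T.w_pos u5, T.w_pos u6]
            · -- (4,6) Tm
              exfalso
              have key := Groth.Agent.Helper6.NT.negfun3 T h2 u4 u5 u6 (by norm_num) 2 1 3 (by norm_num) (by norm_num)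
              linarith only [key, tap_4_5, taq_4_5, tap_4_6, taq_4_6, T.offDiag_nonneg u5 u6 hn_6_5.symm, T.w_pos u4, T.w_pos u5, T.w_pos u6]
          · push Not at hx
            have cl_4 := hx
            clear hx
            by_cases hx : ∃ j, (j ≠ u0 ∧ j ≠ u1 ∧ j ≠ u2 ∧ j ≠ u3 ∧ j ≠ u4 ∧ j ≠ u5) ∧ T.a u5 j ≠ 0
            · obtain ⟨u6, ⟨hn_6_0, hn_6_1, hn_6_2, hn_6_3, hn_6_4, hn_6_5⟩, e_5_6⟩ := hx
              have z_0_6 : T.a u0 u6 = 0 := cl_0 u6 ⟨hn_6_0, hn_6_1, hn_6_2, hn_6_3⟩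
              have z_1_6 : T.a u1 u6 = 0 := cl_1 u6 ⟨hn_6_0, hn_6_1, hn_6_2, hn_6_3⟩
              have z_2_6 : T.a u2 u6 = 0 := cl_2 u6 ⟨hn_6_0, hn_6_1, hn_6_2, hn_6_3, hn_6_4⟩
              have z_3_6 : T.a u3 u6 = 0 := cl_3 u6 ⟨hn_6_0, hn_6_1, hn_6_2, hn_6_3, hn_6_4⟩
              have z_4_6 : T.a u4 u6 = 0 := cl_4 u6 ⟨hn_6_0, hn_6_1, hn_6_2, hn_6_3, hn_6_4, hn_6_5⟩
              rcases Groth.Agent.Helper6.NT.edge5 T h2 (by norm_num) u5 u6 hn_6_5.symm e_5_6 with ⟨tw_5_6, tap_5_6, taq_5_6⟩ | ⟨tw_5_6, tap_5_6, taq_5_6⟩ | ⟨tw_5_6, tap_5_6, taq_5_6⟩ | ⟨tw_5_6, tap_5_6, taq_5_6⟩ | ⟨tw_5_6, tap_5_6, taq_5_6⟩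
              · -- (5,6) S
                have hinj := Groth.Agent.Helper6.NT.inj7 u0 u1 u2 u3 u4 u5 u6 hn_1_0 hn_2_0 hn_2_1 hn_3_0 hn_3_1 hn_3_2 hn_4_0 hn_4_1 hn_4_2 hn_4_3 hn_5_0 hn_5_1 hn_5_2 hn_5_3 hn_5_4 hn_6_0 hn_6_1 hn_6_2 hn_6_3 hn_6_4 hn_6_5
                have r_0 : -2 * T.m u0 + 1 * T.m u1 + 1 * T.m u2 + 1 * T.m u3 = 0 := by
                  have key := Groth.Agent.Helper6.NT.rowfun7 T u0 u1 u2 u3 u4 u5 u6 hinj u0
                  rw [(h2 u0).2, tap_0_1, tap_0_2, tap_0_3, z_0_4, z_0_5, z_0_6] at key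
                  exact mul_left_cancel₀ (T.w_pos u0).ne' (by linarith only [key])
                have r_1 : 1 * T.m u0 + -2 * T.m u1 = 0 := by
                  have key := Groth.Agent.Helper6.NT.rowfun7 T u0 u1 u2 u3 u4 u5 u6 hinj u1
                  rw [Groth.Agent.Helper6.NT.symm' T u1 u0, taq_0_1, (h2 u1).2, z_1_2, z_1_3, z_1_4, z_1_5, z_1_6] at key
                  exact mul_left_cancel₀ (T.w_pos u1).ne' (by linarith only [key])
                have r_2 : 1 * T.m u0 + -2 * T.m u2 + 1 * T.m u4 = 0 := by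
                  have key := Groth.Agent.Helper6.NT.rowfun7 T u0 u1 u2 u3 u4 u5 u6 hinj u2
                  rw [Groth.Agent.Helper6.NT.symm' T u2 u0, taq_0_2, Groth.Agent.Helper6.NT.symm' T u2 u1, z_1_2, (h2 u2).2, z_2_3, tap_2_4, z_2_5, z_2_6] at key
                  exact mul_left_cancel₀ (T.w_pos u2).ne' (by linarith only [key])
                have r_3 : 1 * T.m u0 + -2 * T.m u3 = 0 := by
                  have key := Groth.Agent.Helper6.NT.rowfun7 T u0 u1 u2 u3 u4 u5 u6 hinj u3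
                  rw [Groth.Agent.Helper6.NT.symm' T u3 u0, taq_0_3, Groth.Agent.Helper6.NT.symm' T u3 u1, z_1_3, Groth.Agent.Helper6.NT.symm' T u3 u2, z_2_3, (h2 u3).2, z_3_4, z_3_5, z_3_6] at key
                  exact mul_left_cancel₀ (T.w_pos u3).ne' (by linarith only [key])
                have r_4 : 1 * T.m u2 + -2 * T.m u4 + 1 * T.m u5 = 0 := by
                  have key := Groth.Agent.Helper6.NT.rowfun7 T u0 u1 u2 u3 u4 u5 u6 hinj u4
                  rw [Groth.Agent.Helper6.NT.symm' T u4 u0, z_0_4, Groth.Agent.Helper6.NT.symm' T u4 u1, z_1_4, Groth.Agent.Helper6.NT.symm' T u4 u2, taq_2_4, Groth.Agent.Helper6.NT.symm' T u4 u3, z_3_4, (h2 u4).2, tap_4_5, z_4_6] at key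
                  exact mul_left_cancel₀ (T.w_pos u4).ne' (by linarith only [key])
                have r_5 : 1 * T.m u4 + -2 * T.m u5 + 1 * T.m u6 = 0 := by
                  have key := Groth.Agent.Helper6.NT.rowfun7 T u0 u1 u2 u3 u4 u5 u6 hinj u5
                  rw [Groth.Agent.Helper6.NT.symm' T u5 u0, z_0_5, Groth.Agent.Helper6.NT.symm' T u5 u1, z_1_5, Groth.Agent.Helper6.NT.symm' T u5 u2, z_2_5, Groth.Agent.Helper6.NT.symm' T u5 u3, z_3_5, Groth.Agent.Helper6.NT.symm' T u5 u4, taq_4_5, (h2 u5).2, tap_5_6] at key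
                  exact mul_left_cancel₀ (T.w_pos u5).ne' (by linarith only [key])
                have r_6 : 1 * T.m u5 + -2 * T.m u6 = 0 := by
                  have key := Groth.Agent.Helper6.NT.rowfun7 T u0 u1 u2 u3 u4 u5 u6 hinj u6
                  rw [Groth.Agent.Helper6.NT.symm' T u6 u0, z_0_6, Groth.Agent.Helper6.NT.symm' T u6 u1, z_1_6, Groth.Agent.Helper6.NT.symm' T u6 u2, z_2_6, Groth.Agent.Helper6.NT.symm' T u6 u3, z_3_6, Groth.Agent.Helper6.NT.symm' T u6 u4, z_4_6, Groth.Agent.Helper6.NT.symm' T u6 u5, taq_5_6, (h2 u6).2] at key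
                  exact mul_left_cancel₀ (T.w_pos u6).ne' (by linarith only [key])
                exfalso
                linarith only [r_0, r_1, r_2, r_3, r_4, r_5, r_6, T.m_pos u0, T.m_pos u1, T.m_pos u2, T.m_pos u3, T.m_pos u4, T.m_pos u5, T.m_pos u6]
              · -- (5,6) Dp
                have hinj := Groth.Agent.Helper6.NT.inj7 u0 u1 u2 u3 u4 u5 u6 hn_1_0 hn_2_0 hn_2_1 hn_3_0 hn_3_1 hn_3_2 hn_4_0 hn_4_1 hn_4_2 hn_4_3 hn_5_0 hn_5_1 hn_5_2 hn_5_3 hn_5_4 hn_6_0 hn_6_1 hn_6_2 hn_6_3 hn_6_4 hn_6_5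
                have r_0 : -2 * T.m u0 + 1 * T.m u1 + 1 * T.m u2 + 1 * T.m u3 = 0 := by
                  have key := Groth.Agent.Helper6.NT.rowfun7 T u0 u1 u2 u3 u4 u5 u6 hinj u0
                  rw [(h2 u0).2, tap_0_1, tap_0_2, tap_0_3, z_0_4, z_0_5, z_0_6] at key
                  exact mul_left_cancel₀ (T.w_pos u0).ne' (by linarith only [key])
                have r_1 : 1 * T.m u0 + -2 * T.m u1 = 0 := by
                  have key := Groth.Agent.Helper6.NT.rowfun7 T u0 u1 u2 u3 u4 u5 u6 hinj u1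
                  rw [Groth.Agent.Helper6.NT.symm' T u1 u0, taq_0_1, (h2 u1).2, z_1_2, z_1_3, z_1_4, z_1_5, z_1_6] at key
                  exact mul_left_cancel₀ (T.w_pos u1).ne' (by linarith only [key])
                have r_2 : 1 * T.m u0 + -2 * T.m u2 + 1 * T.m u4 = 0 := by
                  have key := Groth.Agent.Helper6.NT.rowfun7 T u0 u1 u2 u3 u4 u5 u6 hinj u2
                  rw [Groth.Agent.Helper6.NT.symm' T u2 u0, taq_0_2, Groth.Agent.Helper6.NT.symm' T u2 u1, z_1_2, (h2 u2).2, z_2_3, tap_2_4, z_2_5, z_2_6] at key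
                  exact mul_left_cancel₀ (T.w_pos u2).ne' (by linarith only [key])
                have r_3 : 1 * T.m u0 + -2 * T.m u3 = 0 := by
                  have key := Groth.Agent.Helper6.NT.rowfun7 T u0 u1 u2 u3 u4 u5 u6 hinj u3
                  rw [Groth.Agent.Helper6.NT.symm' T u3 u0, taq_0_3, Groth.Agent.Helper6.NT.symm' T u3 u1, z_1_3, Groth.Agent.Helper6.NT.symm' T u3 u2, z_2_3, (h2 u3).2, z_3_4, z_3_5, z_3_6] at key
                  exact mul_left_cancel₀ (T.w_pos u3).ne' (by linarith only [key])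
                have r_4 : 1 * T.m u2 + -2 * T.m u4 + 1 * T.m u5 = 0 := by
                  have key := Groth.Agent.Helper6.NT.rowfun7 T u0 u1 u2 u3 u4 u5 u6 hinj u4
                  rw [Groth.Agent.Helper6.NT.symm' T u4 u0, z_0_4, Groth.Agent.Helper6.NT.symm' T u4 u1, z_1_4, Groth.Agent.Helper6.NT.symm' T u4 u2, taq_2_4, Groth.Agent.Helper6.NT.symm' T u4 u3, z_3_4, (h2 u4).2, tap_4_5, z_4_6] at key
                  exact mul_left_cancel₀ (T.w_pos u4).ne' (by linarith only [key])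
                have r_5 : 1 * T.m u4 + -2 * T.m u5 + 2 * T.m u6 = 0 := by
                  have key := Groth.Agent.Helper6.NT.rowfun7 T u0 u1 u2 u3 u4 u5 u6 hinj u5
                  rw [Groth.Agent.Helper6.NT.symm' T u5 u0, z_0_5, Groth.Agent.Helper6.NT.symm' T u5 u1, z_1_5, Groth.Agent.Helper6.NT.symm' T u5 u2, z_2_5, Groth.Agent.Helper6.NT.symm' T u5 u3, z_3_5, Groth.Agent.Helper6.NT.symm' T u5 u4, taq_4_5, (h2 u5).2, tap_5_6] at key
                  exact mul_left_cancel₀ (T.w_pos u5).ne' (by linarith only [key])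
                have r_6 : 1 * T.m u5 + -2 * T.m u6 = 0 := by
                  have key := Groth.Agent.Helper6.NT.rowfun7 T u0 u1 u2 u3 u4 u5 u6 hinj u6
                  rw [Groth.Agent.Helper6.NT.symm' T u6 u0, z_0_6, Groth.Agent.Helper6.NT.symm' T u6 u1, z_1_6, Groth.Agent.Helper6.NT.symm' T u6 u2, z_2_6, Groth.Agent.Helper6.NT.symm' T u6 u3, z_3_6, Groth.Agent.Helper6.NT.symm' T u6 u4, z_4_6, Groth.Agent.Helper6.NT.symm' T u6 u5, taq_5_6, (h2 u6).2] at key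
                  exact mul_left_cancel₀ (T.w_pos u6).ne' (by linarith only [key])
                have f0 : T.m u6 = T.m u6 := rfl
                have f1 : T.m u5 = 2 * T.m u6 := by linarith only [r_0, r_1, r_2, r_3, r_4, r_5, r_6]
                have f2 : T.m u4 = 2 * T.m u6 := by linarith only [r_0, r_1, r_2, r_3, r_4, r_5, r_6]
                have f3 : T.m u2 = 2 * T.m u6 := by linarith only [r_0, r_1, r_2, r_3, r_4, r_5, r_6]
                have f4 : T.m u0 = 2 * T.m u6 := by linarith only [r_0, r_1, r_2, r_3, r_4, r_5, r_6]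
                have f5 : T.m u1 = T.m u6 := by linarith only [r_0, r_1, r_2, r_3, r_4, r_5, r_6]
                have f6 : T.m u3 = T.m u6 := by linarith only [r_0, r_1, r_2, r_3, r_4, r_5, r_6]
                have f7 : T.w u6 = 2 * T.w u5 := by linarith only [tw_0_1, tw_0_2, tw_0_3, tw_2_4, tw_4_5, tw_5_6]
                have f8 : T.w u5 = T.w u5 := rfl
                have f9 : T.w u4 = T.w u5 := by linarith only [tw_0_1, tw_0_2, tw_0_3, tw_2_4, tw_4_5, tw_5_6]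
                have f10 : T.w u2 = T.w u5 := by linarith only [tw_0_1, tw_0_2, tw_0_3, tw_2_4, tw_4_5, tw_5_6]
                have f11 : T.w u0 = T.w u5 := by linarith only [tw_0_1, tw_0_2, tw_0_3, tw_2_4, tw_4_5, tw_5_6]
                have f12 : T.w u1 = T.w u5 := by linarith only [tw_0_1, tw_0_2, tw_0_3, tw_2_4, tw_4_5, tw_5_6]
                have f13 : T.w u3 = T.w u5 := by linarith only [tw_0_1, tw_0_2, tw_0_3, tw_2_4, tw_4_5, tw_5_6]
                have f14 : T.a u6 u6 = -4 * T.w u5 := by have := (h2 u6).2; linarith only [this, tw_0_1, tw_0_2, tw_0_3, tw_2_4, tw_4_5, tw_5_6]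
                have f15 : T.a u6 u5 = 2 * T.w u5 := by rw [Groth.Agent.Helper6.NT.symm' T u6 u5]; linarith only [tap_5_6, tw_0_1, tw_0_2, tw_0_3, tw_2_4, tw_4_5, tw_5_6]
                have f16 : T.a u6 u4 = 0 := by rw [Groth.Agent.Helper6.NT.symm' T u6 u4]; exact z_4_6
                have f17 : T.a u6 u2 = 0 := by rw [Groth.Agent.Helper6.NT.symm' T u6 u2]; exact z_2_6
                have f18 : T.a u6 u0 = 0 := by rw [Groth.Agent.Helper6.NT.symm' T u6 u0]; exact z_0_6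
                have f19 : T.a u6 u1 = 0 := by rw [Groth.Agent.Helper6.NT.symm' T u6 u1]; exact z_1_6
                have f20 : T.a u6 u3 = 0 := by rw [Groth.Agent.Helper6.NT.symm' T u6 u3]; exact z_3_6
                have f21 : T.a u5 u5 = -2 * T.w u5 := by have := (h2 u5).2; linarith only [this, tw_0_1, tw_0_2, tw_0_3, tw_2_4, tw_4_5, tw_5_6]
                have f22 : T.a u5 u4 = T.w u5 := by rw [Groth.Agent.Helper6.NT.symm' T u5 u4]; linarith only [tap_4_5, tw_0_1, tw_0_2, tw_0_3, tw_2_4, tw_4_5, tw_5_6]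
                have f23 : T.a u5 u2 = 0 := by rw [Groth.Agent.Helper6.NT.symm' T u5 u2]; exact z_2_5
                have f24 : T.a u5 u0 = 0 := by rw [Groth.Agent.Helper6.NT.symm' T u5 u0]; exact z_0_5
                have f25 : T.a u5 u1 = 0 := by rw [Groth.Agent.Helper6.NT.symm' T u5 u1]; exact z_1_5
                have f26 : T.a u5 u3 = 0 := by rw [Groth.Agent.Helper6.NT.symm' T u5 u3]; exact z_3_5
                have f27 : T.a u4 u4 = -2 * T.w u5 := by have := (h2 u4).2; linarith only [this, tw_0_1, tw_0_2, tw_0_3, tw_2_4, tw_4_5, tw_5_6]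
                have f28 : T.a u4 u2 = T.w u5 := by rw [Groth.Agent.Helper6.NT.symm' T u4 u2]; linarith only [tap_2_4, tw_0_1, tw_0_2, tw_0_3, tw_2_4, tw_4_5, tw_5_6]
                have f29 : T.a u4 u0 = 0 := by rw [Groth.Agent.Helper6.NT.symm' T u4 u0]; exact z_0_4
                have f30 : T.a u4 u1 = 0 := by rw [Groth.Agent.Helper6.NT.symm' T u4 u1]; exact z_1_4
                have f31 : T.a u4 u3 = 0 := by rw [Groth.Agent.Helper6.NT.symm' T u4 u3]; exact z_3_4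
                have f32 : T.a u2 u2 = -2 * T.w u5 := by have := (h2 u2).2; linarith only [this, tw_0_1, tw_0_2, tw_0_3, tw_2_4, tw_4_5, tw_5_6]
                have f33 : T.a u2 u0 = T.w u5 := by rw [Groth.Agent.Helper6.NT.symm' T u2 u0]; linarith only [tap_0_2, tw_0_1, tw_0_2, tw_0_3, tw_2_4, tw_4_5, tw_5_6]
                have f34 : T.a u2 u1 = 0 := by rw [Groth.Agent.Helper6.NT.symm' T u2 u1]; exact z_1_2
                have f35 : T.a u2 u3 = 0 := by exact z_2_3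
                have f36 : T.a u0 u0 = -2 * T.w u5 := by have := (h2 u0).2; linarith only [this, tw_0_1, tw_0_2, tw_0_3, tw_2_4, tw_4_5, tw_5_6]
                have f37 : T.a u0 u1 = T.w u5 := by linarith only [tap_0_1, tw_0_1, tw_0_2, tw_0_3, tw_2_4, tw_4_5, tw_5_6]
                have f38 : T.a u0 u3 = T.w u5 := by linarith only [tap_0_3, tw_0_1, tw_0_2, tw_0_3, tw_2_4, tw_4_5, tw_5_6]
                have f39 : T.a u1 u1 = -2 * T.w u5 := by have := (h2 u1).2; linarith only [this, tw_0_1, tw_0_2, tw_0_3, tw_2_4, tw_4_5, tw_5_6]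
                have f40 : T.a u1 u3 = 0 := by exact z_1_3
                have f41 : T.a u3 u3 = -2 * T.w u5 := by have := (h2 u3).2; linarith only [this, tw_0_1, tw_0_2, tw_0_3, tw_2_4, tw_4_5, tw_5_6]
                have hsig := Groth.Agent.Helper6.NT.inj7 u6 u5 u4 u2 u0 u1 u3 hn_6_5.symm hn_6_4.symm hn_5_4.symm hn_6_2.symm hn_5_2.symm hn_4_2.symm hn_6_0.symm hn_5_0.symm hn_4_0.symm hn_2_0.symm hn_6_1.symm hn_5_1.symm hn_4_1.symm hn_2_1.symm hn_1_0 hn_6_3.symm hn_5_3.symm hn_4_3.symm hn_3_2 hn_3_0 hn_3_1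
                exact ⟨Equiv.ofBijective _ (Finite.injective_iff_bijective.1 hsig), T.m u6, T.w u5, Or.inr (Or.inr (Or.inr (Or.inr (Or.inl ⟨f0, f1, f2, f3, f4, f5, f6, f7, f8, f9, f10, f11, f12, f13, f14, f15, f16, f17, f18, f19, f20, f21, f22, f23, f24, f25, f26, f27, f28, f29, f30, f31, f32, f33, f34, f35, f36, f37, f38, f39, f40, f41⟩))))⟩
              · -- (5,6) Dm
                have hinj := Groth.Agent.Helper6.NT.inj7 u0 u1 u2 u3 u4 u5 u6 hn_1_0 hn_2_0 hn_2_1 hn_3_0 hn_3_1 hn_3_2 hn_4_0 hn_4_1 hn_4_2 hn_4_3 hn_5_0 hn_5_1 hn_5_2 hn_5_3 hn_5_4 hn_6_0 hn_6_1 hn_6_2 hn_6_3 hn_6_4 hn_6_5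
                have r_0 : -2 * T.m u0 + 1 * T.m u1 + 1 * T.m u2 + 1 * T.m u3 = 0 := by
                  have key := Groth.Agent.Helper6.NT.rowfun7 T u0 u1 u2 u3 u4 u5 u6 hinj u0
                  rw [(h2 u0).2, tap_0_1, tap_0_2, tap_0_3, z_0_4, z_0_5, z_0_6] at key
                  exact mul_left_cancel₀ (T.w_pos u0).ne' (by linarith only [key])
                have r_1 : 1 * T.m u0 + -2 * T.m u1 = 0 := by
                  have key := Groth.Agent.Helper6.NT.rowfun7 T u0 u1 u2 u3 u4 u5 u6 hinj u1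
                  rw [Groth.Agent.Helper6.NT.symm' T u1 u0, taq_0_1, (h2 u1).2, z_1_2, z_1_3, z_1_4, z_1_5, z_1_6] at key
                  exact mul_left_cancel₀ (T.w_pos u1).ne' (by linarith only [key])
                have r_2 : 1 * T.m u0 + -2 * T.m u2 + 1 * T.m u4 = 0 := by
                  have key := Groth.Agent.Helper6.NT.rowfun7 T u0 u1 u2 u3 u4 u5 u6 hinj u2
                  rw [Groth.Agent.Helper6.NT.symm' T u2 u0, taq_0_2, Groth.Agent.Helper6.NT.symm' T u2 u1, z_1_2, (h2 u2).2, z_2_3, tap_2_4, z_2_5, z_2_6] at key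
                  exact mul_left_cancel₀ (T.w_pos u2).ne' (by linarith only [key])
                have r_3 : 1 * T.m u0 + -2 * T.m u3 = 0 := by
                  have key := Groth.Agent.Helper6.NT.rowfun7 T u0 u1 u2 u3 u4 u5 u6 hinj u3
                  rw [Groth.Agent.Helper6.NT.symm' T u3 u0, taq_0_3, Groth.Agent.Helper6.NT.symm' T u3 u1, z_1_3, Groth.Agent.Helper6.NT.symm' T u3 u2, z_2_3, (h2 u3).2, z_3_4, z_3_5, z_3_6] at key
                  exact mul_left_cancel₀ (T.w_pos u3).ne' (by linarith only [key])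
                have r_4 : 1 * T.m u2 + -2 * T.m u4 + 1 * T.m u5 = 0 := by
                  have key := Groth.Agent.Helper6.NT.rowfun7 T u0 u1 u2 u3 u4 u5 u6 hinj u4
                  rw [Groth.Agent.Helper6.NT.symm' T u4 u0, z_0_4, Groth.Agent.Helper6.NT.symm' T u4 u1, z_1_4, Groth.Agent.Helper6.NT.symm' T u4 u2, taq_2_4, Groth.Agent.Helper6.NT.symm' T u4 u3, z_3_4, (h2 u4).2, tap_4_5, z_4_6] at key
                  exact mul_left_cancel₀ (T.w_pos u4).ne' (by linarith only [key])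
                have r_5 : 1 * T.m u4 + -2 * T.m u5 + 1 * T.m u6 = 0 := by
                  have key := Groth.Agent.Helper6.NT.rowfun7 T u0 u1 u2 u3 u4 u5 u6 hinj u5
                  rw [Groth.Agent.Helper6.NT.symm' T u5 u0, z_0_5, Groth.Agent.Helper6.NT.symm' T u5 u1, z_1_5, Groth.Agent.Helper6.NT.symm' T u5 u2, z_2_5, Groth.Agent.Helper6.NT.symm' T u5 u3, z_3_5, Groth.Agent.Helper6.NT.symm' T u5 u4, taq_4_5, (h2 u5).2, tap_5_6] at key
                  exact mul_left_cancel₀ (T.w_pos u5).ne' (by linarith only [key])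
                have r_6 : 2 * T.m u5 + -2 * T.m u6 = 0 := by
                  have key := Groth.Agent.Helper6.NT.rowfun7 T u0 u1 u2 u3 u4 u5 u6 hinj u6
                  rw [Groth.Agent.Helper6.NT.symm' T u6 u0, z_0_6, Groth.Agent.Helper6.NT.symm' T u6 u1, z_1_6, Groth.Agent.Helper6.NT.symm' T u6 u2, z_2_6, Groth.Agent.Helper6.NT.symm' T u6 u3, z_3_6, Groth.Agent.Helper6.NT.symm' T u6 u4, z_4_6, Groth.Agent.Helper6.NT.symm' T u6 u5, taq_5_6, (h2 u6).2] at key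
                  exact mul_left_cancel₀ (T.w_pos u6).ne' (by linarith only [key])
                have f0 : T.m u6 = 2 * T.m u1 := by linarith only [r_0, r_1, r_2, r_3, r_4, r_5, r_6]
                have f1 : T.m u5 = 2 * T.m u1 := by linarith only [r_0, r_1, r_2, r_3, r_4, r_5, r_6]
                have f2 : T.m u4 = 2 * T.m u1 := by linarith only [r_0, r_1, r_2, r_3, r_4, r_5, r_6]
                have f3 : T.m u2 = 2 * T.m u1 := by linarith only [r_0, r_1, r_2, r_3, r_4, r_5, r_6]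
                have f4 : T.m u0 = 2 * T.m u1 := by linarith only [r_0, r_1, r_2, r_3, r_4, r_5, r_6]
                have f5 : T.m u1 = T.m u1 := rfl
                have f6 : T.m u3 = T.m u1 := by linarith only [r_0, r_1, r_2, r_3, r_4, r_5, r_6]
                have f7 : T.w u6 = T.w u6 := rfl
                have f8 : T.w u5 = 2 * T.w u6 := by linarith only [tw_0_1, tw_0_2, tw_0_3, tw_2_4, tw_4_5, tw_5_6]
                have f9 : T.w u4 = 2 * T.w u6 := by linarith only [tw_0_1, tw_0_2, tw_0_3, tw_2_4, tw_4_5, tw_5_6]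
                have f10 : T.w u2 = 2 * T.w u6 := by linarith only [tw_0_1, tw_0_2, tw_0_3, tw_2_4, tw_4_5, tw_5_6]
                have f11 : T.w u0 = 2 * T.w u6 := by linarith only [tw_0_1, tw_0_2, tw_0_3, tw_2_4, tw_4_5, tw_5_6]
                have f12 : T.w u1 = 2 * T.w u6 := by linarith only [tw_0_1, tw_0_2, tw_0_3, tw_2_4, tw_4_5, tw_5_6]
                have f13 : T.w u3 = 2 * T.w u6 := by linarith only [tw_0_1, tw_0_2, tw_0_3, tw_2_4, tw_4_5, tw_5_6]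
                have f14 : T.a u6 u6 = -2 * T.w u6 := by have := (h2 u6).2; linarith only [this, tw_0_1, tw_0_2, tw_0_3, tw_2_4, tw_4_5, tw_5_6]
                have f15 : T.a u6 u5 = 2 * T.w u6 := by rw [Groth.Agent.Helper6.NT.symm' T u6 u5]; linarith only [tap_5_6, tw_0_1, tw_0_2, tw_0_3, tw_2_4, tw_4_5, tw_5_6]
                have f16 : T.a u6 u4 = 0 := by rw [Groth.Agent.Helper6.NT.symm' T u6 u4]; exact z_4_6
                have f17 : T.a u6 u2 = 0 := by rw [Groth.Agent.Helper6.NT.symm' T u6 u2]; exact z_2_6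
                have f18 : T.a u6 u0 = 0 := by rw [Groth.Agent.Helper6.NT.symm' T u6 u0]; exact z_0_6
                have f19 : T.a u6 u1 = 0 := by rw [Groth.Agent.Helper6.NT.symm' T u6 u1]; exact z_1_6
                have f20 : T.a u6 u3 = 0 := by rw [Groth.Agent.Helper6.NT.symm' T u6 u3]; exact z_3_6
                have f21 : T.a u5 u5 = -4 * T.w u6 := by have := (h2 u5).2; linarith only [this, tw_0_1, tw_0_2, tw_0_3, tw_2_4, tw_4_5, tw_5_6]
                have f22 : T.a u5 u4 = 2 * T.w u6 := by rw [Groth.Agent.Helper6.NT.symm' T u5 u4]; linarith only [tap_4_5, tw_0_1, tw_0_2, tw_0_3, tw_2_4, tw_4_5, tw_5_6]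
                have f23 : T.a u5 u2 = 0 := by rw [Groth.Agent.Helper6.NT.symm' T u5 u2]; exact z_2_5
                have f24 : T.a u5 u0 = 0 := by rw [Groth.Agent.Helper6.NT.symm' T u5 u0]; exact z_0_5
                have f25 : T.a u5 u1 = 0 := by rw [Groth.Agent.Helper6.NT.symm' T u5 u1]; exact z_1_5
                have f26 : T.a u5 u3 = 0 := by rw [Groth.Agent.Helper6.NT.symm' T u5 u3]; exact z_3_5
                have f27 : T.a u4 u4 = -4 * T.w u6 := by have := (h2 u4).2; linarith only [this, tw_0_1, tw_0_2, tw_0_3, tw_2_4, tw_4_5, tw_5_6]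
                have f28 : T.a u4 u2 = 2 * T.w u6 := by rw [Groth.Agent.Helper6.NT.symm' T u4 u2]; linarith only [tap_2_4, tw_0_1, tw_0_2, tw_0_3, tw_2_4, tw_4_5, tw_5_6]
                have f29 : T.a u4 u0 = 0 := by rw [Groth.Agent.Helper6.NT.symm' T u4 u0]; exact z_0_4
                have f30 : T.a u4 u1 = 0 := by rw [Groth.Agent.Helper6.NT.symm' T u4 u1]; exact z_1_4
                have f31 : T.a u4 u3 = 0 := by rw [Groth.Agent.Helper6.NT.symm' T u4 u3]; exact z_3_4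
                have f32 : T.a u2 u2 = -4 * T.w u6 := by have := (h2 u2).2; linarith only [this, tw_0_1, tw_0_2, tw_0_3, tw_2_4, tw_4_5, tw_5_6]
                have f33 : T.a u2 u0 = 2 * T.w u6 := by rw [Groth.Agent.Helper6.NT.symm' T u2 u0]; linarith only [tap_0_2, tw_0_1, tw_0_2, tw_0_3, tw_2_4, tw_4_5, tw_5_6]
                have f34 : T.a u2 u1 = 0 := by rw [Groth.Agent.Helper6.NT.symm' T u2 u1]; exact z_1_2
                have f35 : T.a u2 u3 = 0 := by exact z_2_3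
                have f36 : T.a u0 u0 = -4 * T.w u6 := by have := (h2 u0).2; linarith only [this, tw_0_1, tw_0_2, tw_0_3, tw_2_4, tw_4_5, tw_5_6]
                have f37 : T.a u0 u1 = 2 * T.w u6 := by linarith only [tap_0_1, tw_0_1, tw_0_2, tw_0_3, tw_2_4, tw_4_5, tw_5_6]
                have f38 : T.a u0 u3 = 2 * T.w u6 := by linarith only [tap_0_3, tw_0_1, tw_0_2, tw_0_3, tw_2_4, tw_4_5, tw_5_6]
                have f39 : T.a u1 u1 = -4 * T.w u6 := by have := (h2 u1).2; linarith only [this, tw_0_1, tw_0_2, tw_0_3, tw_2_4, tw_4_5, tw_5_6]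
                have f40 : T.a u1 u3 = 0 := by exact z_1_3
                have f41 : T.a u3 u3 = -4 * T.w u6 := by have := (h2 u3).2; linarith only [this, tw_0_1, tw_0_2, tw_0_3, tw_2_4, tw_4_5, tw_5_6]
                have hsig := Groth.Agent.Helper6.NT.inj7 u6 u5 u4 u2 u0 u1 u3 hn_6_5.symm hn_6_4.symm hn_5_4.symm hn_6_2.symm hn_5_2.symm hn_4_2.symm hn_6_0.symm hn_5_0.symm hn_4_0.symm hn_2_0.symm hn_6_1.symm hn_5_1.symm hn_4_1.symm hn_2_1.symm hn_1_0 hn_6_3.symm hn_5_3.symm hn_4_3.symm hn_3_2 hn_3_0 hn_3_1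
                exact ⟨Equiv.ofBijective _ (Finite.injective_iff_bijective.1 hsig), T.m u1, T.w u6, Or.inr (Or.inr (Or.inr (Or.inr (Or.inr (Or.inl ⟨f0, f1, f2, f3, f4, f5, f6, f7, f8, f9, f10, f11, f12, f13, f14, f15, f16, f17, f18, f19, f20, f21, f22, f23, f24, f25, f26, f27, f28, f29, f30, f31, f32, f33, f34, f35, f36, f37, f38, f39, f40, f41⟩)))))⟩
              · -- (5,6) Tp
                exfalso
                have key := Groth.Agent.Helper6.NT.negfun3 T h2 u4 u5 u6 (by norm_num) 1 2 1 (by norm_num) (by norm_num)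
                linarith only [key, tap_4_5, taq_4_5, z_4_6, tap_5_6, taq_5_6, T.w_pos u4, T.w_pos u5, T.w_pos u6]
              · -- (5,6) Tm
                exfalso
                have key := Groth.Agent.Helper6.NT.negfun3 T h2 u4 u5 u6 (by norm_num) 1 2 3 (by norm_num) (by norm_num)
                linarith only [key, tap_4_5, taq_4_5, z_4_6, tap_5_6, taq_5_6, T.w_pos u4, T.w_pos u5, T.w_pos u6]
            · push Not at hx
              have cl_5 := hx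
              clear hx
              exfalso
              refine Groth.Agent.Helper6.NT.closed_contra T [u0, u1, u2, u3, u4, u5] (by simp) (by simp) ?_
              intro i hi j hj
              simp only [List.mem_cons, List.not_mem_nil, or_false, not_or] at hi hj
              rcases hi with rfl | rfl | rfl | rfl | rfl | rfl
              · exact cl_0 j ⟨hj.1, hj.2.1, hj.2.2.1, hj.2.2.2.1⟩
              · exact cl_1 j ⟨hj.1, hj.2.1, hj.2.2.1, hj.2.2.2.1⟩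
              · exact cl_2 j ⟨hj.1, hj.2.1, hj.2.2.1, hj.2.2.2.1, hj.2.2.2.2.1⟩
              · exact cl_3 j ⟨hj.1, hj.2.1, hj.2.2.1, hj.2.2.2.1, hj.2.2.2.2.1⟩
              · exact cl_4 j ⟨hj.1, hj.2.1, hj.2.2.1, hj.2.2.2.1, hj.2.2.2.2.1, hj.2.2.2.2.2⟩
              · exact cl_5 j ⟨hj.1, hj.2.1, hj.2.2.1, hj.2.2.2.1, hj.2.2.2.2.1, hj.2.2.2.2.2⟩
        · -- (4,5) Dp
          exfalso
          have key := Groth.Agent.Helper6.NT.negfun6 T h2 u0 u1 u2 u3 u4 u5 (by norm_num) 2 1 2 1 2 1 (by norm_num) (by norm_num)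
          linarith only [key, tap_0_1, taq_0_1, tap_0_2, taq_0_2, tap_0_3, taq_0_3, z_0_4, z_0_5, z_1_2, z_1_3, z_1_4, z_1_5, z_2_3, tap_2_4, taq_2_4, z_2_5, z_3_4, z_3_5, tap_4_5, taq_4_5, T.w_pos u0, T.w_pos u1, T.w_pos u2, T.w_pos u3, T.w_pos u4, T.w_pos u5]
        · -- (4,5) Dm
          exfalso
          have key := Groth.Agent.Helper6.NT.negfun6 T h2 u0 u1 u2 u3 u4 u5 (by norm_num) 2 1 2 1 2 2 (by norm_num) (by norm_num)
          linarith only [key, tap_0_1, taq_0_1, tap_0_2, taq_0_2, tap_0_3, taq_0_3, z_0_4, z_0_5, z_1_2, z_1_3, z_1_4, z_1_5, z_2_3, tap_2_4, taq_2_4, z_2_5, z_3_4, z_3_5, tap_4_5, taq_4_5, T.w_pos u0, T.w_pos u1, T.w_pos u2, T.w_pos u3, T.w_pos u4, T.w_pos u5]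
        · -- (4,5) Tp
          exfalso
          have key := Groth.Agent.Helper6.NT.negfun3 T h2 u2 u4 u5 (by norm_num) 1 2 1 (by norm_num) (by norm_num)
          linarith only [key, tap_2_4, taq_2_4, z_2_5, tap_4_5, taq_4_5, T.w_pos u2, T.w_pos u4, T.w_pos u5]
        · -- (4,5) Tm
          exfalso
          have key := Groth.Agent.Helper6.NT.negfun3 T h2 u2 u4 u5 (by norm_num) 1 2 3 (by norm_num) (by norm_num)
          linarith only [key, tap_2_4, taq_2_4, z_2_5, tap_4_5, taq_4_5, T.w_pos u2, T.w_pos u4, T.w_pos u5]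
      · push Not at hx
        have cl_4 := hx
        clear hx
        exfalso
        refine Groth.Agent.Helper6.NT.closed_contra T [u0, u1, u2, u3, u4] (by simp) (by simp) ?_
        intro i hi j hj
        simp only [List.mem_cons, List.not_mem_nil, or_false, not_or] at hi hj
        rcases hi with rfl | rfl | rfl | rfl | rfl
        · exact cl_0 j ⟨hj.1, hj.2.1, hj.2.2.1, hj.2.2.2.1⟩
        · exact cl_1 j ⟨hj.1, hj.2.1, hj.2.2.1, hj.2.2.2.1⟩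
        · exact cl_2 j ⟨hj.1, hj.2.1, hj.2.2.1, hj.2.2.2.1, hj.2.2.2.2⟩
        · exact cl_3 j ⟨hj.1, hj.2.1, hj.2.2.1, hj.2.2.2.1, hj.2.2.2.2⟩
        · exact cl_4 j ⟨hj.1, hj.2.1, hj.2.2.1, hj.2.2.2.1, hj.2.2.2.2⟩

theorem cut7_4 (T : Models.NumericalType 7) (h2 : ∀ i, T.IsMinusTwo i) (u0 u1 u2 u3 u4 : Fin 7)
    (hn_1_0 : u1 ≠ u0)
    (e_0_1 : T.a u0 u1 ≠ 0)
    (tw_0_1 : T.w u1 = T.w u0)
    (tap_0_1 : T.a u0 u1 = T.w u0)
    (taq_0_1 : T.a u0 u1 = T.w u1)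
    (hn_2_0 : u2 ≠ u0)
    (hn_2_1 : u2 ≠ u1)
    (e_0_2 : T.a u0 u2 ≠ 0)
    (tw_0_2 : T.w u2 = T.w u0)
    (tap_0_2 : T.a u0 u2 = T.w u0)
    (taq_0_2 : T.a u0 u2 = T.w u2)
    (z_1_2 : T.a u1 u2 = 0)
    (hn_3_0 : u3 ≠ u0)
    (hn_3_1 : u3 ≠ u1)
    (hn_3_2 : u3 ≠ u2)
    (e_0_3 : T.a u0 u3 ≠ 0)
    (tw_0_3 : T.w u3 = T.w u0)
    (tap_0_3 : T.a u0 u3 = T.w u0)
    (taq_0_3 : T.a u0 u3 = T.w u3)
    (z_1_3 : T.a u1 u3 = 0)
    (z_2_3 : T.a u2 u3 = 0)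
    (cl_0 : ∀ j : Fin 7, (j ≠ u0 ∧ j ≠ u1 ∧ j ≠ u2 ∧ j ≠ u3) → T.a u0 j = 0)
    (cl_1 : ∀ j : Fin 7, (j ≠ u0 ∧ j ≠ u1 ∧ j ≠ u2 ∧ j ≠ u3) → T.a u1 j = 0)
    (cl_2 : ∀ j : Fin 7, (j ≠ u0 ∧ j ≠ u1 ∧ j ≠ u2 ∧ j ≠ u3) → T.a u2 j = 0)
    (hn_4_0 : u4 ≠ u0)
    (hn_4_1 : u4 ≠ u1)
    (hn_4_2 : u4 ≠ u2)
    (hn_4_3 : u4 ≠ u3)
    (e_3_4 : T.a u3 u4 ≠ 0)
    (z_0_4 : T.a u0 u4 = 0)
    (z_1_4 : T.a u1 u4 = 0)
    (z_2_4 : T.a u2 u4 = 0)
    (tw_3_4 : T.w u4 = T.w u3)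
    (tap_3_4 : T.a u3 u4 = T.w u3)
    (taq_3_4 : T.a u3 u4 = T.w u4) :
    ∃ (σ : Equiv.Perm (Fin 7)) (m w : ℤ), ((T.m (σ 0) = m ∧ T.m (σ 1) = m ∧ T.m (σ 2) = m ∧ T.m (σ 3) = m ∧ T.m (σ 4) = m ∧ T.m (σ 5) = m ∧ T.m (σ 6) = m ∧ T.w (σ 0) = w ∧ T.w (σ 1) = w ∧ T.w (σ 2) = w ∧ T.w (σ 3) = w ∧ T.w (σ 4) = w ∧ T.w (σ 5) = w ∧ T.w (σ 6) = w ∧ T.a (σ 0) (σ 0) = -2 * w ∧ T.a (σ 0) (σ 1) = w ∧ T.a (σ 0) (σ 2) = 0 ∧ T.a (σ 0) (σ 3) = 0 ∧ T.a (σ 0) (σ 4) = 0 ∧ T.a (σ 0) (σ 5) = 0 ∧ T.a (σ 0) (σ 6) = w ∧ T.a (σ 1) (σ 1) = -2 * w ∧ T.a (σ 1) (σ 2) = w ∧ T.a (σ 1) (σ 3) = 0 ∧ T.a (σ 1) (σ 4) = 0 ∧ T.a (σ 1) (σ 5) = 0 ∧ T.a (σ 1) (σ 6) = 0 ∧ T.a (σ 2) (σ 2) = -2 * w ∧ T.a (σ 2) (σ 3) = w ∧ T.a (σ 2) (σ 4) = 0 ∧ T.a (σ 2) (σ 5) = 0 ∧ T.a (σ 2) (σ 6) = 0 ∧ T.a (σ 3) (σ 3) = -2 * w ∧ T.a (σ 3) (σ 4) = w ∧ T.a (σ 3) (σ 5) = 0 ∧ T.a (σ 3) (σ 6) = 0 ∧ T.a (σ 4) (σ 4) = -2 * w ∧ T.a (σ 4) (σ 5) = w ∧ T.a (σ 4) (σ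 6) = 0 ∧ T.a (σ 5) (σ 5) = -2 * w ∧ T.a (σ 5) (σ 6) = w ∧ T.a (σ 6) (σ 6) = -2 * w) ∨ (T.m (σ 0) = 2 * m ∧ T.m (σ 1) = 2 * m ∧ T.m (σ 2) = 2 * m ∧ T.m (σ 3) = 2 * m ∧ T.m (σ 4) = 2 * m ∧ T.m (σ 5) = 2 * m ∧ T.m (σ 6) = m ∧ T.w (σ 0) = w ∧ T.w (σ 1) = 2 * w ∧ T.w (σ 2) = 2 * w ∧ T.w (σ 3) = 2 * w ∧ T.w (σ 4) = 2 * w ∧ T.w (σ 5) = 2 * w ∧ T.w (σ 6) = 4 * w ∧ T.a (σ 0) (σ 0) = -2 * w ∧ T.a (σ 0) (σ 1) = 2 * w ∧ T.a (σ 0) (σ 2) = 0 ∧ T.a (σ 0) (σ 3) = 0 ∧ T.a (σ 0) (σ 4) = 0 ∧ T.a (σ 0) (σ 5) = 0 ∧ T.a (σ 0) (σ 6) = 0 ∧ T.a (σ 1) (σ 1) = -4 * w ∧ T.a (σ 1) (σ 2) = 2 * w ∧ T.a (σ 1) (σ 3) = 0 ∧ T.a (σ 1) (σ 4) = 0 ∧ T.a (σ 1) (σ 5) = 0 ∧ T.a (σ 1) (σ 6) = 0 ∧ T.a (σ 2) (σ 2) = -4 * w ∧ T.a (σ 2) (σ 3) = 2 * w ∧ T.a (σ 2) (σ 4) = 0 ∧ T.a (σ 2) (σ 5) = 0 ∧ T.a (σ 2) (σ 6) = 0 ∧ T.a (σ 3) (σ 3) = -4 * w ∧ T.a (σ 3) (σ 4) = 2 * w ∧ T.a (σ 3) (σ 5) = 0 ∧ T.a (σ 3) (σ 6) = 0 ∧ T.a (σ 4) (σ 4) = -4 * w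 ∧ T.a (σ 4) (σ 5) = 2 * w ∧ T.a (σ 4) (σ 6) = 0 ∧ T.a (σ 5) (σ 5) = -4 * w ∧ T.a (σ 5) (σ 6) = 4 * w ∧ T.a (σ 6) (σ 6) = -8 * w) ∨ (T.m (σ 0) = m ∧ T.m (σ 1) = m ∧ T.m (σ 2) = m ∧ T.m (σ 3) = m ∧ T.m (σ 4) = m ∧ T.m (σ 5) = m ∧ T.m (σ 6) = m ∧ T.w (σ 0) = w ∧ T.w (σ 1) = 2 * w ∧ T.w (σ 2) = 2 * w ∧ T.w (σ 3) = 2 * w ∧ T.w (σ 4) = 2 * w ∧ T.w (σ 5) = 2 * w ∧ T.w (σ 6) = w ∧ T.a (σ 0) (σ 0) = -2 * w ∧ T.a (σ 0) (σ 1) = 2 * w ∧ T.a (σ 0) (σ 2) = 0 ∧ T.a (σ 0) (σ 3) = 0 ∧ T.a (σ 0) (σ 4) = 0 ∧ T.a (σ 0) (σ 5) = 0 ∧ T.a (σ 0) (σ 6) = 0 ∧ T.a (σ 1) (σ 1) = -4 * w ∧ T.a (σ 1) (σ 2) = 2 * w ∧ T.a (σ 1) (σ 3) = 0 ∧ T.a (σ 1) (σ 4) = 0 ∧ T.a (σ 1) (σ 5) = 0 ∧ T.a (σ 1) (σ 6) = 0 ∧ T.a (σ 2) (σ 2) = -4 * w ∧ T.a (σ 2) (σ 3) = 2 * w ∧ T.a (σ 2) (σ 4) = 0 ∧ T.a (σ 2) (σ 5) = 0 ∧ T.a (σ 2) (σ 6) = 0 ∧ T.a (σ 3) (σ 3) = -4 * w ∧ T.a (σ 3) (σ 4) = 2 * w ∧ T.a (σ 3) (σ 5) = 0 ∧ T.a (σ 3) (σ 6) = 0 ∧ T.a (σ 4)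 (σ 4) = -4 * w ∧ T.a (σ 4) (σ 5) = 2 * w ∧ T.a (σ 4) (σ 6) = 0 ∧ T.a (σ 5) (σ 5) = -4 * w ∧ T.a (σ 5) (σ 6) = 2 * w ∧ T.a (σ 6) (σ 6) = -2 * w) ∨ (T.m (σ 0) = m ∧ T.m (σ 1) = 2 * m ∧ T.m (σ 2) = 2 * m ∧ T.m (σ 3) = 2 * m ∧ T.m (σ 4) = 2 * m ∧ T.m (σ 5) = 2 * m ∧ T.m (σ 6) = m ∧ T.w (σ 0) = 2 * w ∧ T.w (σ 1) = w ∧ T.w (σ 2) = w ∧ T.w (σ 3) = w ∧ T.w (σ 4) = w ∧ T.w (σ 5) = w ∧ T.w (σ 6) = 2 * w ∧ T.a (σ 0) (σ 0) = -4 * w ∧ T.a (σ 0) (σ 1) = 2 * w ∧ T.a (σ 0) (σ 2) = 0 ∧ T.a (σ 0) (σ 3) = 0 ∧ T.a (σ 0) (σ 4) = 0 ∧ T.a (σ 0) (σ 5) = 0 ∧ T.a (σ 0) (σ 6) = 0 ∧ T.a (σ 1) (σ 1) = -2 * w ∧ T.a (σ 1) (σ 2) = w ∧ T.a (σ 1) (σ 3) = 0 ∧ T.a (σ 1) (σ 4) = 0 ∧ T.a (σ 1) (σ 5) = 0 ∧ T.a (σ 1) (σ 6) = 0 ∧ T.a (σ 2) (σ 2) = -2 * w ∧ T.a (σ 2) (σ 3) = w ∧ T.a (σ 2) (σ 4) = 0 ∧ T.a (σ 2) (σ 5) = 0 ∧ T.a (σ 2) (σ 6) = 0 ∧ T.a (σ 3) (σ 3) = -2 * w ∧ T.a (σ 3) (σ 4) = w ∧ T.a (σ 3) (σ 5) = 0 ∧ T.a (σ 3) (σ 6) = 0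 ∧ T.a (σ 4) (σ 4) = -2 * w ∧ T.a (σ 4) (σ 5) = w ∧ T.a (σ 4) (σ 6) = 0 ∧ T.a (σ 5) (σ 5) = -2 * w ∧ T.a (σ 5) (σ 6) = 2 * w ∧ T.a (σ 6) (σ 6) = -4 * w) ∨ (T.m (σ 0) = m ∧ T.m (σ 1) = 2 * m ∧ T.m (σ 2) = 2 * m ∧ T.m (σ 3) = 2 * m ∧ T.m (σ 4) = 2 * m ∧ T.m (σ 5) = m ∧ T.m (σ 6) = m ∧ T.w (σ 0) = 2 * w ∧ T.w (σ 1) = w ∧ T.w (σ 2) = w ∧ T.w (σ 3) = w ∧ T.w (σ 4) = w ∧ T.w (σ 5) = w ∧ T.w (σ 6) = w ∧ T.a (σ 0) (σ 0) = -4 * w ∧ T.a (σ 0) (σ 1) = 2 * w ∧ T.a (σ 0) (σ 2) = 0 ∧ T.a (σ 0) (σ 3) = 0 ∧ T.a (σ 0) (σ 4) = 0 ∧ T.a (σ 0) (σ 5) = 0 ∧ T.a (σ 0) (σ 6) = 0 ∧ T.a (σ 1) (σ 1) = -2 * w ∧ T.a (σ 1) (σ 2) = w ∧ T.a (σ 1) (σ 3) = 0 ∧ T.a (σ 1) (σ 4) = 0 ∧ T.a (σ 1) (σ 5) = 0 ∧ T.a (σ 1) (σ 6) = 0 ∧ T.a (σ 2) (σ 2) = -2 * w ∧ T.a (σ 2) (σ 3) = w ∧ T.a (σ 2) (σ 4) = 0 ∧ T.a (σ 2) (σ 5) = 0 ∧ T.a (σ 2) (σ 6) = 0 ∧ T.a (σ 3) (σ 3) = -2 * w ∧ T.a (σ 3) (σ 4) = w ∧ T.a (σ 3) (σ 5) = 0 ∧ T.a (σ 3) (σ 6) = 0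 ∧ T.a (σ 4) (σ 4) = -2 * w ∧ T.a (σ 4) (σ 5) = w ∧ T.a (σ 4) (σ 6) = w ∧ T.a (σ 5) (σ 5) = -2 * w ∧ T.a (σ 5) (σ 6) = 0 ∧ T.a (σ 6) (σ 6) = -2 * w) ∨ (T.m (σ 0) = 2 * m ∧ T.m (σ 1) = 2 * m ∧ T.m (σ 2) = 2 * m ∧ T.m (σ 3) = 2 * m ∧ T.m (σ 4) = 2 * m ∧ T.m (σ 5) = m ∧ T.m (σ 6) = m ∧ T.w (σ 0) = w ∧ T.w (σ 1) = 2 * w ∧ T.w (σ 2) = 2 * w ∧ T.w (σ 3) = 2 * w ∧ T.w (σ 4) = 2 * w ∧ T.w (σ 5) = 2 * w ∧ T.w (σ 6) = 2 * w ∧ T.a (σ 0) (σ 0) = -2 * w ∧ T.a (σ 0) (σ 1) = 2 * w ∧ T.a (σ 0) (σ 2) = 0 ∧ T.a (σ 0) (σ 3) = 0 ∧ T.a (σ 0) (σ 4) = 0 ∧ T.a (σ 0) (σ 5) = 0 ∧ T.a (σ 0) (σ 6) = 0 ∧ T.a (σ 1) (σ 1) = -4 * w ∧ T.a (σ 1) (σ 2) = 2 * w ∧ T.a (σ 1) (σ 3) = 0 ∧ T.a (σ 1) (σ 4) = 0 ∧ T.a (σ 1) (σ 5) = 0 ∧ T.a (σ 1) (σ 6) = 0 ∧ T.a (σ 2) (σ 2) = -4 * w ∧ T.a (σ 2) (σ 3) = 2 * w ∧ T.a (σ 2) (σ 4) = 0 ∧ T.a (σ 2) (σ 5) = 0 ∧ T.a (σ 2) (σ 6) = 0 ∧ T.a (σ 3) (σ 3) = -4 * w ∧ T.a (σ 3) (σ 4) = 2 * w ∧ T.a (σ 3)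 (σ 5) = 0 ∧ T.a (σ 3) (σ 6) = 0 ∧ T.a (σ 4) (σ 4) = -4 * w ∧ T.a (σ 4) (σ 5) = 2 * w ∧ T.a (σ 4) (σ 6) = 2 * w ∧ T.a (σ 5) (σ 5) = -4 * w ∧ T.a (σ 5) (σ 6) = 0 ∧ T.a (σ 6) (σ 6) = -4 * w) ∨ (T.m (σ 0) = m ∧ T.m (σ 1) = m ∧ T.m (σ 2) = 2 * m ∧ T.m (σ 3) = 2 * m ∧ T.m (σ 4) = 2 * m ∧ T.m (σ 5) = m ∧ T.m (σ 6) = m ∧ T.w (σ 0) = w ∧ T.w (σ 1) = w ∧ T.w (σ 2) = w ∧ T.w (σ 3) = w ∧ T.w (σ 4) = w ∧ T.w (σ 5) = w ∧ T.w (σ 6) = w ∧ T.a (σ 0) (σ 0) = -2 * w ∧ T.a (σ 0) (σ 1) = 0 ∧ T.a (σ 0) (σ 2) = w ∧ T.a (σ 0) (σ 3) = 0 ∧ T.a (σ 0) (σ 4) = 0 ∧ T.a (σ 0) (σ 5) = 0 ∧ T.a (σ 0) (σ 6) = 0 ∧ T.a (σ 1) (σ 1) = -2 * w ∧ T.a (σ 1) (σ 2) = w ∧ T.a (σ 1) (σ 3) = 0 ∧ T.a (σ 1) (σ 4) = 0 ∧ T.a (σ 1) (σ 5) = 0 ∧ T.a (σ 1) (σ 6) = 0 ∧ T.a (σ 2) (σ 2) = -2 * w ∧ T.a (σ 2) (σ 3) = w ∧ T.a (σ 2) (σ 4) = 0 ∧ T.a (σ 2) (σ 5) = 0 ∧ T.a (σ 2) (σ 6) = 0 ∧ T.a (σ 3) (σ 3) = -2 * w ∧ T.a (σ 3) (σ 4) = w ∧ T.a (σ 3) (σ 5) =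 0 ∧ T.a (σ 3) (σ 6) = 0 ∧ T.a (σ 4) (σ 4) = -2 * w ∧ T.a (σ 4) (σ 5) = w ∧ T.a (σ 4) (σ 6) = w ∧ T.a (σ 5) (σ 5) = -2 * w ∧ T.a (σ 5) (σ 6) = 0 ∧ T.a (σ 6) (σ 6) = -2 * w) ∨ (T.m (σ 0) = m ∧ T.m (σ 1) = 2 * m ∧ T.m (σ 2) = 3 * m ∧ T.m (σ 3) = m ∧ T.m (σ 4) = 2 * m ∧ T.m (σ 5) = m ∧ T.m (σ 6) = 2 * m ∧ T.w (σ 0) = w ∧ T.w (σ 1) = w ∧ T.w (σ 2) = w ∧ T.w (σ 3) = w ∧ T.w (σ 4) = w ∧ T.w (σ 5) = w ∧ T.w (σ 6) = w ∧ T.a (σ 0) (σ 0) = -2 * w ∧ T.a (σ 0) (σ 1) = w ∧ T.a (σ 0) (σ 2) = 0 ∧ T.a (σ 0) (σ 3) = 0 ∧ T.a (σ 0) (σ 4) = 0 ∧ T.a (σ 0) (σ 5) = 0 ∧ T.a (σ 0) (σ 6) = 0 ∧ T.a (σ 1) (σ 1) = -2 * w ∧ T.a (σ 1) (σ 2) = w ∧ T.a (σ 1) (σ 3) = 0 ∧ T.a (σ 1) (σ 4) = 0 ∧ T.a (σ 1) (σ 5) = 0 ∧ T.a (σ 1) (σ 6) = 0 ∧ T.a (σ 2) (σ 2) = -2 * w ∧ T.a (σ 2) (σ 3) = 0 ∧ T.a (σ 2) (σ 4) = w ∧ T.a (σ 2) (σ 5) = 0 ∧ T.a (σ 2) (σ 6) = w ∧ T.a (σ 3) (σ 3) = -2 * w ∧ T.a (σ 3) (σ 4) = w ∧ T.a (σ 3) (σ 5) = 0 ∧ T.a (σ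 3) (σ 6) = 0 ∧ T.a (σ 4) (σ 4) = -2 * w ∧ T.a (σ 4) (σ 5) = 0 ∧ T.a (σ 4) (σ 6) = 0 ∧ T.a (σ 5) (σ 5) = -2 * w ∧ T.a (σ 5) (σ 6) = w ∧ T.a (σ 6) (σ 6) = -2 * w)) := by
  by_cases hx : ∃ j, (j ≠ u0 ∧ j ≠ u1 ∧ j ≠ u2 ∧ j ≠ u3 ∧ j ≠ u4) ∧ T.a u3 j ≠ 0
  · obtain ⟨u5, ⟨hn_5_0, hn_5_1, hn_5_2, hn_5_3, hn_5_4⟩, e_3_5⟩ := hx
    have z_0_5 : T.a u0 u5 = 0 := cl_0 u5 ⟨hn_5_0, hn_5_1, hn_5_2, hn_5_3⟩
    have z_1_5 : T.a u1 u5 = 0 := cl_1 u5 ⟨hn_5_0, hn_5_1, hn_5_2, hn_5_3⟩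
    have z_2_5 : T.a u2 u5 = 0 := cl_2 u5 ⟨hn_5_0, hn_5_1, hn_5_2, hn_5_3⟩
    rcases Groth.Agent.Helper6.NT.edge5 T h2 (by norm_num) u3 u5 hn_5_3.symm e_3_5 with ⟨tw_3_5, tap_3_5, taq_3_5⟩ | ⟨tw_3_5, tap_3_5, taq_3_5⟩ | ⟨tw_3_5, tap_3_5, taq_3_5⟩ | ⟨tw_3_5, tap_3_5, taq_3_5⟩ | ⟨tw_3_5, tap_3_5, taq_3_5⟩
    · -- (3,5) S
      exfalso
      have key := Groth.Agent.Helper6.NT.negfun6 T h2 u0 u1 u2 u3 u4 u5 (by norm_num) 2 1 1 2 1 1 (by norm_num) (by norm_num)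
      linarith only [key, tap_0_1, taq_0_1, tap_0_2, taq_0_2, tap_0_3, taq_0_3, z_0_4, z_0_5, z_1_2, z_1_3, z_1_4, z_1_5, z_2_3, z_2_4, z_2_5, tap_3_4, taq_3_4, tap_3_5, taq_3_5, T.offDiag_nonneg u4 u5 hn_5_4.symm, T.w_pos u0, T.w_pos u1, T.w_pos u2, T.w_pos u3, T.w_pos u4, T.w_pos u5]
    · -- (3,5) Dp
      exfalso
      have key := Groth.Agent.Helper6.NT.negfun4 T h2 u0 u3 u4 u5 (by norm_num) 1 2 1 1 (by norm_num) (by norm_num)
      linarith only [key, tap_0_3, taq_0_3, z_0_4, z_0_5, tap_3_4, taq_3_4, tap_3_5, taq_3_5, T.offDiag_nonneg u4 u5 hn_5_4.symm, T.w_pos u0, T.w_pos u3, T.w_pos u4, T.w_pos u5]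
    · -- (3,5) Dm
      exfalso
      have key := Groth.Agent.Helper6.NT.negfun4 T h2 u0 u3 u4 u5 (by norm_num) 1 2 1 2 (by norm_num) (by norm_num)
      linarith only [key, tap_0_3, taq_0_3, z_0_4, z_0_5, tap_3_4, taq_3_4, tap_3_5, taq_3_5, T.offDiag_nonneg u4 u5 hn_5_4.symm, T.w_pos u0, T.w_pos u3, T.w_pos u4, T.w_pos u5]
    · -- (3,5) Tp
      exfalso
      have key := Groth.Agent.Helper6.NT.negfun3 T h2 u3 u4 u5 (by norm_num) 2 1 1 (by norm_num) (by norm_num)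
      linarith only [key, tap_3_4, taq_3_4, tap_3_5, taq_3_5, T.offDiag_nonneg u4 u5 hn_5_4.symm, T.w_pos u3, T.w_pos u4, T.w_pos u5]
    · -- (3,5) Tm
      exfalso
      have key := Groth.Agent.Helper6.NT.negfun3 T h2 u3 u4 u5 (by norm_num) 2 1 3 (by norm_num) (by norm_num)
      linarith only [key, tap_3_4, taq_3_4, tap_3_5, taq_3_5, T.offDiag_nonneg u4 u5 hn_5_4.symm, T.w_pos u3, T.w_pos u4, T.w_pos u5]
  · push Not at hx
    have cl_3 := hx
    clear hx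
    by_cases hx : ∃ j, (j ≠ u0 ∧ j ≠ u1 ∧ j ≠ u2 ∧ j ≠ u3 ∧ j ≠ u4) ∧ T.a u4 j ≠ 0
    · obtain ⟨u5, ⟨hn_5_0, hn_5_1, hn_5_2, hn_5_3, hn_5_4⟩, e_4_5⟩ := hx
      have z_0_5 : T.a u0 u5 = 0 := cl_0 u5 ⟨hn_5_0, hn_5_1, hn_5_2, hn_5_3⟩
      have z_1_5 : T.a u1 u5 = 0 := cl_1 u5 ⟨hn_5_0, hn_5_1, hn_5_2, hn_5_3⟩
      have z_2_5 : T.a u2 u5 = 0 := cl_2 u5 ⟨hn_5_0, hn_5_1, hn_5_2, hn_5_3⟩
      have z_3_5 : T.a u3 u5 = 0 := cl_3 u5 ⟨hn_5_0, hn_5_1, hn_5_2, hn_5_3, hn_5_4⟩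
      rcases Groth.Agent.Helper6.NT.edge5 T h2 (by norm_num) u4 u5 hn_5_4.symm e_4_5 with ⟨tw_4_5, tap_4_5, taq_4_5⟩ | ⟨tw_4_5, tap_4_5, taq_4_5⟩ | ⟨tw_4_5, tap_4_5, taq_4_5⟩ | ⟨tw_4_5, tap_4_5, taq_4_5⟩ | ⟨tw_4_5, tap_4_5, taq_4_5⟩
      · -- (4,5) S
        by_cases hx : ∃ j, (j ≠ u0 ∧ j ≠ u1 ∧ j ≠ u2 ∧ j ≠ u3 ∧ j ≠ u4 ∧ j ≠ u5) ∧ T.a u4 j ≠ 0
        · obtain ⟨u6, ⟨hn_6_0, hn_6_1, hn_6_2, hn_6_3, hn_6_4, hn_6_5⟩, e_4_6⟩ := hx
          have z_0_6 : T.a u0 u6 = 0 := cl_0 u6 ⟨hn_6_0, hn_6_1, hn_6_2, hn_6_3⟩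
          have z_1_6 : T.a u1 u6 = 0 := cl_1 u6 ⟨hn_6_0, hn_6_1, hn_6_2, hn_6_3⟩
          have z_2_6 : T.a u2 u6 = 0 := cl_2 u6 ⟨hn_6_0, hn_6_1, hn_6_2, hn_6_3⟩
          have z_3_6 : T.a u3 u6 = 0 := cl_3 u6 ⟨hn_6_0, hn_6_1, hn_6_2, hn_6_3, hn_6_4⟩
          rcases Groth.Agent.Helper6.NT.edge5 T h2 (by norm_num) u4 u6 hn_6_4.symm e_4_6 with ⟨tw_4_6, tap_4_6, taq_4_6⟩ | ⟨tw_4_6, tap_4_6, taq_4_6⟩ | ⟨tw_4_6, tap_4_6, taq_4_6⟩ | ⟨tw_4_6, tap_4_6, taq_4_6⟩ | ⟨tw_4_6, tap_4_6, taq_4_6⟩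
          · -- (4,6) S
            rcases eq_or_ne (T.a u5 u6) 0 with z_5_6 | nz_5_6
            · -- (5,6) zero
              have hinj := Groth.Agent.Helper6.NT.inj7 u0 u1 u2 u3 u4 u5 u6 hn_1_0 hn_2_0 hn_2_1 hn_3_0 hn_3_1 hn_3_2 hn_4_0 hn_4_1 hn_4_2 hn_4_3 hn_5_0 hn_5_1 hn_5_2 hn_5_3 hn_5_4 hn_6_0 hn_6_1 hn_6_2 hn_6_3 hn_6_4 hn_6_5
              have r_0 : -2 * T.m u0 + 1 * T.m u1 + 1 * T.m u2 + 1 * T.m u3 = 0 := by
                have key := Groth.Agent.Helper6.NT.rowfun7 T u0 u1 u2 u3 u4 u5 u6 hinj u0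
                rw [(h2 u0).2, tap_0_1, tap_0_2, tap_0_3, z_0_4, z_0_5, z_0_6] at key
                exact mul_left_cancel₀ (T.w_pos u0).ne' (by linarith only [key])
              have r_1 : 1 * T.m u0 + -2 * T.m u1 = 0 := by
                have key := Groth.Agent.Helper6.NT.rowfun7 T u0 u1 u2 u3 u4 u5 u6 hinj u1
                rw [Groth.Agent.Helper6.NT.symm' T u1 u0, taq_0_1, (h2 u1).2, z_1_2, z_1_3, z_1_4, z_1_5, z_1_6] at key
                exact mul_left_cancel₀ (T.w_pos u1).ne' (by linarith only [key])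
              have r_2 : 1 * T.m u0 + -2 * T.m u2 = 0 := by
                have key := Groth.Agent.Helper6.NT.rowfun7 T u0 u1 u2 u3 u4 u5 u6 hinj u2
                rw [Groth.Agent.Helper6.NT.symm' T u2 u0, taq_0_2, Groth.Agent.Helper6.NT.symm' T u2 u1, z_1_2, (h2 u2).2, z_2_3, z_2_4, z_2_5, z_2_6] at key
                exact mul_left_cancel₀ (T.w_pos u2).ne' (by linarith only [key])
              have r_3 : 1 * T.m u0 + -2 * T.m u3 + 1 * T.m u4 = 0 := by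
                have key := Groth.Agent.Helper6.NT.rowfun7 T u0 u1 u2 u3 u4 u5 u6 hinj u3
                rw [Groth.Agent.Helper6.NT.symm' T u3 u0, taq_0_3, Groth.Agent.Helper6.NT.symm' T u3 u1, z_1_3, Groth.Agent.Helper6.NT.symm' T u3 u2, z_2_3, (h2 u3).2, tap_3_4, z_3_5, z_3_6] at key
                exact mul_left_cancel₀ (T.w_pos u3).ne' (by linarith only [key])
              have r_4 : 1 * T.m u3 + -2 * T.m u4 + 1 * T.m u5 + 1 * T.m u6 = 0 := by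
                have key := Groth.Agent.Helper6.NT.rowfun7 T u0 u1 u2 u3 u4 u5 u6 hinj u4
                rw [Groth.Agent.Helper6.NT.symm' T u4 u0, z_0_4, Groth.Agent.Helper6.NT.symm' T u4 u1, z_1_4, Groth.Agent.Helper6.NT.symm' T u4 u2, z_2_4, Groth.Agent.Helper6.NT.symm' T u4 u3, taq_3_4, (h2 u4).2, tap_4_5, tap_4_6] at key
                exact mul_left_cancel₀ (T.w_pos u4).ne' (by linarith only [key])
              have r_5 : 1 * T.m u4 + -2 * T.m u5 = 0 := by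
                have key := Groth.Agent.Helper6.NT.rowfun7 T u0 u1 u2 u3 u4 u5 u6 hinj u5
                rw [Groth.Agent.Helper6.NT.symm' T u5 u0, z_0_5, Groth.Agent.Helper6.NT.symm' T u5 u1, z_1_5, Groth.Agent.Helper6.NT.symm' T u5 u2, z_2_5, Groth.Agent.Helper6.NT.symm' T u5 u3, z_3_5, Groth.Agent.Helper6.NT.symm' T u5 u4, taq_4_5, (h2 u5).2, z_5_6] at key
                exact mul_left_cancel₀ (T.w_pos u5).ne' (by linarith only [key])
              have r_6 : 1 * T.m u4 + -2 * T.m u6 = 0 := by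
                have key := Groth.Agent.Helper6.NT.rowfun7 T u0 u1 u2 u3 u4 u5 u6 hinj u6
                rw [Groth.Agent.Helper6.NT.symm' T u6 u0, z_0_6, Groth.Agent.Helper6.NT.symm' T u6 u1, z_1_6, Groth.Agent.Helper6.NT.symm' T u6 u2, z_2_6, Groth.Agent.Helper6.NT.symm' T u6 u3, z_3_6, Groth.Agent.Helper6.NT.symm' T u6 u4, taq_4_6, Groth.Agent.Helper6.NT.symm' T u6 u5, z_5_6, (h2 u6).2] at key
                exact mul_left_cancel₀ (T.w_pos u6).ne' (by linarith only [key])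
              have f0 : T.m u1 = T.m u1 := rfl
              have f1 : T.m u2 = T.m u1 := by linarith only [r_0, r_1, r_2, r_3, r_4, r_5, r_6]
              have f2 : T.m u0 = 2 * T.m u1 := by linarith only [r_0, r_1, r_2, r_3, r_4, r_5, r_6]
              have f3 : T.m u3 = 2 * T.m u1 := by linarith only [r_0, r_1, r_2, r_3, r_4, r_5, r_6]
              have f4 : T.m u4 = 2 * T.m u1 := by linarith only [r_0, r_1, r_2, r_3, r_4, r_5, r_6]
              have f5 : T.m u5 = T.m u1 := by linarith only [r_0, r_1, r_2, r_3, r_4, r_5, r_6]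
              have f6 : T.m u6 = T.m u1 := by linarith only [r_0, r_1, r_2, r_3, r_4, r_5, r_6]
              have f7 : T.w u1 = T.w u1 := rfl
              have f8 : T.w u2 = T.w u1 := by linarith only [tw_0_1, tw_0_2, tw_0_3, tw_3_4, tw_4_5, tw_4_6]
              have f9 : T.w u0 = T.w u1 := by linarith only [tw_0_1, tw_0_2, tw_0_3, tw_3_4, tw_4_5, tw_4_6]
              have f10 : T.w u3 = T.w u1 := by linarith only [tw_0_1, tw_0_2, tw_0_3, tw_3_4, tw_4_5, tw_4_6]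
              have f11 : T.w u4 = T.w u1 := by linarith only [tw_0_1, tw_0_2, tw_0_3, tw_3_4, tw_4_5, tw_4_6]
              have f12 : T.w u5 = T.w u1 := by linarith only [tw_0_1, tw_0_2, tw_0_3, tw_3_4, tw_4_5, tw_4_6]
              have f13 : T.w u6 = T.w u1 := by linarith only [tw_0_1, tw_0_2, tw_0_3, tw_3_4, tw_4_5, tw_4_6]
              have f14 : T.a u1 u1 = -2 * T.w u1 := by have := (h2 u1).2; linarith only [this, tw_0_1, tw_0_2, tw_0_3, tw_3_4, tw_4_5, tw_4_6]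
              have f15 : T.a u1 u2 = 0 := by exact z_1_2
              have f16 : T.a u1 u0 = T.w u1 := by rw [Groth.Agent.Helper6.NT.symm' T u1 u0]; linarith only [tap_0_1, tw_0_1, tw_0_2, tw_0_3, tw_3_4, tw_4_5, tw_4_6]
              have f17 : T.a u1 u3 = 0 := by exact z_1_3
              have f18 : T.a u1 u4 = 0 := by exact z_1_4
              have f19 : T.a u1 u5 = 0 := by exact z_1_5
              have f20 : T.a u1 u6 = 0 := by exact z_1_6
              have f21 : T.a u2 u2 = -2 * T.w u1 := by have := (h2 u2).2; linarith only [this, tw_0_1, tw_0_2, tw_0_3, tw_3_4, tw_4_5, tw_4_6]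
              have f22 : T.a u2 u0 = T.w u1 := by rw [Groth.Agent.Helper6.NT.symm' T u2 u0]; linarith only [tap_0_2, tw_0_1, tw_0_2, tw_0_3, tw_3_4, tw_4_5, tw_4_6]
              have f23 : T.a u2 u3 = 0 := by exact z_2_3
              have f24 : T.a u2 u4 = 0 := by exact z_2_4
              have f25 : T.a u2 u5 = 0 := by exact z_2_5
              have f26 : T.a u2 u6 = 0 := by exact z_2_6
              have f27 : T.a u0 u0 = -2 * T.w u1 := by have := (h2 u0).2; linarith only [this, tw_0_1, tw_0_2, tw_0_3, tw_3_4, tw_4_5, tw_4_6]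
              have f28 : T.a u0 u3 = T.w u1 := by linarith only [tap_0_3, tw_0_1, tw_0_2, tw_0_3, tw_3_4, tw_4_5, tw_4_6]
              have f29 : T.a u0 u4 = 0 := by exact z_0_4
              have f30 : T.a u0 u5 = 0 := by exact z_0_5
              have f31 : T.a u0 u6 = 0 := by exact z_0_6
              have f32 : T.a u3 u3 = -2 * T.w u1 := by have := (h2 u3).2; linarith only [this, tw_0_1, tw_0_2, tw_0_3, tw_3_4, tw_4_5, tw_4_6]
              have f33 : T.a u3 u4 = T.w u1 := by linarith only [tap_3_4, tw_0_1, tw_0_2, tw_0_3, tw_3_4, tw_4_5, tw_4_6]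
              have f34 : T.a u3 u5 = 0 := by exact z_3_5
              have f35 : T.a u3 u6 = 0 := by exact z_3_6
              have f36 : T.a u4 u4 = -2 * T.w u1 := by have := (h2 u4).2; linarith only [this, tw_0_1, tw_0_2, tw_0_3, tw_3_4, tw_4_5, tw_4_6]
              have f37 : T.a u4 u5 = T.w u1 := by linarith only [tap_4_5, tw_0_1, tw_0_2, tw_0_3, tw_3_4, tw_4_5, tw_4_6]
              have f38 : T.a u4 u6 = T.w u1 := by linarith only [tap_4_6, tw_0_1, tw_0_2, tw_0_3, tw_3_4, tw_4_5, tw_4_6]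
              have f39 : T.a u5 u5 = -2 * T.w u1 := by have := (h2 u5).2; linarith only [this, tw_0_1, tw_0_2, tw_0_3, tw_3_4, tw_4_5, tw_4_6]
              have f40 : T.a u5 u6 = 0 := by exact z_5_6
              have f41 : T.a u6 u6 = -2 * T.w u1 := by have := (h2 u6).2; linarith only [this, tw_0_1, tw_0_2, tw_0_3, tw_3_4, tw_4_5, tw_4_6]
              have hsig := Groth.Agent.Helper6.NT.inj7 u1 u2 u0 u3 u4 u5 u6 hn_2_1 hn_1_0.symm hn_2_0.symm hn_3_1 hn_3_2 hn_3_0 hn_4_1 hn_4_2 hn_4_0 hn_4_3 hn_5_1 hn_5_2 hn_5_0 hn_5_3 hn_5_4 hn_6_1 hn_6_2 hn_6_0 hn_6_3 hn_6_4 hn_6_5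
              exact ⟨Equiv.ofBijective _ (Finite.injective_iff_bijective.1 hsig), T.m u1, T.w u1, Or.inr (Or.inr (Or.inr (Or.inr (Or.inr (Or.inr (Or.inl ⟨f0, f1, f2, f3, f4, f5, f6, f7, f8, f9, f10, f11, f12, f13, f14, f15, f16, f17, f18, f19, f20, f21, f22, f23, f24, f25, f26, f27, f28, f29, f30, f31, f32, f33, f34, f35, f36, f37, f38, f39, f40, f41⟩))))))⟩
            · -- (5,6) nonzero
              obtain ⟨lbp_5_6, lbq_5_6⟩ := Groth.Agent.Helper6.NT.lb T u5 u6 hn_6_5.symm nz_5_6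
              exfalso
              have key := Groth.Agent.Helper6.NT.negfun3 T h2 u4 u5 u6 (by norm_num) 1 1 1 (by norm_num) (by norm_num)
              linarith only [key, tap_4_5, taq_4_5, tap_4_6, taq_4_6, lbp_5_6, lbq_5_6, T.w_pos u4, T.w_pos u5, T.w_pos u6]
          · -- (4,6) Dp
            exfalso
            have key := Groth.Agent.Helper6.NT.negfun4 T h2 u3 u4 u5 u6 (by norm_num) 1 2 1 1 (by norm_num) (by norm_num)
            linarith only [key, tap_3_4, taq_3_4, z_3_5, z_3_6, tap_4_5, taq_4_5, tap_4_6, taq_4_6, T.offDiag_nonneg u5 u6 hn_6_5.symm, T.w_pos u3, T.w_pos u4, T.w_pos u5, T.w_pos u6]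
          · -- (4,6) Dm
            exfalso
            have key := Groth.Agent.Helper6.NT.negfun4 T h2 u3 u4 u5 u6 (by norm_num) 1 2 1 2 (by norm_num) (by norm_num)
            linarith only [key, tap_3_4, taq_3_4, z_3_5, z_3_6, tap_4_5, taq_4_5, tap_4_6, taq_4_6, T.offDiag_nonneg u5 u6 hn_6_5.symm, T.w_pos u3, T.w_pos u4, T.w_pos u5, T.w_pos u6]
          · -- (4,6) Tp
            exfalso
            have key := Groth.Agent.Helper6.NT.negfun3 T h2 u4 u5 u6 (by norm_num) 2 1 1 (by norm_num) (by norm_num)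
            linarith only [key, tap_4_5, taq_4_5, tap_4_6, taq_4_6, T.offDiag_nonneg u5 u6 hn_6_5.symm, T.w_pos u4, T.w_pos u5, T.w_pos u6]
          · -- (4,6) Tm
            exfalso
            have key := Groth.Agent.Helper6.NT.negfun3 T h2 u4 u5 u6 (by norm_num) 2 1 3 (by norm_num) (by norm_num)
            linarith only [key, tap_4_5, taq_4_5, tap_4_6, taq_4_6, T.offDiag_nonneg u5 u6 hn_6_5.symm, T.w_pos u4, T.w_pos u5, T.w_pos u6]
        · push Not at hx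
          have cl_4 := hx
          clear hx
          by_cases hx : ∃ j, (j ≠ u0 ∧ j ≠ u1 ∧ j ≠ u2 ∧ j ≠ u3 ∧ j ≠ u4 ∧ j ≠ u5) ∧ T.a u5 j ≠ 0
          · obtain ⟨u6, ⟨hn_6_0, hn_6_1, hn_6_2, hn_6_3, hn_6_4, hn_6_5⟩, e_5_6⟩ := hx
            have z_0_6 : T.a u0 u6 = 0 := cl_0 u6 ⟨hn_6_0, hn_6_1, hn_6_2, hn_6_3⟩
            have z_1_6 : T.a u1 u6 = 0 := cl_1 u6 ⟨hn_6_0, hn_6_1, hn_6_2, hn_6_3⟩
            have z_2_6 : T.a u2 u6 = 0 := cl_2 u6 ⟨hn_6_0, hn_6_1, hn_6_2, hn_6_3⟩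
            have z_3_6 : T.a u3 u6 = 0 := cl_3 u6 ⟨hn_6_0, hn_6_1, hn_6_2, hn_6_3, hn_6_4⟩
            have z_4_6 : T.a u4 u6 = 0 := cl_4 u6 ⟨hn_6_0, hn_6_1, hn_6_2, hn_6_3, hn_6_4, hn_6_5⟩
            rcases Groth.Agent.Helper6.NT.edge5 T h2 (by norm_num) u5 u6 hn_6_5.symm e_5_6 with ⟨tw_5_6, tap_5_6, taq_5_6⟩ | ⟨tw_5_6, tap_5_6, taq_5_6⟩ | ⟨tw_5_6, tap_5_6, taq_5_6⟩ | ⟨tw_5_6, tap_5_6, taq_5_6⟩ | ⟨tw_5_6, tap_5_6, taq_5_6⟩
            · -- (5,6) S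
              have hinj := Groth.Agent.Helper6.NT.inj7 u0 u1 u2 u3 u4 u5 u6 hn_1_0 hn_2_0 hn_2_1 hn_3_0 hn_3_1 hn_3_2 hn_4_0 hn_4_1 hn_4_2 hn_4_3 hn_5_0 hn_5_1 hn_5_2 hn_5_3 hn_5_4 hn_6_0 hn_6_1 hn_6_2 hn_6_3 hn_6_4 hn_6_5
              have r_0 : -2 * T.m u0 + 1 * T.m u1 + 1 * T.m u2 + 1 * T.m u3 = 0 := by
                have key := Groth.Agent.Helper6.NT.rowfun7 T u0 u1 u2 u3 u4 u5 u6 hinj u0
                rw [(h2 u0).2, tap_0_1, tap_0_2, tap_0_3, z_0_4, z_0_5, z_0_6] at key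
                exact mul_left_cancel₀ (T.w_pos u0).ne' (by linarith only [key])
              have r_1 : 1 * T.m u0 + -2 * T.m u1 = 0 := by
                have key := Groth.Agent.Helper6.NT.rowfun7 T u0 u1 u2 u3 u4 u5 u6 hinj u1
                rw [Groth.Agent.Helper6.NT.symm' T u1 u0, taq_0_1, (h2 u1).2, z_1_2, z_1_3, z_1_4, z_1_5, z_1_6] at key
                exact mul_left_cancel₀ (T.w_pos u1).ne' (by linarith only [key])
              have r_2 : 1 * T.m u0 + -2 * T.m u2 = 0 := by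
                have key := Groth.Agent.Helper6.NT.rowfun7 T u0 u1 u2 u3 u4 u5 u6 hinj u2
                rw [Groth.Agent.Helper6.NT.symm' T u2 u0, taq_0_2, Groth.Agent.Helper6.NT.symm' T u2 u1, z_1_2, (h2 u2).2, z_2_3, z_2_4, z_2_5, z_2_6] at key
                exact mul_left_cancel₀ (T.w_pos u2).ne' (by linarith only [key])
              have r_3 : 1 * T.m u0 + -2 * T.m u3 + 1 * T.m u4 = 0 := by
                have key := Groth.Agent.Helper6.NT.rowfun7 T u0 u1 u2 u3 u4 u5 u6 hinj u3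
                rw [Groth.Agent.Helper6.NT.symm' T u3 u0, taq_0_3, Groth.Agent.Helper6.NT.symm' T u3 u1, z_1_3, Groth.Agent.Helper6.NT.symm' T u3 u2, z_2_3, (h2 u3).2, tap_3_4, z_3_5, z_3_6] at key
                exact mul_left_cancel₀ (T.w_pos u3).ne' (by linarith only [key])
              have r_4 : 1 * T.m u3 + -2 * T.m u4 + 1 * T.m u5 = 0 := by
                have key := Groth.Agent.Helper6.NT.rowfun7 T u0 u1 u2 u3 u4 u5 u6 hinj u4
                rw [Groth.Agent.Helper6.NT.symm' T u4 u0, z_0_4, Groth.Agent.Helper6.NT.symm' T u4 u1, z_1_4, Groth.Agent.Helper6.NT.symm' T u4 u2, z_2_4, Groth.Agent.Helper6.NT.symm' T u4 u3, taq_3_4, (h2 u4).2, tap_4_5, z_4_6] at key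
                exact mul_left_cancel₀ (T.w_pos u4).ne' (by linarith only [key])
              have r_5 : 1 * T.m u4 + -2 * T.m u5 + 1 * T.m u6 = 0 := by
                have key := Groth.Agent.Helper6.NT.rowfun7 T u0 u1 u2 u3 u4 u5 u6 hinj u5
                rw [Groth.Agent.Helper6.NT.symm' T u5 u0, z_0_5, Groth.Agent.Helper6.NT.symm' T u5 u1, z_1_5, Groth.Agent.Helper6.NT.symm' T u5 u2, z_2_5, Groth.Agent.Helper6.NT.symm' T u5 u3, z_3_5, Groth.Agent.Helper6.NT.symm' T u5 u4, taq_4_5, (h2 u5).2, tap_5_6] at key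
                exact mul_left_cancel₀ (T.w_pos u5).ne' (by linarith only [key])
              have r_6 : 1 * T.m u5 + -2 * T.m u6 = 0 := by
                have key := Groth.Agent.Helper6.NT.rowfun7 T u0 u1 u2 u3 u4 u5 u6 hinj u6
                rw [Groth.Agent.Helper6.NT.symm' T u6 u0, z_0_6, Groth.Agent.Helper6.NT.symm' T u6 u1, z_1_6, Groth.Agent.Helper6.NT.symm' T u6 u2, z_2_6, Groth.Agent.Helper6.NT.symm' T u6 u3, z_3_6, Groth.Agent.Helper6.NT.symm' T u6 u4, z_4_6, Groth.Agent.Helper6.NT.symm' T u6 u5, taq_5_6, (h2 u6).2] at key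
                exact mul_left_cancel₀ (T.w_pos u6).ne' (by linarith only [key])
              exfalso
              linarith only [r_0, r_1, r_2, r_3, r_4, r_5, r_6, T.m_pos u0, T.m_pos u1, T.m_pos u2, T.m_pos u3, T.m_pos u4, T.m_pos u5, T.m_pos u6]
            · -- (5,6) Dp
              have hinj := Groth.Agent.Helper6.NT.inj7 u0 u1 u2 u3 u4 u5 u6 hn_1_0 hn_2_0 hn_2_1 hn_3_0 hn_3_1 hn_3_2 hn_4_0 hn_4_1 hn_4_2 hn_4_3 hn_5_0 hn_5_1 hn_5_2 hn_5_3 hn_5_4 hn_6_0 hn_6_1 hn_6_2 hn_6_3 hn_6_4 hn_6_5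
              have r_0 : -2 * T.m u0 + 1 * T.m u1 + 1 * T.m u2 + 1 * T.m u3 = 0 := by
                have key := Groth.Agent.Helper6.NT.rowfun7 T u0 u1 u2 u3 u4 u5 u6 hinj u0
                rw [(h2 u0).2, tap_0_1, tap_0_2, tap_0_3, z_0_4, z_0_5, z_0_6] at key
                exact mul_left_cancel₀ (T.w_pos u0).ne' (by linarith only [key])
              have r_1 : 1 * T.m u0 + -2 * T.m u1 = 0 := by
                have key := Groth.Agent.Helper6.NT.rowfun7 T u0 u1 u2 u3 u4 u5 u6 hinj u1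
                rw [Groth.Agent.Helper6.NT.symm' T u1 u0, taq_0_1, (h2 u1).2, z_1_2, z_1_3, z_1_4, z_1_5, z_1_6] at key
                exact mul_left_cancel₀ (T.w_pos u1).ne' (by linarith only [key])
              have r_2 : 1 * T.m u0 + -2 * T.m u2 = 0 := by
                have key := Groth.Agent.Helper6.NT.rowfun7 T u0 u1 u2 u3 u4 u5 u6 hinj u2
                rw [Groth.Agent.Helper6.NT.symm' T u2 u0, taq_0_2, Groth.Agent.Helper6.NT.symm' T u2 u1, z_1_2, (h2 u2).2, z_2_3, z_2_4, z_2_5, z_2_6] at key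
                exact mul_left_cancel₀ (T.w_pos u2).ne' (by linarith only [key])
              have r_3 : 1 * T.m u0 + -2 * T.m u3 + 1 * T.m u4 = 0 := by
                have key := Groth.Agent.Helper6.NT.rowfun7 T u0 u1 u2 u3 u4 u5 u6 hinj u3
                rw [Groth.Agent.Helper6.NT.symm' T u3 u0, taq_0_3, Groth.Agent.Helper6.NT.symm' T u3 u1, z_1_3, Groth.Agent.Helper6.NT.symm' T u3 u2, z_2_3, (h2 u3).2, tap_3_4, z_3_5, z_3_6] at key
                exact mul_left_cancel₀ (T.w_pos u3).ne' (by linarith only [key])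
              have r_4 : 1 * T.m u3 + -2 * T.m u4 + 1 * T.m u5 = 0 := by
                have key := Groth.Agent.Helper6.NT.rowfun7 T u0 u1 u2 u3 u4 u5 u6 hinj u4
                rw [Groth.Agent.Helper6.NT.symm' T u4 u0, z_0_4, Groth.Agent.Helper6.NT.symm' T u4 u1, z_1_4, Groth.Agent.Helper6.NT.symm' T u4 u2, z_2_4, Groth.Agent.Helper6.NT.symm' T u4 u3, taq_3_4, (h2 u4).2, tap_4_5, z_4_6] at key
                exact mul_left_cancel₀ (T.w_pos u4).ne' (by linarith only [key])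
              have r_5 : 1 * T.m u4 + -2 * T.m u5 + 2 * T.m u6 = 0 := by
                have key := Groth.Agent.Helper6.NT.rowfun7 T u0 u1 u2 u3 u4 u5 u6 hinj u5
                rw [Groth.Agent.Helper6.NT.symm' T u5 u0, z_0_5, Groth.Agent.Helper6.NT.symm' T u5 u1, z_1_5, Groth.Agent.Helper6.NT.symm' T u5 u2, z_2_5, Groth.Agent.Helper6.NT.symm' T u5 u3, z_3_5, Groth.Agent.Helper6.NT.symm' T u5 u4, taq_4_5, (h2 u5).2, tap_5_6] at key
                exact mul_left_cancel₀ (T.w_pos u5).ne' (by linarith only [key])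
              have r_6 : 1 * T.m u5 + -2 * T.m u6 = 0 := by
                have key := Groth.Agent.Helper6.NT.rowfun7 T u0 u1 u2 u3 u4 u5 u6 hinj u6
                rw [Groth.Agent.Helper6.NT.symm' T u6 u0, z_0_6, Groth.Agent.Helper6.NT.symm' T u6 u1, z_1_6, Groth.Agent.Helper6.NT.symm' T u6 u2, z_2_6, Groth.Agent.Helper6.NT.symm' T u6 u3, z_3_6, Groth.Agent.Helper6.NT.symm' T u6 u4, z_4_6, Groth.Agent.Helper6.NT.symm' T u6 u5, taq_5_6, (h2 u6).2] at key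
                exact mul_left_cancel₀ (T.w_pos u6).ne' (by linarith only [key])
              have f0 : T.m u6 = T.m u6 := rfl
              have f1 : T.m u5 = 2 * T.m u6 := by linarith only [r_0, r_1, r_2, r_3, r_4, r_5, r_6]
              have f2 : T.m u4 = 2 * T.m u6 := by linarith only [r_0, r_1, r_2, r_3, r_4, r_5, r_6]
              have f3 : T.m u3 = 2 * T.m u6 := by linarith only [r_0, r_1, r_2, r_3, r_4, r_5, r_6]
              have f4 : T.m u0 = 2 * T.m u6 := by linarith only [r_0, r_1, r_2, r_3, r_4, r_5, r_6]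
              have f5 : T.m u1 = T.m u6 := by linarith only [r_0, r_1, r_2, r_3, r_4, r_5, r_6]
              have f6 : T.m u2 = T.m u6 := by linarith only [r_0, r_1, r_2, r_3, r_4, r_5, r_6]
              have f7 : T.w u6 = 2 * T.w u5 := by linarith only [tw_0_1, tw_0_2, tw_0_3, tw_3_4, tw_4_5, tw_5_6]
              have f8 : T.w u5 = T.w u5 := rfl
              have f9 : T.w u4 = T.w u5 := by linarith only [tw_0_1, tw_0_2, tw_0_3, tw_3_4, tw_4_5, tw_5_6]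
              have f10 : T.w u3 = T.w u5 := by linarith only [tw_0_1, tw_0_2, tw_0_3, tw_3_4, tw_4_5, tw_5_6]
              have f11 : T.w u0 = T.w u5 := by linarith only [tw_0_1, tw_0_2, tw_0_3, tw_3_4, tw_4_5, tw_5_6]
              have f12 : T.w u1 = T.w u5 := by linarith only [tw_0_1, tw_0_2, tw_0_3, tw_3_4, tw_4_5, tw_5_6]
              have f13 : T.w u2 = T.w u5 := by linarith only [tw_0_1, tw_0_2, tw_0_3, tw_3_4, tw_4_5, tw_5_6]
              have f14 : T.a u6 u6 = -4 * T.w u5 := by have := (h2 u6).2; linarith only [this, tw_0_1, tw_0_2, tw_0_3, tw_3_4, tw_4_5, tw_5_6]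
              have f15 : T.a u6 u5 = 2 * T.w u5 := by rw [Groth.Agent.Helper6.NT.symm' T u6 u5]; linarith only [tap_5_6, tw_0_1, tw_0_2, tw_0_3, tw_3_4, tw_4_5, tw_5_6]
              have f16 : T.a u6 u4 = 0 := by rw [Groth.Agent.Helper6.NT.symm' T u6 u4]; exact z_4_6
              have f17 : T.a u6 u3 = 0 := by rw [Groth.Agent.Helper6.NT.symm' T u6 u3]; exact z_3_6
              have f18 : T.a u6 u0 = 0 := by rw [Groth.Agent.Helper6.NT.symm' T u6 u0]; exact z_0_6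
              have f19 : T.a u6 u1 = 0 := by rw [Groth.Agent.Helper6.NT.symm' T u6 u1]; exact z_1_6
              have f20 : T.a u6 u2 = 0 := by rw [Groth.Agent.Helper6.NT.symm' T u6 u2]; exact z_2_6
              have f21 : T.a u5 u5 = -2 * T.w u5 := by have := (h2 u5).2; linarith only [this, tw_0_1, tw_0_2, tw_0_3, tw_3_4, tw_4_5, tw_5_6]
              have f22 : T.a u5 u4 = T.w u5 := by rw [Groth.Agent.Helper6.NT.symm' T u5 u4]; linarith only [tap_4_5, tw_0_1, tw_0_2, tw_0_3, tw_3_4, tw_4_5, tw_5_6]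
              have f23 : T.a u5 u3 = 0 := by rw [Groth.Agent.Helper6.NT.symm' T u5 u3]; exact z_3_5
              have f24 : T.a u5 u0 = 0 := by rw [Groth.Agent.Helper6.NT.symm' T u5 u0]; exact z_0_5
              have f25 : T.a u5 u1 = 0 := by rw [Groth.Agent.Helper6.NT.symm' T u5 u1]; exact z_1_5
              have f26 : T.a u5 u2 = 0 := by rw [Groth.Agent.Helper6.NT.symm' T u5 u2]; exact z_2_5
              have f27 : T.a u4 u4 = -2 * T.w u5 := by have := (h2 u4).2; linarith only [this, tw_0_1, tw_0_2, tw_0_3, tw_3_4, tw_4_5, tw_5_6]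
              have f28 : T.a u4 u3 = T.w u5 := by rw [Groth.Agent.Helper6.NT.symm' T u4 u3]; linarith only [tap_3_4, tw_0_1, tw_0_2, tw_0_3, tw_3_4, tw_4_5, tw_5_6]
              have f29 : T.a u4 u0 = 0 := by rw [Groth.Agent.Helper6.NT.symm' T u4 u0]; exact z_0_4
              have f30 : T.a u4 u1 = 0 := by rw [Groth.Agent.Helper6.NT.symm' T u4 u1]; exact z_1_4
              have f31 : T.a u4 u2 = 0 := by rw [Groth.Agent.Helper6.NT.symm' T u4 u2]; exact z_2_4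
              have f32 : T.a u3 u3 = -2 * T.w u5 := by have := (h2 u3).2; linarith only [this, tw_0_1, tw_0_2, tw_0_3, tw_3_4, tw_4_5, tw_5_6]
              have f33 : T.a u3 u0 = T.w u5 := by rw [Groth.Agent.Helper6.NT.symm' T u3 u0]; linarith only [tap_0_3, tw_0_1, tw_0_2, tw_0_3, tw_3_4, tw_4_5, tw_5_6]
              have f34 : T.a u3 u1 = 0 := by rw [Groth.Agent.Helper6.NT.symm' T u3 u1]; exact z_1_3
              have f35 : T.a u3 u2 = 0 := by rw [Groth.Agent.Helper6.NT.symm' T u3 u2]; exact z_2_3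
              have f36 : T.a u0 u0 = -2 * T.w u5 := by have := (h2 u0).2; linarith only [this, tw_0_1, tw_0_2, tw_0_3, tw_3_4, tw_4_5, tw_5_6]
              have f37 : T.a u0 u1 = T.w u5 := by linarith only [tap_0_1, tw_0_1, tw_0_2, tw_0_3, tw_3_4, tw_4_5, tw_5_6]
              have f38 : T.a u0 u2 = T.w u5 := by linarith only [tap_0_2, tw_0_1, tw_0_2, tw_0_3, tw_3_4, tw_4_5, tw_5_6]
              have f39 : T.a u1 u1 = -2 * T.w u5 := by have := (h2 u1).2; linarith only [this, tw_0_1, tw_0_2, tw_0_3, tw_3_4, tw_4_5, tw_5_6]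
              have f40 : T.a u1 u2 = 0 := by exact z_1_2
              have f41 : T.a u2 u2 = -2 * T.w u5 := by have := (h2 u2).2; linarith only [this, tw_0_1, tw_0_2, tw_0_3, tw_3_4, tw_4_5, tw_5_6]
              have hsig := Groth.Agent.Helper6.NT.inj7 u6 u5 u4 u3 u0 u1 u2 hn_6_5.symm hn_6_4.symm hn_5_4.symm hn_6_3.symm hn_5_3.symm hn_4_3.symm hn_6_0.symm hn_5_0.symm hn_4_0.symm hn_3_0.symm hn_6_1.symm hn_5_1.symm hn_4_1.symm hn_3_1.symm hn_1_0 hn_6_2.symm hn_5_2.symm hn_4_2.symm hn_3_2.symm hn_2_0 hn_2_1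
              exact ⟨Equiv.ofBijective _ (Finite.injective_iff_bijective.1 hsig), T.m u6, T.w u5, Or.inr (Or.inr (Or.inr (Or.inr (Or.inl ⟨f0, f1, f2, f3, f4, f5, f6, f7, f8, f9, f10, f11, f12, f13, f14, f15, f16, f17, f18, f19, f20, f21, f22, f23, f24, f25, f26, f27, f28, f29, f30, f31, f32, f33, f34, f35, f36, f37, f38, f39, f40, f41⟩))))⟩
            · -- (5,6) Dm
              have hinj := Groth.Agent.Helper6.NT.inj7 u0 u1 u2 u3 u4 u5 u6 hn_1_0 hn_2_0 hn_2_1 hn_3_0 hn_3_1 hn_3_2 hn_4_0 hn_4_1 hn_4_2 hn_4_3 hn_5_0 hn_5_1 hn_5_2 hn_5_3 hn_5_4 hn_6_0 hn_6_1 hn_6_2 hn_6_3 hn_6_4 hn_6_5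
              have r_0 : -2 * T.m u0 + 1 * T.m u1 + 1 * T.m u2 + 1 * T.m u3 = 0 := by
                have key := Groth.Agent.Helper6.NT.rowfun7 T u0 u1 u2 u3 u4 u5 u6 hinj u0
                rw [(h2 u0).2, tap_0_1, tap_0_2, tap_0_3, z_0_4, z_0_5, z_0_6] at key
                exact mul_left_cancel₀ (T.w_pos u0).ne' (by linarith only [key])
              have r_1 : 1 * T.m u0 + -2 * T.m u1 = 0 := by
                have key := Groth.Agent.Helper6.NT.rowfun7 T u0 u1 u2 u3 u4 u5 u6 hinj u1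
                rw [Groth.Agent.Helper6.NT.symm' T u1 u0, taq_0_1, (h2 u1).2, z_1_2, z_1_3, z_1_4, z_1_5, z_1_6] at key
                exact mul_left_cancel₀ (T.w_pos u1).ne' (by linarith only [key])
              have r_2 : 1 * T.m u0 + -2 * T.m u2 = 0 := by
                have key := Groth.Agent.Helper6.NT.rowfun7 T u0 u1 u2 u3 u4 u5 u6 hinj u2
                rw [Groth.Agent.Helper6.NT.symm' T u2 u0, taq_0_2, Groth.Agent.Helper6.NT.symm' T u2 u1, z_1_2, (h2 u2).2, z_2_3, z_2_4, z_2_5, z_2_6] at key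
                exact mul_left_cancel₀ (T.w_pos u2).ne' (by linarith only [key])
              have r_3 : 1 * T.m u0 + -2 * T.m u3 + 1 * T.m u4 = 0 := by
                have key := Groth.Agent.Helper6.NT.rowfun7 T u0 u1 u2 u3 u4 u5 u6 hinj u3
                rw [Groth.Agent.Helper6.NT.symm' T u3 u0, taq_0_3, Groth.Agent.Helper6.NT.symm' T u3 u1, z_1_3, Groth.Agent.Helper6.NT.symm' T u3 u2, z_2_3, (h2 u3).2, tap_3_4, z_3_5, z_3_6] at key
                exact mul_left_cancel₀ (T.w_pos u3).ne' (by linarith only [key])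
              have r_4 : 1 * T.m u3 + -2 * T.m u4 + 1 * T.m u5 = 0 := by
                have key := Groth.Agent.Helper6.NT.rowfun7 T u0 u1 u2 u3 u4 u5 u6 hinj u4
                rw [Groth.Agent.Helper6.NT.symm' T u4 u0, z_0_4, Groth.Agent.Helper6.NT.symm' T u4 u1, z_1_4, Groth.Agent.Helper6.NT.symm' T u4 u2, z_2_4, Groth.Agent.Helper6.NT.symm' T u4 u3, taq_3_4, (h2 u4).2, tap_4_5, z_4_6] at key
                exact mul_left_cancel₀ (T.w_pos u4).ne' (by linarith only [key])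
              have r_5 : 1 * T.m u4 + -2 * T.m u5 + 1 * T.m u6 = 0 := by
                have key := Groth.Agent.Helper6.NT.rowfun7 T u0 u1 u2 u3 u4 u5 u6 hinj u5
                rw [Groth.Agent.Helper6.NT.symm' T u5 u0, z_0_5, Groth.Agent.Helper6.NT.symm' T u5 u1, z_1_5, Groth.Agent.Helper6.NT.symm' T u5 u2, z_2_5, Groth.Agent.Helper6.NT.symm' T u5 u3, z_3_5, Groth.Agent.Helper6.NT.symm' T u5 u4, taq_4_5, (h2 u5).2, tap_5_6] at key
                exact mul_left_cancel₀ (T.w_pos u5).ne' (by linarith only [key])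
              have r_6 : 2 * T.m u5 + -2 * T.m u6 = 0 := by
                have key := Groth.Agent.Helper6.NT.rowfun7 T u0 u1 u2 u3 u4 u5 u6 hinj u6
                rw [Groth.Agent.Helper6.NT.symm' T u6 u0, z_0_6, Groth.Agent.Helper6.NT.symm' T u6 u1, z_1_6, Groth.Agent.Helper6.NT.symm' T u6 u2, z_2_6, Groth.Agent.Helper6.NT.symm' T u6 u3, z_3_6, Groth.Agent.Helper6.NT.symm' T u6 u4, z_4_6, Groth.Agent.Helper6.NT.symm' T u6 u5, taq_5_6, (h2 u6).2] at key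
                exact mul_left_cancel₀ (T.w_pos u6).ne' (by linarith only [key])
              have f0 : T.m u6 = 2 * T.m u1 := by linarith only [r_0, r_1, r_2, r_3, r_4, r_5, r_6]
              have f1 : T.m u5 = 2 * T.m u1 := by linarith only [r_0, r_1, r_2, r_3, r_4, r_5, r_6]
              have f2 : T.m u4 = 2 * T.m u1 := by linarith only [r_0, r_1, r_2, r_3, r_4, r_5, r_6]
              have f3 : T.m u3 = 2 * T.m u1 := by linarith only [r_0, r_1, r_2, r_3, r_4, r_5, r_6]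
              have f4 : T.m u0 = 2 * T.m u1 := by linarith only [r_0, r_1, r_2, r_3, r_4, r_5, r_6]
              have f5 : T.m u1 = T.m u1 := rfl
              have f6 : T.m u2 = T.m u1 := by linarith only [r_0, r_1, r_2, r_3, r_4, r_5, r_6]
              have f7 : T.w u6 = T.w u6 := rfl
              have f8 : T.w u5 = 2 * T.w u6 := by linarith only [tw_0_1, tw_0_2, tw_0_3, tw_3_4, tw_4_5, tw_5_6]
              have f9 : T.w u4 = 2 * T.w u6 := by linarith only [tw_0_1, tw_0_2, tw_0_3, tw_3_4, tw_4_5, tw_5_6]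
              have f10 : T.w u3 = 2 * T.w u6 := by linarith only [tw_0_1, tw_0_2, tw_0_3, tw_3_4, tw_4_5, tw_5_6]
              have f11 : T.w u0 = 2 * T.w u6 := by linarith only [tw_0_1, tw_0_2, tw_0_3, tw_3_4, tw_4_5, tw_5_6]
              have f12 : T.w u1 = 2 * T.w u6 := by linarith only [tw_0_1, tw_0_2, tw_0_3, tw_3_4, tw_4_5, tw_5_6]
              have f13 : T.w u2 = 2 * T.w u6 := by linarith only [tw_0_1, tw_0_2, tw_0_3, tw_3_4, tw_4_5, tw_5_6]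
              have f14 : T.a u6 u6 = -2 * T.w u6 := by have := (h2 u6).2; linarith only [this, tw_0_1, tw_0_2, tw_0_3, tw_3_4, tw_4_5, tw_5_6]
              have f15 : T.a u6 u5 = 2 * T.w u6 := by rw [Groth.Agent.Helper6.NT.symm' T u6 u5]; linarith only [tap_5_6, tw_0_1, tw_0_2, tw_0_3, tw_3_4, tw_4_5, tw_5_6]
              have f16 : T.a u6 u4 = 0 := by rw [Groth.Agent.Helper6.NT.symm' T u6 u4]; exact z_4_6
              have f17 : T.a u6 u3 = 0 := by rw [Groth.Agent.Helper6.NT.symm' T u6 u3]; exact z_3_6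
              have f18 : T.a u6 u0 = 0 := by rw [Groth.Agent.Helper6.NT.symm' T u6 u0]; exact z_0_6
              have f19 : T.a u6 u1 = 0 := by rw [Groth.Agent.Helper6.NT.symm' T u6 u1]; exact z_1_6
              have f20 : T.a u6 u2 = 0 := by rw [Groth.Agent.Helper6.NT.symm' T u6 u2]; exact z_2_6
              have f21 : T.a u5 u5 = -4 * T.w u6 := by have := (h2 u5).2; linarith only [this, tw_0_1, tw_0_2, tw_0_3, tw_3_4, tw_4_5, tw_5_6]
              have f22 : T.a u5 u4 = 2 * T.w u6 := by rw [Groth.Agent.Helper6.NT.symm' T u5 u4]; linarith only [tap_4_5, tw_0_1, tw_0_2, tw_0_3, tw_3_4, tw_4_5, tw_5_6]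
              have f23 : T.a u5 u3 = 0 := by rw [Groth.Agent.Helper6.NT.symm' T u5 u3]; exact z_3_5
              have f24 : T.a u5 u0 = 0 := by rw [Groth.Agent.Helper6.NT.symm' T u5 u0]; exact z_0_5
              have f25 : T.a u5 u1 = 0 := by rw [Groth.Agent.Helper6.NT.symm' T u5 u1]; exact z_1_5
              have f26 : T.a u5 u2 = 0 := by rw [Groth.Agent.Helper6.NT.symm' T u5 u2]; exact z_2_5
              have f27 : T.a u4 u4 = -4 * T.w u6 := by have := (h2 u4).2; linarith only [this, tw_0_1, tw_0_2, tw_0_3, tw_3_4, tw_4_5, tw_5_6]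
              have f28 : T.a u4 u3 = 2 * T.w u6 := by rw [Groth.Agent.Helper6.NT.symm' T u4 u3]; linarith only [tap_3_4, tw_0_1, tw_0_2, tw_0_3, tw_3_4, tw_4_5, tw_5_6]
              have f29 : T.a u4 u0 = 0 := by rw [Groth.Agent.Helper6.NT.symm' T u4 u0]; exact z_0_4
              have f30 : T.a u4 u1 = 0 := by rw [Groth.Agent.Helper6.NT.symm' T u4 u1]; exact z_1_4
              have f31 : T.a u4 u2 = 0 := by rw [Groth.Agent.Helper6.NT.symm' T u4 u2]; exact z_2_4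
              have f32 : T.a u3 u3 = -4 * T.w u6 := by have := (h2 u3).2; linarith only [this, tw_0_1, tw_0_2, tw_0_3, tw_3_4, tw_4_5, tw_5_6]
              have f33 : T.a u3 u0 = 2 * T.w u6 := by rw [Groth.Agent.Helper6.NT.symm' T u3 u0]; linarith only [tap_0_3, tw_0_1, tw_0_2, tw_0_3, tw_3_4, tw_4_5, tw_5_6]
              have f34 : T.a u3 u1 = 0 := by rw [Groth.Agent.Helper6.NT.symm' T u3 u1]; exact z_1_3
              have f35 : T.a u3 u2 = 0 := by rw [Groth.Agent.Helper6.NT.symm' T u3 u2]; exact z_2_3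
              have f36 : T.a u0 u0 = -4 * T.w u6 := by have := (h2 u0).2; linarith only [this, tw_0_1, tw_0_2, tw_0_3, tw_3_4, tw_4_5, tw_5_6]
              have f37 : T.a u0 u1 = 2 * T.w u6 := by linarith only [tap_0_1, tw_0_1, tw_0_2, tw_0_3, tw_3_4, tw_4_5, tw_5_6]
              have f38 : T.a u0 u2 = 2 * T.w u6 := by linarith only [tap_0_2, tw_0_1, tw_0_2, tw_0_3, tw_3_4, tw_4_5, tw_5_6]
              have f39 : T.a u1 u1 = -4 * T.w u6 := by have := (h2 u1).2; linarith only [this, tw_0_1, tw_0_2, tw_0_3, tw_3_4, tw_4_5, tw_5_6]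
              have f40 : T.a u1 u2 = 0 := by exact z_1_2
              have f41 : T.a u2 u2 = -4 * T.w u6 := by have := (h2 u2).2; linarith only [this, tw_0_1, tw_0_2, tw_0_3, tw_3_4, tw_4_5, tw_5_6]
              have hsig := Groth.Agent.Helper6.NT.inj7 u6 u5 u4 u3 u0 u1 u2 hn_6_5.symm hn_6_4.symm hn_5_4.symm hn_6_3.symm hn_5_3.symm hn_4_3.symm hn_6_0.symm hn_5_0.symm hn_4_0.symm hn_3_0.symm hn_6_1.symm hn_5_1.symm hn_4_1.symm hn_3_1.symm hn_1_0 hn_6_2.symm hn_5_2.symm hn_4_2.symm hn_3_2.symm hn_2_0 hn_2_1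
              exact ⟨Equiv.ofBijective _ (Finite.injective_iff_bijective.1 hsig), T.m u1, T.w u6, Or.inr (Or.inr (Or.inr (Or.inr (Or.inr (Or.inl ⟨f0, f1, f2, f3, f4, f5, f6, f7, f8, f9, f10, f11, f12, f13, f14, f15, f16, f17, f18, f19, f20, f21, f22, f23, f24, f25, f26, f27, f28, f29, f30, f31, f32, f33, f34, f35, f36, f37, f38, f39, f40, f41⟩)))))⟩
            · -- (5,6) Tp
              exfalso
              have key := Groth.Agent.Helper6.NT.negfun3 T h2 u4 u5 u6 (by norm_num) 1 2 1 (by norm_num) (by norm_num)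
              linarith only [key, tap_4_5, taq_4_5, z_4_6, tap_5_6, taq_5_6, T.w_pos u4, T.w_pos u5, T.w_pos u6]
            · -- (5,6) Tm
              exfalso
              have key := Groth.Agent.Helper6.NT.negfun3 T h2 u4 u5 u6 (by norm_num) 1 2 3 (by norm_num) (by norm_num)
              linarith only [key, tap_4_5, taq_4_5, z_4_6, tap_5_6, taq_5_6, T.w_pos u4, T.w_pos u5, T.w_pos u6]
          · push Not at hx
            have cl_5 := hx
            clear hx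
            exfalso
            refine Groth.Agent.Helper6.NT.closed_contra T [u0, u1, u2, u3, u4, u5] (by simp) (by simp) ?_
            intro i hi j hj
            simp only [List.mem_cons, List.not_mem_nil, or_false, not_or] at hi hj
            rcases hi with rfl | rfl | rfl | rfl | rfl | rfl
            · exact cl_0 j ⟨hj.1, hj.2.1, hj.2.2.1, hj.2.2.2.1⟩
            · exact cl_1 j ⟨hj.1, hj.2.1, hj.2.2.1, hj.2.2.2.1⟩
            · exact cl_2 j ⟨hj.1, hj.2.1, hj.2.2.1, hj.2.2.2.1⟩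
            · exact cl_3 j ⟨hj.1, hj.2.1, hj.2.2.1, hj.2.2.2.1, hj.2.2.2.2.1⟩
            · exact cl_4 j ⟨hj.1, hj.2.1, hj.2.2.1, hj.2.2.2.1, hj.2.2.2.2.1, hj.2.2.2.2.2⟩
            · exact cl_5 j ⟨hj.1, hj.2.1, hj.2.2.1, hj.2.2.2.1, hj.2.2.2.2.1, hj.2.2.2.2.2⟩
      · -- (4,5) Dp
        exfalso
        have key := Groth.Agent.Helper6.NT.negfun6 T h2 u0 u1 u2 u3 u4 u5 (by norm_num) 2 1 1 2 2 1 (by norm_num) (by norm_num)
        linarith only [key, tap_0_1, taq_0_1, tap_0_2, taq_0_2, tap_0_3, taq_0_3, z_0_4, z_0_5, z_1_2, z_1_3, z_1_4, z_1_5, z_2_3, z_2_4, z_2_5, tap_3_4, taq_3_4, z_3_5, tap_4_5, taq_4_5, T.w_pos u0, T.w_pos u1, T.w_pos u2, T.w_pos u3, T.w_pos u4, T.w_pos u5]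
      · -- (4,5) Dm
        exfalso
        have key := Groth.Agent.Helper6.NT.negfun6 T h2 u0 u1 u2 u3 u4 u5 (by norm_num) 2 1 1 2 2 2 (by norm_num) (by norm_num)
        linarith only [key, tap_0_1, taq_0_1, tap_0_2, taq_0_2, tap_0_3, taq_0_3, z_0_4, z_0_5, z_1_2, z_1_3, z_1_4, z_1_5, z_2_3, z_2_4, z_2_5, tap_3_4, taq_3_4, z_3_5, tap_4_5, taq_4_5, T.w_pos u0, T.w_pos u1, T.w_pos u2, T.w_pos u3, T.w_pos u4, T.w_pos u5]
      · -- (4,5) Tp
        exfalso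
        have key := Groth.Agent.Helper6.NT.negfun3 T h2 u3 u4 u5 (by norm_num) 1 2 1 (by norm_num) (by norm_num)
        linarith only [key, tap_3_4, taq_3_4, z_3_5, tap_4_5, taq_4_5, T.w_pos u3, T.w_pos u4, T.w_pos u5]
      · -- (4,5) Tm
        exfalso
        have key := Groth.Agent.Helper6.NT.negfun3 T h2 u3 u4 u5 (by norm_num) 1 2 3 (by norm_num) (by norm_num)
        linarith only [key, tap_3_4, taq_3_4, z_3_5, tap_4_5, taq_4_5, T.w_pos u3, T.w_pos u4, T.w_pos u5]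
    · push Not at hx
      have cl_4 := hx
      clear hx
      exfalso
      refine Groth.Agent.Helper6.NT.closed_contra T [u0, u1, u2, u3, u4] (by simp) (by simp) ?_
      intro i hi j hj
      simp only [List.mem_cons, List.not_mem_nil, or_false, not_or] at hi hj
      rcases hi with rfl | rfl | rfl | rfl | rfl
      · exact cl_0 j ⟨hj.1, hj.2.1, hj.2.2.1, hj.2.2.2.1⟩
      · exact cl_1 j ⟨hj.1, hj.2.1, hj.2.2.1, hj.2.2.2.1⟩
      · exact cl_2 j ⟨hj.1, hj.2.1, hj.2.2.1, hj.2.2.2.1⟩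
      · exact cl_3 j ⟨hj.1, hj.2.1, hj.2.2.1, hj.2.2.2.1, hj.2.2.2.2⟩
      · exact cl_4 j ⟨hj.1, hj.2.1, hj.2.2.1, hj.2.2.2.1, hj.2.2.2.2⟩

theorem cut7_5 (T : Models.NumericalType 7) (h2 : ∀ i, T.IsMinusTwo i) (u0 u1 u2 u3 u4 : Fin 7)
    (hn_1_0 : u1 ≠ u0)
    (e_0_1 : T.a u0 u1 ≠ 0)
    (tw_0_1 : T.w u1 = T.w u0)
    (tap_0_1 : T.a u0 u1 = T.w u0)
    (taq_0_1 : T.a u0 u1 = T.w u1)
    (hn_2_0 : u2 ≠ u0)
    (hn_2_1 : u2 ≠ u1)
    (e_0_2 : T.a u0 u2 ≠ 0)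
    (tw_0_2 : T.w u2 = T.w u0)
    (tap_0_2 : T.a u0 u2 = T.w u0)
    (taq_0_2 : T.a u0 u2 = T.w u2)
    (z_1_2 : T.a u1 u2 = 0)
    (cl_0 : ∀ j : Fin 7, (j ≠ u0 ∧ j ≠ u1 ∧ j ≠ u2) → T.a u0 j = 0)
    (hn_3_0 : u3 ≠ u0)
    (hn_3_1 : u3 ≠ u1)
    (hn_3_2 : u3 ≠ u2)
    (e_1_3 : T.a u1 u3 ≠ 0)
    (z_0_3 : T.a u0 u3 = 0)
    (tw_1_3 : T.w u3 = T.w u1)
    (tap_1_3 : T.a u1 u3 = T.w u1)
    (taq_1_3 : T.a u1 u3 = T.w u3)
    (z_2_3 : T.a u2 u3 = 0)
    (hn_4_0 : u4 ≠ u0)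
    (hn_4_1 : u4 ≠ u1)
    (hn_4_2 : u4 ≠ u2)
    (hn_4_3 : u4 ≠ u3)
    (e_1_4 : T.a u1 u4 ≠ 0)
    (z_0_4 : T.a u0 u4 = 0)
    (tw_1_4 : T.w u4 = T.w u1)
    (tap_1_4 : T.a u1 u4 = T.w u1)
    (taq_1_4 : T.a u1 u4 = T.w u4)
    (z_2_4 : T.a u2 u4 = 0)
    (z_3_4 : T.a u3 u4 = 0) :
    ∃ (σ : Equiv.Perm (Fin 7)) (m w : ℤ), ((T.m (σ 0) = m ∧ T.m (σ 1) = m ∧ T.m (σ 2) = m ∧ T.m (σ 3) = m ∧ T.m (σ 4) = m ∧ T.m (σ 5) = m ∧ T.m (σ 6) = m ∧ T.w (σ 0) = w ∧ T.w (σ 1) = w ∧ T.w (σ 2) = w ∧ T.w (σ 3) = w ∧ T.w (σ 4) = w ∧ T.w (σ 5) = w ∧ T.w (σ 6) = w ∧ T.a (σ 0) (σ 0) = -2 * w ∧ T.a (σ 0) (σ 1) = w ∧ T.a (σ 0) (σ 2) = 0 ∧ T.a (σ 0) (σ 3) = 0 ∧ T.a (σ 0) (σ 4) = 0 ∧ T.a (σ 0) (σ 5) = 0 ∧ T.a (σ 0) (σ 6) = w ∧ T.a (σ 1) (σ 1) = -2 * w ∧ T.a (σ 1) (σ 2) = w ∧ T.a (σ 1) (σ 3) = 0 ∧ T.a (σ 1) (σ 4) = 0 ∧ T.a (σ 1) (σ 5) = 0 ∧ T.a (σ 1) (σ 6) = 0 ∧ T.a (σ 2) (σ 2) = -2 * w ∧ T.a (σ 2) (σ 3) = w ∧ T.a (σ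 2) (σ 4) = 0 ∧ T.a (σ 2) (σ 5) = 0 ∧ T.a (σ 2) (σ 6) = 0 ∧ T.a (σ 3) (σ 3) = -2 * w ∧ T.a (σ 3) (σ 4) = w ∧ T.a (σ 3) (σ 5) = 0 ∧ T.a (σ 3) (σ 6) = 0 ∧ T.a (σ 4) (σ 4) = -2 * w ∧ T.a (σ 4) (σ 5) = w ∧ T.a (σ 4) (σ 6) = 0 ∧ T.a (σ 5) (σ 5) = -2 * w ∧ T.a (σ 5) (σ 6) = w ∧ T.a (σ 6) (σ 6) = -2 * w) ∨ (T.m (σ 0) = 2 * m ∧ T.m (σ 1) = 2 * m ∧ T.m (σ 2) = 2 * m ∧ T.m (σ 3) = 2 * m ∧ T.m (σ 4) = 2 * m ∧ T.m (σ 5) = 2 * m ∧ T.m (σ 6) = m ∧ T.w (σ 0) = w ∧ T.w (σ 1) = 2 * w ∧ T.w (σ 2) = 2 * w ∧ T.w (σ 3) = 2 * w ∧ T.w (σ 4) = 2 * w ∧ T.w (σ 5) = 2 * w ∧ T.w (σ 6) = 4 * w ∧ T.a (σ 0) (σ 0) = -2 * w ∧ T.a (σ 0) (σ 1) = 2 * w ∧ T.a (σ 0) (σ 2) = 0 ∧ T.a (σ 0) (σ 3) = 0 ∧ T.a (σ 0) (σ 4) = 0 ∧ T.a (σ 0) (σ 5) = 0 ∧ T.a (σ 0) (σ 6) = 0 ∧ T.a (σ 1) (σ 1) = -4 * w ∧ T.a (σ 1) (σ 2) = 2 * w ∧ T.a (σ 1) (σ 3) = 0 ∧ T.a (σ 1) (σ 4) = 0 ∧ T.a (σ 1) (σ 5) = 0 ∧ T.a (σ 1) (σ 6) = 0 ∧ T.a (σ 2) (σ 2) = -4 * w ∧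 T.a (σ 2) (σ 3) = 2 * w ∧ T.a (σ 2) (σ 4) = 0 ∧ T.a (σ 2) (σ 5) = 0 ∧ T.a (σ 2) (σ 6) = 0 ∧ T.a (σ 3) (σ 3) = -4 * w ∧ T.a (σ 3) (σ 4) = 2 * w ∧ T.a (σ 3) (σ 5) = 0 ∧ T.a (σ 3) (σ 6) = 0 ∧ T.a (σ 4) (σ 4) = -4 * w ∧ T.a (σ 4) (σ 5) = 2 * w ∧ T.a (σ 4) (σ 6) = 0 ∧ T.a (σ 5) (σ 5) = -4 * w ∧ T.a (σ 5) (σ 6) = 4 * w ∧ T.a (σ 6) (σ 6) = -8 * w) ∨ (T.m (σ 0) = m ∧ T.m (σ 1) = m ∧ T.m (σ 2) = m ∧ T.m (σ 3) = m ∧ T.m (σ 4) = m ∧ T.m (σ 5) = m ∧ T.m (σ 6) = m ∧ T.w (σ 0) = w ∧ T.w (σ 1) = 2 * w ∧ T.w (σ 2) = 2 * w ∧ T.w (σ 3) = 2 * w ∧ T.w (σ 4) = 2 * w ∧ T.w (σ 5) = 2 * w ∧ T.w (σ 6) = w ∧ T.a (σ 0) (σ 0) = -2 * w ∧ T.a (σ 0) (σ 1) = 2 * w ∧ T.a (σ 0) (σ 2) = 0 ∧ T.a (σ 0) (σ 3) = 0 ∧ T.a (σ 0) (σ 4) = 0 ∧ T.a (σ 0) (σ 5) = 0 ∧ T.a (σ 0) (σ 6) = 0 ∧ T.a (σ 1) (σ 1) = -4 * w ∧ T.a (σ 1) (σ 2) = 2 * w ∧ T.a (σ 1) (σ 3) = 0 ∧ T.a (σ 1) (σ 4) = 0 ∧ T.a (σ 1) (σ 5) = 0 ∧ T.a (σ 1) (σ 6) = 0 ∧ T.a (σ 2)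 (σ 2) = -4 * w ∧ T.a (σ 2) (σ 3) = 2 * w ∧ T.a (σ 2) (σ 4) = 0 ∧ T.a (σ 2) (σ 5) = 0 ∧ T.a (σ 2) (σ 6) = 0 ∧ T.a (σ 3) (σ 3) = -4 * w ∧ T.a (σ 3) (σ 4) = 2 * w ∧ T.a (σ 3) (σ 5) = 0 ∧ T.a (σ 3) (σ 6) = 0 ∧ T.a (σ 4) (σ 4) = -4 * w ∧ T.a (σ 4) (σ 5) = 2 * w ∧ T.a (σ 4) (σ 6) = 0 ∧ T.a (σ 5) (σ 5) = -4 * w ∧ T.a (σ 5) (σ 6) = 2 * w ∧ T.a (σ 6) (σ 6) = -2 * w) ∨ (T.m (σ 0) = m ∧ T.m (σ 1) = 2 * m ∧ T.m (σ 2) = 2 * m ∧ T.m (σ 3) = 2 * m ∧ T.m (σ 4) = 2 * m ∧ T.m (σ 5) = 2 * m ∧ T.m (σ 6) = m ∧ T.w (σ 0) = 2 * w ∧ T.w (σ 1) = w ∧ T.w (σ 2) = w ∧ T.w (σ 3) = w ∧ T.w (σ 4) = w ∧ T.w (σ 5) = w ∧ T.w (σ 6) = 2 * w ∧ T.a (σ 0) (σ 0) = -4 * w ∧ T.a (σ 0) (σ 1) = 2 * w ∧ T.a (σ 0) (σ 2) = 0 ∧ T.a (σ 0) (σ 3) = 0 ∧ T.a (σ 0) (σ 4) = 0 ∧ T.a (σ 0) (σ 5) = 0 ∧ T.a (σ 0) (σ 6) = 0 ∧ T.a (σ 1) (σ 1) = -2 * w ∧ T.a (σ 1) (σ 2) = w ∧ T.a (σ 1) (σ 3) = 0 ∧ T.a (σ 1) (σ 4) = 0 ∧ T.a (σ 1) (σ 5) = 0 ∧ T.a (σ 1) (σ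 6) = 0 ∧ T.a (σ 2) (σ 2) = -2 * w ∧ T.a (σ 2) (σ 3) = w ∧ T.a (σ 2) (σ 4) = 0 ∧ T.a (σ 2) (σ 5) = 0 ∧ T.a (σ 2) (σ 6) = 0 ∧ T.a (σ 3) (σ 3) = -2 * w ∧ T.a (σ 3) (σ 4) = w ∧ T.a (σ 3) (σ 5) = 0 ∧ T.a (σ 3) (σ 6) = 0 ∧ T.a (σ 4) (σ 4) = -2 * w ∧ T.a (σ 4) (σ 5) = w ∧ T.a (σ 4) (σ 6) = 0 ∧ T.a (σ 5) (σ 5) = -2 * w ∧ T.a (σ 5) (σ 6) = 2 * w ∧ T.a (σ 6) (σ 6) = -4 * w) ∨ (T.m (σ 0) = m ∧ T.m (σ 1) = 2 * m ∧ T.m (σ 2) = 2 * m ∧ T.m (σ 3) = 2 * m ∧ T.m (σ 4) = 2 * m ∧ T.m (σ 5) = m ∧ T.m (σ 6) = m ∧ T.w (σ 0) = 2 * w ∧ T.w (σ 1) = w ∧ T.w (σ 2) = w ∧ T.w (σ 3) = w ∧ T.w (σ 4) = w ∧ T.w (σ 5) = w ∧ T.w (σ 6) = w ∧ T.a (σ 0) (σ 0) = -4 * w ∧ T.a (σ 0) (σ 1) = 2 * w ∧ T.a (σ 0) (σ 2) = 0 ∧ T.a (σ 0) (σ 3) = 0 ∧ T.a (σ 0) (σ 4) = 0 ∧ T.a (σ 0) (σ 5) = 0 ∧ T.a (σ 0) (σ 6) = 0 ∧ T.a (σ 1) (σ 1) = -2 * w ∧ T.a (σ 1) (σ 2) = w ∧ T.a (σ 1) (σ 3) = 0 ∧ T.a (σ 1) (σ 4) = 0 ∧ T.a (σ 1) (σ 5) = 0 ∧ T.a (σ 1) (σ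 6) = 0 ∧ T.a (σ 2) (σ 2) = -2 * w ∧ T.a (σ 2) (σ 3) = w ∧ T.a (σ 2) (σ 4) = 0 ∧ T.a (σ 2) (σ 5) = 0 ∧ T.a (σ 2) (σ 6) = 0 ∧ T.a (σ 3) (σ 3) = -2 * w ∧ T.a (σ 3) (σ 4) = w ∧ T.a (σ 3) (σ 5) = 0 ∧ T.a (σ 3) (σ 6) = 0 ∧ T.a (σ 4) (σ 4) = -2 * w ∧ T.a (σ 4) (σ 5) = w ∧ T.a (σ 4) (σ 6) = w ∧ T.a (σ 5) (σ 5) = -2 * w ∧ T.a (σ 5) (σ 6) = 0 ∧ T.a (σ 6) (σ 6) = -2 * w) ∨ (T.m (σ 0) = 2 * m ∧ T.m (σ 1) = 2 * m ∧ T.m (σ 2) = 2 * m ∧ T.m (σ 3) = 2 * m ∧ T.m (σ 4) = 2 * m ∧ T.m (σ 5) = m ∧ T.m (σ 6) = m ∧ T.w (σ 0) = w ∧ T.w (σ 1) = 2 * w ∧ T.w (σ 2) = 2 * w ∧ T.w (σ 3) = 2 * w ∧ T.w (σ 4) = 2 * w ∧ T.w (σ 5) = 2 * w ∧ T.w (σ 6) = 2 * w ∧ T.a (σ 0) (σ 0) = -2 * w ∧ T.a (σ 0) (σ 1) = 2 * w ∧ T.a (σ 0) (σ 2) = 0 ∧ T.a (σ 0) (σ 3) = 0 ∧ T.a (σ 0) (σ 4) = 0 ∧ T.a (σ 0) (σ 5) = 0 ∧ T.a (σ 0) (σ 6) = 0 ∧ T.a (σ 1) (σ 1) = -4 * w ∧ T.a (σ 1) (σ 2) = 2 * w ∧ T.a (σ 1) (σ 3) = 0 ∧ T.a (σ 1) (σ 4) = 0 ∧ T.a (σ 1)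 (σ 5) = 0 ∧ T.a (σ 1) (σ 6) = 0 ∧ T.a (σ 2) (σ 2) = -4 * w ∧ T.a (σ 2) (σ 3) = 2 * w ∧ T.a (σ 2) (σ 4) = 0 ∧ T.a (σ 2) (σ 5) = 0 ∧ T.a (σ 2) (σ 6) = 0 ∧ T.a (σ 3) (σ 3) = -4 * w ∧ T.a (σ 3) (σ 4) = 2 * w ∧ T.a (σ 3) (σ 5) = 0 ∧ T.a (σ 3) (σ 6) = 0 ∧ T.a (σ 4) (σ 4) = -4 * w ∧ T.a (σ 4) (σ 5) = 2 * w ∧ T.a (σ 4) (σ 6) = 2 * w ∧ T.a (σ 5) (σ 5) = -4 * w ∧ T.a (σ 5) (σ 6) = 0 ∧ T.a (σ 6) (σ 6) = -4 * w) ∨ (T.m (σ 0) = m ∧ T.m (σ 1) = m ∧ T.m (σ 2) = 2 * m ∧ T.m (σ 3) = 2 * m ∧ T.m (σ 4) = 2 * m ∧ T.m (σ 5) = m ∧ T.m (σ 6) = m ∧ T.w (σ 0) = w ∧ T.w (σ 1) = w ∧ T.w (σ 2) = w ∧ T.w (σ 3) = w ∧ T.w (σ 4) = w ∧ T.w (σ 5) = w ∧ T.w (σ 6) = w ∧ T.a (σ 0) (σ 0) = -2 * w ∧ T.a (σ 0) (σ 1) = 0 ∧ T.a (σ 0) (σ 2) = w ∧ T.a (σ 0) (σ 3) = 0 ∧ T.a (σ 0) (σ 4) = 0 ∧ T.a (σ 0) (σ 5) = 0 ∧ T.a (σ 0) (σ 6) = 0 ∧ T.a (σ 1) (σ 1) = -2 * w ∧ T.a (σ 1) (σ 2) = w ∧ T.a (σ 1) (σ 3) = 0 ∧ T.a (σ 1) (σ 4) = 0 ∧ T.a (σ 1)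 (σ 5) = 0 ∧ T.a (σ 1) (σ 6) = 0 ∧ T.a (σ 2) (σ 2) = -2 * w ∧ T.a (σ 2) (σ 3) = w ∧ T.a (σ 2) (σ 4) = 0 ∧ T.a (σ 2) (σ 5) = 0 ∧ T.a (σ 2) (σ 6) = 0 ∧ T.a (σ 3) (σ 3) = -2 * w ∧ T.a (σ 3) (σ 4) = w ∧ T.a (σ 3) (σ 5) = 0 ∧ T.a (σ 3) (σ 6) = 0 ∧ T.a (σ 4) (σ 4) = -2 * w ∧ T.a (σ 4) (σ 5) = w ∧ T.a (σ 4) (σ 6) = w ∧ T.a (σ 5) (σ 5) = -2 * w ∧ T.a (σ 5) (σ 6) = 0 ∧ T.a (σ 6) (σ 6) = -2 * w) ∨ (T.m (σ 0) = m ∧ T.m (σ 1) = 2 * m ∧ T.m (σ 2) = 3 * m ∧ T.m (σ 3) = m ∧ T.m (σ 4) = 2 * m ∧ T.m (σ 5) = m ∧ T.m (σ 6) = 2 * m ∧ T.w (σ 0) = w ∧ T.w (σ 1) = w ∧ T.w (σ 2) = w ∧ T.w (σ 3) = w ∧ T.w (σ 4) = w ∧ T.w (σ 5) = w ∧ T.w (σ 6) = w ∧ T.a (σ 0) (σ 0) = -2 * w ∧ T.a (σ 0) (σ 1) = w ∧ T.a (σ 0) (σ 2) = 0 ∧ T.a (σ 0) (σ 3) = 0 ∧ T.a (σ 0) (σ 4) = 0 ∧ T.a (σ 0) (σ 5) = 0 ∧ T.a (σ 0) (σ 6) = 0 ∧ T.a (σ 1) (σ 1) = -2 * w ∧ T.a (σ 1) (σ 2) = w ∧ T.a (σ 1) (σ 3) = 0 ∧ T.a (σ 1) (σ 4) = 0 ∧ T.a (σ 1) (σ 5) = 0 ∧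 T.a (σ 1) (σ 6) = 0 ∧ T.a (σ 2) (σ 2) = -2 * w ∧ T.a (σ 2) (σ 3) = 0 ∧ T.a (σ 2) (σ 4) = w ∧ T.a (σ 2) (σ 5) = 0 ∧ T.a (σ 2) (σ 6) = w ∧ T.a (σ 3) (σ 3) = -2 * w ∧ T.a (σ 3) (σ 4) = w ∧ T.a (σ 3) (σ 5) = 0 ∧ T.a (σ 3) (σ 6) = 0 ∧ T.a (σ 4) (σ 4) = -2 * w ∧ T.a (σ 4) (σ 5) = 0 ∧ T.a (σ 4) (σ 6) = 0 ∧ T.a (σ 5) (σ 5) = -2 * w ∧ T.a (σ 5) (σ 6) = w ∧ T.a (σ 6) (σ 6) = -2 * w)) := by
  by_cases hx : ∃ j, (j ≠ u0 ∧ j ≠ u1 ∧ j ≠ u2 ∧ j ≠ u3 ∧ j ≠ u4) ∧ T.a u1 j ≠ 0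
  · obtain ⟨u5, ⟨hn_5_0, hn_5_1, hn_5_2, hn_5_3, hn_5_4⟩, e_1_5⟩ := hx
    have z_0_5 : T.a u0 u5 = 0 := cl_0 u5 ⟨hn_5_0, hn_5_1, hn_5_2⟩
    rcases Groth.Agent.Helper6.NT.edge5 T h2 (by norm_num) u1 u5 hn_5_1.symm e_1_5 with ⟨tw_1_5, tap_1_5, taq_1_5⟩ | ⟨tw_1_5, tap_1_5, taq_1_5⟩ | ⟨tw_1_5, tap_1_5, taq_1_5⟩ | ⟨tw_1_5, tap_1_5, taq_1_5⟩ | ⟨tw_1_5, tap_1_5, taq_1_5⟩
    · -- (1,5) S
      exfalso
      have key := Groth.Agent.Helper6.NT.negfun5 T h2 u0 u1 u3 u4 u5 (by norm_num) 1 2 1 1 1 (by norm_num) (by norm_num)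
      linarith only [key, tap_0_1, taq_0_1, z_0_3, z_0_4, z_0_5, tap_1_3, taq_1_3, tap_1_4, taq_1_4, tap_1_5, taq_1_5, z_3_4, T.offDiag_nonneg u3 u5 hn_5_3.symm, T.offDiag_nonneg u4 u5 hn_5_4.symm, T.w_pos u0, T.w_pos u1, T.w_pos u3, T.w_pos u4, T.w_pos u5]
    · -- (1,5) Dp
      exfalso
      have key := Groth.Agent.Helper6.NT.negfun4 T h2 u1 u3 u4 u5 (by norm_num) 2 1 1 1 (by norm_num) (by norm_num)
      linarith only [key, tap_1_3, taq_1_3, tap_1_4, taq_1_4, tap_1_5, taq_1_5, z_3_4, T.offDiag_nonneg u3 u5 hn_5_3.symm, T.offDiag_nonneg u4 u5 hn_5_4.symm, T.w_pos u1, T.w_pos u3, T.w_pos u4, T.w_pos u5]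
    · -- (1,5) Dm
      exfalso
      have key := Groth.Agent.Helper6.NT.negfun4 T h2 u1 u3 u4 u5 (by norm_num) 2 1 1 2 (by norm_num) (by norm_num)
      linarith only [key, tap_1_3, taq_1_3, tap_1_4, taq_1_4, tap_1_5, taq_1_5, z_3_4, T.offDiag_nonneg u3 u5 hn_5_3.symm, T.offDiag_nonneg u4 u5 hn_5_4.symm, T.w_pos u1, T.w_pos u3, T.w_pos u4, T.w_pos u5]
    · -- (1,5) Tp
      exfalso
      have key := Groth.Agent.Helper6.NT.negfun3 T h2 u1 u4 u5 (by norm_num) 2 1 1 (by norm_num) (by norm_num)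
      linarith only [key, tap_1_4, taq_1_4, tap_1_5, taq_1_5, T.offDiag_nonneg u4 u5 hn_5_4.symm, T.w_pos u1, T.w_pos u4, T.w_pos u5]
    · -- (1,5) Tm
      exfalso
      have key := Groth.Agent.Helper6.NT.negfun3 T h2 u1 u4 u5 (by norm_num) 2 1 3 (by norm_num) (by norm_num)
      linarith only [key, tap_1_4, taq_1_4, tap_1_5, taq_1_5, T.offDiag_nonneg u4 u5 hn_5_4.symm, T.w_pos u1, T.w_pos u4, T.w_pos u5]
  · push Not at hx
    have cl_1 := hx
    clear hx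
    by_cases hx : ∃ j, (j ≠ u0 ∧ j ≠ u1 ∧ j ≠ u2 ∧ j ≠ u3 ∧ j ≠ u4) ∧ T.a u2 j ≠ 0
    · obtain ⟨u5, ⟨hn_5_0, hn_5_1, hn_5_2, hn_5_3, hn_5_4⟩, e_2_5⟩ := hx
      have z_0_5 : T.a u0 u5 = 0 := cl_0 u5 ⟨hn_5_0, hn_5_1, hn_5_2⟩
      have z_1_5 : T.a u1 u5 = 0 := cl_1 u5 ⟨hn_5_0, hn_5_1, hn_5_2, hn_5_3, hn_5_4⟩
      rcases Groth.Agent.Helper6.NT.edge5 T h2 (by norm_num) u2 u5 hn_5_2.symm e_2_5 with ⟨tw_2_5, tap_2_5, taq_2_5⟩ | ⟨tw_2_5, tap_2_5, taq_2_5⟩ | ⟨tw_2_5, tap_2_5, taq_2_5⟩ | ⟨tw_2_5, tap_2_5, taq_2_5⟩ | ⟨tw_2_5, tap_2_5, taq_2_5⟩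
      · -- (2,5) S
        rcases eq_or_ne (T.a u3 u5) 0 with z_3_5 | nz_3_5
        · -- (3,5) zero
          rcases eq_or_ne (T.a u4 u5) 0 with z_4_5 | nz_4_5
          · -- (4,5) zero
            by_cases hx : ∃ j, (j ≠ u0 ∧ j ≠ u1 ∧ j ≠ u2 ∧ j ≠ u3 ∧ j ≠ u4 ∧ j ≠ u5) ∧ T.a u2 j ≠ 0
            · obtain ⟨u6, ⟨hn_6_0, hn_6_1, hn_6_2, hn_6_3, hn_6_4, hn_6_5⟩, e_2_6⟩ := hx
              have z_0_6 : T.a u0 u6 = 0 := cl_0 u6 ⟨hn_6_0, hn_6_1, hn_6_2⟩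
              have z_1_6 : T.a u1 u6 = 0 := cl_1 u6 ⟨hn_6_0, hn_6_1, hn_6_2, hn_6_3, hn_6_4⟩
              rcases Groth.Agent.Helper6.NT.edge5 T h2 (by norm_num) u2 u6 hn_6_2.symm e_2_6 with ⟨tw_2_6, tap_2_6, taq_2_6⟩ | ⟨tw_2_6, tap_2_6, taq_2_6⟩ | ⟨tw_2_6, tap_2_6, taq_2_6⟩ | ⟨tw_2_6, tap_2_6, taq_2_6⟩ | ⟨tw_2_6, tap_2_6, taq_2_6⟩
              · -- (2,6) S
                rcases eq_or_ne (T.a u3 u6) 0 with z_3_6 | nz_3_6
                · -- (3,6) zero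
                  rcases eq_or_ne (T.a u4 u6) 0 with z_4_6 | nz_4_6
                  · -- (4,6) zero
                    rcases eq_or_ne (T.a u5 u6) 0 with z_5_6 | nz_5_6
                    · -- (5,6) zero
                      have hinj := Groth.Agent.Helper6.NT.inj7 u0 u1 u2 u3 u4 u5 u6 hn_1_0 hn_2_0 hn_2_1 hn_3_0 hn_3_1 hn_3_2 hn_4_0 hn_4_1 hn_4_2 hn_4_3 hn_5_0 hn_5_1 hn_5_2 hn_5_3 hn_5_4 hn_6_0 hn_6_1 hn_6_2 hn_6_3 hn_6_4 hn_6_5
                      have r_0 : -2 * T.m u0 + 1 * T.m u1 + 1 * T.m u2 = 0 := by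
                        have key := Groth.Agent.Helper6.NT.rowfun7 T u0 u1 u2 u3 u4 u5 u6 hinj u0
                        rw [(h2 u0).2, tap_0_1, tap_0_2, z_0_3, z_0_4, z_0_5, z_0_6] at key
                        exact mul_left_cancel₀ (T.w_pos u0).ne' (by linarith only [key])
                      have r_1 : 1 * T.m u0 + -2 * T.m u1 + 1 * T.m u3 + 1 * T.m u4 = 0 := by
                        have key := Groth.Agent.Helper6.NT.rowfun7 T u0 u1 u2 u3 u4 u5 u6 hinj u1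
                        rw [Groth.Agent.Helper6.NT.symm' T u1 u0, taq_0_1, (h2 u1).2, z_1_2, tap_1_3, tap_1_4, z_1_5, z_1_6] at key
                        exact mul_left_cancel₀ (T.w_pos u1).ne' (by linarith only [key])
                      have r_2 : 1 * T.m u0 + -2 * T.m u2 + 1 * T.m u5 + 1 * T.m u6 = 0 := by
                        have key := Groth.Agent.Helper6.NT.rowfun7 T u0 u1 u2 u3 u4 u5 u6 hinj u2
                        rw [Groth.Agent.Helper6.NT.symm' T u2 u0, taq_0_2, Groth.Agent.Helper6.NT.symm' T u2 u1, z_1_2, (h2 u2).2, z_2_3, z_2_4, tap_2_5, tap_2_6] at key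
                        exact mul_left_cancel₀ (T.w_pos u2).ne' (by linarith only [key])
                      have r_3 : 1 * T.m u1 + -2 * T.m u3 = 0 := by
                        have key := Groth.Agent.Helper6.NT.rowfun7 T u0 u1 u2 u3 u4 u5 u6 hinj u3
                        rw [Groth.Agent.Helper6.NT.symm' T u3 u0, z_0_3, Groth.Agent.Helper6.NT.symm' T u3 u1, taq_1_3, Groth.Agent.Helper6.NT.symm' T u3 u2, z_2_3, (h2 u3).2, z_3_4, z_3_5, z_3_6] at key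
                        exact mul_left_cancel₀ (T.w_pos u3).ne' (by linarith only [key])
                      have r_4 : 1 * T.m u1 + -2 * T.m u4 = 0 := by
                        have key := Groth.Agent.Helper6.NT.rowfun7 T u0 u1 u2 u3 u4 u5 u6 hinj u4
                        rw [Groth.Agent.Helper6.NT.symm' T u4 u0, z_0_4, Groth.Agent.Helper6.NT.symm' T u4 u1, taq_1_4, Groth.Agent.Helper6.NT.symm' T u4 u2, z_2_4, Groth.Agent.Helper6.NT.symm' T u4 u3, z_3_4, (h2 u4).2, z_4_5, z_4_6] at key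
                        exact mul_left_cancel₀ (T.w_pos u4).ne' (by linarith only [key])
                      have r_5 : 1 * T.m u2 + -2 * T.m u5 = 0 := by
                        have key := Groth.Agent.Helper6.NT.rowfun7 T u0 u1 u2 u3 u4 u5 u6 hinj u5
                        rw [Groth.Agent.Helper6.NT.symm' T u5 u0, z_0_5, Groth.Agent.Helper6.NT.symm' T u5 u1, z_1_5, Groth.Agent.Helper6.NT.symm' T u5 u2, taq_2_5, Groth.Agent.Helper6.NT.symm' T u5 u3, z_3_5, Groth.Agent.Helper6.NT.symm' T u5 u4, z_4_5, (h2 u5).2, z_5_6] at key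
                        exact mul_left_cancel₀ (T.w_pos u5).ne' (by linarith only [key])
                      have r_6 : 1 * T.m u2 + -2 * T.m u6 = 0 := by
                        have key := Groth.Agent.Helper6.NT.rowfun7 T u0 u1 u2 u3 u4 u5 u6 hinj u6
                        rw [Groth.Agent.Helper6.NT.symm' T u6 u0, z_0_6, Groth.Agent.Helper6.NT.symm' T u6 u1, z_1_6, Groth.Agent.Helper6.NT.symm' T u6 u2, taq_2_6, Groth.Agent.Helper6.NT.symm' T u6 u3, z_3_6, Groth.Agent.Helper6.NT.symm' T u6 u4, z_4_6, Groth.Agent.Helper6.NT.symm' T u6 u5, z_5_6, (h2 u6).2] at key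
                        exact mul_left_cancel₀ (T.w_pos u6).ne' (by linarith only [key])
                      have f0 : T.m u3 = T.m u3 := rfl
                      have f1 : T.m u4 = T.m u3 := by linarith only [r_0, r_1, r_2, r_3, r_4, r_5, r_6]
                      have f2 : T.m u1 = 2 * T.m u3 := by linarith only [r_0, r_1, r_2, r_3, r_4, r_5, r_6]
                      have f3 : T.m u0 = 2 * T.m u3 := by linarith only [r_0, r_1, r_2, r_3, r_4, r_5, r_6]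
                      have f4 : T.m u2 = 2 * T.m u3 := by linarith only [r_0, r_1, r_2, r_3, r_4, r_5, r_6]
                      have f5 : T.m u5 = T.m u3 := by linarith only [r_0, r_1, r_2, r_3, r_4, r_5, r_6]
                      have f6 : T.m u6 = T.m u3 := by linarith only [r_0, r_1, r_2, r_3, r_4, r_5, r_6]
                      have f7 : T.w u3 = T.w u3 := rfl
                      have f8 : T.w u4 = T.w u3 := by linarith only [tw_0_1, tw_0_2, tw_1_3, tw_1_4, tw_2_5, tw_2_6]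
                      have f9 : T.w u1 = T.w u3 := by linarith only [tw_0_1, tw_0_2, tw_1_3, tw_1_4, tw_2_5, tw_2_6]
                      have f10 : T.w u0 = T.w u3 := by linarith only [tw_0_1, tw_0_2, tw_1_3, tw_1_4, tw_2_5, tw_2_6]
                      have f11 : T.w u2 = T.w u3 := by linarith only [tw_0_1, tw_0_2, tw_1_3, tw_1_4, tw_2_5, tw_2_6]
                      have f12 : T.w u5 = T.w u3 := by linarith only [tw_0_1, tw_0_2, tw_1_3, tw_1_4, tw_2_5, tw_2_6]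
                      have f13 : T.w u6 = T.w u3 := by linarith only [tw_0_1, tw_0_2, tw_1_3, tw_1_4, tw_2_5, tw_2_6]
                      have f14 : T.a u3 u3 = -2 * T.w u3 := by have := (h2 u3).2; linarith only [this, tw_0_1, tw_0_2, tw_1_3, tw_1_4, tw_2_5, tw_2_6]
                      have f15 : T.a u3 u4 = 0 := by exact z_3_4
                      have f16 : T.a u3 u1 = T.w u3 := by rw [Groth.Agent.Helper6.NT.symm' T u3 u1]; linarith only [tap_1_3, tw_0_1, tw_0_2, tw_1_3, tw_1_4, tw_2_5, tw_2_6]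
                      have f17 : T.a u3 u0 = 0 := by rw [Groth.Agent.Helper6.NT.symm' T u3 u0]; exact z_0_3
                      have f18 : T.a u3 u2 = 0 := by rw [Groth.Agent.Helper6.NT.symm' T u3 u2]; exact z_2_3
                      have f19 : T.a u3 u5 = 0 := by exact z_3_5
                      have f20 : T.a u3 u6 = 0 := by exact z_3_6
                      have f21 : T.a u4 u4 = -2 * T.w u3 := by have := (h2 u4).2; linarith only [this, tw_0_1, tw_0_2, tw_1_3, tw_1_4, tw_2_5, tw_2_6]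
                      have f22 : T.a u4 u1 = T.w u3 := by rw [Groth.Agent.Helper6.NT.symm' T u4 u1]; linarith only [tap_1_4, tw_0_1, tw_0_2, tw_1_3, tw_1_4, tw_2_5, tw_2_6]
                      have f23 : T.a u4 u0 = 0 := by rw [Groth.Agent.Helper6.NT.symm' T u4 u0]; exact z_0_4
                      have f24 : T.a u4 u2 = 0 := by rw [Groth.Agent.Helper6.NT.symm' T u4 u2]; exact z_2_4
                      have f25 : T.a u4 u5 = 0 := by exact z_4_5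
                      have f26 : T.a u4 u6 = 0 := by exact z_4_6
                      have f27 : T.a u1 u1 = -2 * T.w u3 := by have := (h2 u1).2; linarith only [this, tw_0_1, tw_0_2, tw_1_3, tw_1_4, tw_2_5, tw_2_6]
                      have f28 : T.a u1 u0 = T.w u3 := by rw [Groth.Agent.Helper6.NT.symm' T u1 u0]; linarith only [tap_0_1, tw_0_1, tw_0_2, tw_1_3, tw_1_4, tw_2_5, tw_2_6]
                      have f29 : T.a u1 u2 = 0 := by exact z_1_2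
                      have f30 : T.a u1 u5 = 0 := by exact z_1_5
                      have f31 : T.a u1 u6 = 0 := by exact z_1_6
                      have f32 : T.a u0 u0 = -2 * T.w u3 := by have := (h2 u0).2; linarith only [this, tw_0_1, tw_0_2, tw_1_3, tw_1_4, tw_2_5, tw_2_6]
                      have f33 : T.a u0 u2 = T.w u3 := by linarith only [tap_0_2, tw_0_1, tw_0_2, tw_1_3, tw_1_4, tw_2_5, tw_2_6]
                      have f34 : T.a u0 u5 = 0 := by exact z_0_5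
                      have f35 : T.a u0 u6 = 0 := by exact z_0_6
                      have f36 : T.a u2 u2 = -2 * T.w u3 := by have := (h2 u2).2; linarith only [this, tw_0_1, tw_0_2, tw_1_3, tw_1_4, tw_2_5, tw_2_6]
                      have f37 : T.a u2 u5 = T.w u3 := by linarith only [tap_2_5, tw_0_1, tw_0_2, tw_1_3, tw_1_4, tw_2_5, tw_2_6]
                      have f38 : T.a u2 u6 = T.w u3 := by linarith only [tap_2_6, tw_0_1, tw_0_2, tw_1_3, tw_1_4, tw_2_5, tw_2_6]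
                      have f39 : T.a u5 u5 = -2 * T.w u3 := by have := (h2 u5).2; linarith only [this, tw_0_1, tw_0_2, tw_1_3, tw_1_4, tw_2_5, tw_2_6]
                      have f40 : T.a u5 u6 = 0 := by exact z_5_6
                      have f41 : T.a u6 u6 = -2 * T.w u3 := by have := (h2 u6).2; linarith only [this, tw_0_1, tw_0_2, tw_1_3, tw_1_4, tw_2_5, tw_2_6]
                      have hsig := Groth.Agent.Helper6.NT.inj7 u3 u4 u1 u0 u2 u5 u6 hn_4_3 hn_3_1.symm hn_4_1.symm hn_3_0.symm hn_4_0.symm hn_1_0.symm hn_3_2.symm hn_4_2.symm hn_2_1 hn_2_0 hn_5_3 hn_5_4 hn_5_1 hn_5_0 hn_5_2 hn_6_3 hn_6_4 hn_6_1 hn_6_0 hn_6_2 hn_6_5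
                      exact ⟨Equiv.ofBijective _ (Finite.injective_iff_bijective.1 hsig), T.m u3, T.w u3, Or.inr (Or.inr (Or.inr (Or.inr (Or.inr (Or.inr (Or.inl ⟨f0, f1, f2, f3, f4, f5, f6, f7, f8, f9, f10, f11, f12, f13, f14, f15, f16, f17, f18, f19, f20, f21, f22, f23, f24, f25, f26, f27, f28, f29, f30, f31, f32, f33, f34, f35, f36, f37, f38, f39, f40, f41⟩))))))⟩
                    · -- (5,6) nonzero
                      obtain ⟨lbp_5_6, lbq_5_6⟩ := Groth.Agent.Helper6.NT.lb T u5 u6 hn_6_5.symm nz_5_6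
                      exfalso
                      have key := Groth.Agent.Helper6.NT.negfun3 T h2 u2 u5 u6 (by norm_num) 1 1 1 (by norm_num) (by norm_num)
                      linarith only [key, tap_2_5, taq_2_5, tap_2_6, taq_2_6, lbp_5_6, lbq_5_6, T.w_pos u2, T.w_pos u5, T.w_pos u6]
                  · -- (4,6) nonzero
                    obtain ⟨lbp_4_6, lbq_4_6⟩ := Groth.Agent.Helper6.NT.lb T u4 u6 hn_6_4.symm nz_4_6
                    exfalso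
                    have key := Groth.Agent.Helper6.NT.negfun5 T h2 u0 u1 u2 u4 u6 (by norm_num) 1 1 1 1 1 (by norm_num) (by norm_num)
                    linarith only [key, tap_0_1, taq_0_1, tap_0_2, taq_0_2, z_0_4, z_0_6, z_1_2, tap_1_4, taq_1_4, z_1_6, z_2_4, tap_2_6, taq_2_6, lbp_4_6, lbq_4_6, T.w_pos u0, T.w_pos u1, T.w_pos u2, T.w_pos u4, T.w_pos u6]
                · -- (3,6) nonzero
                  obtain ⟨lbp_3_6, lbq_3_6⟩ := Groth.Agent.Helper6.NT.lb T u3 u6 hn_6_3.symm nz_3_6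
                  exfalso
                  have key := Groth.Agent.Helper6.NT.negfun5 T h2 u0 u1 u2 u3 u6 (by norm_num) 1 1 1 1 1 (by norm_num) (by norm_num)
                  linarith only [key, tap_0_1, taq_0_1, tap_0_2, taq_0_2, z_0_3, z_0_6, z_1_2, tap_1_3, taq_1_3, z_1_6, z_2_3, tap_2_6, taq_2_6, lbp_3_6, lbq_3_6, T.w_pos u0, T.w_pos u1, T.w_pos u2, T.w_pos u3, T.w_pos u6]
              · -- (2,6) Dp
                exfalso
                have key := Groth.Agent.Helper6.NT.negfun4 T h2 u0 u2 u5 u6 (by norm_num) 1 2 1 1 (by norm_num) (by norm_num)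
                linarith only [key, tap_0_2, taq_0_2, z_0_5, z_0_6, tap_2_5, taq_2_5, tap_2_6, taq_2_6, T.offDiag_nonneg u5 u6 hn_6_5.symm, T.w_pos u0, T.w_pos u2, T.w_pos u5, T.w_pos u6]
              · -- (2,6) Dm
                exfalso
                have key := Groth.Agent.Helper6.NT.negfun4 T h2 u0 u2 u5 u6 (by norm_num) 1 2 1 2 (by norm_num) (by norm_num)
                linarith only [key, tap_0_2, taq_0_2, z_0_5, z_0_6, tap_2_5, taq_2_5, tap_2_6, taq_2_6, T.offDiag_nonneg u5 u6 hn_6_5.symm, T.w_pos u0, T.w_pos u2, T.w_pos u5, T.w_pos u6]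
              · -- (2,6) Tp
                exfalso
                have key := Groth.Agent.Helper6.NT.negfun3 T h2 u2 u5 u6 (by norm_num) 2 1 1 (by norm_num) (by norm_num)
                linarith only [key, tap_2_5, taq_2_5, tap_2_6, taq_2_6, T.offDiag_nonneg u5 u6 hn_6_5.symm, T.w_pos u2, T.w_pos u5, T.w_pos u6]
              · -- (2,6) Tm
                exfalso
                have key := Groth.Agent.Helper6.NT.negfun3 T h2 u2 u5 u6 (by norm_num) 2 1 3 (by norm_num) (by norm_num)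
                linarith only [key, tap_2_5, taq_2_5, tap_2_6, taq_2_6, T.offDiag_nonneg u5 u6 hn_6_5.symm, T.w_pos u2, T.w_pos u5, T.w_pos u6]
            · push Not at hx
              have cl_2 := hx
              clear hx
              by_cases hx : ∃ j, (j ≠ u0 ∧ j ≠ u1 ∧ j ≠ u2 ∧ j ≠ u3 ∧ j ≠ u4 ∧ j ≠ u5) ∧ T.a u3 j ≠ 0
              · obtain ⟨u6, ⟨hn_6_0, hn_6_1, hn_6_2, hn_6_3, hn_6_4, hn_6_5⟩, e_3_6⟩ := hx
                have z_0_6 : T.a u0 u6 = 0 := cl_0 u6 ⟨hn_6_0, hn_6_1, hn_6_2⟩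
                have z_1_6 : T.a u1 u6 = 0 := cl_1 u6 ⟨hn_6_0, hn_6_1, hn_6_2, hn_6_3, hn_6_4⟩
                have z_2_6 : T.a u2 u6 = 0 := cl_2 u6 ⟨hn_6_0, hn_6_1, hn_6_2, hn_6_3, hn_6_4, hn_6_5⟩
                rcases Groth.Agent.Helper6.NT.edge5 T h2 (by norm_num) u3 u6 hn_6_3.symm e_3_6 with ⟨tw_3_6, tap_3_6, taq_3_6⟩ | ⟨tw_3_6, tap_3_6, taq_3_6⟩ | ⟨tw_3_6, tap_3_6, taq_3_6⟩ | ⟨tw_3_6, tap_3_6, taq_3_6⟩ | ⟨tw_3_6, tap_3_6, taq_3_6⟩
                · -- (3,6) S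
                  rcases eq_or_ne (T.a u4 u6) 0 with z_4_6 | nz_4_6
                  · -- (4,6) zero
                    rcases eq_or_ne (T.a u5 u6) 0 with z_5_6 | nz_5_6
                    · -- (5,6) zero
                      have hinj := Groth.Agent.Helper6.NT.inj7 u0 u1 u2 u3 u4 u5 u6 hn_1_0 hn_2_0 hn_2_1 hn_3_0 hn_3_1 hn_3_2 hn_4_0 hn_4_1 hn_4_2 hn_4_3 hn_5_0 hn_5_1 hn_5_2 hn_5_3 hn_5_4 hn_6_0 hn_6_1 hn_6_2 hn_6_3 hn_6_4 hn_6_5
                      have r_0 : -2 * T.m u0 + 1 * T.m u1 + 1 * T.m u2 = 0 := by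
                        have key := Groth.Agent.Helper6.NT.rowfun7 T u0 u1 u2 u3 u4 u5 u6 hinj u0
                        rw [(h2 u0).2, tap_0_1, tap_0_2, z_0_3, z_0_4, z_0_5, z_0_6] at key
                        exact mul_left_cancel₀ (T.w_pos u0).ne' (by linarith only [key])
                      have r_1 : 1 * T.m u0 + -2 * T.m u1 + 1 * T.m u3 + 1 * T.m u4 = 0 := by
                        have key := Groth.Agent.Helper6.NT.rowfun7 T u0 u1 u2 u3 u4 u5 u6 hinj u1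
                        rw [Groth.Agent.Helper6.NT.symm' T u1 u0, taq_0_1, (h2 u1).2, z_1_2, tap_1_3, tap_1_4, z_1_5, z_1_6] at key
                        exact mul_left_cancel₀ (T.w_pos u1).ne' (by linarith only [key])
                      have r_2 : 1 * T.m u0 + -2 * T.m u2 + 1 * T.m u5 = 0 := by
                        have key := Groth.Agent.Helper6.NT.rowfun7 T u0 u1 u2 u3 u4 u5 u6 hinj u2
                        rw [Groth.Agent.Helper6.NT.symm' T u2 u0, taq_0_2, Groth.Agent.Helper6.NT.symm' T u2 u1, z_1_2, (h2 u2).2, z_2_3, z_2_4, tap_2_5, z_2_6] at key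
                        exact mul_left_cancel₀ (T.w_pos u2).ne' (by linarith only [key])
                      have r_3 : 1 * T.m u1 + -2 * T.m u3 + 1 * T.m u6 = 0 := by
                        have key := Groth.Agent.Helper6.NT.rowfun7 T u0 u1 u2 u3 u4 u5 u6 hinj u3
                        rw [Groth.Agent.Helper6.NT.symm' T u3 u0, z_0_3, Groth.Agent.Helper6.NT.symm' T u3 u1, taq_1_3, Groth.Agent.Helper6.NT.symm' T u3 u2, z_2_3, (h2 u3).2, z_3_4, z_3_5, tap_3_6] at key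
                        exact mul_left_cancel₀ (T.w_pos u3).ne' (by linarith only [key])
                      have r_4 : 1 * T.m u1 + -2 * T.m u4 = 0 := by
                        have key := Groth.Agent.Helper6.NT.rowfun7 T u0 u1 u2 u3 u4 u5 u6 hinj u4
                        rw [Groth.Agent.Helper6.NT.symm' T u4 u0, z_0_4, Groth.Agent.Helper6.NT.symm' T u4 u1, taq_1_4, Groth.Agent.Helper6.NT.symm' T u4 u2, z_2_4, Groth.Agent.Helper6.NT.symm' T u4 u3, z_3_4, (h2 u4).2, z_4_5, z_4_6] at key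
                        exact mul_left_cancel₀ (T.w_pos u4).ne' (by linarith only [key])
                      have r_5 : 1 * T.m u2 + -2 * T.m u5 = 0 := by
                        have key := Groth.Agent.Helper6.NT.rowfun7 T u0 u1 u2 u3 u4 u5 u6 hinj u5
                        rw [Groth.Agent.Helper6.NT.symm' T u5 u0, z_0_5, Groth.Agent.Helper6.NT.symm' T u5 u1, z_1_5, Groth.Agent.Helper6.NT.symm' T u5 u2, taq_2_5, Groth.Agent.Helper6.NT.symm' T u5 u3, z_3_5, Groth.Agent.Helper6.NT.symm' T u5 u4, z_4_5, (h2 u5).2, z_5_6] at key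
                        exact mul_left_cancel₀ (T.w_pos u5).ne' (by linarith only [key])
                      have r_6 : 1 * T.m u3 + -2 * T.m u6 = 0 := by
                        have key := Groth.Agent.Helper6.NT.rowfun7 T u0 u1 u2 u3 u4 u5 u6 hinj u6
                        rw [Groth.Agent.Helper6.NT.symm' T u6 u0, z_0_6, Groth.Agent.Helper6.NT.symm' T u6 u1, z_1_6, Groth.Agent.Helper6.NT.symm' T u6 u2, z_2_6, Groth.Agent.Helper6.NT.symm' T u6 u3, taq_3_6, Groth.Agent.Helper6.NT.symm' T u6 u4, z_4_6, Groth.Agent.Helper6.NT.symm' T u6 u5, z_5_6, (h2 u6).2] at key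
                        exact mul_left_cancel₀ (T.w_pos u6).ne' (by linarith only [key])
                      exfalso
                      linarith only [r_0, r_1, r_2, r_3, r_4, r_5, r_6, T.m_pos u0, T.m_pos u1, T.m_pos u2, T.m_pos u3, T.m_pos u4, T.m_pos u5, T.m_pos u6]
                    · -- (5,6) nonzero
                      obtain ⟨lbp_5_6, lbq_5_6⟩ := Groth.Agent.Helper6.NT.lb T u5 u6 hn_6_5.symm nz_5_6
                      exfalso
                      have key := Groth.Agent.Helper6.NT.negfun6 T h2 u0 u1 u2 u3 u5 u6 (by norm_num) 1 1 1 1 1 1 (by norm_num) (by norm_num)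
                      linarith only [key, tap_0_1, taq_0_1, tap_0_2, taq_0_2, z_0_3, z_0_5, z_0_6, z_1_2, tap_1_3, taq_1_3, z_1_5, z_1_6, z_2_3, tap_2_5, taq_2_5, z_2_6, z_3_5, tap_3_6, taq_3_6, lbp_5_6, lbq_5_6, T.w_pos u0, T.w_pos u1, T.w_pos u2, T.w_pos u3, T.w_pos u5, T.w_pos u6]
                  · -- (4,6) nonzero
                    obtain ⟨lbp_4_6, lbq_4_6⟩ := Groth.Agent.Helper6.NT.lb T u4 u6 hn_6_4.symm nz_4_6
                    exfalso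
                    have key := Groth.Agent.Helper6.NT.negfun4 T h2 u1 u3 u4 u6 (by norm_num) 1 1 1 1 (by norm_num) (by norm_num)
                    linarith only [key, tap_1_3, taq_1_3, tap_1_4, taq_1_4, z_1_6, z_3_4, tap_3_6, taq_3_6, lbp_4_6, lbq_4_6, T.w_pos u1, T.w_pos u3, T.w_pos u4, T.w_pos u6]
                · -- (3,6) Dp
                  exfalso
                  have key := Groth.Agent.Helper6.NT.negfun5 T h2 u0 u1 u3 u4 u6 (by norm_num) 1 2 2 1 1 (by norm_num) (by norm_num)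
                  linarith only [key, tap_0_1, taq_0_1, z_0_3, z_0_4, z_0_6, tap_1_3, taq_1_3, tap_1_4, taq_1_4, z_1_6, z_3_4, tap_3_6, taq_3_6, T.offDiag_nonneg u4 u6 hn_6_4.symm, T.w_pos u0, T.w_pos u1, T.w_pos u3, T.w_pos u4, T.w_pos u6]
                · -- (3,6) Dm
                  exfalso
                  have key := Groth.Agent.Helper6.NT.negfun5 T h2 u0 u1 u3 u4 u6 (by norm_num) 1 2 2 1 2 (by norm_num) (by norm_num)
                  linarith only [key, tap_0_1, taq_0_1, z_0_3, z_0_4, z_0_6, tap_1_3, taq_1_3, tap_1_4, taq_1_4, z_1_6, z_3_4, tap_3_6, taq_3_6, T.offDiag_nonneg u4 u6 hn_6_4.symm, T.w_pos u0, T.w_pos u1, T.w_pos u3, T.w_pos u4, T.w_pos u6]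
                · -- (3,6) Tp
                  exfalso
                  have key := Groth.Agent.Helper6.NT.negfun3 T h2 u1 u3 u6 (by norm_num) 1 2 1 (by norm_num) (by norm_num)
                  linarith only [key, tap_1_3, taq_1_3, z_1_6, tap_3_6, taq_3_6, T.w_pos u1, T.w_pos u3, T.w_pos u6]
                · -- (3,6) Tm
                  exfalso
                  have key := Groth.Agent.Helper6.NT.negfun3 T h2 u1 u3 u6 (by norm_num) 1 2 3 (by norm_num) (by norm_num)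
                  linarith only [key, tap_1_3, taq_1_3, z_1_6, tap_3_6, taq_3_6, T.w_pos u1, T.w_pos u3, T.w_pos u6]
              · push Not at hx
                have cl_3 := hx
                clear hx
                by_cases hx : ∃ j, (j ≠ u0 ∧ j ≠ u1 ∧ j ≠ u2 ∧ j ≠ u3 ∧ j ≠ u4 ∧ j ≠ u5) ∧ T.a u4 j ≠ 0
                · obtain ⟨u6, ⟨hn_6_0, hn_6_1, hn_6_2, hn_6_3, hn_6_4, hn_6_5⟩, e_4_6⟩ := hx
                  have z_0_6 : T.a u0 u6 = 0 := cl_0 u6 ⟨hn_6_0, hn_6_1, hn_6_2⟩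
                  have z_1_6 : T.a u1 u6 = 0 := cl_1 u6 ⟨hn_6_0, hn_6_1, hn_6_2, hn_6_3, hn_6_4⟩
                  have z_2_6 : T.a u2 u6 = 0 := cl_2 u6 ⟨hn_6_0, hn_6_1, hn_6_2, hn_6_3, hn_6_4, hn_6_5⟩
                  have z_3_6 : T.a u3 u6 = 0 := cl_3 u6 ⟨hn_6_0, hn_6_1, hn_6_2, hn_6_3, hn_6_4, hn_6_5⟩
                  rcases Groth.Agent.Helper6.NT.edge5 T h2 (by norm_num) u4 u6 hn_6_4.symm e_4_6 with ⟨tw_4_6, tap_4_6, taq_4_6⟩ | ⟨tw_4_6, tap_4_6, taq_4_6⟩ | ⟨tw_4_6, tap_4_6, taq_4_6⟩ | ⟨tw_4_6, tap_4_6, taq_4_6⟩ | ⟨tw_4_6, tap_4_6, taq_4_6⟩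
                  · -- (4,6) S
                    rcases eq_or_ne (T.a u5 u6) 0 with z_5_6 | nz_5_6
                    · -- (5,6) zero
                      have hinj := Groth.Agent.Helper6.NT.inj7 u0 u1 u2 u3 u4 u5 u6 hn_1_0 hn_2_0 hn_2_1 hn_3_0 hn_3_1 hn_3_2 hn_4_0 hn_4_1 hn_4_2 hn_4_3 hn_5_0 hn_5_1 hn_5_2 hn_5_3 hn_5_4 hn_6_0 hn_6_1 hn_6_2 hn_6_3 hn_6_4 hn_6_5
                      have r_0 : -2 * T.m u0 + 1 * T.m u1 + 1 * T.m u2 = 0 := by
                        have key := Groth.Agent.Helper6.NT.rowfun7 T u0 u1 u2 u3 u4 u5 u6 hinj u0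
                        rw [(h2 u0).2, tap_0_1, tap_0_2, z_0_3, z_0_4, z_0_5, z_0_6] at key
                        exact mul_left_cancel₀ (T.w_pos u0).ne' (by linarith only [key])
                      have r_1 : 1 * T.m u0 + -2 * T.m u1 + 1 * T.m u3 + 1 * T.m u4 = 0 := by
                        have key := Groth.Agent.Helper6.NT.rowfun7 T u0 u1 u2 u3 u4 u5 u6 hinj u1
                        rw [Groth.Agent.Helper6.NT.symm' T u1 u0, taq_0_1, (h2 u1).2, z_1_2, tap_1_3, tap_1_4, z_1_5, z_1_6] at key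
                        exact mul_left_cancel₀ (T.w_pos u1).ne' (by linarith only [key])
                      have r_2 : 1 * T.m u0 + -2 * T.m u2 + 1 * T.m u5 = 0 := by
                        have key := Groth.Agent.Helper6.NT.rowfun7 T u0 u1 u2 u3 u4 u5 u6 hinj u2
                        rw [Groth.Agent.Helper6.NT.symm' T u2 u0, taq_0_2, Groth.Agent.Helper6.NT.symm' T u2 u1, z_1_2, (h2 u2).2, z_2_3, z_2_4, tap_2_5, z_2_6] at key
                        exact mul_left_cancel₀ (T.w_pos u2).ne' (by linarith only [key])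
                      have r_3 : 1 * T.m u1 + -2 * T.m u3 = 0 := by
                        have key := Groth.Agent.Helper6.NT.rowfun7 T u0 u1 u2 u3 u4 u5 u6 hinj u3
                        rw [Groth.Agent.Helper6.NT.symm' T u3 u0, z_0_3, Groth.Agent.Helper6.NT.symm' T u3 u1, taq_1_3, Groth.Agent.Helper6.NT.symm' T u3 u2, z_2_3, (h2 u3).2, z_3_4, z_3_5, z_3_6] at key
                        exact mul_left_cancel₀ (T.w_pos u3).ne' (by linarith only [key])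
                      have r_4 : 1 * T.m u1 + -2 * T.m u4 + 1 * T.m u6 = 0 := by
                        have key := Groth.Agent.Helper6.NT.rowfun7 T u0 u1 u2 u3 u4 u5 u6 hinj u4
                        rw [Groth.Agent.Helper6.NT.symm' T u4 u0, z_0_4, Groth.Agent.Helper6.NT.symm' T u4 u1, taq_1_4, Groth.Agent.Helper6.NT.symm' T u4 u2, z_2_4, Groth.Agent.Helper6.NT.symm' T u4 u3, z_3_4, (h2 u4).2, z_4_5, tap_4_6] at key
                        exact mul_left_cancel₀ (T.w_pos u4).ne' (by linarith only [key])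
                      have r_5 : 1 * T.m u2 + -2 * T.m u5 = 0 := by
                        have key := Groth.Agent.Helper6.NT.rowfun7 T u0 u1 u2 u3 u4 u5 u6 hinj u5
                        rw [Groth.Agent.Helper6.NT.symm' T u5 u0, z_0_5, Groth.Agent.Helper6.NT.symm' T u5 u1, z_1_5, Groth.Agent.Helper6.NT.symm' T u5 u2, taq_2_5, Groth.Agent.Helper6.NT.symm' T u5 u3, z_3_5, Groth.Agent.Helper6.NT.symm' T u5 u4, z_4_5, (h2 u5).2, z_5_6] at key
                        exact mul_left_cancel₀ (T.w_pos u5).ne' (by linarith only [key])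
                      have r_6 : 1 * T.m u4 + -2 * T.m u6 = 0 := by
                        have key := Groth.Agent.Helper6.NT.rowfun7 T u0 u1 u2 u3 u4 u5 u6 hinj u6
                        rw [Groth.Agent.Helper6.NT.symm' T u6 u0, z_0_6, Groth.Agent.Helper6.NT.symm' T u6 u1, z_1_6, Groth.Agent.Helper6.NT.symm' T u6 u2, z_2_6, Groth.Agent.Helper6.NT.symm' T u6 u3, z_3_6, Groth.Agent.Helper6.NT.symm' T u6 u4, taq_4_6, Groth.Agent.Helper6.NT.symm' T u6 u5, z_5_6, (h2 u6).2] at key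
                        exact mul_left_cancel₀ (T.w_pos u6).ne' (by linarith only [key])
                      exfalso
                      linarith only [r_0, r_1, r_2, r_3, r_4, r_5, r_6, T.m_pos u0, T.m_pos u1, T.m_pos u2, T.m_pos u3, T.m_pos u4, T.m_pos u5, T.m_pos u6]
                    · -- (5,6) nonzero
                      obtain ⟨lbp_5_6, lbq_5_6⟩ := Groth.Agent.Helper6.NT.lb T u5 u6 hn_6_5.symm nz_5_6
                      exfalso
                      have key := Groth.Agent.Helper6.NT.negfun6 T h2 u0 u1 u2 u4 u5 u6 (by norm_num) 1 1 1 1 1 1 (by norm_num) (by norm_num)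
                      linarith only [key, tap_0_1, taq_0_1, tap_0_2, taq_0_2, z_0_4, z_0_5, z_0_6, z_1_2, tap_1_4, taq_1_4, z_1_5, z_1_6, z_2_4, tap_2_5, taq_2_5, z_2_6, z_4_5, tap_4_6, taq_4_6, lbp_5_6, lbq_5_6, T.w_pos u0, T.w_pos u1, T.w_pos u2, T.w_pos u4, T.w_pos u5, T.w_pos u6]
                  · -- (4,6) Dp
                    exfalso
                    have key := Groth.Agent.Helper6.NT.negfun5 T h2 u0 u1 u3 u4 u6 (by norm_num) 1 2 1 2 1 (by norm_num) (by norm_num)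
                    linarith only [key, tap_0_1, taq_0_1, z_0_3, z_0_4, z_0_6, tap_1_3, taq_1_3, tap_1_4, taq_1_4, z_1_6, z_3_4, z_3_6, tap_4_6, taq_4_6, T.w_pos u0, T.w_pos u1, T.w_pos u3, T.w_pos u4, T.w_pos u6]
                  · -- (4,6) Dm
                    exfalso
                    have key := Groth.Agent.Helper6.NT.negfun5 T h2 u0 u1 u3 u4 u6 (by norm_num) 1 2 1 2 2 (by norm_num) (by norm_num)
                    linarith only [key, tap_0_1, taq_0_1, z_0_3, z_0_4, z_0_6, tap_1_3, taq_1_3, tap_1_4, taq_1_4, z_1_6, z_3_4, z_3_6, tap_4_6, taq_4_6, T.w_pos u0, T.w_pos u1, T.w_pos u3, T.w_pos u4, T.w_pos u6]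
                  · -- (4,6) Tp
                    exfalso
                    have key := Groth.Agent.Helper6.NT.negfun3 T h2 u1 u4 u6 (by norm_num) 1 2 1 (by norm_num) (by norm_num)
                    linarith only [key, tap_1_4, taq_1_4, z_1_6, tap_4_6, taq_4_6, T.w_pos u1, T.w_pos u4, T.w_pos u6]
                  · -- (4,6) Tm
                    exfalso
                    have key := Groth.Agent.Helper6.NT.negfun3 T h2 u1 u4 u6 (by norm_num) 1 2 3 (by norm_num) (by norm_num)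
                    linarith only [key, tap_1_4, taq_1_4, z_1_6, tap_4_6, taq_4_6, T.w_pos u1, T.w_pos u4, T.w_pos u6]
                · push Not at hx
                  have cl_4 := hx
                  clear hx
                  by_cases hx : ∃ j, (j ≠ u0 ∧ j ≠ u1 ∧ j ≠ u2 ∧ j ≠ u3 ∧ j ≠ u4 ∧ j ≠ u5) ∧ T.a u5 j ≠ 0
                  · obtain ⟨u6, ⟨hn_6_0, hn_6_1, hn_6_2, hn_6_3, hn_6_4, hn_6_5⟩, e_5_6⟩ := hx
                    have z_0_6 : T.a u0 u6 = 0 := cl_0 u6 ⟨hn_6_0, hn_6_1, hn_6_2⟩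
                    have z_1_6 : T.a u1 u6 = 0 := cl_1 u6 ⟨hn_6_0, hn_6_1, hn_6_2, hn_6_3, hn_6_4⟩
                    have z_2_6 : T.a u2 u6 = 0 := cl_2 u6 ⟨hn_6_0, hn_6_1, hn_6_2, hn_6_3, hn_6_4, hn_6_5⟩
                    have z_3_6 : T.a u3 u6 = 0 := cl_3 u6 ⟨hn_6_0, hn_6_1, hn_6_2, hn_6_3, hn_6_4, hn_6_5⟩
                    have z_4_6 : T.a u4 u6 = 0 := cl_4 u6 ⟨hn_6_0, hn_6_1, hn_6_2, hn_6_3, hn_6_4, hn_6_5⟩
                    rcases Groth.Agent.Helper6.NT.edge5 T h2 (by norm_num) u5 u6 hn_6_5.symm e_5_6 with ⟨tw_5_6, tap_5_6, taq_5_6⟩ | ⟨tw_5_6, tap_5_6, taq_5_6⟩ | ⟨tw_5_6, tap_5_6, taq_5_6⟩ | ⟨tw_5_6, tap_5_6, taq_5_6⟩ | ⟨tw_5_6, tap_5_6, taq_5_6⟩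
                    · -- (5,6) S
                      have hinj := Groth.Agent.Helper6.NT.inj7 u0 u1 u2 u3 u4 u5 u6 hn_1_0 hn_2_0 hn_2_1 hn_3_0 hn_3_1 hn_3_2 hn_4_0 hn_4_1 hn_4_2 hn_4_3 hn_5_0 hn_5_1 hn_5_2 hn_5_3 hn_5_4 hn_6_0 hn_6_1 hn_6_2 hn_6_3 hn_6_4 hn_6_5
                      have r_0 : -2 * T.m u0 + 1 * T.m u1 + 1 * T.m u2 = 0 := by
                        have key := Groth.Agent.Helper6.NT.rowfun7 T u0 u1 u2 u3 u4 u5 u6 hinj u0
                        rw [(h2 u0).2, tap_0_1, tap_0_2, z_0_3, z_0_4, z_0_5, z_0_6] at key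
                        exact mul_left_cancel₀ (T.w_pos u0).ne' (by linarith only [key])
                      have r_1 : 1 * T.m u0 + -2 * T.m u1 + 1 * T.m u3 + 1 * T.m u4 = 0 := by
                        have key := Groth.Agent.Helper6.NT.rowfun7 T u0 u1 u2 u3 u4 u5 u6 hinj u1
                        rw [Groth.Agent.Helper6.NT.symm' T u1 u0, taq_0_1, (h2 u1).2, z_1_2, tap_1_3, tap_1_4, z_1_5, z_1_6] at key
                        exact mul_left_cancel₀ (T.w_pos u1).ne' (by linarith only [key])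
                      have r_2 : 1 * T.m u0 + -2 * T.m u2 + 1 * T.m u5 = 0 := by
                        have key := Groth.Agent.Helper6.NT.rowfun7 T u0 u1 u2 u3 u4 u5 u6 hinj u2
                        rw [Groth.Agent.Helper6.NT.symm' T u2 u0, taq_0_2, Groth.Agent.Helper6.NT.symm' T u2 u1, z_1_2, (h2 u2).2, z_2_3, z_2_4, tap_2_5, z_2_6] at key
                        exact mul_left_cancel₀ (T.w_pos u2).ne' (by linarith only [key])
                      have r_3 : 1 * T.m u1 + -2 * T.m u3 = 0 := by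
                        have key := Groth.Agent.Helper6.NT.rowfun7 T u0 u1 u2 u3 u4 u5 u6 hinj u3
                        rw [Groth.Agent.Helper6.NT.symm' T u3 u0, z_0_3, Groth.Agent.Helper6.NT.symm' T u3 u1, taq_1_3, Groth.Agent.Helper6.NT.symm' T u3 u2, z_2_3, (h2 u3).2, z_3_4, z_3_5, z_3_6] at key
                        exact mul_left_cancel₀ (T.w_pos u3).ne' (by linarith only [key])
                      have r_4 : 1 * T.m u1 + -2 * T.m u4 = 0 := by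
                        have key := Groth.Agent.Helper6.NT.rowfun7 T u0 u1 u2 u3 u4 u5 u6 hinj u4
                        rw [Groth.Agent.Helper6.NT.symm' T u4 u0, z_0_4, Groth.Agent.Helper6.NT.symm' T u4 u1, taq_1_4, Groth.Agent.Helper6.NT.symm' T u4 u2, z_2_4, Groth.Agent.Helper6.NT.symm' T u4 u3, z_3_4, (h2 u4).2, z_4_5, z_4_6] at key
                        exact mul_left_cancel₀ (T.w_pos u4).ne' (by linarith only [key])
                      have r_5 : 1 * T.m u2 + -2 * T.m u5 + 1 * T.m u6 = 0 := by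
                        have key := Groth.Agent.Helper6.NT.rowfun7 T u0 u1 u2 u3 u4 u5 u6 hinj u5
                        rw [Groth.Agent.Helper6.NT.symm' T u5 u0, z_0_5, Groth.Agent.Helper6.NT.symm' T u5 u1, z_1_5, Groth.Agent.Helper6.NT.symm' T u5 u2, taq_2_5, Groth.Agent.Helper6.NT.symm' T u5 u3, z_3_5, Groth.Agent.Helper6.NT.symm' T u5 u4, z_4_5, (h2 u5).2, tap_5_6] at key
                        exact mul_left_cancel₀ (T.w_pos u5).ne' (by linarith only [key])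
                      have r_6 : 1 * T.m u5 + -2 * T.m u6 = 0 := by
                        have key := Groth.Agent.Helper6.NT.rowfun7 T u0 u1 u2 u3 u4 u5 u6 hinj u6
                        rw [Groth.Agent.Helper6.NT.symm' T u6 u0, z_0_6, Groth.Agent.Helper6.NT.symm' T u6 u1, z_1_6, Groth.Agent.Helper6.NT.symm' T u6 u2, z_2_6, Groth.Agent.Helper6.NT.symm' T u6 u3, z_3_6, Groth.Agent.Helper6.NT.symm' T u6 u4, z_4_6, Groth.Agent.Helper6.NT.symm' T u6 u5, taq_5_6, (h2 u6).2] at key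
                        exact mul_left_cancel₀ (T.w_pos u6).ne' (by linarith only [key])
                      exfalso
                      linarith only [r_0, r_1, r_2, r_3, r_4, r_5, r_6, T.m_pos u0, T.m_pos u1, T.m_pos u2, T.m_pos u3, T.m_pos u4, T.m_pos u5, T.m_pos u6]
                    · -- (5,6) Dp
                      have hinj := Groth.Agent.Helper6.NT.inj7 u0 u1 u2 u3 u4 u5 u6 hn_1_0 hn_2_0 hn_2_1 hn_3_0 hn_3_1 hn_3_2 hn_4_0 hn_4_1 hn_4_2 hn_4_3 hn_5_0 hn_5_1 hn_5_2 hn_5_3 hn_5_4 hn_6_0 hn_6_1 hn_6_2 hn_6_3 hn_6_4 hn_6_5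
                      have r_0 : -2 * T.m u0 + 1 * T.m u1 + 1 * T.m u2 = 0 := by
                        have key := Groth.Agent.Helper6.NT.rowfun7 T u0 u1 u2 u3 u4 u5 u6 hinj u0
                        rw [(h2 u0).2, tap_0_1, tap_0_2, z_0_3, z_0_4, z_0_5, z_0_6] at key
                        exact mul_left_cancel₀ (T.w_pos u0).ne' (by linarith only [key])
                      have r_1 : 1 * T.m u0 + -2 * T.m u1 + 1 * T.m u3 + 1 * T.m u4 = 0 := by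
                        have key := Groth.Agent.Helper6.NT.rowfun7 T u0 u1 u2 u3 u4 u5 u6 hinj u1
                        rw [Groth.Agent.Helper6.NT.symm' T u1 u0, taq_0_1, (h2 u1).2, z_1_2, tap_1_3, tap_1_4, z_1_5, z_1_6] at key
                        exact mul_left_cancel₀ (T.w_pos u1).ne' (by linarith only [key])
                      have r_2 : 1 * T.m u0 + -2 * T.m u2 + 1 * T.m u5 = 0 := by
                        have key := Groth.Agent.Helper6.NT.rowfun7 T u0 u1 u2 u3 u4 u5 u6 hinj u2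
                        rw [Groth.Agent.Helper6.NT.symm' T u2 u0, taq_0_2, Groth.Agent.Helper6.NT.symm' T u2 u1, z_1_2, (h2 u2).2, z_2_3, z_2_4, tap_2_5, z_2_6] at key
                        exact mul_left_cancel₀ (T.w_pos u2).ne' (by linarith only [key])
                      have r_3 : 1 * T.m u1 + -2 * T.m u3 = 0 := by
                        have key := Groth.Agent.Helper6.NT.rowfun7 T u0 u1 u2 u3 u4 u5 u6 hinj u3
                        rw [Groth.Agent.Helper6.NT.symm' T u3 u0, z_0_3, Groth.Agent.Helper6.NT.symm' T u3 u1, taq_1_3, Groth.Agent.Helper6.NT.symm' T u3 u2, z_2_3, (h2 u3).2, z_3_4, z_3_5, z_3_6] at key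
                        exact mul_left_cancel₀ (T.w_pos u3).ne' (by linarith only [key])
                      have r_4 : 1 * T.m u1 + -2 * T.m u4 = 0 := by
                        have key := Groth.Agent.Helper6.NT.rowfun7 T u0 u1 u2 u3 u4 u5 u6 hinj u4
                        rw [Groth.Agent.Helper6.NT.symm' T u4 u0, z_0_4, Groth.Agent.Helper6.NT.symm' T u4 u1, taq_1_4, Groth.Agent.Helper6.NT.symm' T u4 u2, z_2_4, Groth.Agent.Helper6.NT.symm' T u4 u3, z_3_4, (h2 u4).2, z_4_5, z_4_6] at key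
                        exact mul_left_cancel₀ (T.w_pos u4).ne' (by linarith only [key])
                      have r_5 : 1 * T.m u2 + -2 * T.m u5 + 2 * T.m u6 = 0 := by
                        have key := Groth.Agent.Helper6.NT.rowfun7 T u0 u1 u2 u3 u4 u5 u6 hinj u5
                        rw [Groth.Agent.Helper6.NT.symm' T u5 u0, z_0_5, Groth.Agent.Helper6.NT.symm' T u5 u1, z_1_5, Groth.Agent.Helper6.NT.symm' T u5 u2, taq_2_5, Groth.Agent.Helper6.NT.symm' T u5 u3, z_3_5, Groth.Agent.Helper6.NT.symm' T u5 u4, z_4_5, (h2 u5).2, tap_5_6] at key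
                        exact mul_left_cancel₀ (T.w_pos u5).ne' (by linarith only [key])
                      have r_6 : 1 * T.m u5 + -2 * T.m u6 = 0 := by
                        have key := Groth.Agent.Helper6.NT.rowfun7 T u0 u1 u2 u3 u4 u5 u6 hinj u6
                        rw [Groth.Agent.Helper6.NT.symm' T u6 u0, z_0_6, Groth.Agent.Helper6.NT.symm' T u6 u1, z_1_6, Groth.Agent.Helper6.NT.symm' T u6 u2, z_2_6, Groth.Agent.Helper6.NT.symm' T u6 u3, z_3_6, Groth.Agent.Helper6.NT.symm' T u6 u4, z_4_6, Groth.Agent.Helper6.NT.symm' T u6 u5, taq_5_6, (h2 u6).2] at key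
                        exact mul_left_cancel₀ (T.w_pos u6).ne' (by linarith only [key])
                      have f0 : T.m u6 = T.m u6 := rfl
                      have f1 : T.m u5 = 2 * T.m u6 := by linarith only [r_0, r_1, r_2, r_3, r_4, r_5, r_6]
                      have f2 : T.m u2 = 2 * T.m u6 := by linarith only [r_0, r_1, r_2, r_3, r_4, r_5, r_6]
                      have f3 : T.m u0 = 2 * T.m u6 := by linarith only [r_0, r_1, r_2, r_3, r_4, r_5, r_6]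
                      have f4 : T.m u1 = 2 * T.m u6 := by linarith only [r_0, r_1, r_2, r_3, r_4, r_5, r_6]
                      have f5 : T.m u3 = T.m u6 := by linarith only [r_0, r_1, r_2, r_3, r_4, r_5, r_6]
                      have f6 : T.m u4 = T.m u6 := by linarith only [r_0, r_1, r_2, r_3, r_4, r_5, r_6]
                      have f7 : T.w u6 = 2 * T.w u5 := by linarith only [tw_0_1, tw_0_2, tw_1_3, tw_1_4, tw_2_5, tw_5_6]
                      have f8 : T.w u5 = T.w u5 := rfl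
                      have f9 : T.w u2 = T.w u5 := by linarith only [tw_0_1, tw_0_2, tw_1_3, tw_1_4, tw_2_5, tw_5_6]
                      have f10 : T.w u0 = T.w u5 := by linarith only [tw_0_1, tw_0_2, tw_1_3, tw_1_4, tw_2_5, tw_5_6]
                      have f11 : T.w u1 = T.w u5 := by linarith only [tw_0_1, tw_0_2, tw_1_3, tw_1_4, tw_2_5, tw_5_6]
                      have f12 : T.w u3 = T.w u5 := by linarith only [tw_0_1, tw_0_2, tw_1_3, tw_1_4, tw_2_5, tw_5_6]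
                      have f13 : T.w u4 = T.w u5 := by linarith only [tw_0_1, tw_0_2, tw_1_3, tw_1_4, tw_2_5, tw_5_6]
                      have f14 : T.a u6 u6 = -4 * T.w u5 := by have := (h2 u6).2; linarith only [this, tw_0_1, tw_0_2, tw_1_3, tw_1_4, tw_2_5, tw_5_6]
                      have f15 : T.a u6 u5 = 2 * T.w u5 := by rw [Groth.Agent.Helper6.NT.symm' T u6 u5]; linarith only [tap_5_6, tw_0_1, tw_0_2, tw_1_3, tw_1_4, tw_2_5, tw_5_6]
                      have f16 : T.a u6 u2 = 0 := by rw [Groth.Agent.Helper6.NT.symm' T u6 u2]; exact z_2_6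
                      have f17 : T.a u6 u0 = 0 := by rw [Groth.Agent.Helper6.NT.symm' T u6 u0]; exact z_0_6
                      have f18 : T.a u6 u1 = 0 := by rw [Groth.Agent.Helper6.NT.symm' T u6 u1]; exact z_1_6
                      have f19 : T.a u6 u3 = 0 := by rw [Groth.Agent.Helper6.NT.symm' T u6 u3]; exact z_3_6
                      have f20 : T.a u6 u4 = 0 := by rw [Groth.Agent.Helper6.NT.symm' T u6 u4]; exact z_4_6
                      have f21 : T.a u5 u5 = -2 * T.w u5 := by have := (h2 u5).2; linarith only [this, tw_0_1, tw_0_2, tw_1_3, tw_1_4, tw_2_5, tw_5_6]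
                      have f22 : T.a u5 u2 = T.w u5 := by rw [Groth.Agent.Helper6.NT.symm' T u5 u2]; linarith only [tap_2_5, tw_0_1, tw_0_2, tw_1_3, tw_1_4, tw_2_5, tw_5_6]
                      have f23 : T.a u5 u0 = 0 := by rw [Groth.Agent.Helper6.NT.symm' T u5 u0]; exact z_0_5
                      have f24 : T.a u5 u1 = 0 := by rw [Groth.Agent.Helper6.NT.symm' T u5 u1]; exact z_1_5
                      have f25 : T.a u5 u3 = 0 := by rw [Groth.Agent.Helper6.NT.symm' T u5 u3]; exact z_3_5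
                      have f26 : T.a u5 u4 = 0 := by rw [Groth.Agent.Helper6.NT.symm' T u5 u4]; exact z_4_5
                      have f27 : T.a u2 u2 = -2 * T.w u5 := by have := (h2 u2).2; linarith only [this, tw_0_1, tw_0_2, tw_1_3, tw_1_4, tw_2_5, tw_5_6]
                      have f28 : T.a u2 u0 = T.w u5 := by rw [Groth.Agent.Helper6.NT.symm' T u2 u0]; linarith only [tap_0_2, tw_0_1, tw_0_2, tw_1_3, tw_1_4, tw_2_5, tw_5_6]
                      have f29 : T.a u2 u1 = 0 := by rw [Groth.Agent.Helper6.NT.symm' T u2 u1]; exact z_1_2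
                      have f30 : T.a u2 u3 = 0 := by exact z_2_3
                      have f31 : T.a u2 u4 = 0 := by exact z_2_4
                      have f32 : T.a u0 u0 = -2 * T.w u5 := by have := (h2 u0).2; linarith only [this, tw_0_1, tw_0_2, tw_1_3, tw_1_4, tw_2_5, tw_5_6]
                      have f33 : T.a u0 u1 = T.w u5 := by linarith only [tap_0_1, tw_0_1, tw_0_2, tw_1_3, tw_1_4, tw_2_5, tw_5_6]
                      have f34 : T.a u0 u3 = 0 := by exact z_0_3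
                      have f35 : T.a u0 u4 = 0 := by exact z_0_4
                      have f36 : T.a u1 u1 = -2 * T.w u5 := by have := (h2 u1).2; linarith only [this, tw_0_1, tw_0_2, tw_1_3, tw_1_4, tw_2_5, tw_5_6]
                      have f37 : T.a u1 u3 = T.w u5 := by linarith only [tap_1_3, tw_0_1, tw_0_2, tw_1_3, tw_1_4, tw_2_5, tw_5_6]
                      have f38 : T.a u1 u4 = T.w u5 := by linarith only [tap_1_4, tw_0_1, tw_0_2, tw_1_3, tw_1_4, tw_2_5, tw_5_6]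
                      have f39 : T.a u3 u3 = -2 * T.w u5 := by have := (h2 u3).2; linarith only [this, tw_0_1, tw_0_2, tw_1_3, tw_1_4, tw_2_5, tw_5_6]
                      have f40 : T.a u3 u4 = 0 := by exact z_3_4
                      have f41 : T.a u4 u4 = -2 * T.w u5 := by have := (h2 u4).2; linarith only [this, tw_0_1, tw_0_2, tw_1_3, tw_1_4, tw_2_5, tw_5_6]
                      have hsig := Groth.Agent.Helper6.NT.inj7 u6 u5 u2 u0 u1 u3 u4 hn_6_5.symm hn_6_2.symm hn_5_2.symm hn_6_0.symm hn_5_0.symm hn_2_0.symm hn_6_1.symm hn_5_1.symm hn_2_1.symm hn_1_0 hn_6_3.symm hn_5_3.symm hn_3_2 hn_3_0 hn_3_1 hn_6_4.symm hn_5_4.symm hn_4_2 hn_4_0 hn_4_1 hn_4_3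
                      exact ⟨Equiv.ofBijective _ (Finite.injective_iff_bijective.1 hsig), T.m u6, T.w u5, Or.inr (Or.inr (Or.inr (Or.inr (Or.inl ⟨f0, f1, f2, f3, f4, f5, f6, f7, f8, f9, f10, f11, f12, f13, f14, f15, f16, f17, f18, f19, f20, f21, f22, f23, f24, f25, f26, f27, f28, f29, f30, f31, f32, f33, f34, f35, f36, f37, f38, f39, f40, f41⟩))))⟩
                    · -- (5,6) Dm
                      have hinj := Groth.Agent.Helper6.NT.inj7 u0 u1 u2 u3 u4 u5 u6 hn_1_0 hn_2_0 hn_2_1 hn_3_0 hn_3_1 hn_3_2 hn_4_0 hn_4_1 hn_4_2 hn_4_3 hn_5_0 hn_5_1 hn_5_2 hn_5_3 hn_5_4 hn_6_0 hn_6_1 hn_6_2 hn_6_3 hn_6_4 hn_6_5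
                      have r_0 : -2 * T.m u0 + 1 * T.m u1 + 1 * T.m u2 = 0 := by
                        have key := Groth.Agent.Helper6.NT.rowfun7 T u0 u1 u2 u3 u4 u5 u6 hinj u0
                        rw [(h2 u0).2, tap_0_1, tap_0_2, z_0_3, z_0_4, z_0_5, z_0_6] at key
                        exact mul_left_cancel₀ (T.w_pos u0).ne' (by linarith only [key])
                      have r_1 : 1 * T.m u0 + -2 * T.m u1 + 1 * T.m u3 + 1 * T.m u4 = 0 := by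
                        have key := Groth.Agent.Helper6.NT.rowfun7 T u0 u1 u2 u3 u4 u5 u6 hinj u1
                        rw [Groth.Agent.Helper6.NT.symm' T u1 u0, taq_0_1, (h2 u1).2, z_1_2, tap_1_3, tap_1_4, z_1_5, z_1_6] at key
                        exact mul_left_cancel₀ (T.w_pos u1).ne' (by linarith only [key])
                      have r_2 : 1 * T.m u0 + -2 * T.m u2 + 1 * T.m u5 = 0 := by
                        have key := Groth.Agent.Helper6.NT.rowfun7 T u0 u1 u2 u3 u4 u5 u6 hinj u2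
                        rw [Groth.Agent.Helper6.NT.symm' T u2 u0, taq_0_2, Groth.Agent.Helper6.NT.symm' T u2 u1, z_1_2, (h2 u2).2, z_2_3, z_2_4, tap_2_5, z_2_6] at key
                        exact mul_left_cancel₀ (T.w_pos u2).ne' (by linarith only [key])
                      have r_3 : 1 * T.m u1 + -2 * T.m u3 = 0 := by
                        have key := Groth.Agent.Helper6.NT.rowfun7 T u0 u1 u2 u3 u4 u5 u6 hinj u3
                        rw [Groth.Agent.Helper6.NT.symm' T u3 u0, z_0_3, Groth.Agent.Helper6.NT.symm' T u3 u1, taq_1_3, Groth.Agent.Helper6.NT.symm' T u3 u2, z_2_3, (h2 u3).2, z_3_4, z_3_5, z_3_6] at key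
                        exact mul_left_cancel₀ (T.w_pos u3).ne' (by linarith only [key])
                      have r_4 : 1 * T.m u1 + -2 * T.m u4 = 0 := by
                        have key := Groth.Agent.Helper6.NT.rowfun7 T u0 u1 u2 u3 u4 u5 u6 hinj u4
                        rw [Groth.Agent.Helper6.NT.symm' T u4 u0, z_0_4, Groth.Agent.Helper6.NT.symm' T u4 u1, taq_1_4, Groth.Agent.Helper6.NT.symm' T u4 u2, z_2_4, Groth.Agent.Helper6.NT.symm' T u4 u3, z_3_4, (h2 u4).2, z_4_5, z_4_6] at key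
                        exact mul_left_cancel₀ (T.w_pos u4).ne' (by linarith only [key])
                      have r_5 : 1 * T.m u2 + -2 * T.m u5 + 1 * T.m u6 = 0 := by
                        have key := Groth.Agent.Helper6.NT.rowfun7 T u0 u1 u2 u3 u4 u5 u6 hinj u5
                        rw [Groth.Agent.Helper6.NT.symm' T u5 u0, z_0_5, Groth.Agent.Helper6.NT.symm' T u5 u1, z_1_5, Groth.Agent.Helper6.NT.symm' T u5 u2, taq_2_5, Groth.Agent.Helper6.NT.symm' T u5 u3, z_3_5, Groth.Agent.Helper6.NT.symm' T u5 u4, z_4_5, (h2 u5).2, tap_5_6] at key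
                        exact mul_left_cancel₀ (T.w_pos u5).ne' (by linarith only [key])
                      have r_6 : 2 * T.m u5 + -2 * T.m u6 = 0 := by
                        have key := Groth.Agent.Helper6.NT.rowfun7 T u0 u1 u2 u3 u4 u5 u6 hinj u6
                        rw [Groth.Agent.Helper6.NT.symm' T u6 u0, z_0_6, Groth.Agent.Helper6.NT.symm' T u6 u1, z_1_6, Groth.Agent.Helper6.NT.symm' T u6 u2, z_2_6, Groth.Agent.Helper6.NT.symm' T u6 u3, z_3_6, Groth.Agent.Helper6.NT.symm' T u6 u4, z_4_6, Groth.Agent.Helper6.NT.symm' T u6 u5, taq_5_6, (h2 u6).2] at key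
                        exact mul_left_cancel₀ (T.w_pos u6).ne' (by linarith only [key])
                      have f0 : T.m u6 = 2 * T.m u3 := by linarith only [r_0, r_1, r_2, r_3, r_4, r_5, r_6]
                      have f1 : T.m u5 = 2 * T.m u3 := by linarith only [r_0, r_1, r_2, r_3, r_4, r_5, r_6]
                      have f2 : T.m u2 = 2 * T.m u3 := by linarith only [r_0, r_1, r_2, r_3, r_4, r_5, r_6]
                      have f3 : T.m u0 = 2 * T.m u3 := by linarith only [r_0, r_1, r_2, r_3, r_4, r_5, r_6]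
                      have f4 : T.m u1 = 2 * T.m u3 := by linarith only [r_0, r_1, r_2, r_3, r_4, r_5, r_6]
                      have f5 : T.m u3 = T.m u3 := rfl
                      have f6 : T.m u4 = T.m u3 := by linarith only [r_0, r_1, r_2, r_3, r_4, r_5, r_6]
                      have f7 : T.w u6 = T.w u6 := rfl
                      have f8 : T.w u5 = 2 * T.w u6 := by linarith only [tw_0_1, tw_0_2, tw_1_3, tw_1_4, tw_2_5, tw_5_6]
                      have f9 : T.w u2 = 2 * T.w u6 := by linarith only [tw_0_1, tw_0_2, tw_1_3, tw_1_4, tw_2_5, tw_5_6]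
                      have f10 : T.w u0 = 2 * T.w u6 := by linarith only [tw_0_1, tw_0_2, tw_1_3, tw_1_4, tw_2_5, tw_5_6]
                      have f11 : T.w u1 = 2 * T.w u6 := by linarith only [tw_0_1, tw_0_2, tw_1_3, tw_1_4, tw_2_5, tw_5_6]
                      have f12 : T.w u3 = 2 * T.w u6 := by linarith only [tw_0_1, tw_0_2, tw_1_3, tw_1_4, tw_2_5, tw_5_6]
                      have f13 : T.w u4 = 2 * T.w u6 := by linarith only [tw_0_1, tw_0_2, tw_1_3, tw_1_4, tw_2_5, tw_5_6]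
                      have f14 : T.a u6 u6 = -2 * T.w u6 := by have := (h2 u6).2; linarith only [this, tw_0_1, tw_0_2, tw_1_3, tw_1_4, tw_2_5, tw_5_6]
                      have f15 : T.a u6 u5 = 2 * T.w u6 := by rw [Groth.Agent.Helper6.NT.symm' T u6 u5]; linarith only [tap_5_6, tw_0_1, tw_0_2, tw_1_3, tw_1_4, tw_2_5, tw_5_6]
                      have f16 : T.a u6 u2 = 0 := by rw [Groth.Agent.Helper6.NT.symm' T u6 u2]; exact z_2_6
                      have f17 : T.a u6 u0 = 0 := by rw [Groth.Agent.Helper6.NT.symm' T u6 u0]; exact z_0_6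
                      have f18 : T.a u6 u1 = 0 := by rw [Groth.Agent.Helper6.NT.symm' T u6 u1]; exact z_1_6
                      have f19 : T.a u6 u3 = 0 := by rw [Groth.Agent.Helper6.NT.symm' T u6 u3]; exact z_3_6
                      have f20 : T.a u6 u4 = 0 := by rw [Groth.Agent.Helper6.NT.symm' T u6 u4]; exact z_4_6
                      have f21 : T.a u5 u5 = -4 * T.w u6 := by have := (h2 u5).2; linarith only [this, tw_0_1, tw_0_2, tw_1_3, tw_1_4, tw_2_5, tw_5_6]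
                      have f22 : T.a u5 u2 = 2 * T.w u6 := by rw [Groth.Agent.Helper6.NT.symm' T u5 u2]; linarith only [tap_2_5, tw_0_1, tw_0_2, tw_1_3, tw_1_4, tw_2_5, tw_5_6]
                      have f23 : T.a u5 u0 = 0 := by rw [Groth.Agent.Helper6.NT.symm' T u5 u0]; exact z_0_5
                      have f24 : T.a u5 u1 = 0 := by rw [Groth.Agent.Helper6.NT.symm' T u5 u1]; exact z_1_5
                      have f25 : T.a u5 u3 = 0 := by rw [Groth.Agent.Helper6.NT.symm' T u5 u3]; exact z_3_5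
                      have f26 : T.a u5 u4 = 0 := by rw [Groth.Agent.Helper6.NT.symm' T u5 u4]; exact z_4_5
                      have f27 : T.a u2 u2 = -4 * T.w u6 := by have := (h2 u2).2; linarith only [this, tw_0_1, tw_0_2, tw_1_3, tw_1_4, tw_2_5, tw_5_6]
                      have f28 : T.a u2 u0 = 2 * T.w u6 := by rw [Groth.Agent.Helper6.NT.symm' T u2 u0]; linarith only [tap_0_2, tw_0_1, tw_0_2, tw_1_3, tw_1_4, tw_2_5, tw_5_6]
                      have f29 : T.a u2 u1 = 0 := by rw [Groth.Agent.Helper6.NT.symm' T u2 u1]; exact z_1_2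
                      have f30 : T.a u2 u3 = 0 := by exact z_2_3
                      have f31 : T.a u2 u4 = 0 := by exact z_2_4
                      have f32 : T.a u0 u0 = -4 * T.w u6 := by have := (h2 u0).2; linarith only [this, tw_0_1, tw_0_2, tw_1_3, tw_1_4, tw_2_5, tw_5_6]
                      have f33 : T.a u0 u1 = 2 * T.w u6 := by linarith only [tap_0_1, tw_0_1, tw_0_2, tw_1_3, tw_1_4, tw_2_5, tw_5_6]
                      have f34 : T.a u0 u3 = 0 := by exact z_0_3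
                      have f35 : T.a u0 u4 = 0 := by exact z_0_4
                      have f36 : T.a u1 u1 = -4 * T.w u6 := by have := (h2 u1).2; linarith only [this, tw_0_1, tw_0_2, tw_1_3, tw_1_4, tw_2_5, tw_5_6]
                      have f37 : T.a u1 u3 = 2 * T.w u6 := by linarith only [tap_1_3, tw_0_1, tw_0_2, tw_1_3, tw_1_4, tw_2_5, tw_5_6]
                      have f38 : T.a u1 u4 = 2 * T.w u6 := by linarith only [tap_1_4, tw_0_1, tw_0_2, tw_1_3, tw_1_4, tw_2_5, tw_5_6]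
                      have f39 : T.a u3 u3 = -4 * T.w u6 := by have := (h2 u3).2; linarith only [this, tw_0_1, tw_0_2, tw_1_3, tw_1_4, tw_2_5, tw_5_6]
                      have f40 : T.a u3 u4 = 0 := by exact z_3_4
                      have f41 : T.a u4 u4 = -4 * T.w u6 := by have := (h2 u4).2; linarith only [this, tw_0_1, tw_0_2, tw_1_3, tw_1_4, tw_2_5, tw_5_6]
                      have hsig := Groth.Agent.Helper6.NT.inj7 u6 u5 u2 u0 u1 u3 u4 hn_6_5.symm hn_6_2.symm hn_5_2.symm hn_6_0.symm hn_5_0.symm hn_2_0.symm hn_6_1.symm hn_5_1.symm hn_2_1.symm hn_1_0 hn_6_3.symm hn_5_3.symm hn_3_2 hn_3_0 hn_3_1 hn_6_4.symm hn_5_4.symm hn_4_2 hn_4_0 hn_4_1 hn_4_3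
                      exact ⟨Equiv.ofBijective _ (Finite.injective_iff_bijective.1 hsig), T.m u3, T.w u6, Or.inr (Or.inr (Or.inr (Or.inr (Or.inr (Or.inl ⟨f0, f1, f2, f3, f4, f5, f6, f7, f8, f9, f10, f11, f12, f13, f14, f15, f16, f17, f18, f19, f20, f21, f22, f23, f24, f25, f26, f27, f28, f29, f30, f31, f32, f33, f34, f35, f36, f37, f38, f39, f40, f41⟩)))))⟩
                    · -- (5,6) Tp
                      exfalso
                      have key := Groth.Agent.Helper6.NT.negfun3 T h2 u2 u5 u6 (by norm_num) 1 2 1 (by norm_num) (by norm_num)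
                      linarith only [key, tap_2_5, taq_2_5, z_2_6, tap_5_6, taq_5_6, T.w_pos u2, T.w_pos u5, T.w_pos u6]
                    · -- (5,6) Tm
                      exfalso
                      have key := Groth.Agent.Helper6.NT.negfun3 T h2 u2 u5 u6 (by norm_num) 1 2 3 (by norm_num) (by norm_num)
                      linarith only [key, tap_2_5, taq_2_5, z_2_6, tap_5_6, taq_5_6, T.w_pos u2, T.w_pos u5, T.w_pos u6]
                  · push Not at hx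
                    have cl_5 := hx
                    clear hx
                    exfalso
                    refine Groth.Agent.Helper6.NT.closed_contra T [u0, u1, u2, u3, u4, u5] (by simp) (by simp) ?_
                    intro i hi j hj
                    simp only [List.mem_cons, List.not_mem_nil, or_false, not_or] at hi hj
                    rcases hi with rfl | rfl | rfl | rfl | rfl | rfl
                    · exact cl_0 j ⟨hj.1, hj.2.1, hj.2.2.1⟩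
                    · exact cl_1 j ⟨hj.1, hj.2.1, hj.2.2.1, hj.2.2.2.1, hj.2.2.2.2.1⟩
                    · exact cl_2 j ⟨hj.1, hj.2.1, hj.2.2.1, hj.2.2.2.1, hj.2.2.2.2.1, hj.2.2.2.2.2⟩
                    · exact cl_3 j ⟨hj.1, hj.2.1, hj.2.2.1, hj.2.2.2.1, hj.2.2.2.2.1, hj.2.2.2.2.2⟩
                    · exact cl_4 j ⟨hj.1, hj.2.1, hj.2.2.1, hj.2.2.2.1, hj.2.2.2.2.1, hj.2.2.2.2.2⟩
                    · exact cl_5 j ⟨hj.1, hj.2.1, hj.2.2.1, hj.2.2.2.1, hj.2.2.2.2.1, hj.2.2.2.2.2⟩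
          · -- (4,5) nonzero
            obtain ⟨lbp_4_5, lbq_4_5⟩ := Groth.Agent.Helper6.NT.lb T u4 u5 hn_5_4.symm nz_4_5
            exfalso
            have key := Groth.Agent.Helper6.NT.negfun5 T h2 u0 u1 u2 u4 u5 (by norm_num) 1 1 1 1 1 (by norm_num) (by norm_num)
            linarith only [key, tap_0_1, taq_0_1, tap_0_2, taq_0_2, z_0_4, z_0_5, z_1_2, tap_1_4, taq_1_4, z_1_5, z_2_4, tap_2_5, taq_2_5, lbp_4_5, lbq_4_5, T.w_pos u0, T.w_pos u1, T.w_pos u2, T.w_pos u4, T.w_pos u5]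
        · -- (3,5) nonzero
          obtain ⟨lbp_3_5, lbq_3_5⟩ := Groth.Agent.Helper6.NT.lb T u3 u5 hn_5_3.symm nz_3_5
          exfalso
          have key := Groth.Agent.Helper6.NT.negfun5 T h2 u0 u1 u2 u3 u5 (by norm_num) 1 1 1 1 1 (by norm_num) (by norm_num)
          linarith only [key, tap_0_1, taq_0_1, tap_0_2, taq_0_2, z_0_3, z_0_5, z_1_2, tap_1_3, taq_1_3, z_1_5, z_2_3, tap_2_5, taq_2_5, lbp_3_5, lbq_3_5, T.w_pos u0, T.w_pos u1, T.w_pos u2, T.w_pos u3, T.w_pos u5]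
      · -- (2,5) Dp
        exfalso
        have key := Groth.Agent.Helper6.NT.negfun6 T h2 u0 u1 u2 u3 u4 u5 (by norm_num) 2 2 2 1 1 1 (by norm_num) (by norm_num)
        linarith only [key, tap_0_1, taq_0_1, tap_0_2, taq_0_2, z_0_3, z_0_4, z_0_5, z_1_2, tap_1_3, taq_1_3, tap_1_4, taq_1_4, z_1_5, z_2_3, z_2_4, tap_2_5, taq_2_5, z_3_4, T.offDiag_nonneg u3 u5 hn_5_3.symm, T.offDiag_nonneg u4 u5 hn_5_4.symm, T.w_pos u0, T.w_pos u1, T.w_pos u2, T.w_pos u3, T.w_pos u4, T.w_pos u5]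
      · -- (2,5) Dm
        exfalso
        have key := Groth.Agent.Helper6.NT.negfun6 T h2 u0 u1 u2 u3 u4 u5 (by norm_num) 2 2 2 1 1 2 (by norm_num) (by norm_num)
        linarith only [key, tap_0_1, taq_0_1, tap_0_2, taq_0_2, z_0_3, z_0_4, z_0_5, z_1_2, tap_1_3, taq_1_3, tap_1_4, taq_1_4, z_1_5, z_2_3, z_2_4, tap_2_5, taq_2_5, z_3_4, T.offDiag_nonneg u3 u5 hn_5_3.symm, T.offDiag_nonneg u4 u5 hn_5_4.symm, T.w_pos u0, T.w_pos u1, T.w_pos u2, T.w_pos u3, T.w_pos u4, T.w_pos u5]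
      · -- (2,5) Tp
        exfalso
        have key := Groth.Agent.Helper6.NT.negfun3 T h2 u0 u2 u5 (by norm_num) 1 2 1 (by norm_num) (by norm_num)
        linarith only [key, tap_0_2, taq_0_2, z_0_5, tap_2_5, taq_2_5, T.w_pos u0, T.w_pos u2, T.w_pos u5]
      · -- (2,5) Tm
        exfalso
        have key := Groth.Agent.Helper6.NT.negfun3 T h2 u0 u2 u5 (by norm_num) 1 2 3 (by norm_num) (by norm_num)
        linarith only [key, tap_0_2, taq_0_2, z_0_5, tap_2_5, taq_2_5, T.w_pos u0, T.w_pos u2, T.w_pos u5]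
    · push Not at hx
      have cl_2 := hx
      clear hx
      by_cases hx : ∃ j, (j ≠ u0 ∧ j ≠ u1 ∧ j ≠ u2 ∧ j ≠ u3 ∧ j ≠ u4) ∧ T.a u3 j ≠ 0
      · obtain ⟨u5, ⟨hn_5_0, hn_5_1, hn_5_2, hn_5_3, hn_5_4⟩, e_3_5⟩ := hx
        have z_0_5 : T.a u0 u5 = 0 := cl_0 u5 ⟨hn_5_0, hn_5_1, hn_5_2⟩
        have z_1_5 : T.a u1 u5 = 0 := cl_1 u5 ⟨hn_5_0, hn_5_1, hn_5_2, hn_5_3, hn_5_4⟩
        have z_2_5 : T.a u2 u5 = 0 := cl_2 u5 ⟨hn_5_0, hn_5_1, hn_5_2, hn_5_3, hn_5_4⟩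
        rcases Groth.Agent.Helper6.NT.edge5 T h2 (by norm_num) u3 u5 hn_5_3.symm e_3_5 with ⟨tw_3_5, tap_3_5, taq_3_5⟩ | ⟨tw_3_5, tap_3_5, taq_3_5⟩ | ⟨tw_3_5, tap_3_5, taq_3_5⟩ | ⟨tw_3_5, tap_3_5, taq_3_5⟩ | ⟨tw_3_5, tap_3_5, taq_3_5⟩
        · -- (3,5) S
          rcases eq_or_ne (T.a u4 u5) 0 with z_4_5 | nz_4_5
          · -- (4,5) zero
            by_cases hx : ∃ j, (j ≠ u0 ∧ j ≠ u1 ∧ j ≠ u2 ∧ j ≠ u3 ∧ j ≠ u4 ∧ j ≠ u5) ∧ T.a u3 j ≠ 0
            · obtain ⟨u6, ⟨hn_6_0, hn_6_1, hn_6_2, hn_6_3, hn_6_4, hn_6_5⟩, e_3_6⟩ := hx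
              have z_0_6 : T.a u0 u6 = 0 := cl_0 u6 ⟨hn_6_0, hn_6_1, hn_6_2⟩
              have z_1_6 : T.a u1 u6 = 0 := cl_1 u6 ⟨hn_6_0, hn_6_1, hn_6_2, hn_6_3, hn_6_4⟩
              have z_2_6 : T.a u2 u6 = 0 := cl_2 u6 ⟨hn_6_0, hn_6_1, hn_6_2, hn_6_3, hn_6_4⟩
              rcases Groth.Agent.Helper6.NT.edge5 T h2 (by norm_num) u3 u6 hn_6_3.symm e_3_6 with ⟨tw_3_6, tap_3_6, taq_3_6⟩ | ⟨tw_3_6, tap_3_6, taq_3_6⟩ | ⟨tw_3_6, tap_3_6, taq_3_6⟩ | ⟨tw_3_6, tap_3_6, taq_3_6⟩ | ⟨tw_3_6, tap_3_6, taq_3_6⟩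
              · -- (3,6) S
                exfalso
                have key := Groth.Agent.Helper6.NT.negfun6 T h2 u0 u1 u3 u4 u5 u6 (by norm_num) 1 2 2 1 1 1 (by norm_num) (by norm_num)
                linarith only [key, tap_0_1, taq_0_1, z_0_3, z_0_4, z_0_5, z_0_6, tap_1_3, taq_1_3, tap_1_4, taq_1_4, z_1_5, z_1_6, z_3_4, tap_3_5, taq_3_5, tap_3_6, taq_3_6, z_4_5, T.offDiag_nonneg u4 u6 hn_6_4.symm, T.offDiag_nonneg u5 u6 hn_6_5.symm, T.w_pos u0, T.w_pos u1, T.w_pos u3, T.w_pos u4, T.w_pos u5, T.w_pos u6]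
              · -- (3,6) Dp
                exfalso
                have key := Groth.Agent.Helper6.NT.negfun4 T h2 u1 u3 u5 u6 (by norm_num) 1 2 1 1 (by norm_num) (by norm_num)
                linarith only [key, tap_1_3, taq_1_3, z_1_5, z_1_6, tap_3_5, taq_3_5, tap_3_6, taq_3_6, T.offDiag_nonneg u5 u6 hn_6_5.symm, T.w_pos u1, T.w_pos u3, T.w_pos u5, T.w_pos u6]
              · -- (3,6) Dm
                exfalso
                have key := Groth.Agent.Helper6.NT.negfun4 T h2 u1 u3 u5 u6 (by norm_num) 1 2 1 2 (by norm_num) (by norm_num)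
                linarith only [key, tap_1_3, taq_1_3, z_1_5, z_1_6, tap_3_5, taq_3_5, tap_3_6, taq_3_6, T.offDiag_nonneg u5 u6 hn_6_5.symm, T.w_pos u1, T.w_pos u3, T.w_pos u5, T.w_pos u6]
              · -- (3,6) Tp
                exfalso
                have key := Groth.Agent.Helper6.NT.negfun3 T h2 u3 u5 u6 (by norm_num) 2 1 1 (by norm_num) (by norm_num)
                linarith only [key, tap_3_5, taq_3_5, tap_3_6, taq_3_6, T.offDiag_nonneg u5 u6 hn_6_5.symm, T.w_pos u3, T.w_pos u5, T.w_pos u6]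
              · -- (3,6) Tm
                exfalso
                have key := Groth.Agent.Helper6.NT.negfun3 T h2 u3 u5 u6 (by norm_num) 2 1 3 (by norm_num) (by norm_num)
                linarith only [key, tap_3_5, taq_3_5, tap_3_6, taq_3_6, T.offDiag_nonneg u5 u6 hn_6_5.symm, T.w_pos u3, T.w_pos u5, T.w_pos u6]
            · push Not at hx
              have cl_3 := hx
              clear hx
              by_cases hx : ∃ j, (j ≠ u0 ∧ j ≠ u1 ∧ j ≠ u2 ∧ j ≠ u3 ∧ j ≠ u4 ∧ j ≠ u5) ∧ T.a u4 j ≠ 0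
              · obtain ⟨u6, ⟨hn_6_0, hn_6_1, hn_6_2, hn_6_3, hn_6_4, hn_6_5⟩, e_4_6⟩ := hx
                have z_0_6 : T.a u0 u6 = 0 := cl_0 u6 ⟨hn_6_0, hn_6_1, hn_6_2⟩
                have z_1_6 : T.a u1 u6 = 0 := cl_1 u6 ⟨hn_6_0, hn_6_1, hn_6_2, hn_6_3, hn_6_4⟩
                have z_2_6 : T.a u2 u6 = 0 := cl_2 u6 ⟨hn_6_0, hn_6_1, hn_6_2, hn_6_3, hn_6_4⟩
                have z_3_6 : T.a u3 u6 = 0 := cl_3 u6 ⟨hn_6_0, hn_6_1, hn_6_2, hn_6_3, hn_6_4, hn_6_5⟩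
                rcases Groth.Agent.Helper6.NT.edge5 T h2 (by norm_num) u4 u6 hn_6_4.symm e_4_6 with ⟨tw_4_6, tap_4_6, taq_4_6⟩ | ⟨tw_4_6, tap_4_6, taq_4_6⟩ | ⟨tw_4_6, tap_4_6, taq_4_6⟩ | ⟨tw_4_6, tap_4_6, taq_4_6⟩ | ⟨tw_4_6, tap_4_6, taq_4_6⟩
                · -- (4,6) S
                  rcases eq_or_ne (T.a u5 u6) 0 with z_5_6 | nz_5_6
                  · -- (5,6) zero
                    have hinj := Groth.Agent.Helper6.NT.inj7 u0 u1 u2 u3 u4 u5 u6 hn_1_0 hn_2_0 hn_2_1 hn_3_0 hn_3_1 hn_3_2 hn_4_0 hn_4_1 hn_4_2 hn_4_3 hn_5_0 hn_5_1 hn_5_2 hn_5_3 hn_5_4 hn_6_0 hn_6_1 hn_6_2 hn_6_3 hn_6_4 hn_6_5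
                    have r_0 : -2 * T.m u0 + 1 * T.m u1 + 1 * T.m u2 = 0 := by
                      have key := Groth.Agent.Helper6.NT.rowfun7 T u0 u1 u2 u3 u4 u5 u6 hinj u0
                      rw [(h2 u0).2, tap_0_1, tap_0_2, z_0_3, z_0_4, z_0_5, z_0_6] at key
                      exact mul_left_cancel₀ (T.w_pos u0).ne' (by linarith only [key])
                    have r_1 : 1 * T.m u0 + -2 * T.m u1 + 1 * T.m u3 + 1 * T.m u4 = 0 := by
                      have key := Groth.Agent.Helper6.NT.rowfun7 T u0 u1 u2 u3 u4 u5 u6 hinj u1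
                      rw [Groth.Agent.Helper6.NT.symm' T u1 u0, taq_0_1, (h2 u1).2, z_1_2, tap_1_3, tap_1_4, z_1_5, z_1_6] at key
                      exact mul_left_cancel₀ (T.w_pos u1).ne' (by linarith only [key])
                    have r_2 : 1 * T.m u0 + -2 * T.m u2 = 0 := by
                      have key := Groth.Agent.Helper6.NT.rowfun7 T u0 u1 u2 u3 u4 u5 u6 hinj u2
                      rw [Groth.Agent.Helper6.NT.symm' T u2 u0, taq_0_2, Groth.Agent.Helper6.NT.symm' T u2 u1, z_1_2, (h2 u2).2, z_2_3, z_2_4, z_2_5, z_2_6] at key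
                      exact mul_left_cancel₀ (T.w_pos u2).ne' (by linarith only [key])
                    have r_3 : 1 * T.m u1 + -2 * T.m u3 + 1 * T.m u5 = 0 := by
                      have key := Groth.Agent.Helper6.NT.rowfun7 T u0 u1 u2 u3 u4 u5 u6 hinj u3
                      rw [Groth.Agent.Helper6.NT.symm' T u3 u0, z_0_3, Groth.Agent.Helper6.NT.symm' T u3 u1, taq_1_3, Groth.Agent.Helper6.NT.symm' T u3 u2, z_2_3, (h2 u3).2, z_3_4, tap_3_5, z_3_6] at key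
                      exact mul_left_cancel₀ (T.w_pos u3).ne' (by linarith only [key])
                    have r_4 : 1 * T.m u1 + -2 * T.m u4 + 1 * T.m u6 = 0 := by
                      have key := Groth.Agent.Helper6.NT.rowfun7 T u0 u1 u2 u3 u4 u5 u6 hinj u4
                      rw [Groth.Agent.Helper6.NT.symm' T u4 u0, z_0_4, Groth.Agent.Helper6.NT.symm' T u4 u1, taq_1_4, Groth.Agent.Helper6.NT.symm' T u4 u2, z_2_4, Groth.Agent.Helper6.NT.symm' T u4 u3, z_3_4, (h2 u4).2, z_4_5, tap_4_6] at key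
                      exact mul_left_cancel₀ (T.w_pos u4).ne' (by linarith only [key])
                    have r_5 : 1 * T.m u3 + -2 * T.m u5 = 0 := by
                      have key := Groth.Agent.Helper6.NT.rowfun7 T u0 u1 u2 u3 u4 u5 u6 hinj u5
                      rw [Groth.Agent.Helper6.NT.symm' T u5 u0, z_0_5, Groth.Agent.Helper6.NT.symm' T u5 u1, z_1_5, Groth.Agent.Helper6.NT.symm' T u5 u2, z_2_5, Groth.Agent.Helper6.NT.symm' T u5 u3, taq_3_5, Groth.Agent.Helper6.NT.symm' T u5 u4, z_4_5, (h2 u5).2, z_5_6] at key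
                      exact mul_left_cancel₀ (T.w_pos u5).ne' (by linarith only [key])
                    have r_6 : 1 * T.m u4 + -2 * T.m u6 = 0 := by
                      have key := Groth.Agent.Helper6.NT.rowfun7 T u0 u1 u2 u3 u4 u5 u6 hinj u6
                      rw [Groth.Agent.Helper6.NT.symm' T u6 u0, z_0_6, Groth.Agent.Helper6.NT.symm' T u6 u1, z_1_6, Groth.Agent.Helper6.NT.symm' T u6 u2, z_2_6, Groth.Agent.Helper6.NT.symm' T u6 u3, z_3_6, Groth.Agent.Helper6.NT.symm' T u6 u4, taq_4_6, Groth.Agent.Helper6.NT.symm' T u6 u5, z_5_6, (h2 u6).2] at key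
                      exact mul_left_cancel₀ (T.w_pos u6).ne' (by linarith only [key])
                    have f0 : T.m u2 = T.m u2 := rfl
                    have f1 : T.m u0 = 2 * T.m u2 := by linarith only [r_0, r_1, r_2, r_3, r_4, r_5, r_6]
                    have f2 : T.m u1 = 3 * T.m u2 := by linarith only [r_0, r_1, r_2, r_3, r_4, r_5, r_6]
                    have f3 : T.m u5 = T.m u2 := by linarith only [r_0, r_1, r_2, r_3, r_4, r_5, r_6]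
                    have f4 : T.m u3 = 2 * T.m u2 := by linarith only [r_0, r_1, r_2, r_3, r_4, r_5, r_6]
                    have f5 : T.m u6 = T.m u2 := by linarith only [r_0, r_1, r_2, r_3, r_4, r_5, r_6]
                    have f6 : T.m u4 = 2 * T.m u2 := by linarith only [r_0, r_1, r_2, r_3, r_4, r_5, r_6]
                    have f7 : T.w u2 = T.w u2 := rfl
                    have f8 : T.w u0 = T.w u2 := by linarith only [tw_0_1, tw_0_2, tw_1_3, tw_1_4, tw_3_5, tw_4_6]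
                    have f9 : T.w u1 = T.w u2 := by linarith only [tw_0_1, tw_0_2, tw_1_3, tw_1_4, tw_3_5, tw_4_6]
                    have f10 : T.w u5 = T.w u2 := by linarith only [tw_0_1, tw_0_2, tw_1_3, tw_1_4, tw_3_5, tw_4_6]
                    have f11 : T.w u3 = T.w u2 := by linarith only [tw_0_1, tw_0_2, tw_1_3, tw_1_4, tw_3_5, tw_4_6]
                    have f12 : T.w u6 = T.w u2 := by linarith only [tw_0_1, tw_0_2, tw_1_3, tw_1_4, tw_3_5, tw_4_6]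
                    have f13 : T.w u4 = T.w u2 := by linarith only [tw_0_1, tw_0_2, tw_1_3, tw_1_4, tw_3_5, tw_4_6]
                    have f14 : T.a u2 u2 = -2 * T.w u2 := by have := (h2 u2).2; linarith only [this, tw_0_1, tw_0_2, tw_1_3, tw_1_4, tw_3_5, tw_4_6]
                    have f15 : T.a u2 u0 = T.w u2 := by rw [Groth.Agent.Helper6.NT.symm' T u2 u0]; linarith only [tap_0_2, tw_0_1, tw_0_2, tw_1_3, tw_1_4, tw_3_5, tw_4_6]
                    have f16 : T.a u2 u1 = 0 := by rw [Groth.Agent.Helper6.NT.symm' T u2 u1]; exact z_1_2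
                    have f17 : T.a u2 u5 = 0 := by exact z_2_5
                    have f18 : T.a u2 u3 = 0 := by exact z_2_3
                    have f19 : T.a u2 u6 = 0 := by exact z_2_6
                    have f20 : T.a u2 u4 = 0 := by exact z_2_4
                    have f21 : T.a u0 u0 = -2 * T.w u2 := by have := (h2 u0).2; linarith only [this, tw_0_1, tw_0_2, tw_1_3, tw_1_4, tw_3_5, tw_4_6]
                    have f22 : T.a u0 u1 = T.w u2 := by linarith only [tap_0_1, tw_0_1, tw_0_2, tw_1_3, tw_1_4, tw_3_5, tw_4_6]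
                    have f23 : T.a u0 u5 = 0 := by exact z_0_5
                    have f24 : T.a u0 u3 = 0 := by exact z_0_3
                    have f25 : T.a u0 u6 = 0 := by exact z_0_6
                    have f26 : T.a u0 u4 = 0 := by exact z_0_4
                    have f27 : T.a u1 u1 = -2 * T.w u2 := by have := (h2 u1).2; linarith only [this, tw_0_1, tw_0_2, tw_1_3, tw_1_4, tw_3_5, tw_4_6]
                    have f28 : T.a u1 u5 = 0 := by exact z_1_5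
                    have f29 : T.a u1 u3 = T.w u2 := by linarith only [tap_1_3, tw_0_1, tw_0_2, tw_1_3, tw_1_4, tw_3_5, tw_4_6]
                    have f30 : T.a u1 u6 = 0 := by exact z_1_6
                    have f31 : T.a u1 u4 = T.w u2 := by linarith only [tap_1_4, tw_0_1, tw_0_2, tw_1_3, tw_1_4, tw_3_5, tw_4_6]
                    have f32 : T.a u5 u5 = -2 * T.w u2 := by have := (h2 u5).2; linarith only [this, tw_0_1, tw_0_2, tw_1_3, tw_1_4, tw_3_5, tw_4_6]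
                    have f33 : T.a u5 u3 = T.w u2 := by rw [Groth.Agent.Helper6.NT.symm' T u5 u3]; linarith only [tap_3_5, tw_0_1, tw_0_2, tw_1_3, tw_1_4, tw_3_5, tw_4_6]
                    have f34 : T.a u5 u6 = 0 := by exact z_5_6
                    have f35 : T.a u5 u4 = 0 := by rw [Groth.Agent.Helper6.NT.symm' T u5 u4]; exact z_4_5
                    have f36 : T.a u3 u3 = -2 * T.w u2 := by have := (h2 u3).2; linarith only [this, tw_0_1, tw_0_2, tw_1_3, tw_1_4, tw_3_5, tw_4_6]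
                    have f37 : T.a u3 u6 = 0 := by exact z_3_6
                    have f38 : T.a u3 u4 = 0 := by exact z_3_4
                    have f39 : T.a u6 u6 = -2 * T.w u2 := by have := (h2 u6).2; linarith only [this, tw_0_1, tw_0_2, tw_1_3, tw_1_4, tw_3_5, tw_4_6]
                    have f40 : T.a u6 u4 = T.w u2 := by rw [Groth.Agent.Helper6.NT.symm' T u6 u4]; linarith only [tap_4_6, tw_0_1, tw_0_2, tw_1_3, tw_1_4, tw_3_5, tw_4_6]
                    have f41 : T.a u4 u4 = -2 * T.w u2 := by have := (h2 u4).2; linarith only [this, tw_0_1, tw_0_2, tw_1_3, tw_1_4, tw_3_5, tw_4_6]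
                    have hsig := Groth.Agent.Helper6.NT.inj7 u2 u0 u1 u5 u3 u6 u4 hn_2_0.symm hn_2_1.symm hn_1_0 hn_5_2 hn_5_0 hn_5_1 hn_3_2 hn_3_0 hn_3_1 hn_5_3.symm hn_6_2 hn_6_0 hn_6_1 hn_6_5 hn_6_3 hn_4_2 hn_4_0 hn_4_1 hn_5_4.symm hn_4_3 hn_6_4.symm
                    exact ⟨Equiv.ofBijective _ (Finite.injective_iff_bijective.1 hsig), T.m u2, T.w u2, Or.inr (Or.inr (Or.inr (Or.inr (Or.inr (Or.inr (Or.inr (⟨f0, f1, f2, f3, f4, f5, f6, f7, f8, f9, f10, f11, f12, f13, f14, f15, f16, f17, f18, f19, f20, f21, f22, f23, f24, f25, f26, f27, f28, f29, f30, f31, f32, f33, f34, f35, f36, f37, f38, f39, f40, f41⟩)))))))⟩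
                  · -- (5,6) nonzero
                    obtain ⟨lbp_5_6, lbq_5_6⟩ := Groth.Agent.Helper6.NT.lb T u5 u6 hn_6_5.symm nz_5_6
                    exfalso
                    have key := Groth.Agent.Helper6.NT.negfun5 T h2 u1 u3 u4 u5 u6 (by norm_num) 1 1 1 1 1 (by norm_num) (by norm_num)
                    linarith only [key, tap_1_3, taq_1_3, tap_1_4, taq_1_4, z_1_5, z_1_6, z_3_4, tap_3_5, taq_3_5, z_3_6, z_4_5, tap_4_6, taq_4_6, lbp_5_6, lbq_5_6, T.w_pos u1, T.w_pos u3, T.w_pos u4, T.w_pos u5, T.w_pos u6]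
                · -- (4,6) Dp
                  exfalso
                  have key := Groth.Agent.Helper6.NT.negfun5 T h2 u0 u1 u3 u4 u6 (by norm_num) 1 2 1 2 1 (by norm_num) (by norm_num)
                  linarith only [key, tap_0_1, taq_0_1, z_0_3, z_0_4, z_0_6, tap_1_3, taq_1_3, tap_1_4, taq_1_4, z_1_6, z_3_4, z_3_6, tap_4_6, taq_4_6, T.w_pos u0, T.w_pos u1, T.w_pos u3, T.w_pos u4, T.w_pos u6]
                · -- (4,6) Dm
                  exfalso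
                  have key := Groth.Agent.Helper6.NT.negfun5 T h2 u0 u1 u3 u4 u6 (by norm_num) 1 2 1 2 2 (by norm_num) (by norm_num)
                  linarith only [key, tap_0_1, taq_0_1, z_0_3, z_0_4, z_0_6, tap_1_3, taq_1_3, tap_1_4, taq_1_4, z_1_6, z_3_4, z_3_6, tap_4_6, taq_4_6, T.w_pos u0, T.w_pos u1, T.w_pos u3, T.w_pos u4, T.w_pos u6]
                · -- (4,6) Tp
                  exfalso
                  have key := Groth.Agent.Helper6.NT.negfun3 T h2 u1 u4 u6 (by norm_num) 1 2 1 (by norm_num) (by norm_num)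
                  linarith only [key, tap_1_4, taq_1_4, z_1_6, tap_4_6, taq_4_6, T.w_pos u1, T.w_pos u4, T.w_pos u6]
                · -- (4,6) Tm
                  exfalso
                  have key := Groth.Agent.Helper6.NT.negfun3 T h2 u1 u4 u6 (by norm_num) 1 2 3 (by norm_num) (by norm_num)
                  linarith only [key, tap_1_4, taq_1_4, z_1_6, tap_4_6, taq_4_6, T.w_pos u1, T.w_pos u4, T.w_pos u6]
              · push Not at hx
                have cl_4 := hx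
                clear hx
                by_cases hx : ∃ j, (j ≠ u0 ∧ j ≠ u1 ∧ j ≠ u2 ∧ j ≠ u3 ∧ j ≠ u4 ∧ j ≠ u5) ∧ T.a u5 j ≠ 0
                · obtain ⟨u6, ⟨hn_6_0, hn_6_1, hn_6_2, hn_6_3, hn_6_4, hn_6_5⟩, e_5_6⟩ := hx
                  have z_0_6 : T.a u0 u6 = 0 := cl_0 u6 ⟨hn_6_0, hn_6_1, hn_6_2⟩
                  have z_1_6 : T.a u1 u6 = 0 := cl_1 u6 ⟨hn_6_0, hn_6_1, hn_6_2, hn_6_3, hn_6_4⟩
                  have z_2_6 : T.a u2 u6 = 0 := cl_2 u6 ⟨hn_6_0, hn_6_1, hn_6_2, hn_6_3, hn_6_4⟩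
                  have z_3_6 : T.a u3 u6 = 0 := cl_3 u6 ⟨hn_6_0, hn_6_1, hn_6_2, hn_6_3, hn_6_4, hn_6_5⟩
                  have z_4_6 : T.a u4 u6 = 0 := cl_4 u6 ⟨hn_6_0, hn_6_1, hn_6_2, hn_6_3, hn_6_4, hn_6_5⟩
                  rcases Groth.Agent.Helper6.NT.edge5 T h2 (by norm_num) u5 u6 hn_6_5.symm e_5_6 with ⟨tw_5_6, tap_5_6, taq_5_6⟩ | ⟨tw_5_6, tap_5_6, taq_5_6⟩ | ⟨tw_5_6, tap_5_6, taq_5_6⟩ | ⟨tw_5_6, tap_5_6, taq_5_6⟩ | ⟨tw_5_6, tap_5_6, taq_5_6⟩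
                  · -- (5,6) S
                    have hinj := Groth.Agent.Helper6.NT.inj7 u0 u1 u2 u3 u4 u5 u6 hn_1_0 hn_2_0 hn_2_1 hn_3_0 hn_3_1 hn_3_2 hn_4_0 hn_4_1 hn_4_2 hn_4_3 hn_5_0 hn_5_1 hn_5_2 hn_5_3 hn_5_4 hn_6_0 hn_6_1 hn_6_2 hn_6_3 hn_6_4 hn_6_5
                    have r_0 : -2 * T.m u0 + 1 * T.m u1 + 1 * T.m u2 = 0 := by
                      have key := Groth.Agent.Helper6.NT.rowfun7 T u0 u1 u2 u3 u4 u5 u6 hinj u0
                      rw [(h2 u0).2, tap_0_1, tap_0_2, z_0_3, z_0_4, z_0_5, z_0_6] at key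
                      exact mul_left_cancel₀ (T.w_pos u0).ne' (by linarith only [key])
                    have r_1 : 1 * T.m u0 + -2 * T.m u1 + 1 * T.m u3 + 1 * T.m u4 = 0 := by
                      have key := Groth.Agent.Helper6.NT.rowfun7 T u0 u1 u2 u3 u4 u5 u6 hinj u1
                      rw [Groth.Agent.Helper6.NT.symm' T u1 u0, taq_0_1, (h2 u1).2, z_1_2, tap_1_3, tap_1_4, z_1_5, z_1_6] at key
                      exact mul_left_cancel₀ (T.w_pos u1).ne' (by linarith only [key])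
                    have r_2 : 1 * T.m u0 + -2 * T.m u2 = 0 := by
                      have key := Groth.Agent.Helper6.NT.rowfun7 T u0 u1 u2 u3 u4 u5 u6 hinj u2
                      rw [Groth.Agent.Helper6.NT.symm' T u2 u0, taq_0_2, Groth.Agent.Helper6.NT.symm' T u2 u1, z_1_2, (h2 u2).2, z_2_3, z_2_4, z_2_5, z_2_6] at key
                      exact mul_left_cancel₀ (T.w_pos u2).ne' (by linarith only [key])
                    have r_3 : 1 * T.m u1 + -2 * T.m u3 + 1 * T.m u5 = 0 := by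
                      have key := Groth.Agent.Helper6.NT.rowfun7 T u0 u1 u2 u3 u4 u5 u6 hinj u3
                      rw [Groth.Agent.Helper6.NT.symm' T u3 u0, z_0_3, Groth.Agent.Helper6.NT.symm' T u3 u1, taq_1_3, Groth.Agent.Helper6.NT.symm' T u3 u2, z_2_3, (h2 u3).2, z_3_4, tap_3_5, z_3_6] at key
                      exact mul_left_cancel₀ (T.w_pos u3).ne' (by linarith only [key])
                    have r_4 : 1 * T.m u1 + -2 * T.m u4 = 0 := by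
                      have key := Groth.Agent.Helper6.NT.rowfun7 T u0 u1 u2 u3 u4 u5 u6 hinj u4
                      rw [Groth.Agent.Helper6.NT.symm' T u4 u0, z_0_4, Groth.Agent.Helper6.NT.symm' T u4 u1, taq_1_4, Groth.Agent.Helper6.NT.symm' T u4 u2, z_2_4, Groth.Agent.Helper6.NT.symm' T u4 u3, z_3_4, (h2 u4).2, z_4_5, z_4_6] at key
                      exact mul_left_cancel₀ (T.w_pos u4).ne' (by linarith only [key])
                    have r_5 : 1 * T.m u3 + -2 * T.m u5 + 1 * T.m u6 = 0 := by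
                      have key := Groth.Agent.Helper6.NT.rowfun7 T u0 u1 u2 u3 u4 u5 u6 hinj u5
                      rw [Groth.Agent.Helper6.NT.symm' T u5 u0, z_0_5, Groth.Agent.Helper6.NT.symm' T u5 u1, z_1_5, Groth.Agent.Helper6.NT.symm' T u5 u2, z_2_5, Groth.Agent.Helper6.NT.symm' T u5 u3, taq_3_5, Groth.Agent.Helper6.NT.symm' T u5 u4, z_4_5, (h2 u5).2, tap_5_6] at key
                      exact mul_left_cancel₀ (T.w_pos u5).ne' (by linarith only [key])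
                    have r_6 : 1 * T.m u5 + -2 * T.m u6 = 0 := by
                      have key := Groth.Agent.Helper6.NT.rowfun7 T u0 u1 u2 u3 u4 u5 u6 hinj u6
                      rw [Groth.Agent.Helper6.NT.symm' T u6 u0, z_0_6, Groth.Agent.Helper6.NT.symm' T u6 u1, z_1_6, Groth.Agent.Helper6.NT.symm' T u6 u2, z_2_6, Groth.Agent.Helper6.NT.symm' T u6 u3, z_3_6, Groth.Agent.Helper6.NT.symm' T u6 u4, z_4_6, Groth.Agent.Helper6.NT.symm' T u6 u5, taq_5_6, (h2 u6).2] at key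
                      exact mul_left_cancel₀ (T.w_pos u6).ne' (by linarith only [key])
                    exfalso
                    linarith only [r_0, r_1, r_2, r_3, r_4, r_5, r_6, T.m_pos u0, T.m_pos u1, T.m_pos u2, T.m_pos u3, T.m_pos u4, T.m_pos u5, T.m_pos u6]
                  · -- (5,6) Dp
                    exfalso
                    have key := Groth.Agent.Helper6.NT.negfun6 T h2 u0 u1 u3 u4 u5 u6 (by norm_num) 1 2 2 1 2 1 (by norm_num) (by norm_num)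
                    linarith only [key, tap_0_1, taq_0_1, z_0_3, z_0_4, z_0_5, z_0_6, tap_1_3, taq_1_3, tap_1_4, taq_1_4, z_1_5, z_1_6, z_3_4, tap_3_5, taq_3_5, z_3_6, z_4_5, z_4_6, tap_5_6, taq_5_6, T.w_pos u0, T.w_pos u1, T.w_pos u3, T.w_pos u4, T.w_pos u5, T.w_pos u6]
                  · -- (5,6) Dm
                    exfalso
                    have key := Groth.Agent.Helper6.NT.negfun6 T h2 u0 u1 u3 u4 u5 u6 (by norm_num) 1 2 2 1 2 2 (by norm_num) (by norm_num)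
                    linarith only [key, tap_0_1, taq_0_1, z_0_3, z_0_4, z_0_5, z_0_6, tap_1_3, taq_1_3, tap_1_4, taq_1_4, z_1_5, z_1_6, z_3_4, tap_3_5, taq_3_5, z_3_6, z_4_5, z_4_6, tap_5_6, taq_5_6, T.w_pos u0, T.w_pos u1, T.w_pos u3, T.w_pos u4, T.w_pos u5, T.w_pos u6]
                  · -- (5,6) Tp
                    exfalso
                    have key := Groth.Agent.Helper6.NT.negfun3 T h2 u3 u5 u6 (by norm_num) 1 2 1 (by norm_num) (by norm_num)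
                    linarith only [key, tap_3_5, taq_3_5, z_3_6, tap_5_6, taq_5_6, T.w_pos u3, T.w_pos u5, T.w_pos u6]
                  · -- (5,6) Tm
                    exfalso
                    have key := Groth.Agent.Helper6.NT.negfun3 T h2 u3 u5 u6 (by norm_num) 1 2 3 (by norm_num) (by norm_num)
                    linarith only [key, tap_3_5, taq_3_5, z_3_6, tap_5_6, taq_5_6, T.w_pos u3, T.w_pos u5, T.w_pos u6]
                · push Not at hx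
                  have cl_5 := hx
                  clear hx
                  exfalso
                  refine Groth.Agent.Helper6.NT.closed_contra T [u0, u1, u2, u3, u4, u5] (by simp) (by simp) ?_
                  intro i hi j hj
                  simp only [List.mem_cons, List.not_mem_nil, or_false, not_or] at hi hj
                  rcases hi with rfl | rfl | rfl | rfl | rfl | rfl
                  · exact cl_0 j ⟨hj.1, hj.2.1, hj.2.2.1⟩
                  · exact cl_1 j ⟨hj.1, hj.2.1, hj.2.2.1, hj.2.2.2.1, hj.2.2.2.2.1⟩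
                  · exact cl_2 j ⟨hj.1, hj.2.1, hj.2.2.1, hj.2.2.2.1, hj.2.2.2.2.1⟩
                  · exact cl_3 j ⟨hj.1, hj.2.1, hj.2.2.1, hj.2.2.2.1, hj.2.2.2.2.1, hj.2.2.2.2.2⟩
                  · exact cl_4 j ⟨hj.1, hj.2.1, hj.2.2.1, hj.2.2.2.1, hj.2.2.2.2.1, hj.2.2.2.2.2⟩
                  · exact cl_5 j ⟨hj.1, hj.2.1, hj.2.2.1, hj.2.2.2.1, hj.2.2.2.2.1, hj.2.2.2.2.2⟩
          · -- (4,5) nonzero
            obtain ⟨lbp_4_5, lbq_4_5⟩ := Groth.Agent.Helper6.NT.lb T u4 u5 hn_5_4.symm nz_4_5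
            exfalso
            have key := Groth.Agent.Helper6.NT.negfun4 T h2 u1 u3 u4 u5 (by norm_num) 1 1 1 1 (by norm_num) (by norm_num)
            linarith only [key, tap_1_3, taq_1_3, tap_1_4, taq_1_4, z_1_5, z_3_4, tap_3_5, taq_3_5, lbp_4_5, lbq_4_5, T.w_pos u1, T.w_pos u3, T.w_pos u4, T.w_pos u5]
        · -- (3,5) Dp
          exfalso
          have key := Groth.Agent.Helper6.NT.negfun5 T h2 u0 u1 u3 u4 u5 (by norm_num) 1 2 2 1 1 (by norm_num) (by norm_num)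
          linarith only [key, tap_0_1, taq_0_1, z_0_3, z_0_4, z_0_5, tap_1_3, taq_1_3, tap_1_4, taq_1_4, z_1_5, z_3_4, tap_3_5, taq_3_5, T.offDiag_nonneg u4 u5 hn_5_4.symm, T.w_pos u0, T.w_pos u1, T.w_pos u3, T.w_pos u4, T.w_pos u5]
        · -- (3,5) Dm
          exfalso
          have key := Groth.Agent.Helper6.NT.negfun5 T h2 u0 u1 u3 u4 u5 (by norm_num) 1 2 2 1 2 (by norm_num) (by norm_num)
          linarith only [key, tap_0_1, taq_0_1, z_0_3, z_0_4, z_0_5, tap_1_3, taq_1_3, tap_1_4, taq_1_4, z_1_5, z_3_4, tap_3_5, taq_3_5, T.offDiag_nonneg u4 u5 hn_5_4.symm, T.w_pos u0, T.w_pos u1, T.w_pos u3, T.w_pos u4, T.w_pos u5]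
        · -- (3,5) Tp
          exfalso
          have key := Groth.Agent.Helper6.NT.negfun3 T h2 u1 u3 u5 (by norm_num) 1 2 1 (by norm_num) (by norm_num)
          linarith only [key, tap_1_3, taq_1_3, z_1_5, tap_3_5, taq_3_5, T.w_pos u1, T.w_pos u3, T.w_pos u5]
        · -- (3,5) Tm
          exfalso
          have key := Groth.Agent.Helper6.NT.negfun3 T h2 u1 u3 u5 (by norm_num) 1 2 3 (by norm_num) (by norm_num)
          linarith only [key, tap_1_3, taq_1_3, z_1_5, tap_3_5, taq_3_5, T.w_pos u1, T.w_pos u3, T.w_pos u5]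
      · push Not at hx
        have cl_3 := hx
        clear hx
        by_cases hx : ∃ j, (j ≠ u0 ∧ j ≠ u1 ∧ j ≠ u2 ∧ j ≠ u3 ∧ j ≠ u4) ∧ T.a u4 j ≠ 0
        · obtain ⟨u5, ⟨hn_5_0, hn_5_1, hn_5_2, hn_5_3, hn_5_4⟩, e_4_5⟩ := hx
          have z_0_5 : T.a u0 u5 = 0 := cl_0 u5 ⟨hn_5_0, hn_5_1, hn_5_2⟩
          have z_1_5 : T.a u1 u5 = 0 := cl_1 u5 ⟨hn_5_0, hn_5_1, hn_5_2, hn_5_3, hn_5_4⟩
          have z_2_5 : T.a u2 u5 = 0 := cl_2 u5 ⟨hn_5_0, hn_5_1, hn_5_2, hn_5_3, hn_5_4⟩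
          have z_3_5 : T.a u3 u5 = 0 := cl_3 u5 ⟨hn_5_0, hn_5_1, hn_5_2, hn_5_3, hn_5_4⟩
          rcases Groth.Agent.Helper6.NT.edge5 T h2 (by norm_num) u4 u5 hn_5_4.symm e_4_5 with ⟨tw_4_5, tap_4_5, taq_4_5⟩ | ⟨tw_4_5, tap_4_5, taq_4_5⟩ | ⟨tw_4_5, tap_4_5, taq_4_5⟩ | ⟨tw_4_5, tap_4_5, taq_4_5⟩ | ⟨tw_4_5, tap_4_5, taq_4_5⟩
          · -- (4,5) S
            by_cases hx : ∃ j, (j ≠ u0 ∧ j ≠ u1 ∧ j ≠ u2 ∧ j ≠ u3 ∧ j ≠ u4 ∧ j ≠ u5) ∧ T.a u4 j ≠ 0
            · obtain ⟨u6, ⟨hn_6_0, hn_6_1, hn_6_2, hn_6_3, hn_6_4, hn_6_5⟩, e_4_6⟩ := hx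
              have z_0_6 : T.a u0 u6 = 0 := cl_0 u6 ⟨hn_6_0, hn_6_1, hn_6_2⟩
              have z_1_6 : T.a u1 u6 = 0 := cl_1 u6 ⟨hn_6_0, hn_6_1, hn_6_2, hn_6_3, hn_6_4⟩
              have z_2_6 : T.a u2 u6 = 0 := cl_2 u6 ⟨hn_6_0, hn_6_1, hn_6_2, hn_6_3, hn_6_4⟩
              have z_3_6 : T.a u3 u6 = 0 := cl_3 u6 ⟨hn_6_0, hn_6_1, hn_6_2, hn_6_3, hn_6_4⟩
              rcases Groth.Agent.Helper6.NT.edge5 T h2 (by norm_num) u4 u6 hn_6_4.symm e_4_6 with ⟨tw_4_6, tap_4_6, taq_4_6⟩ | ⟨tw_4_6, tap_4_6, taq_4_6⟩ | ⟨tw_4_6, tap_4_6, taq_4_6⟩ | ⟨tw_4_6, tap_4_6, taq_4_6⟩ | ⟨tw_4_6, tap_4_6, taq_4_6⟩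
              · -- (4,6) S
                exfalso
                have key := Groth.Agent.Helper6.NT.negfun6 T h2 u0 u1 u3 u4 u5 u6 (by norm_num) 1 2 1 2 1 1 (by norm_num) (by norm_num)
                linarith only [key, tap_0_1, taq_0_1, z_0_3, z_0_4, z_0_5, z_0_6, tap_1_3, taq_1_3, tap_1_4, taq_1_4, z_1_5, z_1_6, z_3_4, z_3_5, z_3_6, tap_4_5, taq_4_5, tap_4_6, taq_4_6, T.offDiag_nonneg u5 u6 hn_6_5.symm, T.w_pos u0, T.w_pos u1, T.w_pos u3, T.w_pos u4, T.w_pos u5, T.w_pos u6]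
              · -- (4,6) Dp
                exfalso
                have key := Groth.Agent.Helper6.NT.negfun4 T h2 u1 u4 u5 u6 (by norm_num) 1 2 1 1 (by norm_num) (by norm_num)
                linarith only [key, tap_1_4, taq_1_4, z_1_5, z_1_6, tap_4_5, taq_4_5, tap_4_6, taq_4_6, T.offDiag_nonneg u5 u6 hn_6_5.symm, T.w_pos u1, T.w_pos u4, T.w_pos u5, T.w_pos u6]
              · -- (4,6) Dm
                exfalso
                have key := Groth.Agent.Helper6.NT.negfun4 T h2 u1 u4 u5 u6 (by norm_num) 1 2 1 2 (by norm_num) (by norm_num)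
                linarith only [key, tap_1_4, taq_1_4, z_1_5, z_1_6, tap_4_5, taq_4_5, tap_4_6, taq_4_6, T.offDiag_nonneg u5 u6 hn_6_5.symm, T.w_pos u1, T.w_pos u4, T.w_pos u5, T.w_pos u6]
              · -- (4,6) Tp
                exfalso
                have key := Groth.Agent.Helper6.NT.negfun3 T h2 u4 u5 u6 (by norm_num) 2 1 1 (by norm_num) (by norm_num)
                linarith only [key, tap_4_5, taq_4_5, tap_4_6, taq_4_6, T.offDiag_nonneg u5 u6 hn_6_5.symm, T.w_pos u4, T.w_pos u5, T.w_pos u6]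
              · -- (4,6) Tm
                exfalso
                have key := Groth.Agent.Helper6.NT.negfun3 T h2 u4 u5 u6 (by norm_num) 2 1 3 (by norm_num) (by norm_num)
                linarith only [key, tap_4_5, taq_4_5, tap_4_6, taq_4_6, T.offDiag_nonneg u5 u6 hn_6_5.symm, T.w_pos u4, T.w_pos u5, T.w_pos u6]
            · push Not at hx
              have cl_4 := hx
              clear hx
              by_cases hx : ∃ j, (j ≠ u0 ∧ j ≠ u1 ∧ j ≠ u2 ∧ j ≠ u3 ∧ j ≠ u4 ∧ j ≠ u5) ∧ T.a u5 j ≠ 0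
              · obtain ⟨u6, ⟨hn_6_0, hn_6_1, hn_6_2, hn_6_3, hn_6_4, hn_6_5⟩, e_5_6⟩ := hx
                have z_0_6 : T.a u0 u6 = 0 := cl_0 u6 ⟨hn_6_0, hn_6_1, hn_6_2⟩
                have z_1_6 : T.a u1 u6 = 0 := cl_1 u6 ⟨hn_6_0, hn_6_1, hn_6_2, hn_6_3, hn_6_4⟩
                have z_2_6 : T.a u2 u6 = 0 := cl_2 u6 ⟨hn_6_0, hn_6_1, hn_6_2, hn_6_3, hn_6_4⟩
                have z_3_6 : T.a u3 u6 = 0 := cl_3 u6 ⟨hn_6_0, hn_6_1, hn_6_2, hn_6_3, hn_6_4⟩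
                have z_4_6 : T.a u4 u6 = 0 := cl_4 u6 ⟨hn_6_0, hn_6_1, hn_6_2, hn_6_3, hn_6_4, hn_6_5⟩
                rcases Groth.Agent.Helper6.NT.edge5 T h2 (by norm_num) u5 u6 hn_6_5.symm e_5_6 with ⟨tw_5_6, tap_5_6, taq_5_6⟩ | ⟨tw_5_6, tap_5_6, taq_5_6⟩ | ⟨tw_5_6, tap_5_6, taq_5_6⟩ | ⟨tw_5_6, tap_5_6, taq_5_6⟩ | ⟨tw_5_6, tap_5_6, taq_5_6⟩
                · -- (5,6) S
                  have hinj := Groth.Agent.Helper6.NT.inj7 u0 u1 u2 u3 u4 u5 u6 hn_1_0 hn_2_0 hn_2_1 hn_3_0 hn_3_1 hn_3_2 hn_4_0 hn_4_1 hn_4_2 hn_4_3 hn_5_0 hn_5_1 hn_5_2 hn_5_3 hn_5_4 hn_6_0 hn_6_1 hn_6_2 hn_6_3 hn_6_4 hn_6_5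
                  have r_0 : -2 * T.m u0 + 1 * T.m u1 + 1 * T.m u2 = 0 := by
                    have key := Groth.Agent.Helper6.NT.rowfun7 T u0 u1 u2 u3 u4 u5 u6 hinj u0
                    rw [(h2 u0).2, tap_0_1, tap_0_2, z_0_3, z_0_4, z_0_5, z_0_6] at key
                    exact mul_left_cancel₀ (T.w_pos u0).ne' (by linarith only [key])
                  have r_1 : 1 * T.m u0 + -2 * T.m u1 + 1 * T.m u3 + 1 * T.m u4 = 0 := by
                    have key := Groth.Agent.Helper6.NT.rowfun7 T u0 u1 u2 u3 u4 u5 u6 hinj u1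
                    rw [Groth.Agent.Helper6.NT.symm' T u1 u0, taq_0_1, (h2 u1).2, z_1_2, tap_1_3, tap_1_4, z_1_5, z_1_6] at key
                    exact mul_left_cancel₀ (T.w_pos u1).ne' (by linarith only [key])
                  have r_2 : 1 * T.m u0 + -2 * T.m u2 = 0 := by
                    have key := Groth.Agent.Helper6.NT.rowfun7 T u0 u1 u2 u3 u4 u5 u6 hinj u2
                    rw [Groth.Agent.Helper6.NT.symm' T u2 u0, taq_0_2, Groth.Agent.Helper6.NT.symm' T u2 u1, z_1_2, (h2 u2).2, z_2_3, z_2_4, z_2_5, z_2_6] at key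
                    exact mul_left_cancel₀ (T.w_pos u2).ne' (by linarith only [key])
                  have r_3 : 1 * T.m u1 + -2 * T.m u3 = 0 := by
                    have key := Groth.Agent.Helper6.NT.rowfun7 T u0 u1 u2 u3 u4 u5 u6 hinj u3
                    rw [Groth.Agent.Helper6.NT.symm' T u3 u0, z_0_3, Groth.Agent.Helper6.NT.symm' T u3 u1, taq_1_3, Groth.Agent.Helper6.NT.symm' T u3 u2, z_2_3, (h2 u3).2, z_3_4, z_3_5, z_3_6] at key
                    exact mul_left_cancel₀ (T.w_pos u3).ne' (by linarith only [key])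
                  have r_4 : 1 * T.m u1 + -2 * T.m u4 + 1 * T.m u5 = 0 := by
                    have key := Groth.Agent.Helper6.NT.rowfun7 T u0 u1 u2 u3 u4 u5 u6 hinj u4
                    rw [Groth.Agent.Helper6.NT.symm' T u4 u0, z_0_4, Groth.Agent.Helper6.NT.symm' T u4 u1, taq_1_4, Groth.Agent.Helper6.NT.symm' T u4 u2, z_2_4, Groth.Agent.Helper6.NT.symm' T u4 u3, z_3_4, (h2 u4).2, tap_4_5, z_4_6] at key
                    exact mul_left_cancel₀ (T.w_pos u4).ne' (by linarith only [key])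
                  have r_5 : 1 * T.m u4 + -2 * T.m u5 + 1 * T.m u6 = 0 := by
                    have key := Groth.Agent.Helper6.NT.rowfun7 T u0 u1 u2 u3 u4 u5 u6 hinj u5
                    rw [Groth.Agent.Helper6.NT.symm' T u5 u0, z_0_5, Groth.Agent.Helper6.NT.symm' T u5 u1, z_1_5, Groth.Agent.Helper6.NT.symm' T u5 u2, z_2_5, Groth.Agent.Helper6.NT.symm' T u5 u3, z_3_5, Groth.Agent.Helper6.NT.symm' T u5 u4, taq_4_5, (h2 u5).2, tap_5_6] at key
                    exact mul_left_cancel₀ (T.w_pos u5).ne' (by linarith only [key])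
                  have r_6 : 1 * T.m u5 + -2 * T.m u6 = 0 := by
                    have key := Groth.Agent.Helper6.NT.rowfun7 T u0 u1 u2 u3 u4 u5 u6 hinj u6
                    rw [Groth.Agent.Helper6.NT.symm' T u6 u0, z_0_6, Groth.Agent.Helper6.NT.symm' T u6 u1, z_1_6, Groth.Agent.Helper6.NT.symm' T u6 u2, z_2_6, Groth.Agent.Helper6.NT.symm' T u6 u3, z_3_6, Groth.Agent.Helper6.NT.symm' T u6 u4, z_4_6, Groth.Agent.Helper6.NT.symm' T u6 u5, taq_5_6, (h2 u6).2] at key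
                    exact mul_left_cancel₀ (T.w_pos u6).ne' (by linarith only [key])
                  exfalso
                  linarith only [r_0, r_1, r_2, r_3, r_4, r_5, r_6, T.m_pos u0, T.m_pos u1, T.m_pos u2, T.m_pos u3, T.m_pos u4, T.m_pos u5, T.m_pos u6]
                · -- (5,6) Dp
                  exfalso
                  have key := Groth.Agent.Helper6.NT.negfun6 T h2 u0 u1 u3 u4 u5 u6 (by norm_num) 1 2 1 2 2 1 (by norm_num) (by norm_num)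
                  linarith only [key, tap_0_1, taq_0_1, z_0_3, z_0_4, z_0_5, z_0_6, tap_1_3, taq_1_3, tap_1_4, taq_1_4, z_1_5, z_1_6, z_3_4, z_3_5, z_3_6, tap_4_5, taq_4_5, z_4_6, tap_5_6, taq_5_6, T.w_pos u0, T.w_pos u1, T.w_pos u3, T.w_pos u4, T.w_pos u5, T.w_pos u6]
                · -- (5,6) Dm
                  exfalso
                  have key := Groth.Agent.Helper6.NT.negfun6 T h2 u0 u1 u3 u4 u5 u6 (by norm_num) 1 2 1 2 2 2 (by norm_num) (by norm_num)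
                  linarith only [key, tap_0_1, taq_0_1, z_0_3, z_0_4, z_0_5, z_0_6, tap_1_3, taq_1_3, tap_1_4, taq_1_4, z_1_5, z_1_6, z_3_4, z_3_5, z_3_6, tap_4_5, taq_4_5, z_4_6, tap_5_6, taq_5_6, T.w_pos u0, T.w_pos u1, T.w_pos u3, T.w_pos u4, T.w_pos u5, T.w_pos u6]
                · -- (5,6) Tp
                  exfalso
                  have key := Groth.Agent.Helper6.NT.negfun3 T h2 u4 u5 u6 (by norm_num) 1 2 1 (by norm_num) (by norm_num)
                  linarith only [key, tap_4_5, taq_4_5, z_4_6, tap_5_6, taq_5_6, T.w_pos u4, T.w_pos u5, T.w_pos u6]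
                · -- (5,6) Tm
                  exfalso
                  have key := Groth.Agent.Helper6.NT.negfun3 T h2 u4 u5 u6 (by norm_num) 1 2 3 (by norm_num) (by norm_num)
                  linarith only [key, tap_4_5, taq_4_5, z_4_6, tap_5_6, taq_5_6, T.w_pos u4, T.w_pos u5, T.w_pos u6]
              · push Not at hx
                have cl_5 := hx
                clear hx
                exfalso
                refine Groth.Agent.Helper6.NT.closed_contra T [u0, u1, u2, u3, u4, u5] (by simp) (by simp) ?_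
                intro i hi j hj
                simp only [List.mem_cons, List.not_mem_nil, or_false, not_or] at hi hj
                rcases hi with rfl | rfl | rfl | rfl | rfl | rfl
                · exact cl_0 j ⟨hj.1, hj.2.1, hj.2.2.1⟩
                · exact cl_1 j ⟨hj.1, hj.2.1, hj.2.2.1, hj.2.2.2.1, hj.2.2.2.2.1⟩
                · exact cl_2 j ⟨hj.1, hj.2.1, hj.2.2.1, hj.2.2.2.1, hj.2.2.2.2.1⟩
                · exact cl_3 j ⟨hj.1, hj.2.1, hj.2.2.1, hj.2.2.2.1, hj.2.2.2.2.1⟩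
                · exact cl_4 j ⟨hj.1, hj.2.1, hj.2.2.1, hj.2.2.2.1, hj.2.2.2.2.1, hj.2.2.2.2.2⟩
                · exact cl_5 j ⟨hj.1, hj.2.1, hj.2.2.1, hj.2.2.2.1, hj.2.2.2.2.1, hj.2.2.2.2.2⟩
          · -- (4,5) Dp
            exfalso
            have key := Groth.Agent.Helper6.NT.negfun5 T h2 u0 u1 u3 u4 u5 (by norm_num) 1 2 1 2 1 (by norm_num) (by norm_num)
            linarith only [key, tap_0_1, taq_0_1, z_0_3, z_0_4, z_0_5, tap_1_3, taq_1_3, tap_1_4, taq_1_4, z_1_5, z_3_4, z_3_5, tap_4_5, taq_4_5, T.w_pos u0, T.w_pos u1, T.w_pos u3, T.w_pos u4, T.w_pos u5]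
          · -- (4,5) Dm
            exfalso
            have key := Groth.Agent.Helper6.NT.negfun5 T h2 u0 u1 u3 u4 u5 (by norm_num) 1 2 1 2 2 (by norm_num) (by norm_num)
            linarith only [key, tap_0_1, taq_0_1, z_0_3, z_0_4, z_0_5, tap_1_3, taq_1_3, tap_1_4, taq_1_4, z_1_5, z_3_4, z_3_5, tap_4_5, taq_4_5, T.w_pos u0, T.w_pos u1, T.w_pos u3, T.w_pos u4, T.w_pos u5]
          · -- (4,5) Tp
            exfalso
            have key := Groth.Agent.Helper6.NT.negfun3 T h2 u1 u4 u5 (by norm_num) 1 2 1 (by norm_num) (by norm_num)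
            linarith only [key, tap_1_4, taq_1_4, z_1_5, tap_4_5, taq_4_5, T.w_pos u1, T.w_pos u4, T.w_pos u5]
          · -- (4,5) Tm
            exfalso
            have key := Groth.Agent.Helper6.NT.negfun3 T h2 u1 u4 u5 (by norm_num) 1 2 3 (by norm_num) (by norm_num)
            linarith only [key, tap_1_4, taq_1_4, z_1_5, tap_4_5, taq_4_5, T.w_pos u1, T.w_pos u4, T.w_pos u5]
        · push Not at hx
          have cl_4 := hx
          clear hx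
          exfalso
          refine Groth.Agent.Helper6.NT.closed_contra T [u0, u1, u2, u3, u4] (by simp) (by simp) ?_
          intro i hi j hj
          simp only [List.mem_cons, List.not_mem_nil, or_false, not_or] at hi hj
          rcases hi with rfl | rfl | rfl | rfl | rfl
          · exact cl_0 j ⟨hj.1, hj.2.1, hj.2.2.1⟩
          · exact cl_1 j ⟨hj.1, hj.2.1, hj.2.2.1, hj.2.2.2.1, hj.2.2.2.2⟩
          · exact cl_2 j ⟨hj.1, hj.2.1, hj.2.2.1, hj.2.2.2.1, hj.2.2.2.2⟩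
          · exact cl_3 j ⟨hj.1, hj.2.1, hj.2.2.1, hj.2.2.2.1, hj.2.2.2.2⟩
          · exact cl_4 j ⟨hj.1, hj.2.1, hj.2.2.1, hj.2.2.2.1, hj.2.2.2.2⟩

end Groth.Agent.Helper6.G1
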