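import Groth.Agent.Lib.Helper6.NumType16

/-! Generated case analysis for the genus one classification, n = 7, part 1. -/

set_option linter.unusedVariables false

namespace Groth.Agent.Helper6.G1

theorem cut7_6 (T : Models.NumericalType 7) (h2 : ∀ i, T.IsMinusTwo i) (u0 u1 u2 u3 u4 : Fin 7)
    (hn_1_0 : u1 ≠ u0)
    (e_0_1 : T.a u0 u1 ≠ 0)
    (tw_0_1 : T.w u1 = T.w u0)
    (tap_0_1 : T.a u0 u1 = T.w u0)
    (taq_0_1 : T.a u0 u1 = T.w u1)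
    (hn_2_0 : u2 ≠ u0)
    (hn_2_1 : u2 ≠ u1)
    (e_0_2 : T.a u0 u2 ≠ 0)
    (tw_0_2 : T.w u2 = T.w u0)
    (tap_0_2 : T.a u0 u2 = T.w u0)
    (taq_0_2 : T.a u0 u2 = T.w u2)
    (z_1_2 : T.a u1 u2 = 0)
    (cl_0 : ∀ j : Fin 7, (j ≠ u0 ∧ j ≠ u1 ∧ j ≠ u2) → T.a u0 j = 0)
    (hn_3_0 : u3 ≠ u0)
    (hn_3_1 : u3 ≠ u1)
    (hn_3_2 : u3 ≠ u2)
    (e_1_3 : T.a u1 u3 ≠ 0)
    (z_0_3 : T.a u0 u3 = 0)
    (tw_1_3 : T.w u3 = T.w u1)
    (tap_1_3 : T.a u1 u3 = T.w u1)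
    (taq_1_3 : T.a u1 u3 = T.w u3)
    (z_2_3 : T.a u2 u3 = 0)
    (cl_1 : ∀ j : Fin 7, (j ≠ u0 ∧ j ≠ u1 ∧ j ≠ u2 ∧ j ≠ u3) → T.a u1 j = 0)
    (hn_4_0 : u4 ≠ u0)
    (hn_4_1 : u4 ≠ u1)
    (hn_4_2 : u4 ≠ u2)
    (hn_4_3 : u4 ≠ u3)
    (e_2_4 : T.a u2 u4 ≠ 0)
    (z_0_4 : T.a u0 u4 = 0)
    (z_1_4 : T.a u1 u4 = 0)
    (tw_2_4 : T.w u4 = T.w u2)
    (tap_2_4 : T.a u2 u4 = T.w u2)
    (taq_2_4 : T.a u2 u4 = T.w u4)
    (z_3_4 : T.a u3 u4 = 0) :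
    ∃ (σ : Equiv.Perm (Fin 7)) (m w : ℤ), ((T.m (σ 0) = m ∧ T.m (σ 1) = m ∧ T.m (σ 2) = m ∧ T.m (σ 3) = m ∧ T.m (σ 4) = m ∧ T.m (σ 5) = m ∧ T.m (σ 6) = m ∧ T.w (σ 0) = w ∧ T.w (σ 1) = w ∧ T.w (σ 2) = w ∧ T.w (σ 3) = w ∧ T.w (σ 4) = w ∧ T.w (σ 5) = w ∧ T.w (σ 6) = w ∧ T.a (σ 0) (σ 0) = -2 * w ∧ T.a (σ 0) (σ 1) = w ∧ T.a (σ 0) (σ 2) = 0 ∧ T.a (σ 0) (σ 3) = 0 ∧ T.a (σ 0) (σ 4) = 0 ∧ T.a (σ 0) (σ 5) = 0 ∧ T.a (σ 0) (σ 6) = w ∧ T.a (σ 1) (σ 1) = -2 * w ∧ T.a (σ 1) (σ 2) = w ∧ T.a (σ 1) (σ 3) = 0 ∧ T.a (σ 1) (σ 4) = 0 ∧ T.a (σ 1) (σ 5) = 0 ∧ T.a (σ 1) (σ 6) = 0 ∧ T.a (σ 2) (σ 2) = -2 * w ∧ T.a (σ 2) (σ 3) = w ∧ T.a (σ 2) (σ 4) = 0 ∧ T.a (σ 2) (σ 5) = 0 ∧ T.a (σ 2) (σ 6) = 0 ∧ T.a (σ 3) (σ 3) = -2 * w ∧ T.a (σ 3) (σ 4) = w ∧ T.a (σ 3) (σ 5) = 0 ∧ T.a (σ 3) (σ 6) = 0 ∧ T.a (σ 4) (σ 4) = -2 * w ∧ T.a (σ 4) (σ 5) = w ∧ T.a (σ 4) (σ 6) = 0 ∧ T.a (σ 5) (σ 5) = -2 * w ∧ T.a (σ 5) (σ 6) =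 w ∧ T.a (σ 6) (σ 6) = -2 * w) ∨ (T.m (σ 0) = 2 * m ∧ T.m (σ 1) = 2 * m ∧ T.m (σ 2) = 2 * m ∧ T.m (σ 3) = 2 * m ∧ T.m (σ 4) = 2 * m ∧ T.m (σ 5) = 2 * m ∧ T.m (σ 6) = m ∧ T.w (σ 0) = w ∧ T.w (σ 1) = 2 * w ∧ T.w (σ 2) = 2 * w ∧ T.w (σ 3) = 2 * w ∧ T.w (σ 4) = 2 * w ∧ T.w (σ 5) = 2 * w ∧ T.w (σ 6) = 4 * w ∧ T.a (σ 0) (σ 0) = -2 * w ∧ T.a (σ 0) (σ 1) = 2 * w ∧ T.a (σ 0) (σ 2) = 0 ∧ T.a (σ 0) (σ 3) = 0 ∧ T.a (σ 0) (σ 4) = 0 ∧ T.a (σ 0) (σ 5) = 0 ∧ T.a (σ 0) (σ 6) = 0 ∧ T.a (σ 1) (σ 1) = -4 * w ∧ T.a (σ 1) (σ 2) = 2 * w ∧ T.a (σ 1) (σ 3) = 0 ∧ T.a (σ 1) (σ 4) = 0 ∧ T.a (σ 1) (σ 5) = 0 ∧ T.a (σ 1) (σ 6) = 0 ∧ T.a (σ 2) (σ 2) = -4 * w ∧ T.a (σ 2) (σ 3) = 2 * w ∧ T.a (σ 2) (σ 4) = 0 ∧ T.a (σ 2) (σ 5) = 0 ∧ T.a (σ 2) (σ 6) = 0 ∧ T.a (σ 3) (σ 3) = -4 * w ∧ T.a (σ 3) (σ 4) = 2 * w ∧ T.a (σ 3) (σ 5) = 0 ∧ T.a (σ 3) (σ 6) = 0 ∧ T.a (σ 4) (σ 4) = -4 * w ∧ T.a (σ 4) (σ 5) = 2 * w ∧ T.a (σ 4)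 (σ 6) = 0 ∧ T.a (σ 5) (σ 5) = -4 * w ∧ T.a (σ 5) (σ 6) = 4 * w ∧ T.a (σ 6) (σ 6) = -8 * w) ∨ (T.m (σ 0) = m ∧ T.m (σ 1) = m ∧ T.m (σ 2) = m ∧ T.m (σ 3) = m ∧ T.m (σ 4) = m ∧ T.m (σ 5) = m ∧ T.m (σ 6) = m ∧ T.w (σ 0) = w ∧ T.w (σ 1) = 2 * w ∧ T.w (σ 2) = 2 * w ∧ T.w (σ 3) = 2 * w ∧ T.w (σ 4) = 2 * w ∧ T.w (σ 5) = 2 * w ∧ T.w (σ 6) = w ∧ T.a (σ 0) (σ 0) = -2 * w ∧ T.a (σ 0) (σ 1) = 2 * w ∧ T.a (σ 0) (σ 2) = 0 ∧ T.a (σ 0) (σ 3) = 0 ∧ T.a (σ 0) (σ 4) = 0 ∧ T.a (σ 0) (σ 5) = 0 ∧ T.a (σ 0) (σ 6) = 0 ∧ T.a (σ 1) (σ 1) = -4 * w ∧ T.a (σ 1) (σ 2) = 2 * w ∧ T.a (σ 1) (σ 3) = 0 ∧ T.a (σ 1) (σ 4) = 0 ∧ T.a (σ 1) (σ 5) = 0 ∧ T.a (σ 1) (σ 6) = 0 ∧ T.a (σ 2) (σ 2) = -4 * w ∧ T.a (σ 2) (σ 3) = 2 * w ∧ T.a (σ 2) (σ 4) = 0 ∧ T.a (σ 2) (σ 5) = 0 ∧ T.a (σ 2) (σ 6) = 0 ∧ T.a (σ 3) (σ 3) = -4 * w ∧ T.a (σ 3) (σ 4) = 2 * w ∧ T.a (σ 3) (σ 5) = 0 ∧ T.a (σ 3) (σ 6) = 0 ∧ T.a (σ 4) (σ 4) = -4 * w ∧ T.a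 (σ 4) (σ 5) = 2 * w ∧ T.a (σ 4) (σ 6) = 0 ∧ T.a (σ 5) (σ 5) = -4 * w ∧ T.a (σ 5) (σ 6) = 2 * w ∧ T.a (σ 6) (σ 6) = -2 * w) ∨ (T.m (σ 0) = m ∧ T.m (σ 1) = 2 * m ∧ T.m (σ 2) = 2 * m ∧ T.m (σ 3) = 2 * m ∧ T.m (σ 4) = 2 * m ∧ T.m (σ 5) = 2 * m ∧ T.m (σ 6) = m ∧ T.w (σ 0) = 2 * w ∧ T.w (σ 1) = w ∧ T.w (σ 2) = w ∧ T.w (σ 3) = w ∧ T.w (σ 4) = w ∧ T.w (σ 5) = w ∧ T.w (σ 6) = 2 * w ∧ T.a (σ 0) (σ 0) = -4 * w ∧ T.a (σ 0) (σ 1) = 2 * w ∧ T.a (σ 0) (σ 2) = 0 ∧ T.a (σ 0) (σ 3) = 0 ∧ T.a (σ 0) (σ 4) = 0 ∧ T.a (σ 0) (σ 5) = 0 ∧ T.a (σ 0) (σ 6) = 0 ∧ T.a (σ 1) (σ 1) = -2 * w ∧ T.a (σ 1) (σ 2) = w ∧ T.a (σ 1) (σ 3) = 0 ∧ T.a (σ 1) (σ 4) = 0 ∧ T.a (σ 1) (σ 5) = 0 ∧ T.a (σ 1) (σ 6) = 0 ∧ T.a (σ 2) (σ 2) = -2 * w ∧ T.a (σ 2) (σ 3) = w ∧ T.a (σ 2) (σ 4) = 0 ∧ T.a (σ 2) (σ 5) = 0 ∧ T.a (σ 2) (σ 6) = 0 ∧ T.a (σ 3) (σ 3) = -2 * w ∧ T.a (σ 3) (σ 4) = w ∧ T.a (σ 3) (σ 5) = 0 ∧ T.a (σ 3) (σ 6) = 0 ∧ T.a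 (σ 4) (σ 4) = -2 * w ∧ T.a (σ 4) (σ 5) = w ∧ T.a (σ 4) (σ 6) = 0 ∧ T.a (σ 5) (σ 5) = -2 * w ∧ T.a (σ 5) (σ 6) = 2 * w ∧ T.a (σ 6) (σ 6) = -4 * w) ∨ (T.m (σ 0) = m ∧ T.m (σ 1) = 2 * m ∧ T.m (σ 2) = 2 * m ∧ T.m (σ 3) = 2 * m ∧ T.m (σ 4) = 2 * m ∧ T.m (σ 5) = m ∧ T.m (σ 6) = m ∧ T.w (σ 0) = 2 * w ∧ T.w (σ 1) = w ∧ T.w (σ 2) = w ∧ T.w (σ 3) = w ∧ T.w (σ 4) = w ∧ T.w (σ 5) = w ∧ T.w (σ 6) = w ∧ T.a (σ 0) (σ 0) = -4 * w ∧ T.a (σ 0) (σ 1) = 2 * w ∧ T.a (σ 0) (σ 2) = 0 ∧ T.a (σ 0) (σ 3) = 0 ∧ T.a (σ 0) (σ 4) = 0 ∧ T.a (σ 0) (σ 5) = 0 ∧ T.a (σ 0) (σ 6) = 0 ∧ T.a (σ 1) (σ 1) = -2 * w ∧ T.a (σ 1) (σ 2) = w ∧ T.a (σ 1) (σ 3) = 0 ∧ T.a (σ 1) (σ 4) = 0 ∧ T.a (σ 1) (σ 5) = 0 ∧ T.a (σ 1) (σ 6) = 0 ∧ T.a (σ 2) (σ 2) = -2 * w ∧ T.a (σ 2) (σ 3) = w ∧ T.a (σ 2) (σ 4) = 0 ∧ T.a (σ 2) (σ 5) = 0 ∧ T.a (σ 2) (σ 6) = 0 ∧ T.a (σ 3) (σ 3) = -2 * w ∧ T.a (σ 3) (σ 4) = w ∧ T.a (σ 3) (σ 5) = 0 ∧ T.a (σ 3)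 (σ 6) = 0 ∧ T.a (σ 4) (σ 4) = -2 * w ∧ T.a (σ 4) (σ 5) = w ∧ T.a (σ 4) (σ 6) = w ∧ T.a (σ 5) (σ 5) = -2 * w ∧ T.a (σ 5) (σ 6) = 0 ∧ T.a (σ 6) (σ 6) = -2 * w) ∨ (T.m (σ 0) = 2 * m ∧ T.m (σ 1) = 2 * m ∧ T.m (σ 2) = 2 * m ∧ T.m (σ 3) = 2 * m ∧ T.m (σ 4) = 2 * m ∧ T.m (σ 5) = m ∧ T.m (σ 6) = m ∧ T.w (σ 0) = w ∧ T.w (σ 1) = 2 * w ∧ T.w (σ 2) = 2 * w ∧ T.w (σ 3) = 2 * w ∧ T.w (σ 4) = 2 * w ∧ T.w (σ 5) = 2 * w ∧ T.w (σ 6) = 2 * w ∧ T.a (σ 0) (σ 0) = -2 * w ∧ T.a (σ 0) (σ 1) = 2 * w ∧ T.a (σ 0) (σ 2) = 0 ∧ T.a (σ 0) (σ 3) = 0 ∧ T.a (σ 0) (σ 4) = 0 ∧ T.a (σ 0) (σ 5) = 0 ∧ T.a (σ 0) (σ 6) = 0 ∧ T.a (σ 1) (σ 1) = -4 * w ∧ T.a (σ 1) (σ 2) = 2 * w ∧ T.a (σ 1) (σ 3) = 0 ∧ T.a (σ 1) (σ 4) = 0 ∧ T.a (σ 1) (σ 5) = 0 ∧ T.a (σ 1) (σ 6) = 0 ∧ T.a (σ 2) (σ 2) = -4 * w ∧ T.a (σ 2) (σ 3) = 2 * w ∧ T.a (σ 2) (σ 4) = 0 ∧ T.a (σ 2) (σ 5) = 0 ∧ T.a (σ 2) (σ 6) = 0 ∧ T.a (σ 3) (σ 3) = -4 * w ∧ T.a (σ 3)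 (σ 4) = 2 * w ∧ T.a (σ 3) (σ 5) = 0 ∧ T.a (σ 3) (σ 6) = 0 ∧ T.a (σ 4) (σ 4) = -4 * w ∧ T.a (σ 4) (σ 5) = 2 * w ∧ T.a (σ 4) (σ 6) = 2 * w ∧ T.a (σ 5) (σ 5) = -4 * w ∧ T.a (σ 5) (σ 6) = 0 ∧ T.a (σ 6) (σ 6) = -4 * w) ∨ (T.m (σ 0) = m ∧ T.m (σ 1) = m ∧ T.m (σ 2) = 2 * m ∧ T.m (σ 3) = 2 * m ∧ T.m (σ 4) = 2 * m ∧ T.m (σ 5) = m ∧ T.m (σ 6) = m ∧ T.w (σ 0) = w ∧ T.w (σ 1) = w ∧ T.w (σ 2) = w ∧ T.w (σ 3) = w ∧ T.w (σ 4) = w ∧ T.w (σ 5) = w ∧ T.w (σ 6) = w ∧ T.a (σ 0) (σ 0) = -2 * w ∧ T.a (σ 0) (σ 1) = 0 ∧ T.a (σ 0) (σ 2) = w ∧ T.a (σ 0) (σ 3) = 0 ∧ T.a (σ 0) (σ 4) = 0 ∧ T.a (σ 0) (σ 5) = 0 ∧ T.a (σ 0) (σ 6) = 0 ∧ T.a (σ 1) (σ 1) = -2 * w ∧ T.a (σ 1) (σ 2) = w ∧ T.a (σ 1) (σ 3) = 0 ∧ T.a (σ 1) (σ 4) = 0 ∧ T.a (σ 1) (σ 5) = 0 ∧ T.a (σ 1) (σ 6) = 0 ∧ T.a (σ 2) (σ 2) = -2 * w ∧ T.a (σ 2) (σ 3) = w ∧ T.a (σ 2) (σ 4) = 0 ∧ T.a (σ 2) (σ 5) = 0 ∧ T.a (σ 2) (σ 6) = 0 ∧ T.a (σ 3) (σ 3) = -2 * w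 ∧ T.a (σ 3) (σ 4) = w ∧ T.a (σ 3) (σ 5) = 0 ∧ T.a (σ 3) (σ 6) = 0 ∧ T.a (σ 4) (σ 4) = -2 * w ∧ T.a (σ 4) (σ 5) = w ∧ T.a (σ 4) (σ 6) = w ∧ T.a (σ 5) (σ 5) = -2 * w ∧ T.a (σ 5) (σ 6) = 0 ∧ T.a (σ 6) (σ 6) = -2 * w) ∨ (T.m (σ 0) = m ∧ T.m (σ 1) = 2 * m ∧ T.m (σ 2) = 3 * m ∧ T.m (σ 3) = m ∧ T.m (σ 4) = 2 * m ∧ T.m (σ 5) = m ∧ T.m (σ 6) = 2 * m ∧ T.w (σ 0) = w ∧ T.w (σ 1) = w ∧ T.w (σ 2) = w ∧ T.w (σ 3) = w ∧ T.w (σ 4) = w ∧ T.w (σ 5) = w ∧ T.w (σ 6) = w ∧ T.a (σ 0) (σ 0) = -2 * w ∧ T.a (σ 0) (σ 1) = w ∧ T.a (σ 0) (σ 2) = 0 ∧ T.a (σ 0) (σ 3) = 0 ∧ T.a (σ 0) (σ 4) = 0 ∧ T.a (σ 0) (σ 5) = 0 ∧ T.a (σ 0) (σ 6) = 0 ∧ T.a (σ 1) (σ 1) = -2 * w ∧ T.a (σ 1) (σ 2) = w ∧ T.a (σ 1) (σ 3) = 0 ∧ T.a (σ 1) (σ 4) = 0 ∧ T.a (σ 1) (σ 5) = 0 ∧ T.a (σ 1) (σ 6) = 0 ∧ T.a (σ 2) (σ 2) = -2 * w ∧ T.a (σ 2) (σ 3) = 0 ∧ T.a (σ 2) (σ 4) = w ∧ T.a (σ 2) (σ 5) = 0 ∧ T.a (σ 2) (σ 6) = w ∧ T.a (σ 3) (σ 3) = -2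 * w ∧ T.a (σ 3) (σ 4) = w ∧ T.a (σ 3) (σ 5) = 0 ∧ T.a (σ 3) (σ 6) = 0 ∧ T.a (σ 4) (σ 4) = -2 * w ∧ T.a (σ 4) (σ 5) = 0 ∧ T.a (σ 4) (σ 6) = 0 ∧ T.a (σ 5) (σ 5) = -2 * w ∧ T.a (σ 5) (σ 6) = w ∧ T.a (σ 6) (σ 6) = -2 * w)) := by
  by_cases hx : ∃ j, (j ≠ u0 ∧ j ≠ u1 ∧ j ≠ u2 ∧ j ≠ u3 ∧ j ≠ u4) ∧ T.a u2 j ≠ 0
  · obtain ⟨u5, ⟨hn_5_0, hn_5_1, hn_5_2, hn_5_3, hn_5_4⟩, e_2_5⟩ := hx
    have z_0_5 : T.a u0 u5 = 0 := cl_0 u5 ⟨hn_5_0, hn_5_1, hn_5_2⟩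
    have z_1_5 : T.a u1 u5 = 0 := cl_1 u5 ⟨hn_5_0, hn_5_1, hn_5_2, hn_5_3⟩
    rcases Groth.Agent.Helper6.NT.edge5 T h2 (by norm_num) u2 u5 hn_5_2.symm e_2_5 with ⟨tw_2_5, tap_2_5, taq_2_5⟩ | ⟨tw_2_5, tap_2_5, taq_2_5⟩ | ⟨tw_2_5, tap_2_5, taq_2_5⟩ | ⟨tw_2_5, tap_2_5, taq_2_5⟩ | ⟨tw_2_5, tap_2_5, taq_2_5⟩
    · -- (2,5) S
      rcases eq_or_ne (T.a u3 u5) 0 with z_3_5 | nz_3_5
      · -- (3,5) zero
        rcases eq_or_ne (T.a u4 u5) 0 with z_4_5 | nz_4_5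
        · -- (4,5) zero
          by_cases hx : ∃ j, (j ≠ u0 ∧ j ≠ u1 ∧ j ≠ u2 ∧ j ≠ u3 ∧ j ≠ u4 ∧ j ≠ u5) ∧ T.a u2 j ≠ 0
          · obtain ⟨u6, ⟨hn_6_0, hn_6_1, hn_6_2, hn_6_3, hn_6_4, hn_6_5⟩, e_2_6⟩ := hx
            have z_0_6 : T.a u0 u6 = 0 := cl_0 u6 ⟨hn_6_0, hn_6_1, hn_6_2⟩
            have z_1_6 : T.a u1 u6 = 0 := cl_1 u6 ⟨hn_6_0, hn_6_1, hn_6_2, hn_6_3⟩
            rcases Groth.Agent.Helper6.NT.edge5 T h2 (by norm_num) u2 u6 hn_6_2.symm e_2_6 with ⟨tw_2_6, tap_2_6, taq_2_6⟩ | ⟨tw_2_6, tap_2_6, taq_2_6⟩ | ⟨tw_2_6, tap_2_6, taq_2_6⟩ | ⟨tw_2_6, tap_2_6, taq_2_6⟩ | ⟨tw_2_6, tap_2_6, taq_2_6⟩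
            · -- (2,6) S
              exfalso
              have key := Groth.Agent.Helper6.NT.negfun5 T h2 u0 u2 u4 u5 u6 (by norm_num) 1 2 1 1 1 (by norm_num) (by norm_num)
              linarith only [key, tap_0_2, taq_0_2, z_0_4, z_0_5, z_0_6, tap_2_4, taq_2_4, tap_2_5, taq_2_5, tap_2_6, taq_2_6, z_4_5, T.offDiag_nonneg u4 u6 hn_6_4.symm, T.offDiag_nonneg u5 u6 hn_6_5.symm, T.w_pos u0, T.w_pos u2, T.w_pos u4, T.w_pos u5, T.w_pos u6]
            · -- (2,6) Dp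
              exfalso
              have key := Groth.Agent.Helper6.NT.negfun4 T h2 u2 u4 u5 u6 (by norm_num) 2 1 1 1 (by norm_num) (by norm_num)
              linarith only [key, tap_2_4, taq_2_4, tap_2_5, taq_2_5, tap_2_6, taq_2_6, z_4_5, T.offDiag_nonneg u4 u6 hn_6_4.symm, T.offDiag_nonneg u5 u6 hn_6_5.symm, T.w_pos u2, T.w_pos u4, T.w_pos u5, T.w_pos u6]
            · -- (2,6) Dm
              exfalso
              have key := Groth.Agent.Helper6.NT.negfun4 T h2 u2 u4 u5 u6 (by norm_num) 2 1 1 2 (by norm_num) (by norm_num)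
              linarith only [key, tap_2_4, taq_2_4, tap_2_5, taq_2_5, tap_2_6, taq_2_6, z_4_5, T.offDiag_nonneg u4 u6 hn_6_4.symm, T.offDiag_nonneg u5 u6 hn_6_5.symm, T.w_pos u2, T.w_pos u4, T.w_pos u5, T.w_pos u6]
            · -- (2,6) Tp
              exfalso
              have key := Groth.Agent.Helper6.NT.negfun3 T h2 u2 u5 u6 (by norm_num) 2 1 1 (by norm_num) (by norm_num)
              linarith only [key, tap_2_5, taq_2_5, tap_2_6, taq_2_6, T.offDiag_nonneg u5 u6 hn_6_5.symm, T.w_pos u2, T.w_pos u5, T.w_pos u6]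
            · -- (2,6) Tm
              exfalso
              have key := Groth.Agent.Helper6.NT.negfun3 T h2 u2 u5 u6 (by norm_num) 2 1 3 (by norm_num) (by norm_num)
              linarith only [key, tap_2_5, taq_2_5, tap_2_6, taq_2_6, T.offDiag_nonneg u5 u6 hn_6_5.symm, T.w_pos u2, T.w_pos u5, T.w_pos u6]
          · push Not at hx
            have cl_2 := hx
            clear hx
            by_cases hx : ∃ j, (j ≠ u0 ∧ j ≠ u1 ∧ j ≠ u2 ∧ j ≠ u3 ∧ j ≠ u4 ∧ j ≠ u5) ∧ T.a u3 j ≠ 0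
            · obtain ⟨u6, ⟨hn_6_0, hn_6_1, hn_6_2, hn_6_3, hn_6_4, hn_6_5⟩, e_3_6⟩ := hx
              have z_0_6 : T.a u0 u6 = 0 := cl_0 u6 ⟨hn_6_0, hn_6_1, hn_6_2⟩
              have z_1_6 : T.a u1 u6 = 0 := cl_1 u6 ⟨hn_6_0, hn_6_1, hn_6_2, hn_6_3⟩
              have z_2_6 : T.a u2 u6 = 0 := cl_2 u6 ⟨hn_6_0, hn_6_1, hn_6_2, hn_6_3, hn_6_4, hn_6_5⟩
              rcases Groth.Agent.Helper6.NT.edge5 T h2 (by norm_num) u3 u6 hn_6_3.symm e_3_6 with ⟨tw_3_6, tap_3_6, taq_3_6⟩ | ⟨tw_3_6, tap_3_6, taq_3_6⟩ | ⟨tw_3_6, tap_3_6, taq_3_6⟩ | ⟨tw_3_6, tap_3_6, taq_3_6⟩ | ⟨tw_3_6, tap_3_6, taq_3_6⟩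
              · -- (3,6) S
                rcases eq_or_ne (T.a u4 u6) 0 with z_4_6 | nz_4_6
                · -- (4,6) zero
                  rcases eq_or_ne (T.a u5 u6) 0 with z_5_6 | nz_5_6
                  · -- (5,6) zero
                    have hinj := Groth.Agent.Helper6.NT.inj7 u0 u1 u2 u3 u4 u5 u6 hn_1_0 hn_2_0 hn_2_1 hn_3_0 hn_3_1 hn_3_2 hn_4_0 hn_4_1 hn_4_2 hn_4_3 hn_5_0 hn_5_1 hn_5_2 hn_5_3 hn_5_4 hn_6_0 hn_6_1 hn_6_2 hn_6_3 hn_6_4 hn_6_5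
                    have r_0 : -2 * T.m u0 + 1 * T.m u1 + 1 * T.m u2 = 0 := by
                      have key := Groth.Agent.Helper6.NT.rowfun7 T u0 u1 u2 u3 u4 u5 u6 hinj u0
                      rw [(h2 u0).2, tap_0_1, tap_0_2, z_0_3, z_0_4, z_0_5, z_0_6] at key
                      exact mul_left_cancel₀ (T.w_pos u0).ne' (by linarith only [key])
                    have r_1 : 1 * T.m u0 + -2 * T.m u1 + 1 * T.m u3 = 0 := by
                      have key := Groth.Agent.Helper6.NT.rowfun7 T u0 u1 u2 u3 u4 u5 u6 hinj u1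
                      rw [Groth.Agent.Helper6.NT.symm' T u1 u0, taq_0_1, (h2 u1).2, z_1_2, tap_1_3, z_1_4, z_1_5, z_1_6] at key
                      exact mul_left_cancel₀ (T.w_pos u1).ne' (by linarith only [key])
                    have r_2 : 1 * T.m u0 + -2 * T.m u2 + 1 * T.m u4 + 1 * T.m u5 = 0 := by
                      have key := Groth.Agent.Helper6.NT.rowfun7 T u0 u1 u2 u3 u4 u5 u6 hinj u2
                      rw [Groth.Agent.Helper6.NT.symm' T u2 u0, taq_0_2, Groth.Agent.Helper6.NT.symm' T u2 u1, z_1_2, (h2 u2).2, z_2_3, tap_2_4, tap_2_5, z_2_6] at key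
                      exact mul_left_cancel₀ (T.w_pos u2).ne' (by linarith only [key])
                    have r_3 : 1 * T.m u1 + -2 * T.m u3 + 1 * T.m u6 = 0 := by
                      have key := Groth.Agent.Helper6.NT.rowfun7 T u0 u1 u2 u3 u4 u5 u6 hinj u3
                      rw [Groth.Agent.Helper6.NT.symm' T u3 u0, z_0_3, Groth.Agent.Helper6.NT.symm' T u3 u1, taq_1_3, Groth.Agent.Helper6.NT.symm' T u3 u2, z_2_3, (h2 u3).2, z_3_4, z_3_5, tap_3_6] at key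
                      exact mul_left_cancel₀ (T.w_pos u3).ne' (by linarith only [key])
                    have r_4 : 1 * T.m u2 + -2 * T.m u4 = 0 := by
                      have key := Groth.Agent.Helper6.NT.rowfun7 T u0 u1 u2 u3 u4 u5 u6 hinj u4
                      rw [Groth.Agent.Helper6.NT.symm' T u4 u0, z_0_4, Groth.Agent.Helper6.NT.symm' T u4 u1, z_1_4, Groth.Agent.Helper6.NT.symm' T u4 u2, taq_2_4, Groth.Agent.Helper6.NT.symm' T u4 u3, z_3_4, (h2 u4).2, z_4_5, z_4_6] at key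
                      exact mul_left_cancel₀ (T.w_pos u4).ne' (by linarith only [key])
                    have r_5 : 1 * T.m u2 + -2 * T.m u5 = 0 := by
                      have key := Groth.Agent.Helper6.NT.rowfun7 T u0 u1 u2 u3 u4 u5 u6 hinj u5
                      rw [Groth.Agent.Helper6.NT.symm' T u5 u0, z_0_5, Groth.Agent.Helper6.NT.symm' T u5 u1, z_1_5, Groth.Agent.Helper6.NT.symm' T u5 u2, taq_2_5, Groth.Agent.Helper6.NT.symm' T u5 u3, z_3_5, Groth.Agent.Helper6.NT.symm' T u5 u4, z_4_5, (h2 u5).2, z_5_6] at key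
                      exact mul_left_cancel₀ (T.w_pos u5).ne' (by linarith only [key])
                    have r_6 : 1 * T.m u3 + -2 * T.m u6 = 0 := by
                      have key := Groth.Agent.Helper6.NT.rowfun7 T u0 u1 u2 u3 u4 u5 u6 hinj u6
                      rw [Groth.Agent.Helper6.NT.symm' T u6 u0, z_0_6, Groth.Agent.Helper6.NT.symm' T u6 u1, z_1_6, Groth.Agent.Helper6.NT.symm' T u6 u2, z_2_6, Groth.Agent.Helper6.NT.symm' T u6 u3, taq_3_6, Groth.Agent.Helper6.NT.symm' T u6 u4, z_4_6, Groth.Agent.Helper6.NT.symm' T u6 u5, z_5_6, (h2 u6).2] at key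
                      exact mul_left_cancel₀ (T.w_pos u6).ne' (by linarith only [key])
                    exfalso
                    linarith only [r_0, r_1, r_2, r_3, r_4, r_5, r_6, T.m_pos u0, T.m_pos u1, T.m_pos u2, T.m_pos u3, T.m_pos u4, T.m_pos u5, T.m_pos u6]
                  · -- (5,6) nonzero
                    obtain ⟨lbp_5_6, lbq_5_6⟩ := Groth.Agent.Helper6.NT.lb T u5 u6 hn_6_5.symm nz_5_6
                    exfalso
                    have key := Groth.Agent.Helper6.NT.negfun6 T h2 u0 u1 u2 u3 u5 u6 (by norm_num) 1 1 1 1 1 1 (by norm_num) (by norm_num)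
                    linarith only [key, tap_0_1, taq_0_1, tap_0_2, taq_0_2, z_0_3, z_0_5, z_0_6, z_1_2, tap_1_3, taq_1_3, z_1_5, z_1_6, z_2_3, tap_2_5, taq_2_5, z_2_6, z_3_5, tap_3_6, taq_3_6, lbp_5_6, lbq_5_6, T.w_pos u0, T.w_pos u1, T.w_pos u2, T.w_pos u3, T.w_pos u5, T.w_pos u6]
                · -- (4,6) nonzero
                  obtain ⟨lbp_4_6, lbq_4_6⟩ := Groth.Agent.Helper6.NT.lb T u4 u6 hn_6_4.symm nz_4_6
                  exfalso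
                  have key := Groth.Agent.Helper6.NT.negfun6 T h2 u0 u1 u2 u3 u4 u6 (by norm_num) 1 1 1 1 1 1 (by norm_num) (by norm_num)
                  linarith only [key, tap_0_1, taq_0_1, tap_0_2, taq_0_2, z_0_3, z_0_4, z_0_6, z_1_2, tap_1_3, taq_1_3, z_1_4, z_1_6, z_2_3, tap_2_4, taq_2_4, z_2_6, z_3_4, tap_3_6, taq_3_6, lbp_4_6, lbq_4_6, T.w_pos u0, T.w_pos u1, T.w_pos u2, T.w_pos u3, T.w_pos u4, T.w_pos u6]
              · -- (3,6) Dp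
                rcases eq_or_ne (T.a u4 u6) 0 with z_4_6 | nz_4_6
                · -- (4,6) zero
                  rcases eq_or_ne (T.a u5 u6) 0 with z_5_6 | nz_5_6
                  · -- (5,6) zero
                    have hinj := Groth.Agent.Helper6.NT.inj7 u0 u1 u2 u3 u4 u5 u6 hn_1_0 hn_2_0 hn_2_1 hn_3_0 hn_3_1 hn_3_2 hn_4_0 hn_4_1 hn_4_2 hn_4_3 hn_5_0 hn_5_1 hn_5_2 hn_5_3 hn_5_4 hn_6_0 hn_6_1 hn_6_2 hn_6_3 hn_6_4 hn_6_5
                    have r_0 : -2 * T.m u0 + 1 * T.m u1 + 1 * T.m u2 = 0 := by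
                      have key := Groth.Agent.Helper6.NT.rowfun7 T u0 u1 u2 u3 u4 u5 u6 hinj u0
                      rw [(h2 u0).2, tap_0_1, tap_0_2, z_0_3, z_0_4, z_0_5, z_0_6] at key
                      exact mul_left_cancel₀ (T.w_pos u0).ne' (by linarith only [key])
                    have r_1 : 1 * T.m u0 + -2 * T.m u1 + 1 * T.m u3 = 0 := by
                      have key := Groth.Agent.Helper6.NT.rowfun7 T u0 u1 u2 u3 u4 u5 u6 hinj u1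
                      rw [Groth.Agent.Helper6.NT.symm' T u1 u0, taq_0_1, (h2 u1).2, z_1_2, tap_1_3, z_1_4, z_1_5, z_1_6] at key
                      exact mul_left_cancel₀ (T.w_pos u1).ne' (by linarith only [key])
                    have r_2 : 1 * T.m u0 + -2 * T.m u2 + 1 * T.m u4 + 1 * T.m u5 = 0 := by
                      have key := Groth.Agent.Helper6.NT.rowfun7 T u0 u1 u2 u3 u4 u5 u6 hinj u2
                      rw [Groth.Agent.Helper6.NT.symm' T u2 u0, taq_0_2, Groth.Agent.Helper6.NT.symm' T u2 u1, z_1_2, (h2 u2).2, z_2_3, tap_2_4, tap_2_5, z_2_6] at key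
                      exact mul_left_cancel₀ (T.w_pos u2).ne' (by linarith only [key])
                    have r_3 : 1 * T.m u1 + -2 * T.m u3 + 2 * T.m u6 = 0 := by
                      have key := Groth.Agent.Helper6.NT.rowfun7 T u0 u1 u2 u3 u4 u5 u6 hinj u3
                      rw [Groth.Agent.Helper6.NT.symm' T u3 u0, z_0_3, Groth.Agent.Helper6.NT.symm' T u3 u1, taq_1_3, Groth.Agent.Helper6.NT.symm' T u3 u2, z_2_3, (h2 u3).2, z_3_4, z_3_5, tap_3_6] at key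
                      exact mul_left_cancel₀ (T.w_pos u3).ne' (by linarith only [key])
                    have r_4 : 1 * T.m u2 + -2 * T.m u4 = 0 := by
                      have key := Groth.Agent.Helper6.NT.rowfun7 T u0 u1 u2 u3 u4 u5 u6 hinj u4
                      rw [Groth.Agent.Helper6.NT.symm' T u4 u0, z_0_4, Groth.Agent.Helper6.NT.symm' T u4 u1, z_1_4, Groth.Agent.Helper6.NT.symm' T u4 u2, taq_2_4, Groth.Agent.Helper6.NT.symm' T u4 u3, z_3_4, (h2 u4).2, z_4_5, z_4_6] at key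
                      exact mul_left_cancel₀ (T.w_pos u4).ne' (by linarith only [key])
                    have r_5 : 1 * T.m u2 + -2 * T.m u5 = 0 := by
                      have key := Groth.Agent.Helper6.NT.rowfun7 T u0 u1 u2 u3 u4 u5 u6 hinj u5
                      rw [Groth.Agent.Helper6.NT.symm' T u5 u0, z_0_5, Groth.Agent.Helper6.NT.symm' T u5 u1, z_1_5, Groth.Agent.Helper6.NT.symm' T u5 u2, taq_2_5, Groth.Agent.Helper6.NT.symm' T u5 u3, z_3_5, Groth.Agent.Helper6.NT.symm' T u5 u4, z_4_5, (h2 u5).2, z_5_6] at key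
                      exact mul_left_cancel₀ (T.w_pos u5).ne' (by linarith only [key])
                    have r_6 : 1 * T.m u3 + -2 * T.m u6 = 0 := by
                      have key := Groth.Agent.Helper6.NT.rowfun7 T u0 u1 u2 u3 u4 u5 u6 hinj u6
                      rw [Groth.Agent.Helper6.NT.symm' T u6 u0, z_0_6, Groth.Agent.Helper6.NT.symm' T u6 u1, z_1_6, Groth.Agent.Helper6.NT.symm' T u6 u2, z_2_6, Groth.Agent.Helper6.NT.symm' T u6 u3, taq_3_6, Groth.Agent.Helper6.NT.symm' T u6 u4, z_4_6, Groth.Agent.Helper6.NT.symm' T u6 u5, z_5_6, (h2 u6).2] at key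
                      exact mul_left_cancel₀ (T.w_pos u6).ne' (by linarith only [key])
                    have f0 : T.m u6 = T.m u6 := rfl
                    have f1 : T.m u3 = 2 * T.m u6 := by linarith only [r_0, r_1, r_2, r_3, r_4, r_5, r_6]
                    have f2 : T.m u1 = 2 * T.m u6 := by linarith only [r_0, r_1, r_2, r_3, r_4, r_5, r_6]
                    have f3 : T.m u0 = 2 * T.m u6 := by linarith only [r_0, r_1, r_2, r_3, r_4, r_5, r_6]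
                    have f4 : T.m u2 = 2 * T.m u6 := by linarith only [r_0, r_1, r_2, r_3, r_4, r_5, r_6]
                    have f5 : T.m u4 = T.m u6 := by linarith only [r_0, r_1, r_2, r_3, r_4, r_5, r_6]
                    have f6 : T.m u5 = T.m u6 := by linarith only [r_0, r_1, r_2, r_3, r_4, r_5, r_6]
                    have f7 : T.w u6 = 2 * T.w u3 := by linarith only [tw_0_1, tw_0_2, tw_1_3, tw_2_4, tw_2_5, tw_3_6]
                    have f8 : T.w u3 = T.w u3 := rfl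
                    have f9 : T.w u1 = T.w u3 := by linarith only [tw_0_1, tw_0_2, tw_1_3, tw_2_4, tw_2_5, tw_3_6]
                    have f10 : T.w u0 = T.w u3 := by linarith only [tw_0_1, tw_0_2, tw_1_3, tw_2_4, tw_2_5, tw_3_6]
                    have f11 : T.w u2 = T.w u3 := by linarith only [tw_0_1, tw_0_2, tw_1_3, tw_2_4, tw_2_5, tw_3_6]
                    have f12 : T.w u4 = T.w u3 := by linarith only [tw_0_1, tw_0_2, tw_1_3, tw_2_4, tw_2_5, tw_3_6]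
                    have f13 : T.w u5 = T.w u3 := by linarith only [tw_0_1, tw_0_2, tw_1_3, tw_2_4, tw_2_5, tw_3_6]
                    have f14 : T.a u6 u6 = -4 * T.w u3 := by have := (h2 u6).2; linarith only [this, tw_0_1, tw_0_2, tw_1_3, tw_2_4, tw_2_5, tw_3_6]
                    have f15 : T.a u6 u3 = 2 * T.w u3 := by rw [Groth.Agent.Helper6.NT.symm' T u6 u3]; linarith only [tap_3_6, tw_0_1, tw_0_2, tw_1_3, tw_2_4, tw_2_5, tw_3_6]
                    have f16 : T.a u6 u1 = 0 := by rw [Groth.Agent.Helper6.NT.symm' T u6 u1]; exact z_1_6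
                    have f17 : T.a u6 u0 = 0 := by rw [Groth.Agent.Helper6.NT.symm' T u6 u0]; exact z_0_6
                    have f18 : T.a u6 u2 = 0 := by rw [Groth.Agent.Helper6.NT.symm' T u6 u2]; exact z_2_6
                    have f19 : T.a u6 u4 = 0 := by rw [Groth.Agent.Helper6.NT.symm' T u6 u4]; exact z_4_6
                    have f20 : T.a u6 u5 = 0 := by rw [Groth.Agent.Helper6.NT.symm' T u6 u5]; exact z_5_6
                    have f21 : T.a u3 u3 = -2 * T.w u3 := by have := (h2 u3).2; linarith only [this, tw_0_1, tw_0_2, tw_1_3, tw_2_4, tw_2_5, tw_3_6]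
                    have f22 : T.a u3 u1 = T.w u3 := by rw [Groth.Agent.Helper6.NT.symm' T u3 u1]; linarith only [tap_1_3, tw_0_1, tw_0_2, tw_1_3, tw_2_4, tw_2_5, tw_3_6]
                    have f23 : T.a u3 u0 = 0 := by rw [Groth.Agent.Helper6.NT.symm' T u3 u0]; exact z_0_3
                    have f24 : T.a u3 u2 = 0 := by rw [Groth.Agent.Helper6.NT.symm' T u3 u2]; exact z_2_3
                    have f25 : T.a u3 u4 = 0 := by exact z_3_4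
                    have f26 : T.a u3 u5 = 0 := by exact z_3_5
                    have f27 : T.a u1 u1 = -2 * T.w u3 := by have := (h2 u1).2; linarith only [this, tw_0_1, tw_0_2, tw_1_3, tw_2_4, tw_2_5, tw_3_6]
                    have f28 : T.a u1 u0 = T.w u3 := by rw [Groth.Agent.Helper6.NT.symm' T u1 u0]; linarith only [tap_0_1, tw_0_1, tw_0_2, tw_1_3, tw_2_4, tw_2_5, tw_3_6]
                    have f29 : T.a u1 u2 = 0 := by exact z_1_2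
                    have f30 : T.a u1 u4 = 0 := by exact z_1_4
                    have f31 : T.a u1 u5 = 0 := by exact z_1_5
                    have f32 : T.a u0 u0 = -2 * T.w u3 := by have := (h2 u0).2; linarith only [this, tw_0_1, tw_0_2, tw_1_3, tw_2_4, tw_2_5, tw_3_6]
                    have f33 : T.a u0 u2 = T.w u3 := by linarith only [tap_0_2, tw_0_1, tw_0_2, tw_1_3, tw_2_4, tw_2_5, tw_3_6]
                    have f34 : T.a u0 u4 = 0 := by exact z_0_4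
                    have f35 : T.a u0 u5 = 0 := by exact z_0_5
                    have f36 : T.a u2 u2 = -2 * T.w u3 := by have := (h2 u2).2; linarith only [this, tw_0_1, tw_0_2, tw_1_3, tw_2_4, tw_2_5, tw_3_6]
                    have f37 : T.a u2 u4 = T.w u3 := by linarith only [tap_2_4, tw_0_1, tw_0_2, tw_1_3, tw_2_4, tw_2_5, tw_3_6]
                    have f38 : T.a u2 u5 = T.w u3 := by linarith only [tap_2_5, tw_0_1, tw_0_2, tw_1_3, tw_2_4, tw_2_5, tw_3_6]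
                    have f39 : T.a u4 u4 = -2 * T.w u3 := by have := (h2 u4).2; linarith only [this, tw_0_1, tw_0_2, tw_1_3, tw_2_4, tw_2_5, tw_3_6]
                    have f40 : T.a u4 u5 = 0 := by exact z_4_5
                    have f41 : T.a u5 u5 = -2 * T.w u3 := by have := (h2 u5).2; linarith only [this, tw_0_1, tw_0_2, tw_1_3, tw_2_4, tw_2_5, tw_3_6]
                    have hsig := Groth.Agent.Helper6.NT.inj7 u6 u3 u1 u0 u2 u4 u5 hn_6_3.symm hn_6_1.symm hn_3_1.symm hn_6_0.symm hn_3_0.symm hn_1_0.symm hn_6_2.symm hn_3_2.symm hn_2_1 hn_2_0 hn_6_4.symm hn_4_3 hn_4_1 hn_4_0 hn_4_2 hn_6_5.symm hn_5_3 hn_5_1 hn_5_0 hn_5_2 hn_5_4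
                    exact ⟨Equiv.ofBijective _ (Finite.injective_iff_bijective.1 hsig), T.m u6, T.w u3, Or.inr (Or.inr (Or.inr (Or.inr (Or.inl ⟨f0, f1, f2, f3, f4, f5, f6, f7, f8, f9, f10, f11, f12, f13, f14, f15, f16, f17, f18, f19, f20, f21, f22, f23, f24, f25, f26, f27, f28, f29, f30, f31, f32, f33, f34, f35, f36, f37, f38, f39, f40, f41⟩))))⟩
                  · -- (5,6) nonzero
                    obtain ⟨lbp_5_6, lbq_5_6⟩ := Groth.Agent.Helper6.NT.lb T u5 u6 hn_6_5.symm nz_5_6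
                    exfalso
                    have key := Groth.Agent.Helper6.NT.negfun5 T h2 u1 u2 u3 u5 u6 (by norm_num) 2 1 4 2 3 (by norm_num) (by norm_num)
                    linarith only [key, z_1_2, tap_1_3, taq_1_3, z_1_5, z_1_6, z_2_3, tap_2_5, taq_2_5, z_2_6, z_3_5, tap_3_6, taq_3_6, lbp_5_6, lbq_5_6, T.w_pos u1, T.w_pos u2, T.w_pos u3, T.w_pos u5, T.w_pos u6]
                · -- (4,6) nonzero
                  obtain ⟨lbp_4_6, lbq_4_6⟩ := Groth.Agent.Helper6.NT.lb T u4 u6 hn_6_4.symm nz_4_6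
                  exfalso
                  have key := Groth.Agent.Helper6.NT.negfun5 T h2 u1 u2 u3 u4 u6 (by norm_num) 2 1 4 2 3 (by norm_num) (by norm_num)
                  linarith only [key, z_1_2, tap_1_3, taq_1_3, z_1_4, z_1_6, z_2_3, tap_2_4, taq_2_4, z_2_6, z_3_4, tap_3_6, taq_3_6, lbp_4_6, lbq_4_6, T.w_pos u1, T.w_pos u2, T.w_pos u3, T.w_pos u4, T.w_pos u6]
              · -- (3,6) Dm
                rcases eq_or_ne (T.a u4 u6) 0 with z_4_6 | nz_4_6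
                · -- (4,6) zero
                  rcases eq_or_ne (T.a u5 u6) 0 with z_5_6 | nz_5_6
                  · -- (5,6) zero
                    have hinj := Groth.Agent.Helper6.NT.inj7 u0 u1 u2 u3 u4 u5 u6 hn_1_0 hn_2_0 hn_2_1 hn_3_0 hn_3_1 hn_3_2 hn_4_0 hn_4_1 hn_4_2 hn_4_3 hn_5_0 hn_5_1 hn_5_2 hn_5_3 hn_5_4 hn_6_0 hn_6_1 hn_6_2 hn_6_3 hn_6_4 hn_6_5
                    have r_0 : -2 * T.m u0 + 1 * T.m u1 + 1 * T.m u2 = 0 := by
                      have key := Groth.Agent.Helper6.NT.rowfun7 T u0 u1 u2 u3 u4 u5 u6 hinj u0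
                      rw [(h2 u0).2, tap_0_1, tap_0_2, z_0_3, z_0_4, z_0_5, z_0_6] at key
                      exact mul_left_cancel₀ (T.w_pos u0).ne' (by linarith only [key])
                    have r_1 : 1 * T.m u0 + -2 * T.m u1 + 1 * T.m u3 = 0 := by
                      have key := Groth.Agent.Helper6.NT.rowfun7 T u0 u1 u2 u3 u4 u5 u6 hinj u1
                      rw [Groth.Agent.Helper6.NT.symm' T u1 u0, taq_0_1, (h2 u1).2, z_1_2, tap_1_3, z_1_4, z_1_5, z_1_6] at key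
                      exact mul_left_cancel₀ (T.w_pos u1).ne' (by linarith only [key])
                    have r_2 : 1 * T.m u0 + -2 * T.m u2 + 1 * T.m u4 + 1 * T.m u5 = 0 := by
                      have key := Groth.Agent.Helper6.NT.rowfun7 T u0 u1 u2 u3 u4 u5 u6 hinj u2
                      rw [Groth.Agent.Helper6.NT.symm' T u2 u0, taq_0_2, Groth.Agent.Helper6.NT.symm' T u2 u1, z_1_2, (h2 u2).2, z_2_3, tap_2_4, tap_2_5, z_2_6] at key
                      exact mul_left_cancel₀ (T.w_pos u2).ne' (by linarith only [key])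
                    have r_3 : 1 * T.m u1 + -2 * T.m u3 + 1 * T.m u6 = 0 := by
                      have key := Groth.Agent.Helper6.NT.rowfun7 T u0 u1 u2 u3 u4 u5 u6 hinj u3
                      rw [Groth.Agent.Helper6.NT.symm' T u3 u0, z_0_3, Groth.Agent.Helper6.NT.symm' T u3 u1, taq_1_3, Groth.Agent.Helper6.NT.symm' T u3 u2, z_2_3, (h2 u3).2, z_3_4, z_3_5, tap_3_6] at key
                      exact mul_left_cancel₀ (T.w_pos u3).ne' (by linarith only [key])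
                    have r_4 : 1 * T.m u2 + -2 * T.m u4 = 0 := by
                      have key := Groth.Agent.Helper6.NT.rowfun7 T u0 u1 u2 u3 u4 u5 u6 hinj u4
                      rw [Groth.Agent.Helper6.NT.symm' T u4 u0, z_0_4, Groth.Agent.Helper6.NT.symm' T u4 u1, z_1_4, Groth.Agent.Helper6.NT.symm' T u4 u2, taq_2_4, Groth.Agent.Helper6.NT.symm' T u4 u3, z_3_4, (h2 u4).2, z_4_5, z_4_6] at key
                      exact mul_left_cancel₀ (T.w_pos u4).ne' (by linarith only [key])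
                    have r_5 : 1 * T.m u2 + -2 * T.m u5 = 0 := by
                      have key := Groth.Agent.Helper6.NT.rowfun7 T u0 u1 u2 u3 u4 u5 u6 hinj u5
                      rw [Groth.Agent.Helper6.NT.symm' T u5 u0, z_0_5, Groth.Agent.Helper6.NT.symm' T u5 u1, z_1_5, Groth.Agent.Helper6.NT.symm' T u5 u2, taq_2_5, Groth.Agent.Helper6.NT.symm' T u5 u3, z_3_5, Groth.Agent.Helper6.NT.symm' T u5 u4, z_4_5, (h2 u5).2, z_5_6] at key
                      exact mul_left_cancel₀ (T.w_pos u5).ne' (by linarith only [key])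
                    have r_6 : 2 * T.m u3 + -2 * T.m u6 = 0 := by
                      have key := Groth.Agent.Helper6.NT.rowfun7 T u0 u1 u2 u3 u4 u5 u6 hinj u6
                      rw [Groth.Agent.Helper6.NT.symm' T u6 u0, z_0_6, Groth.Agent.Helper6.NT.symm' T u6 u1, z_1_6, Groth.Agent.Helper6.NT.symm' T u6 u2, z_2_6, Groth.Agent.Helper6.NT.symm' T u6 u3, taq_3_6, Groth.Agent.Helper6.NT.symm' T u6 u4, z_4_6, Groth.Agent.Helper6.NT.symm' T u6 u5, z_5_6, (h2 u6).2] at key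
                      exact mul_left_cancel₀ (T.w_pos u6).ne' (by linarith only [key])
                    have f0 : T.m u6 = 2 * T.m u4 := by linarith only [r_0, r_1, r_2, r_3, r_4, r_5, r_6]
                    have f1 : T.m u3 = 2 * T.m u4 := by linarith only [r_0, r_1, r_2, r_3, r_4, r_5, r_6]
                    have f2 : T.m u1 = 2 * T.m u4 := by linarith only [r_0, r_1, r_2, r_3, r_4, r_5, r_6]
                    have f3 : T.m u0 = 2 * T.m u4 := by linarith only [r_0, r_1, r_2, r_3, r_4, r_5, r_6]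
                    have f4 : T.m u2 = 2 * T.m u4 := by linarith only [r_0, r_1, r_2, r_3, r_4, r_5, r_6]
                    have f5 : T.m u4 = T.m u4 := rfl
                    have f6 : T.m u5 = T.m u4 := by linarith only [r_0, r_1, r_2, r_3, r_4, r_5, r_6]
                    have f7 : T.w u6 = T.w u6 := rfl
                    have f8 : T.w u3 = 2 * T.w u6 := by linarith only [tw_0_1, tw_0_2, tw_1_3, tw_2_4, tw_2_5, tw_3_6]
                    have f9 : T.w u1 = 2 * T.w u6 := by linarith only [tw_0_1, tw_0_2, tw_1_3, tw_2_4, tw_2_5, tw_3_6]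
                    have f10 : T.w u0 = 2 * T.w u6 := by linarith only [tw_0_1, tw_0_2, tw_1_3, tw_2_4, tw_2_5, tw_3_6]
                    have f11 : T.w u2 = 2 * T.w u6 := by linarith only [tw_0_1, tw_0_2, tw_1_3, tw_2_4, tw_2_5, tw_3_6]
                    have f12 : T.w u4 = 2 * T.w u6 := by linarith only [tw_0_1, tw_0_2, tw_1_3, tw_2_4, tw_2_5, tw_3_6]
                    have f13 : T.w u5 = 2 * T.w u6 := by linarith only [tw_0_1, tw_0_2, tw_1_3, tw_2_4, tw_2_5, tw_3_6]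
                    have f14 : T.a u6 u6 = -2 * T.w u6 := by have := (h2 u6).2; linarith only [this, tw_0_1, tw_0_2, tw_1_3, tw_2_4, tw_2_5, tw_3_6]
                    have f15 : T.a u6 u3 = 2 * T.w u6 := by rw [Groth.Agent.Helper6.NT.symm' T u6 u3]; linarith only [tap_3_6, tw_0_1, tw_0_2, tw_1_3, tw_2_4, tw_2_5, tw_3_6]
                    have f16 : T.a u6 u1 = 0 := by rw [Groth.Agent.Helper6.NT.symm' T u6 u1]; exact z_1_6
                    have f17 : T.a u6 u0 = 0 := by rw [Groth.Agent.Helper6.NT.symm' T u6 u0]; exact z_0_6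
                    have f18 : T.a u6 u2 = 0 := by rw [Groth.Agent.Helper6.NT.symm' T u6 u2]; exact z_2_6
                    have f19 : T.a u6 u4 = 0 := by rw [Groth.Agent.Helper6.NT.symm' T u6 u4]; exact z_4_6
                    have f20 : T.a u6 u5 = 0 := by rw [Groth.Agent.Helper6.NT.symm' T u6 u5]; exact z_5_6
                    have f21 : T.a u3 u3 = -4 * T.w u6 := by have := (h2 u3).2; linarith only [this, tw_0_1, tw_0_2, tw_1_3, tw_2_4, tw_2_5, tw_3_6]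
                    have f22 : T.a u3 u1 = 2 * T.w u6 := by rw [Groth.Agent.Helper6.NT.symm' T u3 u1]; linarith only [tap_1_3, tw_0_1, tw_0_2, tw_1_3, tw_2_4, tw_2_5, tw_3_6]
                    have f23 : T.a u3 u0 = 0 := by rw [Groth.Agent.Helper6.NT.symm' T u3 u0]; exact z_0_3
                    have f24 : T.a u3 u2 = 0 := by rw [Groth.Agent.Helper6.NT.symm' T u3 u2]; exact z_2_3
                    have f25 : T.a u3 u4 = 0 := by exact z_3_4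
                    have f26 : T.a u3 u5 = 0 := by exact z_3_5
                    have f27 : T.a u1 u1 = -4 * T.w u6 := by have := (h2 u1).2; linarith only [this, tw_0_1, tw_0_2, tw_1_3, tw_2_4, tw_2_5, tw_3_6]
                    have f28 : T.a u1 u0 = 2 * T.w u6 := by rw [Groth.Agent.Helper6.NT.symm' T u1 u0]; linarith only [tap_0_1, tw_0_1, tw_0_2, tw_1_3, tw_2_4, tw_2_5, tw_3_6]
                    have f29 : T.a u1 u2 = 0 := by exact z_1_2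
                    have f30 : T.a u1 u4 = 0 := by exact z_1_4
                    have f31 : T.a u1 u5 = 0 := by exact z_1_5
                    have f32 : T.a u0 u0 = -4 * T.w u6 := by have := (h2 u0).2; linarith only [this, tw_0_1, tw_0_2, tw_1_3, tw_2_4, tw_2_5, tw_3_6]
                    have f33 : T.a u0 u2 = 2 * T.w u6 := by linarith only [tap_0_2, tw_0_1, tw_0_2, tw_1_3, tw_2_4, tw_2_5, tw_3_6]
                    have f34 : T.a u0 u4 = 0 := by exact z_0_4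
                    have f35 : T.a u0 u5 = 0 := by exact z_0_5
                    have f36 : T.a u2 u2 = -4 * T.w u6 := by have := (h2 u2).2; linarith only [this, tw_0_1, tw_0_2, tw_1_3, tw_2_4, tw_2_5, tw_3_6]
                    have f37 : T.a u2 u4 = 2 * T.w u6 := by linarith only [tap_2_4, tw_0_1, tw_0_2, tw_1_3, tw_2_4, tw_2_5, tw_3_6]
                    have f38 : T.a u2 u5 = 2 * T.w u6 := by linarith only [tap_2_5, tw_0_1, tw_0_2, tw_1_3, tw_2_4, tw_2_5, tw_3_6]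
                    have f39 : T.a u4 u4 = -4 * T.w u6 := by have := (h2 u4).2; linarith only [this, tw_0_1, tw_0_2, tw_1_3, tw_2_4, tw_2_5, tw_3_6]
                    have f40 : T.a u4 u5 = 0 := by exact z_4_5
                    have f41 : T.a u5 u5 = -4 * T.w u6 := by have := (h2 u5).2; linarith only [this, tw_0_1, tw_0_2, tw_1_3, tw_2_4, tw_2_5, tw_3_6]
                    have hsig := Groth.Agent.Helper6.NT.inj7 u6 u3 u1 u0 u2 u4 u5 hn_6_3.symm hn_6_1.symm hn_3_1.symm hn_6_0.symm hn_3_0.symm hn_1_0.symm hn_6_2.symm hn_3_2.symm hn_2_1 hn_2_0 hn_6_4.symm hn_4_3 hn_4_1 hn_4_0 hn_4_2 hn_6_5.symm hn_5_3 hn_5_1 hn_5_0 hn_5_2 hn_5_4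
                    exact ⟨Equiv.ofBijective _ (Finite.injective_iff_bijective.1 hsig), T.m u4, T.w u6, Or.inr (Or.inr (Or.inr (Or.inr (Or.inr (Or.inl ⟨f0, f1, f2, f3, f4, f5, f6, f7, f8, f9, f10, f11, f12, f13, f14, f15, f16, f17, f18, f19, f20, f21, f22, f23, f24, f25, f26, f27, f28, f29, f30, f31, f32, f33, f34, f35, f36, f37, f38, f39, f40, f41⟩)))))⟩
                  · -- (5,6) nonzero
                    obtain ⟨lbp_5_6, lbq_5_6⟩ := Groth.Agent.Helper6.NT.lb T u5 u6 hn_6_5.symm nz_5_6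
                    exfalso
                    have key := Groth.Agent.Helper6.NT.negfun5 T h2 u1 u2 u3 u5 u6 (by norm_num) 1 1 2 2 3 (by norm_num) (by norm_num)
                    linarith only [key, z_1_2, tap_1_3, taq_1_3, z_1_5, z_1_6, z_2_3, tap_2_5, taq_2_5, z_2_6, z_3_5, tap_3_6, taq_3_6, lbp_5_6, lbq_5_6, T.w_pos u1, T.w_pos u2, T.w_pos u3, T.w_pos u5, T.w_pos u6]
                · -- (4,6) nonzero
                  obtain ⟨lbp_4_6, lbq_4_6⟩ := Groth.Agent.Helper6.NT.lb T u4 u6 hn_6_4.symm nz_4_6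
                  exfalso
                  have key := Groth.Agent.Helper6.NT.negfun5 T h2 u1 u2 u3 u4 u6 (by norm_num) 1 1 2 2 3 (by norm_num) (by norm_num)
                  linarith only [key, z_1_2, tap_1_3, taq_1_3, z_1_4, z_1_6, z_2_3, tap_2_4, taq_2_4, z_2_6, z_3_4, tap_3_6, taq_3_6, lbp_4_6, lbq_4_6, T.w_pos u1, T.w_pos u2, T.w_pos u3, T.w_pos u4, T.w_pos u6]
              · -- (3,6) Tp
                exfalso
                have key := Groth.Agent.Helper6.NT.negfun3 T h2 u1 u3 u6 (by norm_num) 1 2 1 (by norm_num) (by norm_num)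
                linarith only [key, tap_1_3, taq_1_3, z_1_6, tap_3_6, taq_3_6, T.w_pos u1, T.w_pos u3, T.w_pos u6]
              · -- (3,6) Tm
                exfalso
                have key := Groth.Agent.Helper6.NT.negfun3 T h2 u1 u3 u6 (by norm_num) 1 2 3 (by norm_num) (by norm_num)
                linarith only [key, tap_1_3, taq_1_3, z_1_6, tap_3_6, taq_3_6, T.w_pos u1, T.w_pos u3, T.w_pos u6]
            · push Not at hx
              have cl_3 := hx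
              clear hx
              by_cases hx : ∃ j, (j ≠ u0 ∧ j ≠ u1 ∧ j ≠ u2 ∧ j ≠ u3 ∧ j ≠ u4 ∧ j ≠ u5) ∧ T.a u4 j ≠ 0
              · obtain ⟨u6, ⟨hn_6_0, hn_6_1, hn_6_2, hn_6_3, hn_6_4, hn_6_5⟩, e_4_6⟩ := hx
                have z_0_6 : T.a u0 u6 = 0 := cl_0 u6 ⟨hn_6_0, hn_6_1, hn_6_2⟩
                have z_1_6 : T.a u1 u6 = 0 := cl_1 u6 ⟨hn_6_0, hn_6_1, hn_6_2, hn_6_3⟩
                have z_2_6 : T.a u2 u6 = 0 := cl_2 u6 ⟨hn_6_0, hn_6_1, hn_6_2, hn_6_3, hn_6_4, hn_6_5⟩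
                have z_3_6 : T.a u3 u6 = 0 := cl_3 u6 ⟨hn_6_0, hn_6_1, hn_6_2, hn_6_3, hn_6_4, hn_6_5⟩
                rcases Groth.Agent.Helper6.NT.edge5 T h2 (by norm_num) u4 u6 hn_6_4.symm e_4_6 with ⟨tw_4_6, tap_4_6, taq_4_6⟩ | ⟨tw_4_6, tap_4_6, taq_4_6⟩ | ⟨tw_4_6, tap_4_6, taq_4_6⟩ | ⟨tw_4_6, tap_4_6, taq_4_6⟩ | ⟨tw_4_6, tap_4_6, taq_4_6⟩
                · -- (4,6) S
                  rcases eq_or_ne (T.a u5 u6) 0 with z_5_6 | nz_5_6
                  · -- (5,6) zero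
                    have hinj := Groth.Agent.Helper6.NT.inj7 u0 u1 u2 u3 u4 u5 u6 hn_1_0 hn_2_0 hn_2_1 hn_3_0 hn_3_1 hn_3_2 hn_4_0 hn_4_1 hn_4_2 hn_4_3 hn_5_0 hn_5_1 hn_5_2 hn_5_3 hn_5_4 hn_6_0 hn_6_1 hn_6_2 hn_6_3 hn_6_4 hn_6_5
                    have r_0 : -2 * T.m u0 + 1 * T.m u1 + 1 * T.m u2 = 0 := by
                      have key := Groth.Agent.Helper6.NT.rowfun7 T u0 u1 u2 u3 u4 u5 u6 hinj u0
                      rw [(h2 u0).2, tap_0_1, tap_0_2, z_0_3, z_0_4, z_0_5, z_0_6] at key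
                      exact mul_left_cancel₀ (T.w_pos u0).ne' (by linarith only [key])
                    have r_1 : 1 * T.m u0 + -2 * T.m u1 + 1 * T.m u3 = 0 := by
                      have key := Groth.Agent.Helper6.NT.rowfun7 T u0 u1 u2 u3 u4 u5 u6 hinj u1
                      rw [Groth.Agent.Helper6.NT.symm' T u1 u0, taq_0_1, (h2 u1).2, z_1_2, tap_1_3, z_1_4, z_1_5, z_1_6] at key
                      exact mul_left_cancel₀ (T.w_pos u1).ne' (by linarith only [key])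
                    have r_2 : 1 * T.m u0 + -2 * T.m u2 + 1 * T.m u4 + 1 * T.m u5 = 0 := by
                      have key := Groth.Agent.Helper6.NT.rowfun7 T u0 u1 u2 u3 u4 u5 u6 hinj u2
                      rw [Groth.Agent.Helper6.NT.symm' T u2 u0, taq_0_2, Groth.Agent.Helper6.NT.symm' T u2 u1, z_1_2, (h2 u2).2, z_2_3, tap_2_4, tap_2_5, z_2_6] at key
                      exact mul_left_cancel₀ (T.w_pos u2).ne' (by linarith only [key])
                    have r_3 : 1 * T.m u1 + -2 * T.m u3 = 0 := by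
                      have key := Groth.Agent.Helper6.NT.rowfun7 T u0 u1 u2 u3 u4 u5 u6 hinj u3
                      rw [Groth.Agent.Helper6.NT.symm' T u3 u0, z_0_3, Groth.Agent.Helper6.NT.symm' T u3 u1, taq_1_3, Groth.Agent.Helper6.NT.symm' T u3 u2, z_2_3, (h2 u3).2, z_3_4, z_3_5, z_3_6] at key
                      exact mul_left_cancel₀ (T.w_pos u3).ne' (by linarith only [key])
                    have r_4 : 1 * T.m u2 + -2 * T.m u4 + 1 * T.m u6 = 0 := by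
                      have key := Groth.Agent.Helper6.NT.rowfun7 T u0 u1 u2 u3 u4 u5 u6 hinj u4
                      rw [Groth.Agent.Helper6.NT.symm' T u4 u0, z_0_4, Groth.Agent.Helper6.NT.symm' T u4 u1, z_1_4, Groth.Agent.Helper6.NT.symm' T u4 u2, taq_2_4, Groth.Agent.Helper6.NT.symm' T u4 u3, z_3_4, (h2 u4).2, z_4_5, tap_4_6] at key
                      exact mul_left_cancel₀ (T.w_pos u4).ne' (by linarith only [key])
                    have r_5 : 1 * T.m u2 + -2 * T.m u5 = 0 := by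
                      have key := Groth.Agent.Helper6.NT.rowfun7 T u0 u1 u2 u3 u4 u5 u6 hinj u5
                      rw [Groth.Agent.Helper6.NT.symm' T u5 u0, z_0_5, Groth.Agent.Helper6.NT.symm' T u5 u1, z_1_5, Groth.Agent.Helper6.NT.symm' T u5 u2, taq_2_5, Groth.Agent.Helper6.NT.symm' T u5 u3, z_3_5, Groth.Agent.Helper6.NT.symm' T u5 u4, z_4_5, (h2 u5).2, z_5_6] at key
                      exact mul_left_cancel₀ (T.w_pos u5).ne' (by linarith only [key])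
                    have r_6 : 1 * T.m u4 + -2 * T.m u6 = 0 := by
                      have key := Groth.Agent.Helper6.NT.rowfun7 T u0 u1 u2 u3 u4 u5 u6 hinj u6
                      rw [Groth.Agent.Helper6.NT.symm' T u6 u0, z_0_6, Groth.Agent.Helper6.NT.symm' T u6 u1, z_1_6, Groth.Agent.Helper6.NT.symm' T u6 u2, z_2_6, Groth.Agent.Helper6.NT.symm' T u6 u3, z_3_6, Groth.Agent.Helper6.NT.symm' T u6 u4, taq_4_6, Groth.Agent.Helper6.NT.symm' T u6 u5, z_5_6, (h2 u6).2] at key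
                      exact mul_left_cancel₀ (T.w_pos u6).ne' (by linarith only [key])
                    exfalso
                    linarith only [r_0, r_1, r_2, r_3, r_4, r_5, r_6, T.m_pos u0, T.m_pos u1, T.m_pos u2, T.m_pos u3, T.m_pos u4, T.m_pos u5, T.m_pos u6]
                  · -- (5,6) nonzero
                    obtain ⟨lbp_5_6, lbq_5_6⟩ := Groth.Agent.Helper6.NT.lb T u5 u6 hn_6_5.symm nz_5_6
                    exfalso
                    have key := Groth.Agent.Helper6.NT.negfun4 T h2 u2 u4 u5 u6 (by norm_num) 1 1 1 1 (by norm_num) (by norm_num)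
                    linarith only [key, tap_2_4, taq_2_4, tap_2_5, taq_2_5, z_2_6, z_4_5, tap_4_6, taq_4_6, lbp_5_6, lbq_5_6, T.w_pos u2, T.w_pos u4, T.w_pos u5, T.w_pos u6]
                · -- (4,6) Dp
                  exfalso
                  have key := Groth.Agent.Helper6.NT.negfun5 T h2 u0 u2 u4 u5 u6 (by norm_num) 1 2 2 1 1 (by norm_num) (by norm_num)
                  linarith only [key, tap_0_2, taq_0_2, z_0_4, z_0_5, z_0_6, tap_2_4, taq_2_4, tap_2_5, taq_2_5, z_2_6, z_4_5, tap_4_6, taq_4_6, T.offDiag_nonneg u5 u6 hn_6_5.symm, T.w_pos u0, T.w_pos u2, T.w_pos u4, T.w_pos u5, T.w_pos u6]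
                · -- (4,6) Dm
                  exfalso
                  have key := Groth.Agent.Helper6.NT.negfun5 T h2 u0 u2 u4 u5 u6 (by norm_num) 1 2 2 1 2 (by norm_num) (by norm_num)
                  linarith only [key, tap_0_2, taq_0_2, z_0_4, z_0_5, z_0_6, tap_2_4, taq_2_4, tap_2_5, taq_2_5, z_2_6, z_4_5, tap_4_6, taq_4_6, T.offDiag_nonneg u5 u6 hn_6_5.symm, T.w_pos u0, T.w_pos u2, T.w_pos u4, T.w_pos u5, T.w_pos u6]
                · -- (4,6) Tp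
                  exfalso
                  have key := Groth.Agent.Helper6.NT.negfun3 T h2 u2 u4 u6 (by norm_num) 1 2 1 (by norm_num) (by norm_num)
                  linarith only [key, tap_2_4, taq_2_4, z_2_6, tap_4_6, taq_4_6, T.w_pos u2, T.w_pos u4, T.w_pos u6]
                · -- (4,6) Tm
                  exfalso
                  have key := Groth.Agent.Helper6.NT.negfun3 T h2 u2 u4 u6 (by norm_num) 1 2 3 (by norm_num) (by norm_num)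
                  linarith only [key, tap_2_4, taq_2_4, z_2_6, tap_4_6, taq_4_6, T.w_pos u2, T.w_pos u4, T.w_pos u6]
              · push Not at hx
                have cl_4 := hx
                clear hx
                by_cases hx : ∃ j, (j ≠ u0 ∧ j ≠ u1 ∧ j ≠ u2 ∧ j ≠ u3 ∧ j ≠ u4 ∧ j ≠ u5) ∧ T.a u5 j ≠ 0
                · obtain ⟨u6, ⟨hn_6_0, hn_6_1, hn_6_2, hn_6_3, hn_6_4, hn_6_5⟩, e_5_6⟩ := hx
                  have z_0_6 : T.a u0 u6 = 0 := cl_0 u6 ⟨hn_6_0, hn_6_1, hn_6_2⟩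
                  have z_1_6 : T.a u1 u6 = 0 := cl_1 u6 ⟨hn_6_0, hn_6_1, hn_6_2, hn_6_3⟩
                  have z_2_6 : T.a u2 u6 = 0 := cl_2 u6 ⟨hn_6_0, hn_6_1, hn_6_2, hn_6_3, hn_6_4, hn_6_5⟩
                  have z_3_6 : T.a u3 u6 = 0 := cl_3 u6 ⟨hn_6_0, hn_6_1, hn_6_2, hn_6_3, hn_6_4, hn_6_5⟩
                  have z_4_6 : T.a u4 u6 = 0 := cl_4 u6 ⟨hn_6_0, hn_6_1, hn_6_2, hn_6_3, hn_6_4, hn_6_5⟩
                  rcases Groth.Agent.Helper6.NT.edge5 T h2 (by norm_num) u5 u6 hn_6_5.symm e_5_6 with ⟨tw_5_6, tap_5_6, taq_5_6⟩ | ⟨tw_5_6, tap_5_6, taq_5_6⟩ | ⟨tw_5_6, tap_5_6, taq_5_6⟩ | ⟨tw_5_6, tap_5_6, taq_5_6⟩ | ⟨tw_5_6, tap_5_6, taq_5_6⟩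
                  · -- (5,6) S
                    have hinj := Groth.Agent.Helper6.NT.inj7 u0 u1 u2 u3 u4 u5 u6 hn_1_0 hn_2_0 hn_2_1 hn_3_0 hn_3_1 hn_3_2 hn_4_0 hn_4_1 hn_4_2 hn_4_3 hn_5_0 hn_5_1 hn_5_2 hn_5_3 hn_5_4 hn_6_0 hn_6_1 hn_6_2 hn_6_3 hn_6_4 hn_6_5
                    have r_0 : -2 * T.m u0 + 1 * T.m u1 + 1 * T.m u2 = 0 := by
                      have key := Groth.Agent.Helper6.NT.rowfun7 T u0 u1 u2 u3 u4 u5 u6 hinj u0
                      rw [(h2 u0).2, tap_0_1, tap_0_2, z_0_3, z_0_4, z_0_5, z_0_6] at key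
                      exact mul_left_cancel₀ (T.w_pos u0).ne' (by linarith only [key])
                    have r_1 : 1 * T.m u0 + -2 * T.m u1 + 1 * T.m u3 = 0 := by
                      have key := Groth.Agent.Helper6.NT.rowfun7 T u0 u1 u2 u3 u4 u5 u6 hinj u1
                      rw [Groth.Agent.Helper6.NT.symm' T u1 u0, taq_0_1, (h2 u1).2, z_1_2, tap_1_3, z_1_4, z_1_5, z_1_6] at key
                      exact mul_left_cancel₀ (T.w_pos u1).ne' (by linarith only [key])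
                    have r_2 : 1 * T.m u0 + -2 * T.m u2 + 1 * T.m u4 + 1 * T.m u5 = 0 := by
                      have key := Groth.Agent.Helper6.NT.rowfun7 T u0 u1 u2 u3 u4 u5 u6 hinj u2
                      rw [Groth.Agent.Helper6.NT.symm' T u2 u0, taq_0_2, Groth.Agent.Helper6.NT.symm' T u2 u1, z_1_2, (h2 u2).2, z_2_3, tap_2_4, tap_2_5, z_2_6] at key
                      exact mul_left_cancel₀ (T.w_pos u2).ne' (by linarith only [key])
                    have r_3 : 1 * T.m u1 + -2 * T.m u3 = 0 := by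
                      have key := Groth.Agent.Helper6.NT.rowfun7 T u0 u1 u2 u3 u4 u5 u6 hinj u3
                      rw [Groth.Agent.Helper6.NT.symm' T u3 u0, z_0_3, Groth.Agent.Helper6.NT.symm' T u3 u1, taq_1_3, Groth.Agent.Helper6.NT.symm' T u3 u2, z_2_3, (h2 u3).2, z_3_4, z_3_5, z_3_6] at key
                      exact mul_left_cancel₀ (T.w_pos u3).ne' (by linarith only [key])
                    have r_4 : 1 * T.m u2 + -2 * T.m u4 = 0 := by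
                      have key := Groth.Agent.Helper6.NT.rowfun7 T u0 u1 u2 u3 u4 u5 u6 hinj u4
                      rw [Groth.Agent.Helper6.NT.symm' T u4 u0, z_0_4, Groth.Agent.Helper6.NT.symm' T u4 u1, z_1_4, Groth.Agent.Helper6.NT.symm' T u4 u2, taq_2_4, Groth.Agent.Helper6.NT.symm' T u4 u3, z_3_4, (h2 u4).2, z_4_5, z_4_6] at key
                      exact mul_left_cancel₀ (T.w_pos u4).ne' (by linarith only [key])
                    have r_5 : 1 * T.m u2 + -2 * T.m u5 + 1 * T.m u6 = 0 := by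
                      have key := Groth.Agent.Helper6.NT.rowfun7 T u0 u1 u2 u3 u4 u5 u6 hinj u5
                      rw [Groth.Agent.Helper6.NT.symm' T u5 u0, z_0_5, Groth.Agent.Helper6.NT.symm' T u5 u1, z_1_5, Groth.Agent.Helper6.NT.symm' T u5 u2, taq_2_5, Groth.Agent.Helper6.NT.symm' T u5 u3, z_3_5, Groth.Agent.Helper6.NT.symm' T u5 u4, z_4_5, (h2 u5).2, tap_5_6] at key
                      exact mul_left_cancel₀ (T.w_pos u5).ne' (by linarith only [key])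
                    have r_6 : 1 * T.m u5 + -2 * T.m u6 = 0 := by
                      have key := Groth.Agent.Helper6.NT.rowfun7 T u0 u1 u2 u3 u4 u5 u6 hinj u6
                      rw [Groth.Agent.Helper6.NT.symm' T u6 u0, z_0_6, Groth.Agent.Helper6.NT.symm' T u6 u1, z_1_6, Groth.Agent.Helper6.NT.symm' T u6 u2, z_2_6, Groth.Agent.Helper6.NT.symm' T u6 u3, z_3_6, Groth.Agent.Helper6.NT.symm' T u6 u4, z_4_6, Groth.Agent.Helper6.NT.symm' T u6 u5, taq_5_6, (h2 u6).2] at key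
                      exact mul_left_cancel₀ (T.w_pos u6).ne' (by linarith only [key])
                    exfalso
                    linarith only [r_0, r_1, r_2, r_3, r_4, r_5, r_6, T.m_pos u0, T.m_pos u1, T.m_pos u2, T.m_pos u3, T.m_pos u4, T.m_pos u5, T.m_pos u6]
                  · -- (5,6) Dp
                    exfalso
                    have key := Groth.Agent.Helper6.NT.negfun5 T h2 u0 u2 u4 u5 u6 (by norm_num) 1 2 1 2 1 (by norm_num) (by norm_num)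
                    linarith only [key, tap_0_2, taq_0_2, z_0_4, z_0_5, z_0_6, tap_2_4, taq_2_4, tap_2_5, taq_2_5, z_2_6, z_4_5, z_4_6, tap_5_6, taq_5_6, T.w_pos u0, T.w_pos u2, T.w_pos u4, T.w_pos u5, T.w_pos u6]
                  · -- (5,6) Dm
                    exfalso
                    have key := Groth.Agent.Helper6.NT.negfun5 T h2 u0 u2 u4 u5 u6 (by norm_num) 1 2 1 2 2 (by norm_num) (by norm_num)
                    linarith only [key, tap_0_2, taq_0_2, z_0_4, z_0_5, z_0_6, tap_2_4, taq_2_4, tap_2_5, taq_2_5, z_2_6, z_4_5, z_4_6, tap_5_6, taq_5_6, T.w_pos u0, T.w_pos u2, T.w_pos u4, T.w_pos u5, T.w_pos u6]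
                  · -- (5,6) Tp
                    exfalso
                    have key := Groth.Agent.Helper6.NT.negfun3 T h2 u2 u5 u6 (by norm_num) 1 2 1 (by norm_num) (by norm_num)
                    linarith only [key, tap_2_5, taq_2_5, z_2_6, tap_5_6, taq_5_6, T.w_pos u2, T.w_pos u5, T.w_pos u6]
                  · -- (5,6) Tm
                    exfalso
                    have key := Groth.Agent.Helper6.NT.negfun3 T h2 u2 u5 u6 (by norm_num) 1 2 3 (by norm_num) (by norm_num)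
                    linarith only [key, tap_2_5, taq_2_5, z_2_6, tap_5_6, taq_5_6, T.w_pos u2, T.w_pos u5, T.w_pos u6]
                · push Not at hx
                  have cl_5 := hx
                  clear hx
                  exfalso
                  refine Groth.Agent.Helper6.NT.closed_contra T [u0, u1, u2, u3, u4, u5] (by simp) (by simp) ?_
                  intro i hi j hj
                  simp only [List.mem_cons, List.not_mem_nil, or_false, not_or] at hi hj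
                  rcases hi with rfl | rfl | rfl | rfl | rfl | rfl
                  · exact cl_0 j ⟨hj.1, hj.2.1, hj.2.2.1⟩
                  · exact cl_1 j ⟨hj.1, hj.2.1, hj.2.2.1, hj.2.2.2.1⟩
                  · exact cl_2 j ⟨hj.1, hj.2.1, hj.2.2.1, hj.2.2.2.1, hj.2.2.2.2.1, hj.2.2.2.2.2⟩
                  · exact cl_3 j ⟨hj.1, hj.2.1, hj.2.2.1, hj.2.2.2.1, hj.2.2.2.2.1, hj.2.2.2.2.2⟩
                  · exact cl_4 j ⟨hj.1, hj.2.1, hj.2.2.1, hj.2.2.2.1, hj.2.2.2.2.1, hj.2.2.2.2.2⟩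
                  · exact cl_5 j ⟨hj.1, hj.2.1, hj.2.2.1, hj.2.2.2.1, hj.2.2.2.2.1, hj.2.2.2.2.2⟩
        · -- (4,5) nonzero
          obtain ⟨lbp_4_5, lbq_4_5⟩ := Groth.Agent.Helper6.NT.lb T u4 u5 hn_5_4.symm nz_4_5
          exfalso
          have key := Groth.Agent.Helper6.NT.negfun3 T h2 u2 u4 u5 (by norm_num) 1 1 1 (by norm_num) (by norm_num)
          linarith only [key, tap_2_4, taq_2_4, tap_2_5, taq_2_5, lbp_4_5, lbq_4_5, T.w_pos u2, T.w_pos u4, T.w_pos u5]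
      · -- (3,5) nonzero
        obtain ⟨lbp_3_5, lbq_3_5⟩ := Groth.Agent.Helper6.NT.lb T u3 u5 hn_5_3.symm nz_3_5
        exfalso
        have key := Groth.Agent.Helper6.NT.negfun5 T h2 u0 u1 u2 u3 u5 (by norm_num) 1 1 1 1 1 (by norm_num) (by norm_num)
        linarith only [key, tap_0_1, taq_0_1, tap_0_2, taq_0_2, z_0_3, z_0_5, z_1_2, tap_1_3, taq_1_3, z_1_5, z_2_3, tap_2_5, taq_2_5, lbp_3_5, lbq_3_5, T.w_pos u0, T.w_pos u1, T.w_pos u2, T.w_pos u3, T.w_pos u5]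
    · -- (2,5) Dp
      exfalso
      have key := Groth.Agent.Helper6.NT.negfun4 T h2 u0 u2 u4 u5 (by norm_num) 1 2 1 1 (by norm_num) (by norm_num)
      linarith only [key, tap_0_2, taq_0_2, z_0_4, z_0_5, tap_2_4, taq_2_4, tap_2_5, taq_2_5, T.offDiag_nonneg u4 u5 hn_5_4.symm, T.w_pos u0, T.w_pos u2, T.w_pos u4, T.w_pos u5]
    · -- (2,5) Dm
      exfalso
      have key := Groth.Agent.Helper6.NT.negfun4 T h2 u0 u2 u4 u5 (by norm_num) 1 2 1 2 (by norm_num) (by norm_num)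
      linarith only [key, tap_0_2, taq_0_2, z_0_4, z_0_5, tap_2_4, taq_2_4, tap_2_5, taq_2_5, T.offDiag_nonneg u4 u5 hn_5_4.symm, T.w_pos u0, T.w_pos u2, T.w_pos u4, T.w_pos u5]
    · -- (2,5) Tp
      exfalso
      have key := Groth.Agent.Helper6.NT.negfun3 T h2 u2 u4 u5 (by norm_num) 2 1 1 (by norm_num) (by norm_num)
      linarith only [key, tap_2_4, taq_2_4, tap_2_5, taq_2_5, T.offDiag_nonneg u4 u5 hn_5_4.symm, T.w_pos u2, T.w_pos u4, T.w_pos u5]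
    · -- (2,5) Tm
      exfalso
      have key := Groth.Agent.Helper6.NT.negfun3 T h2 u2 u4 u5 (by norm_num) 2 1 3 (by norm_num) (by norm_num)
      linarith only [key, tap_2_4, taq_2_4, tap_2_5, taq_2_5, T.offDiag_nonneg u4 u5 hn_5_4.symm, T.w_pos u2, T.w_pos u4, T.w_pos u5]
  · push Not at hx
    have cl_2 := hx
    clear hx
    by_cases hx : ∃ j, (j ≠ u0 ∧ j ≠ u1 ∧ j ≠ u2 ∧ j ≠ u3 ∧ j ≠ u4) ∧ T.a u3 j ≠ 0
    · obtain ⟨u5, ⟨hn_5_0, hn_5_1, hn_5_2, hn_5_3, hn_5_4⟩, e_3_5⟩ := hx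
      have z_0_5 : T.a u0 u5 = 0 := cl_0 u5 ⟨hn_5_0, hn_5_1, hn_5_2⟩
      have z_1_5 : T.a u1 u5 = 0 := cl_1 u5 ⟨hn_5_0, hn_5_1, hn_5_2, hn_5_3⟩
      have z_2_5 : T.a u2 u5 = 0 := cl_2 u5 ⟨hn_5_0, hn_5_1, hn_5_2, hn_5_3, hn_5_4⟩
      rcases Groth.Agent.Helper6.NT.edge5 T h2 (by norm_num) u3 u5 hn_5_3.symm e_3_5 with ⟨tw_3_5, tap_3_5, taq_3_5⟩ | ⟨tw_3_5, tap_3_5, taq_3_5⟩ | ⟨tw_3_5, tap_3_5, taq_3_5⟩ | ⟨tw_3_5, tap_3_5, taq_3_5⟩ | ⟨tw_3_5, tap_3_5, taq_3_5⟩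
      · -- (3,5) S
        rcases eq_or_ne (T.a u4 u5) 0 with z_4_5 | nz_4_5
        · -- (4,5) zero
          by_cases hx : ∃ j, (j ≠ u0 ∧ j ≠ u1 ∧ j ≠ u2 ∧ j ≠ u3 ∧ j ≠ u4 ∧ j ≠ u5) ∧ T.a u3 j ≠ 0
          · obtain ⟨u6, ⟨hn_6_0, hn_6_1, hn_6_2, hn_6_3, hn_6_4, hn_6_5⟩, e_3_6⟩ := hx
            have z_0_6 : T.a u0 u6 = 0 := cl_0 u6 ⟨hn_6_0, hn_6_1, hn_6_2⟩
            have z_1_6 : T.a u1 u6 = 0 := cl_1 u6 ⟨hn_6_0, hn_6_1, hn_6_2, hn_6_3⟩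
            have z_2_6 : T.a u2 u6 = 0 := cl_2 u6 ⟨hn_6_0, hn_6_1, hn_6_2, hn_6_3, hn_6_4⟩
            rcases Groth.Agent.Helper6.NT.edge5 T h2 (by norm_num) u3 u6 hn_6_3.symm e_3_6 with ⟨tw_3_6, tap_3_6, taq_3_6⟩ | ⟨tw_3_6, tap_3_6, taq_3_6⟩ | ⟨tw_3_6, tap_3_6, taq_3_6⟩ | ⟨tw_3_6, tap_3_6, taq_3_6⟩ | ⟨tw_3_6, tap_3_6, taq_3_6⟩
            · -- (3,6) S
              rcases eq_or_ne (T.a u4 u6) 0 with z_4_6 | nz_4_6
              · -- (4,6) zero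
                rcases eq_or_ne (T.a u5 u6) 0 with z_5_6 | nz_5_6
                · -- (5,6) zero
                  have hinj := Groth.Agent.Helper6.NT.inj7 u0 u1 u2 u3 u4 u5 u6 hn_1_0 hn_2_0 hn_2_1 hn_3_0 hn_3_1 hn_3_2 hn_4_0 hn_4_1 hn_4_2 hn_4_3 hn_5_0 hn_5_1 hn_5_2 hn_5_3 hn_5_4 hn_6_0 hn_6_1 hn_6_2 hn_6_3 hn_6_4 hn_6_5
                  have r_0 : -2 * T.m u0 + 1 * T.m u1 + 1 * T.m u2 = 0 := by
                    have key := Groth.Agent.Helper6.NT.rowfun7 T u0 u1 u2 u3 u4 u5 u6 hinj u0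
                    rw [(h2 u0).2, tap_0_1, tap_0_2, z_0_3, z_0_4, z_0_5, z_0_6] at key
                    exact mul_left_cancel₀ (T.w_pos u0).ne' (by linarith only [key])
                  have r_1 : 1 * T.m u0 + -2 * T.m u1 + 1 * T.m u3 = 0 := by
                    have key := Groth.Agent.Helper6.NT.rowfun7 T u0 u1 u2 u3 u4 u5 u6 hinj u1
                    rw [Groth.Agent.Helper6.NT.symm' T u1 u0, taq_0_1, (h2 u1).2, z_1_2, tap_1_3, z_1_4, z_1_5, z_1_6] at key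
                    exact mul_left_cancel₀ (T.w_pos u1).ne' (by linarith only [key])
                  have r_2 : 1 * T.m u0 + -2 * T.m u2 + 1 * T.m u4 = 0 := by
                    have key := Groth.Agent.Helper6.NT.rowfun7 T u0 u1 u2 u3 u4 u5 u6 hinj u2
                    rw [Groth.Agent.Helper6.NT.symm' T u2 u0, taq_0_2, Groth.Agent.Helper6.NT.symm' T u2 u1, z_1_2, (h2 u2).2, z_2_3, tap_2_4, z_2_5, z_2_6] at key
                    exact mul_left_cancel₀ (T.w_pos u2).ne' (by linarith only [key])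
                  have r_3 : 1 * T.m u1 + -2 * T.m u3 + 1 * T.m u5 + 1 * T.m u6 = 0 := by
                    have key := Groth.Agent.Helper6.NT.rowfun7 T u0 u1 u2 u3 u4 u5 u6 hinj u3
                    rw [Groth.Agent.Helper6.NT.symm' T u3 u0, z_0_3, Groth.Agent.Helper6.NT.symm' T u3 u1, taq_1_3, Groth.Agent.Helper6.NT.symm' T u3 u2, z_2_3, (h2 u3).2, z_3_4, tap_3_5, tap_3_6] at key
                    exact mul_left_cancel₀ (T.w_pos u3).ne' (by linarith only [key])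
                  have r_4 : 1 * T.m u2 + -2 * T.m u4 = 0 := by
                    have key := Groth.Agent.Helper6.NT.rowfun7 T u0 u1 u2 u3 u4 u5 u6 hinj u4
                    rw [Groth.Agent.Helper6.NT.symm' T u4 u0, z_0_4, Groth.Agent.Helper6.NT.symm' T u4 u1, z_1_4, Groth.Agent.Helper6.NT.symm' T u4 u2, taq_2_4, Groth.Agent.Helper6.NT.symm' T u4 u3, z_3_4, (h2 u4).2, z_4_5, z_4_6] at key
                    exact mul_left_cancel₀ (T.w_pos u4).ne' (by linarith only [key])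
                  have r_5 : 1 * T.m u3 + -2 * T.m u5 = 0 := by
                    have key := Groth.Agent.Helper6.NT.rowfun7 T u0 u1 u2 u3 u4 u5 u6 hinj u5
                    rw [Groth.Agent.Helper6.NT.symm' T u5 u0, z_0_5, Groth.Agent.Helper6.NT.symm' T u5 u1, z_1_5, Groth.Agent.Helper6.NT.symm' T u5 u2, z_2_5, Groth.Agent.Helper6.NT.symm' T u5 u3, taq_3_5, Groth.Agent.Helper6.NT.symm' T u5 u4, z_4_5, (h2 u5).2, z_5_6] at key
                    exact mul_left_cancel₀ (T.w_pos u5).ne' (by linarith only [key])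
                  have r_6 : 1 * T.m u3 + -2 * T.m u6 = 0 := by
                    have key := Groth.Agent.Helper6.NT.rowfun7 T u0 u1 u2 u3 u4 u5 u6 hinj u6
                    rw [Groth.Agent.Helper6.NT.symm' T u6 u0, z_0_6, Groth.Agent.Helper6.NT.symm' T u6 u1, z_1_6, Groth.Agent.Helper6.NT.symm' T u6 u2, z_2_6, Groth.Agent.Helper6.NT.symm' T u6 u3, taq_3_6, Groth.Agent.Helper6.NT.symm' T u6 u4, z_4_6, Groth.Agent.Helper6.NT.symm' T u6 u5, z_5_6, (h2 u6).2] at key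
                    exact mul_left_cancel₀ (T.w_pos u6).ne' (by linarith only [key])
                  exfalso
                  linarith only [r_0, r_1, r_2, r_3, r_4, r_5, r_6, T.m_pos u0, T.m_pos u1, T.m_pos u2, T.m_pos u3, T.m_pos u4, T.m_pos u5, T.m_pos u6]
                · -- (5,6) nonzero
                  obtain ⟨lbp_5_6, lbq_5_6⟩ := Groth.Agent.Helper6.NT.lb T u5 u6 hn_6_5.symm nz_5_6
                  exfalso
                  have key := Groth.Agent.Helper6.NT.negfun3 T h2 u3 u5 u6 (by norm_num) 1 1 1 (by norm_num) (by norm_num)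
                  linarith only [key, tap_3_5, taq_3_5, tap_3_6, taq_3_6, lbp_5_6, lbq_5_6, T.w_pos u3, T.w_pos u5, T.w_pos u6]
              · -- (4,6) nonzero
                obtain ⟨lbp_4_6, lbq_4_6⟩ := Groth.Agent.Helper6.NT.lb T u4 u6 hn_6_4.symm nz_4_6
                exfalso
                have key := Groth.Agent.Helper6.NT.negfun6 T h2 u0 u1 u2 u3 u4 u6 (by norm_num) 1 1 1 1 1 1 (by norm_num) (by norm_num)
                linarith only [key, tap_0_1, taq_0_1, tap_0_2, taq_0_2, z_0_3, z_0_4, z_0_6, z_1_2, tap_1_3, taq_1_3, z_1_4, z_1_6, z_2_3, tap_2_4, taq_2_4, z_2_6, z_3_4, tap_3_6, taq_3_6, lbp_4_6, lbq_4_6, T.w_pos u0, T.w_pos u1, T.w_pos u2, T.w_pos u3, T.w_pos u4, T.w_pos u6]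
            · -- (3,6) Dp
              exfalso
              have key := Groth.Agent.Helper6.NT.negfun4 T h2 u1 u3 u5 u6 (by norm_num) 1 2 1 1 (by norm_num) (by norm_num)
              linarith only [key, tap_1_3, taq_1_3, z_1_5, z_1_6, tap_3_5, taq_3_5, tap_3_6, taq_3_6, T.offDiag_nonneg u5 u6 hn_6_5.symm, T.w_pos u1, T.w_pos u3, T.w_pos u5, T.w_pos u6]
            · -- (3,6) Dm
              exfalso
              have key := Groth.Agent.Helper6.NT.negfun4 T h2 u1 u3 u5 u6 (by norm_num) 1 2 1 2 (by norm_num) (by norm_num)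
              linarith only [key, tap_1_3, taq_1_3, z_1_5, z_1_6, tap_3_5, taq_3_5, tap_3_6, taq_3_6, T.offDiag_nonneg u5 u6 hn_6_5.symm, T.w_pos u1, T.w_pos u3, T.w_pos u5, T.w_pos u6]
            · -- (3,6) Tp
              exfalso
              have key := Groth.Agent.Helper6.NT.negfun3 T h2 u3 u5 u6 (by norm_num) 2 1 1 (by norm_num) (by norm_num)
              linarith only [key, tap_3_5, taq_3_5, tap_3_6, taq_3_6, T.offDiag_nonneg u5 u6 hn_6_5.symm, T.w_pos u3, T.w_pos u5, T.w_pos u6]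
            · -- (3,6) Tm
              exfalso
              have key := Groth.Agent.Helper6.NT.negfun3 T h2 u3 u5 u6 (by norm_num) 2 1 3 (by norm_num) (by norm_num)
              linarith only [key, tap_3_5, taq_3_5, tap_3_6, taq_3_6, T.offDiag_nonneg u5 u6 hn_6_5.symm, T.w_pos u3, T.w_pos u5, T.w_pos u6]
          · push Not at hx
            have cl_3 := hx
            clear hx
            by_cases hx : ∃ j, (j ≠ u0 ∧ j ≠ u1 ∧ j ≠ u2 ∧ j ≠ u3 ∧ j ≠ u4 ∧ j ≠ u5) ∧ T.a u4 j ≠ 0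
            · obtain ⟨u6, ⟨hn_6_0, hn_6_1, hn_6_2, hn_6_3, hn_6_4, hn_6_5⟩, e_4_6⟩ := hx
              have z_0_6 : T.a u0 u6 = 0 := cl_0 u6 ⟨hn_6_0, hn_6_1, hn_6_2⟩
              have z_1_6 : T.a u1 u6 = 0 := cl_1 u6 ⟨hn_6_0, hn_6_1, hn_6_2, hn_6_3⟩
              have z_2_6 : T.a u2 u6 = 0 := cl_2 u6 ⟨hn_6_0, hn_6_1, hn_6_2, hn_6_3, hn_6_4⟩
              have z_3_6 : T.a u3 u6 = 0 := cl_3 u6 ⟨hn_6_0, hn_6_1, hn_6_2, hn_6_3, hn_6_4, hn_6_5⟩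
              rcases Groth.Agent.Helper6.NT.edge5 T h2 (by norm_num) u4 u6 hn_6_4.symm e_4_6 with ⟨tw_4_6, tap_4_6, taq_4_6⟩ | ⟨tw_4_6, tap_4_6, taq_4_6⟩ | ⟨tw_4_6, tap_4_6, taq_4_6⟩ | ⟨tw_4_6, tap_4_6, taq_4_6⟩ | ⟨tw_4_6, tap_4_6, taq_4_6⟩
              · -- (4,6) S
                rcases eq_or_ne (T.a u5 u6) 0 with z_5_6 | nz_5_6
                · -- (5,6) zero
                  have hinj := Groth.Agent.Helper6.NT.inj7 u0 u1 u2 u3 u4 u5 u6 hn_1_0 hn_2_0 hn_2_1 hn_3_0 hn_3_1 hn_3_2 hn_4_0 hn_4_1 hn_4_2 hn_4_3 hn_5_0 hn_5_1 hn_5_2 hn_5_3 hn_5_4 hn_6_0 hn_6_1 hn_6_2 hn_6_3 hn_6_4 hn_6_5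
                  have r_0 : -2 * T.m u0 + 1 * T.m u1 + 1 * T.m u2 = 0 := by
                    have key := Groth.Agent.Helper6.NT.rowfun7 T u0 u1 u2 u3 u4 u5 u6 hinj u0
                    rw [(h2 u0).2, tap_0_1, tap_0_2, z_0_3, z_0_4, z_0_5, z_0_6] at key
                    exact mul_left_cancel₀ (T.w_pos u0).ne' (by linarith only [key])
                  have r_1 : 1 * T.m u0 + -2 * T.m u1 + 1 * T.m u3 = 0 := by
                    have key := Groth.Agent.Helper6.NT.rowfun7 T u0 u1 u2 u3 u4 u5 u6 hinj u1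
                    rw [Groth.Agent.Helper6.NT.symm' T u1 u0, taq_0_1, (h2 u1).2, z_1_2, tap_1_3, z_1_4, z_1_5, z_1_6] at key
                    exact mul_left_cancel₀ (T.w_pos u1).ne' (by linarith only [key])
                  have r_2 : 1 * T.m u0 + -2 * T.m u2 + 1 * T.m u4 = 0 := by
                    have key := Groth.Agent.Helper6.NT.rowfun7 T u0 u1 u2 u3 u4 u5 u6 hinj u2
                    rw [Groth.Agent.Helper6.NT.symm' T u2 u0, taq_0_2, Groth.Agent.Helper6.NT.symm' T u2 u1, z_1_2, (h2 u2).2, z_2_3, tap_2_4, z_2_5, z_2_6] at key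
                    exact mul_left_cancel₀ (T.w_pos u2).ne' (by linarith only [key])
                  have r_3 : 1 * T.m u1 + -2 * T.m u3 + 1 * T.m u5 = 0 := by
                    have key := Groth.Agent.Helper6.NT.rowfun7 T u0 u1 u2 u3 u4 u5 u6 hinj u3
                    rw [Groth.Agent.Helper6.NT.symm' T u3 u0, z_0_3, Groth.Agent.Helper6.NT.symm' T u3 u1, taq_1_3, Groth.Agent.Helper6.NT.symm' T u3 u2, z_2_3, (h2 u3).2, z_3_4, tap_3_5, z_3_6] at key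
                    exact mul_left_cancel₀ (T.w_pos u3).ne' (by linarith only [key])
                  have r_4 : 1 * T.m u2 + -2 * T.m u4 + 1 * T.m u6 = 0 := by
                    have key := Groth.Agent.Helper6.NT.rowfun7 T u0 u1 u2 u3 u4 u5 u6 hinj u4
                    rw [Groth.Agent.Helper6.NT.symm' T u4 u0, z_0_4, Groth.Agent.Helper6.NT.symm' T u4 u1, z_1_4, Groth.Agent.Helper6.NT.symm' T u4 u2, taq_2_4, Groth.Agent.Helper6.NT.symm' T u4 u3, z_3_4, (h2 u4).2, z_4_5, tap_4_6] at key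
                    exact mul_left_cancel₀ (T.w_pos u4).ne' (by linarith only [key])
                  have r_5 : 1 * T.m u3 + -2 * T.m u5 = 0 := by
                    have key := Groth.Agent.Helper6.NT.rowfun7 T u0 u1 u2 u3 u4 u5 u6 hinj u5
                    rw [Groth.Agent.Helper6.NT.symm' T u5 u0, z_0_5, Groth.Agent.Helper6.NT.symm' T u5 u1, z_1_5, Groth.Agent.Helper6.NT.symm' T u5 u2, z_2_5, Groth.Agent.Helper6.NT.symm' T u5 u3, taq_3_5, Groth.Agent.Helper6.NT.symm' T u5 u4, z_4_5, (h2 u5).2, z_5_6] at key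
                    exact mul_left_cancel₀ (T.w_pos u5).ne' (by linarith only [key])
                  have r_6 : 1 * T.m u4 + -2 * T.m u6 = 0 := by
                    have key := Groth.Agent.Helper6.NT.rowfun7 T u0 u1 u2 u3 u4 u5 u6 hinj u6
                    rw [Groth.Agent.Helper6.NT.symm' T u6 u0, z_0_6, Groth.Agent.Helper6.NT.symm' T u6 u1, z_1_6, Groth.Agent.Helper6.NT.symm' T u6 u2, z_2_6, Groth.Agent.Helper6.NT.symm' T u6 u3, z_3_6, Groth.Agent.Helper6.NT.symm' T u6 u4, taq_4_6, Groth.Agent.Helper6.NT.symm' T u6 u5, z_5_6, (h2 u6).2] at key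
                    exact mul_left_cancel₀ (T.w_pos u6).ne' (by linarith only [key])
                  exfalso
                  linarith only [r_0, r_1, r_2, r_3, r_4, r_5, r_6, T.m_pos u0, T.m_pos u1, T.m_pos u2, T.m_pos u3, T.m_pos u4, T.m_pos u5, T.m_pos u6]
                · -- (5,6) nonzero
                  obtain ⟨lbp_5_6, lbq_5_6⟩ := Groth.Agent.Helper6.NT.lb T u5 u6 hn_6_5.symm nz_5_6
                  rcases Groth.Agent.Helper6.NT.edge5 T h2 (by norm_num) u5 u6 hn_6_5.symm nz_5_6 with ⟨tw_5_6, tap_5_6, taq_5_6⟩ | ⟨tw_5_6, tap_5_6, taq_5_6⟩ | ⟨tw_5_6, tap_5_6, taq_5_6⟩ | ⟨tw_5_6, tap_5_6, taq_5_6⟩ | ⟨tw_5_6, tap_5_6, taq_5_6⟩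
                  · -- (5,6) S
                    have hinj := Groth.Agent.Helper6.NT.inj7 u0 u1 u2 u3 u4 u5 u6 hn_1_0 hn_2_0 hn_2_1 hn_3_0 hn_3_1 hn_3_2 hn_4_0 hn_4_1 hn_4_2 hn_4_3 hn_5_0 hn_5_1 hn_5_2 hn_5_3 hn_5_4 hn_6_0 hn_6_1 hn_6_2 hn_6_3 hn_6_4 hn_6_5
                    have r_0 : -2 * T.m u0 + 1 * T.m u1 + 1 * T.m u2 = 0 := by
                      have key := Groth.Agent.Helper6.NT.rowfun7 T u0 u1 u2 u3 u4 u5 u6 hinj u0
                      rw [(h2 u0).2, tap_0_1, tap_0_2, z_0_3, z_0_4, z_0_5, z_0_6] at key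
                      exact mul_left_cancel₀ (T.w_pos u0).ne' (by linarith only [key])
                    have r_1 : 1 * T.m u0 + -2 * T.m u1 + 1 * T.m u3 = 0 := by
                      have key := Groth.Agent.Helper6.NT.rowfun7 T u0 u1 u2 u3 u4 u5 u6 hinj u1
                      rw [Groth.Agent.Helper6.NT.symm' T u1 u0, taq_0_1, (h2 u1).2, z_1_2, tap_1_3, z_1_4, z_1_5, z_1_6] at key
                      exact mul_left_cancel₀ (T.w_pos u1).ne' (by linarith only [key])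
                    have r_2 : 1 * T.m u0 + -2 * T.m u2 + 1 * T.m u4 = 0 := by
                      have key := Groth.Agent.Helper6.NT.rowfun7 T u0 u1 u2 u3 u4 u5 u6 hinj u2
                      rw [Groth.Agent.Helper6.NT.symm' T u2 u0, taq_0_2, Groth.Agent.Helper6.NT.symm' T u2 u1, z_1_2, (h2 u2).2, z_2_3, tap_2_4, z_2_5, z_2_6] at key
                      exact mul_left_cancel₀ (T.w_pos u2).ne' (by linarith only [key])
                    have r_3 : 1 * T.m u1 + -2 * T.m u3 + 1 * T.m u5 = 0 := by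
                      have key := Groth.Agent.Helper6.NT.rowfun7 T u0 u1 u2 u3 u4 u5 u6 hinj u3
                      rw [Groth.Agent.Helper6.NT.symm' T u3 u0, z_0_3, Groth.Agent.Helper6.NT.symm' T u3 u1, taq_1_3, Groth.Agent.Helper6.NT.symm' T u3 u2, z_2_3, (h2 u3).2, z_3_4, tap_3_5, z_3_6] at key
                      exact mul_left_cancel₀ (T.w_pos u3).ne' (by linarith only [key])
                    have r_4 : 1 * T.m u2 + -2 * T.m u4 + 1 * T.m u6 = 0 := by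
                      have key := Groth.Agent.Helper6.NT.rowfun7 T u0 u1 u2 u3 u4 u5 u6 hinj u4
                      rw [Groth.Agent.Helper6.NT.symm' T u4 u0, z_0_4, Groth.Agent.Helper6.NT.symm' T u4 u1, z_1_4, Groth.Agent.Helper6.NT.symm' T u4 u2, taq_2_4, Groth.Agent.Helper6.NT.symm' T u4 u3, z_3_4, (h2 u4).2, z_4_5, tap_4_6] at key
                      exact mul_left_cancel₀ (T.w_pos u4).ne' (by linarith only [key])
                    have r_5 : 1 * T.m u3 + -2 * T.m u5 + 1 * T.m u6 = 0 := by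
                      have key := Groth.Agent.Helper6.NT.rowfun7 T u0 u1 u2 u3 u4 u5 u6 hinj u5
                      rw [Groth.Agent.Helper6.NT.symm' T u5 u0, z_0_5, Groth.Agent.Helper6.NT.symm' T u5 u1, z_1_5, Groth.Agent.Helper6.NT.symm' T u5 u2, z_2_5, Groth.Agent.Helper6.NT.symm' T u5 u3, taq_3_5, Groth.Agent.Helper6.NT.symm' T u5 u4, z_4_5, (h2 u5).2, tap_5_6] at key
                      exact mul_left_cancel₀ (T.w_pos u5).ne' (by linarith only [key])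
                    have r_6 : 1 * T.m u4 + 1 * T.m u5 + -2 * T.m u6 = 0 := by
                      have key := Groth.Agent.Helper6.NT.rowfun7 T u0 u1 u2 u3 u4 u5 u6 hinj u6
                      rw [Groth.Agent.Helper6.NT.symm' T u6 u0, z_0_6, Groth.Agent.Helper6.NT.symm' T u6 u1, z_1_6, Groth.Agent.Helper6.NT.symm' T u6 u2, z_2_6, Groth.Agent.Helper6.NT.symm' T u6 u3, z_3_6, Groth.Agent.Helper6.NT.symm' T u6 u4, taq_4_6, Groth.Agent.Helper6.NT.symm' T u6 u5, taq_5_6, (h2 u6).2] at key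
                      exact mul_left_cancel₀ (T.w_pos u6).ne' (by linarith only [key])
                    have f0 : T.m u0 = T.m u0 := rfl
                    have f1 : T.m u1 = T.m u0 := by linarith only [r_0, r_1, r_2, r_3, r_4, r_5, r_6]
                    have f2 : T.m u3 = T.m u0 := by linarith only [r_0, r_1, r_2, r_3, r_4, r_5, r_6]
                    have f3 : T.m u5 = T.m u0 := by linarith only [r_0, r_1, r_2, r_3, r_4, r_5, r_6]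
                    have f4 : T.m u6 = T.m u0 := by linarith only [r_0, r_1, r_2, r_3, r_4, r_5, r_6]
                    have f5 : T.m u4 = T.m u0 := by linarith only [r_0, r_1, r_2, r_3, r_4, r_5, r_6]
                    have f6 : T.m u2 = T.m u0 := by linarith only [r_0, r_1, r_2, r_3, r_4, r_5, r_6]
                    have f7 : T.w u0 = T.w u0 := rfl
                    have f8 : T.w u1 = T.w u0 := by linarith only [tw_0_1, tw_0_2, tw_1_3, tw_2_4, tw_3_5, tw_5_6, tw_4_6]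
                    have f9 : T.w u3 = T.w u0 := by linarith only [tw_0_1, tw_0_2, tw_1_3, tw_2_4, tw_3_5, tw_5_6, tw_4_6]
                    have f10 : T.w u5 = T.w u0 := by linarith only [tw_0_1, tw_0_2, tw_1_3, tw_2_4, tw_3_5, tw_5_6, tw_4_6]
                    have f11 : T.w u6 = T.w u0 := by linarith only [tw_0_1, tw_0_2, tw_1_3, tw_2_4, tw_3_5, tw_5_6, tw_4_6]
                    have f12 : T.w u4 = T.w u0 := by linarith only [tw_0_1, tw_0_2, tw_1_3, tw_2_4, tw_3_5, tw_5_6, tw_4_6]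
                    have f13 : T.w u2 = T.w u0 := by linarith only [tw_0_1, tw_0_2, tw_1_3, tw_2_4, tw_3_5, tw_5_6, tw_4_6]
                    have f14 : T.a u0 u0 = -2 * T.w u0 := by have := (h2 u0).2; linarith only [this, tw_0_1, tw_0_2, tw_1_3, tw_2_4, tw_3_5, tw_5_6, tw_4_6]
                    have f15 : T.a u0 u1 = T.w u0 := by linarith only [tap_0_1, tw_0_1, tw_0_2, tw_1_3, tw_2_4, tw_3_5, tw_5_6, tw_4_6]
                    have f16 : T.a u0 u3 = 0 := by exact z_0_3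
                    have f17 : T.a u0 u5 = 0 := by exact z_0_5
                    have f18 : T.a u0 u6 = 0 := by exact z_0_6
                    have f19 : T.a u0 u4 = 0 := by exact z_0_4
                    have f20 : T.a u0 u2 = T.w u0 := by linarith only [tap_0_2, tw_0_1, tw_0_2, tw_1_3, tw_2_4, tw_3_5, tw_5_6, tw_4_6]
                    have f21 : T.a u1 u1 = -2 * T.w u0 := by have := (h2 u1).2; linarith only [this, tw_0_1, tw_0_2, tw_1_3, tw_2_4, tw_3_5, tw_5_6, tw_4_6]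
                    have f22 : T.a u1 u3 = T.w u0 := by linarith only [tap_1_3, tw_0_1, tw_0_2, tw_1_3, tw_2_4, tw_3_5, tw_5_6, tw_4_6]
                    have f23 : T.a u1 u5 = 0 := by exact z_1_5
                    have f24 : T.a u1 u6 = 0 := by exact z_1_6
                    have f25 : T.a u1 u4 = 0 := by exact z_1_4
                    have f26 : T.a u1 u2 = 0 := by exact z_1_2
                    have f27 : T.a u3 u3 = -2 * T.w u0 := by have := (h2 u3).2; linarith only [this, tw_0_1, tw_0_2, tw_1_3, tw_2_4, tw_3_5, tw_5_6, tw_4_6]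
                    have f28 : T.a u3 u5 = T.w u0 := by linarith only [tap_3_5, tw_0_1, tw_0_2, tw_1_3, tw_2_4, tw_3_5, tw_5_6, tw_4_6]
                    have f29 : T.a u3 u6 = 0 := by exact z_3_6
                    have f30 : T.a u3 u4 = 0 := by exact z_3_4
                    have f31 : T.a u3 u2 = 0 := by rw [Groth.Agent.Helper6.NT.symm' T u3 u2]; exact z_2_3
                    have f32 : T.a u5 u5 = -2 * T.w u0 := by have := (h2 u5).2; linarith only [this, tw_0_1, tw_0_2, tw_1_3, tw_2_4, tw_3_5, tw_5_6, tw_4_6]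
                    have f33 : T.a u5 u6 = T.w u0 := by linarith only [tap_5_6, tw_0_1, tw_0_2, tw_1_3, tw_2_4, tw_3_5, tw_5_6, tw_4_6]
                    have f34 : T.a u5 u4 = 0 := by rw [Groth.Agent.Helper6.NT.symm' T u5 u4]; exact z_4_5
                    have f35 : T.a u5 u2 = 0 := by rw [Groth.Agent.Helper6.NT.symm' T u5 u2]; exact z_2_5
                    have f36 : T.a u6 u6 = -2 * T.w u0 := by have := (h2 u6).2; linarith only [this, tw_0_1, tw_0_2, tw_1_3, tw_2_4, tw_3_5, tw_5_6, tw_4_6]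
                    have f37 : T.a u6 u4 = T.w u0 := by rw [Groth.Agent.Helper6.NT.symm' T u6 u4]; linarith only [tap_4_6, tw_0_1, tw_0_2, tw_1_3, tw_2_4, tw_3_5, tw_5_6, tw_4_6]
                    have f38 : T.a u6 u2 = 0 := by rw [Groth.Agent.Helper6.NT.symm' T u6 u2]; exact z_2_6
                    have f39 : T.a u4 u4 = -2 * T.w u0 := by have := (h2 u4).2; linarith only [this, tw_0_1, tw_0_2, tw_1_3, tw_2_4, tw_3_5, tw_5_6, tw_4_6]
                    have f40 : T.a u4 u2 = T.w u0 := by rw [Groth.Agent.Helper6.NT.symm' T u4 u2]; linarith only [tap_2_4, tw_0_1, tw_0_2, tw_1_3, tw_2_4, tw_3_5, tw_5_6, tw_4_6]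
                    have f41 : T.a u2 u2 = -2 * T.w u0 := by have := (h2 u2).2; linarith only [this, tw_0_1, tw_0_2, tw_1_3, tw_2_4, tw_3_5, tw_5_6, tw_4_6]
                    have hsig := Groth.Agent.Helper6.NT.inj7 u0 u1 u3 u5 u6 u4 u2 hn_1_0 hn_3_0 hn_3_1 hn_5_0 hn_5_1 hn_5_3 hn_6_0 hn_6_1 hn_6_3 hn_6_5 hn_4_0 hn_4_1 hn_4_3 hn_5_4.symm hn_6_4.symm hn_2_0 hn_2_1 hn_3_2.symm hn_5_2.symm hn_6_2.symm hn_4_2.symm
                    exact ⟨Equiv.ofBijective _ (Finite.injective_iff_bijective.1 hsig), T.m u0, T.w u0, Or.inl ⟨f0, f1, f2, f3, f4, f5, f6, f7, f8, f9, f10, f11, f12, f13, f14, f15, f16, f17, f18, f19, f20, f21, f22, f23, f24, f25, f26, f27, f28, f29, f30, f31, f32, f33, f34, f35, f36, f37, f38, f39, f40, f41⟩⟩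
                  · -- (5,6) Dp
                    exfalso
                    have key := Groth.Agent.Helper6.NT.negfun5 T h2 u2 u3 u4 u5 u6 (by norm_num) 1 2 2 4 3 (by norm_num) (by norm_num)
                    linarith only [key, z_2_3, tap_2_4, taq_2_4, z_2_5, z_2_6, z_3_4, tap_3_5, taq_3_5, z_3_6, z_4_5, tap_4_6, taq_4_6, tap_5_6, taq_5_6, T.w_pos u2, T.w_pos u3, T.w_pos u4, T.w_pos u5, T.w_pos u6]
                  · -- (5,6) Dm
                    exfalso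
                    have key := Groth.Agent.Helper6.NT.negfun5 T h2 u2 u3 u4 u5 u6 (by norm_num) 1 1 2 2 3 (by norm_num) (by norm_num)
                    linarith only [key, z_2_3, tap_2_4, taq_2_4, z_2_5, z_2_6, z_3_4, tap_3_5, taq_3_5, z_3_6, z_4_5, tap_4_6, taq_4_6, tap_5_6, taq_5_6, T.w_pos u2, T.w_pos u3, T.w_pos u4, T.w_pos u5, T.w_pos u6]
                  · -- (5,6) Tp
                    exfalso
                    have key := Groth.Agent.Helper6.NT.negfun3 T h2 u4 u5 u6 (by norm_num) 1 3 2 (by norm_num) (by norm_num)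
                    linarith only [key, z_4_5, tap_4_6, taq_4_6, tap_5_6, taq_5_6, T.w_pos u4, T.w_pos u5, T.w_pos u6]
                  · -- (5,6) Tm
                    exfalso
                    have key := Groth.Agent.Helper6.NT.negfun3 T h2 u4 u5 u6 (by norm_num) 1 1 2 (by norm_num) (by norm_num)
                    linarith only [key, z_4_5, tap_4_6, taq_4_6, tap_5_6, taq_5_6, T.w_pos u4, T.w_pos u5, T.w_pos u6]
              · -- (4,6) Dp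
                rcases eq_or_ne (T.a u5 u6) 0 with z_5_6 | nz_5_6
                · -- (5,6) zero
                  have hinj := Groth.Agent.Helper6.NT.inj7 u0 u1 u2 u3 u4 u5 u6 hn_1_0 hn_2_0 hn_2_1 hn_3_0 hn_3_1 hn_3_2 hn_4_0 hn_4_1 hn_4_2 hn_4_3 hn_5_0 hn_5_1 hn_5_2 hn_5_3 hn_5_4 hn_6_0 hn_6_1 hn_6_2 hn_6_3 hn_6_4 hn_6_5
                  have r_0 : -2 * T.m u0 + 1 * T.m u1 + 1 * T.m u2 = 0 := by
                    have key := Groth.Agent.Helper6.NT.rowfun7 T u0 u1 u2 u3 u4 u5 u6 hinj u0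
                    rw [(h2 u0).2, tap_0_1, tap_0_2, z_0_3, z_0_4, z_0_5, z_0_6] at key
                    exact mul_left_cancel₀ (T.w_pos u0).ne' (by linarith only [key])
                  have r_1 : 1 * T.m u0 + -2 * T.m u1 + 1 * T.m u3 = 0 := by
                    have key := Groth.Agent.Helper6.NT.rowfun7 T u0 u1 u2 u3 u4 u5 u6 hinj u1
                    rw [Groth.Agent.Helper6.NT.symm' T u1 u0, taq_0_1, (h2 u1).2, z_1_2, tap_1_3, z_1_4, z_1_5, z_1_6] at key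
                    exact mul_left_cancel₀ (T.w_pos u1).ne' (by linarith only [key])
                  have r_2 : 1 * T.m u0 + -2 * T.m u2 + 1 * T.m u4 = 0 := by
                    have key := Groth.Agent.Helper6.NT.rowfun7 T u0 u1 u2 u3 u4 u5 u6 hinj u2
                    rw [Groth.Agent.Helper6.NT.symm' T u2 u0, taq_0_2, Groth.Agent.Helper6.NT.symm' T u2 u1, z_1_2, (h2 u2).2, z_2_3, tap_2_4, z_2_5, z_2_6] at key
                    exact mul_left_cancel₀ (T.w_pos u2).ne' (by linarith only [key])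
                  have r_3 : 1 * T.m u1 + -2 * T.m u3 + 1 * T.m u5 = 0 := by
                    have key := Groth.Agent.Helper6.NT.rowfun7 T u0 u1 u2 u3 u4 u5 u6 hinj u3
                    rw [Groth.Agent.Helper6.NT.symm' T u3 u0, z_0_3, Groth.Agent.Helper6.NT.symm' T u3 u1, taq_1_3, Groth.Agent.Helper6.NT.symm' T u3 u2, z_2_3, (h2 u3).2, z_3_4, tap_3_5, z_3_6] at key
                    exact mul_left_cancel₀ (T.w_pos u3).ne' (by linarith only [key])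
                  have r_4 : 1 * T.m u2 + -2 * T.m u4 + 2 * T.m u6 = 0 := by
                    have key := Groth.Agent.Helper6.NT.rowfun7 T u0 u1 u2 u3 u4 u5 u6 hinj u4
                    rw [Groth.Agent.Helper6.NT.symm' T u4 u0, z_0_4, Groth.Agent.Helper6.NT.symm' T u4 u1, z_1_4, Groth.Agent.Helper6.NT.symm' T u4 u2, taq_2_4, Groth.Agent.Helper6.NT.symm' T u4 u3, z_3_4, (h2 u4).2, z_4_5, tap_4_6] at key
                    exact mul_left_cancel₀ (T.w_pos u4).ne' (by linarith only [key])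
                  have r_5 : 1 * T.m u3 + -2 * T.m u5 = 0 := by
                    have key := Groth.Agent.Helper6.NT.rowfun7 T u0 u1 u2 u3 u4 u5 u6 hinj u5
                    rw [Groth.Agent.Helper6.NT.symm' T u5 u0, z_0_5, Groth.Agent.Helper6.NT.symm' T u5 u1, z_1_5, Groth.Agent.Helper6.NT.symm' T u5 u2, z_2_5, Groth.Agent.Helper6.NT.symm' T u5 u3, taq_3_5, Groth.Agent.Helper6.NT.symm' T u5 u4, z_4_5, (h2 u5).2, z_5_6] at key
                    exact mul_left_cancel₀ (T.w_pos u5).ne' (by linarith only [key])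
                  have r_6 : 1 * T.m u4 + -2 * T.m u6 = 0 := by
                    have key := Groth.Agent.Helper6.NT.rowfun7 T u0 u1 u2 u3 u4 u5 u6 hinj u6
                    rw [Groth.Agent.Helper6.NT.symm' T u6 u0, z_0_6, Groth.Agent.Helper6.NT.symm' T u6 u1, z_1_6, Groth.Agent.Helper6.NT.symm' T u6 u2, z_2_6, Groth.Agent.Helper6.NT.symm' T u6 u3, z_3_6, Groth.Agent.Helper6.NT.symm' T u6 u4, taq_4_6, Groth.Agent.Helper6.NT.symm' T u6 u5, z_5_6, (h2 u6).2] at key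
                    exact mul_left_cancel₀ (T.w_pos u6).ne' (by linarith only [key])
                  exfalso
                  linarith only [r_0, r_1, r_2, r_3, r_4, r_5, r_6, T.m_pos u0, T.m_pos u1, T.m_pos u2, T.m_pos u3, T.m_pos u4, T.m_pos u5, T.m_pos u6]
                · -- (5,6) nonzero
                  obtain ⟨lbp_5_6, lbq_5_6⟩ := Groth.Agent.Helper6.NT.lb T u5 u6 hn_6_5.symm nz_5_6
                  exfalso
                  have key := Groth.Agent.Helper6.NT.negfun5 T h2 u2 u3 u4 u5 u6 (by norm_num) 2 1 4 2 3 (by norm_num) (by norm_num)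
                  linarith only [key, z_2_3, tap_2_4, taq_2_4, z_2_5, z_2_6, z_3_4, tap_3_5, taq_3_5, z_3_6, z_4_5, tap_4_6, taq_4_6, lbp_5_6, lbq_5_6, T.w_pos u2, T.w_pos u3, T.w_pos u4, T.w_pos u5, T.w_pos u6]
              · -- (4,6) Dm
                rcases eq_or_ne (T.a u5 u6) 0 with z_5_6 | nz_5_6
                · -- (5,6) zero
                  have hinj := Groth.Agent.Helper6.NT.inj7 u0 u1 u2 u3 u4 u5 u6 hn_1_0 hn_2_0 hn_2_1 hn_3_0 hn_3_1 hn_3_2 hn_4_0 hn_4_1 hn_4_2 hn_4_3 hn_5_0 hn_5_1 hn_5_2 hn_5_3 hn_5_4 hn_6_0 hn_6_1 hn_6_2 hn_6_3 hn_6_4 hn_6_5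
                  have r_0 : -2 * T.m u0 + 1 * T.m u1 + 1 * T.m u2 = 0 := by
                    have key := Groth.Agent.Helper6.NT.rowfun7 T u0 u1 u2 u3 u4 u5 u6 hinj u0
                    rw [(h2 u0).2, tap_0_1, tap_0_2, z_0_3, z_0_4, z_0_5, z_0_6] at key
                    exact mul_left_cancel₀ (T.w_pos u0).ne' (by linarith only [key])
                  have r_1 : 1 * T.m u0 + -2 * T.m u1 + 1 * T.m u3 = 0 := by
                    have key := Groth.Agent.Helper6.NT.rowfun7 T u0 u1 u2 u3 u4 u5 u6 hinj u1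
                    rw [Groth.Agent.Helper6.NT.symm' T u1 u0, taq_0_1, (h2 u1).2, z_1_2, tap_1_3, z_1_4, z_1_5, z_1_6] at key
                    exact mul_left_cancel₀ (T.w_pos u1).ne' (by linarith only [key])
                  have r_2 : 1 * T.m u0 + -2 * T.m u2 + 1 * T.m u4 = 0 := by
                    have key := Groth.Agent.Helper6.NT.rowfun7 T u0 u1 u2 u3 u4 u5 u6 hinj u2
                    rw [Groth.Agent.Helper6.NT.symm' T u2 u0, taq_0_2, Groth.Agent.Helper6.NT.symm' T u2 u1, z_1_2, (h2 u2).2, z_2_3, tap_2_4, z_2_5, z_2_6] at key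
                    exact mul_left_cancel₀ (T.w_pos u2).ne' (by linarith only [key])
                  have r_3 : 1 * T.m u1 + -2 * T.m u3 + 1 * T.m u5 = 0 := by
                    have key := Groth.Agent.Helper6.NT.rowfun7 T u0 u1 u2 u3 u4 u5 u6 hinj u3
                    rw [Groth.Agent.Helper6.NT.symm' T u3 u0, z_0_3, Groth.Agent.Helper6.NT.symm' T u3 u1, taq_1_3, Groth.Agent.Helper6.NT.symm' T u3 u2, z_2_3, (h2 u3).2, z_3_4, tap_3_5, z_3_6] at key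
                    exact mul_left_cancel₀ (T.w_pos u3).ne' (by linarith only [key])
                  have r_4 : 1 * T.m u2 + -2 * T.m u4 + 1 * T.m u6 = 0 := by
                    have key := Groth.Agent.Helper6.NT.rowfun7 T u0 u1 u2 u3 u4 u5 u6 hinj u4
                    rw [Groth.Agent.Helper6.NT.symm' T u4 u0, z_0_4, Groth.Agent.Helper6.NT.symm' T u4 u1, z_1_4, Groth.Agent.Helper6.NT.symm' T u4 u2, taq_2_4, Groth.Agent.Helper6.NT.symm' T u4 u3, z_3_4, (h2 u4).2, z_4_5, tap_4_6] at key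
                    exact mul_left_cancel₀ (T.w_pos u4).ne' (by linarith only [key])
                  have r_5 : 1 * T.m u3 + -2 * T.m u5 = 0 := by
                    have key := Groth.Agent.Helper6.NT.rowfun7 T u0 u1 u2 u3 u4 u5 u6 hinj u5
                    rw [Groth.Agent.Helper6.NT.symm' T u5 u0, z_0_5, Groth.Agent.Helper6.NT.symm' T u5 u1, z_1_5, Groth.Agent.Helper6.NT.symm' T u5 u2, z_2_5, Groth.Agent.Helper6.NT.symm' T u5 u3, taq_3_5, Groth.Agent.Helper6.NT.symm' T u5 u4, z_4_5, (h2 u5).2, z_5_6] at key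
                    exact mul_left_cancel₀ (T.w_pos u5).ne' (by linarith only [key])
                  have r_6 : 2 * T.m u4 + -2 * T.m u6 = 0 := by
                    have key := Groth.Agent.Helper6.NT.rowfun7 T u0 u1 u2 u3 u4 u5 u6 hinj u6
                    rw [Groth.Agent.Helper6.NT.symm' T u6 u0, z_0_6, Groth.Agent.Helper6.NT.symm' T u6 u1, z_1_6, Groth.Agent.Helper6.NT.symm' T u6 u2, z_2_6, Groth.Agent.Helper6.NT.symm' T u6 u3, z_3_6, Groth.Agent.Helper6.NT.symm' T u6 u4, taq_4_6, Groth.Agent.Helper6.NT.symm' T u6 u5, z_5_6, (h2 u6).2] at key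
                    exact mul_left_cancel₀ (T.w_pos u6).ne' (by linarith only [key])
                  exfalso
                  linarith only [r_0, r_1, r_2, r_3, r_4, r_5, r_6, T.m_pos u0, T.m_pos u1, T.m_pos u2, T.m_pos u3, T.m_pos u4, T.m_pos u5, T.m_pos u6]
                · -- (5,6) nonzero
                  obtain ⟨lbp_5_6, lbq_5_6⟩ := Groth.Agent.Helper6.NT.lb T u5 u6 hn_6_5.symm nz_5_6
                  exfalso
                  have key := Groth.Agent.Helper6.NT.negfun5 T h2 u2 u3 u4 u5 u6 (by norm_num) 1 1 2 2 3 (by norm_num) (by norm_num)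
                  linarith only [key, z_2_3, tap_2_4, taq_2_4, z_2_5, z_2_6, z_3_4, tap_3_5, taq_3_5, z_3_6, z_4_5, tap_4_6, taq_4_6, lbp_5_6, lbq_5_6, T.w_pos u2, T.w_pos u3, T.w_pos u4, T.w_pos u5, T.w_pos u6]
              · -- (4,6) Tp
                exfalso
                have key := Groth.Agent.Helper6.NT.negfun3 T h2 u2 u4 u6 (by norm_num) 1 2 1 (by norm_num) (by norm_num)
                linarith only [key, tap_2_4, taq_2_4, z_2_6, tap_4_6, taq_4_6, T.w_pos u2, T.w_pos u4, T.w_pos u6]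
              · -- (4,6) Tm
                exfalso
                have key := Groth.Agent.Helper6.NT.negfun3 T h2 u2 u4 u6 (by norm_num) 1 2 3 (by norm_num) (by norm_num)
                linarith only [key, tap_2_4, taq_2_4, z_2_6, tap_4_6, taq_4_6, T.w_pos u2, T.w_pos u4, T.w_pos u6]
            · push Not at hx
              have cl_4 := hx
              clear hx
              by_cases hx : ∃ j, (j ≠ u0 ∧ j ≠ u1 ∧ j ≠ u2 ∧ j ≠ u3 ∧ j ≠ u4 ∧ j ≠ u5) ∧ T.a u5 j ≠ 0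
              · obtain ⟨u6, ⟨hn_6_0, hn_6_1, hn_6_2, hn_6_3, hn_6_4, hn_6_5⟩, e_5_6⟩ := hx
                have z_0_6 : T.a u0 u6 = 0 := cl_0 u6 ⟨hn_6_0, hn_6_1, hn_6_2⟩
                have z_1_6 : T.a u1 u6 = 0 := cl_1 u6 ⟨hn_6_0, hn_6_1, hn_6_2, hn_6_3⟩
                have z_2_6 : T.a u2 u6 = 0 := cl_2 u6 ⟨hn_6_0, hn_6_1, hn_6_2, hn_6_3, hn_6_4⟩
                have z_3_6 : T.a u3 u6 = 0 := cl_3 u6 ⟨hn_6_0, hn_6_1, hn_6_2, hn_6_3, hn_6_4, hn_6_5⟩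
                have z_4_6 : T.a u4 u6 = 0 := cl_4 u6 ⟨hn_6_0, hn_6_1, hn_6_2, hn_6_3, hn_6_4, hn_6_5⟩
                rcases Groth.Agent.Helper6.NT.edge5 T h2 (by norm_num) u5 u6 hn_6_5.symm e_5_6 with ⟨tw_5_6, tap_5_6, taq_5_6⟩ | ⟨tw_5_6, tap_5_6, taq_5_6⟩ | ⟨tw_5_6, tap_5_6, taq_5_6⟩ | ⟨tw_5_6, tap_5_6, taq_5_6⟩ | ⟨tw_5_6, tap_5_6, taq_5_6⟩
                · -- (5,6) S
                  have hinj := Groth.Agent.Helper6.NT.inj7 u0 u1 u2 u3 u4 u5 u6 hn_1_0 hn_2_0 hn_2_1 hn_3_0 hn_3_1 hn_3_2 hn_4_0 hn_4_1 hn_4_2 hn_4_3 hn_5_0 hn_5_1 hn_5_2 hn_5_3 hn_5_4 hn_6_0 hn_6_1 hn_6_2 hn_6_3 hn_6_4 hn_6_5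
                  have r_0 : -2 * T.m u0 + 1 * T.m u1 + 1 * T.m u2 = 0 := by
                    have key := Groth.Agent.Helper6.NT.rowfun7 T u0 u1 u2 u3 u4 u5 u6 hinj u0
                    rw [(h2 u0).2, tap_0_1, tap_0_2, z_0_3, z_0_4, z_0_5, z_0_6] at key
                    exact mul_left_cancel₀ (T.w_pos u0).ne' (by linarith only [key])
                  have r_1 : 1 * T.m u0 + -2 * T.m u1 + 1 * T.m u3 = 0 := by
                    have key := Groth.Agent.Helper6.NT.rowfun7 T u0 u1 u2 u3 u4 u5 u6 hinj u1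
                    rw [Groth.Agent.Helper6.NT.symm' T u1 u0, taq_0_1, (h2 u1).2, z_1_2, tap_1_3, z_1_4, z_1_5, z_1_6] at key
                    exact mul_left_cancel₀ (T.w_pos u1).ne' (by linarith only [key])
                  have r_2 : 1 * T.m u0 + -2 * T.m u2 + 1 * T.m u4 = 0 := by
                    have key := Groth.Agent.Helper6.NT.rowfun7 T u0 u1 u2 u3 u4 u5 u6 hinj u2
                    rw [Groth.Agent.Helper6.NT.symm' T u2 u0, taq_0_2, Groth.Agent.Helper6.NT.symm' T u2 u1, z_1_2, (h2 u2).2, z_2_3, tap_2_4, z_2_5, z_2_6] at key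
                    exact mul_left_cancel₀ (T.w_pos u2).ne' (by linarith only [key])
                  have r_3 : 1 * T.m u1 + -2 * T.m u3 + 1 * T.m u5 = 0 := by
                    have key := Groth.Agent.Helper6.NT.rowfun7 T u0 u1 u2 u3 u4 u5 u6 hinj u3
                    rw [Groth.Agent.Helper6.NT.symm' T u3 u0, z_0_3, Groth.Agent.Helper6.NT.symm' T u3 u1, taq_1_3, Groth.Agent.Helper6.NT.symm' T u3 u2, z_2_3, (h2 u3).2, z_3_4, tap_3_5, z_3_6] at key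
                    exact mul_left_cancel₀ (T.w_pos u3).ne' (by linarith only [key])
                  have r_4 : 1 * T.m u2 + -2 * T.m u4 = 0 := by
                    have key := Groth.Agent.Helper6.NT.rowfun7 T u0 u1 u2 u3 u4 u5 u6 hinj u4
                    rw [Groth.Agent.Helper6.NT.symm' T u4 u0, z_0_4, Groth.Agent.Helper6.NT.symm' T u4 u1, z_1_4, Groth.Agent.Helper6.NT.symm' T u4 u2, taq_2_4, Groth.Agent.Helper6.NT.symm' T u4 u3, z_3_4, (h2 u4).2, z_4_5, z_4_6] at key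
                    exact mul_left_cancel₀ (T.w_pos u4).ne' (by linarith only [key])
                  have r_5 : 1 * T.m u3 + -2 * T.m u5 + 1 * T.m u6 = 0 := by
                    have key := Groth.Agent.Helper6.NT.rowfun7 T u0 u1 u2 u3 u4 u5 u6 hinj u5
                    rw [Groth.Agent.Helper6.NT.symm' T u5 u0, z_0_5, Groth.Agent.Helper6.NT.symm' T u5 u1, z_1_5, Groth.Agent.Helper6.NT.symm' T u5 u2, z_2_5, Groth.Agent.Helper6.NT.symm' T u5 u3, taq_3_5, Groth.Agent.Helper6.NT.symm' T u5 u4, z_4_5, (h2 u5).2, tap_5_6] at key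
                    exact mul_left_cancel₀ (T.w_pos u5).ne' (by linarith only [key])
                  have r_6 : 1 * T.m u5 + -2 * T.m u6 = 0 := by
                    have key := Groth.Agent.Helper6.NT.rowfun7 T u0 u1 u2 u3 u4 u5 u6 hinj u6
                    rw [Groth.Agent.Helper6.NT.symm' T u6 u0, z_0_6, Groth.Agent.Helper6.NT.symm' T u6 u1, z_1_6, Groth.Agent.Helper6.NT.symm' T u6 u2, z_2_6, Groth.Agent.Helper6.NT.symm' T u6 u3, z_3_6, Groth.Agent.Helper6.NT.symm' T u6 u4, z_4_6, Groth.Agent.Helper6.NT.symm' T u6 u5, taq_5_6, (h2 u6).2] at key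
                    exact mul_left_cancel₀ (T.w_pos u6).ne' (by linarith only [key])
                  exfalso
                  linarith only [r_0, r_1, r_2, r_3, r_4, r_5, r_6, T.m_pos u0, T.m_pos u1, T.m_pos u2, T.m_pos u3, T.m_pos u4, T.m_pos u5, T.m_pos u6]
                · -- (5,6) Dp
                  have hinj := Groth.Agent.Helper6.NT.inj7 u0 u1 u2 u3 u4 u5 u6 hn_1_0 hn_2_0 hn_2_1 hn_3_0 hn_3_1 hn_3_2 hn_4_0 hn_4_1 hn_4_2 hn_4_3 hn_5_0 hn_5_1 hn_5_2 hn_5_3 hn_5_4 hn_6_0 hn_6_1 hn_6_2 hn_6_3 hn_6_4 hn_6_5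
                  have r_0 : -2 * T.m u0 + 1 * T.m u1 + 1 * T.m u2 = 0 := by
                    have key := Groth.Agent.Helper6.NT.rowfun7 T u0 u1 u2 u3 u4 u5 u6 hinj u0
                    rw [(h2 u0).2, tap_0_1, tap_0_2, z_0_3, z_0_4, z_0_5, z_0_6] at key
                    exact mul_left_cancel₀ (T.w_pos u0).ne' (by linarith only [key])
                  have r_1 : 1 * T.m u0 + -2 * T.m u1 + 1 * T.m u3 = 0 := by
                    have key := Groth.Agent.Helper6.NT.rowfun7 T u0 u1 u2 u3 u4 u5 u6 hinj u1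
                    rw [Groth.Agent.Helper6.NT.symm' T u1 u0, taq_0_1, (h2 u1).2, z_1_2, tap_1_3, z_1_4, z_1_5, z_1_6] at key
                    exact mul_left_cancel₀ (T.w_pos u1).ne' (by linarith only [key])
                  have r_2 : 1 * T.m u0 + -2 * T.m u2 + 1 * T.m u4 = 0 := by
                    have key := Groth.Agent.Helper6.NT.rowfun7 T u0 u1 u2 u3 u4 u5 u6 hinj u2
                    rw [Groth.Agent.Helper6.NT.symm' T u2 u0, taq_0_2, Groth.Agent.Helper6.NT.symm' T u2 u1, z_1_2, (h2 u2).2, z_2_3, tap_2_4, z_2_5, z_2_6] at key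
                    exact mul_left_cancel₀ (T.w_pos u2).ne' (by linarith only [key])
                  have r_3 : 1 * T.m u1 + -2 * T.m u3 + 1 * T.m u5 = 0 := by
                    have key := Groth.Agent.Helper6.NT.rowfun7 T u0 u1 u2 u3 u4 u5 u6 hinj u3
                    rw [Groth.Agent.Helper6.NT.symm' T u3 u0, z_0_3, Groth.Agent.Helper6.NT.symm' T u3 u1, taq_1_3, Groth.Agent.Helper6.NT.symm' T u3 u2, z_2_3, (h2 u3).2, z_3_4, tap_3_5, z_3_6] at key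
                    exact mul_left_cancel₀ (T.w_pos u3).ne' (by linarith only [key])
                  have r_4 : 1 * T.m u2 + -2 * T.m u4 = 0 := by
                    have key := Groth.Agent.Helper6.NT.rowfun7 T u0 u1 u2 u3 u4 u5 u6 hinj u4
                    rw [Groth.Agent.Helper6.NT.symm' T u4 u0, z_0_4, Groth.Agent.Helper6.NT.symm' T u4 u1, z_1_4, Groth.Agent.Helper6.NT.symm' T u4 u2, taq_2_4, Groth.Agent.Helper6.NT.symm' T u4 u3, z_3_4, (h2 u4).2, z_4_5, z_4_6] at key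
                    exact mul_left_cancel₀ (T.w_pos u4).ne' (by linarith only [key])
                  have r_5 : 1 * T.m u3 + -2 * T.m u5 + 2 * T.m u6 = 0 := by
                    have key := Groth.Agent.Helper6.NT.rowfun7 T u0 u1 u2 u3 u4 u5 u6 hinj u5
                    rw [Groth.Agent.Helper6.NT.symm' T u5 u0, z_0_5, Groth.Agent.Helper6.NT.symm' T u5 u1, z_1_5, Groth.Agent.Helper6.NT.symm' T u5 u2, z_2_5, Groth.Agent.Helper6.NT.symm' T u5 u3, taq_3_5, Groth.Agent.Helper6.NT.symm' T u5 u4, z_4_5, (h2 u5).2, tap_5_6] at key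
                    exact mul_left_cancel₀ (T.w_pos u5).ne' (by linarith only [key])
                  have r_6 : 1 * T.m u5 + -2 * T.m u6 = 0 := by
                    have key := Groth.Agent.Helper6.NT.rowfun7 T u0 u1 u2 u3 u4 u5 u6 hinj u6
                    rw [Groth.Agent.Helper6.NT.symm' T u6 u0, z_0_6, Groth.Agent.Helper6.NT.symm' T u6 u1, z_1_6, Groth.Agent.Helper6.NT.symm' T u6 u2, z_2_6, Groth.Agent.Helper6.NT.symm' T u6 u3, z_3_6, Groth.Agent.Helper6.NT.symm' T u6 u4, z_4_6, Groth.Agent.Helper6.NT.symm' T u6 u5, taq_5_6, (h2 u6).2] at key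
                    exact mul_left_cancel₀ (T.w_pos u6).ne' (by linarith only [key])
                  exfalso
                  linarith only [r_0, r_1, r_2, r_3, r_4, r_5, r_6, T.m_pos u0, T.m_pos u1, T.m_pos u2, T.m_pos u3, T.m_pos u4, T.m_pos u5, T.m_pos u6]
                · -- (5,6) Dm
                  have hinj := Groth.Agent.Helper6.NT.inj7 u0 u1 u2 u3 u4 u5 u6 hn_1_0 hn_2_0 hn_2_1 hn_3_0 hn_3_1 hn_3_2 hn_4_0 hn_4_1 hn_4_2 hn_4_3 hn_5_0 hn_5_1 hn_5_2 hn_5_3 hn_5_4 hn_6_0 hn_6_1 hn_6_2 hn_6_3 hn_6_4 hn_6_5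
                  have r_0 : -2 * T.m u0 + 1 * T.m u1 + 1 * T.m u2 = 0 := by
                    have key := Groth.Agent.Helper6.NT.rowfun7 T u0 u1 u2 u3 u4 u5 u6 hinj u0
                    rw [(h2 u0).2, tap_0_1, tap_0_2, z_0_3, z_0_4, z_0_5, z_0_6] at key
                    exact mul_left_cancel₀ (T.w_pos u0).ne' (by linarith only [key])
                  have r_1 : 1 * T.m u0 + -2 * T.m u1 + 1 * T.m u3 = 0 := by
                    have key := Groth.Agent.Helper6.NT.rowfun7 T u0 u1 u2 u3 u4 u5 u6 hinj u1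
                    rw [Groth.Agent.Helper6.NT.symm' T u1 u0, taq_0_1, (h2 u1).2, z_1_2, tap_1_3, z_1_4, z_1_5, z_1_6] at key
                    exact mul_left_cancel₀ (T.w_pos u1).ne' (by linarith only [key])
                  have r_2 : 1 * T.m u0 + -2 * T.m u2 + 1 * T.m u4 = 0 := by
                    have key := Groth.Agent.Helper6.NT.rowfun7 T u0 u1 u2 u3 u4 u5 u6 hinj u2
                    rw [Groth.Agent.Helper6.NT.symm' T u2 u0, taq_0_2, Groth.Agent.Helper6.NT.symm' T u2 u1, z_1_2, (h2 u2).2, z_2_3, tap_2_4, z_2_5, z_2_6] at key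
                    exact mul_left_cancel₀ (T.w_pos u2).ne' (by linarith only [key])
                  have r_3 : 1 * T.m u1 + -2 * T.m u3 + 1 * T.m u5 = 0 := by
                    have key := Groth.Agent.Helper6.NT.rowfun7 T u0 u1 u2 u3 u4 u5 u6 hinj u3
                    rw [Groth.Agent.Helper6.NT.symm' T u3 u0, z_0_3, Groth.Agent.Helper6.NT.symm' T u3 u1, taq_1_3, Groth.Agent.Helper6.NT.symm' T u3 u2, z_2_3, (h2 u3).2, z_3_4, tap_3_5, z_3_6] at key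
                    exact mul_left_cancel₀ (T.w_pos u3).ne' (by linarith only [key])
                  have r_4 : 1 * T.m u2 + -2 * T.m u4 = 0 := by
                    have key := Groth.Agent.Helper6.NT.rowfun7 T u0 u1 u2 u3 u4 u5 u6 hinj u4
                    rw [Groth.Agent.Helper6.NT.symm' T u4 u0, z_0_4, Groth.Agent.Helper6.NT.symm' T u4 u1, z_1_4, Groth.Agent.Helper6.NT.symm' T u4 u2, taq_2_4, Groth.Agent.Helper6.NT.symm' T u4 u3, z_3_4, (h2 u4).2, z_4_5, z_4_6] at key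
                    exact mul_left_cancel₀ (T.w_pos u4).ne' (by linarith only [key])
                  have r_5 : 1 * T.m u3 + -2 * T.m u5 + 1 * T.m u6 = 0 := by
                    have key := Groth.Agent.Helper6.NT.rowfun7 T u0 u1 u2 u3 u4 u5 u6 hinj u5
                    rw [Groth.Agent.Helper6.NT.symm' T u5 u0, z_0_5, Groth.Agent.Helper6.NT.symm' T u5 u1, z_1_5, Groth.Agent.Helper6.NT.symm' T u5 u2, z_2_5, Groth.Agent.Helper6.NT.symm' T u5 u3, taq_3_5, Groth.Agent.Helper6.NT.symm' T u5 u4, z_4_5, (h2 u5).2, tap_5_6] at key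
                    exact mul_left_cancel₀ (T.w_pos u5).ne' (by linarith only [key])
                  have r_6 : 2 * T.m u5 + -2 * T.m u6 = 0 := by
                    have key := Groth.Agent.Helper6.NT.rowfun7 T u0 u1 u2 u3 u4 u5 u6 hinj u6
                    rw [Groth.Agent.Helper6.NT.symm' T u6 u0, z_0_6, Groth.Agent.Helper6.NT.symm' T u6 u1, z_1_6, Groth.Agent.Helper6.NT.symm' T u6 u2, z_2_6, Groth.Agent.Helper6.NT.symm' T u6 u3, z_3_6, Groth.Agent.Helper6.NT.symm' T u6 u4, z_4_6, Groth.Agent.Helper6.NT.symm' T u6 u5, taq_5_6, (h2 u6).2] at key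
                    exact mul_left_cancel₀ (T.w_pos u6).ne' (by linarith only [key])
                  exfalso
                  linarith only [r_0, r_1, r_2, r_3, r_4, r_5, r_6, T.m_pos u0, T.m_pos u1, T.m_pos u2, T.m_pos u3, T.m_pos u4, T.m_pos u5, T.m_pos u6]
                · -- (5,6) Tp
                  exfalso
                  have key := Groth.Agent.Helper6.NT.negfun3 T h2 u3 u5 u6 (by norm_num) 1 2 1 (by norm_num) (by norm_num)
                  linarith only [key, tap_3_5, taq_3_5, z_3_6, tap_5_6, taq_5_6, T.w_pos u3, T.w_pos u5, T.w_pos u6]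
                · -- (5,6) Tm
                  exfalso
                  have key := Groth.Agent.Helper6.NT.negfun3 T h2 u3 u5 u6 (by norm_num) 1 2 3 (by norm_num) (by norm_num)
                  linarith only [key, tap_3_5, taq_3_5, z_3_6, tap_5_6, taq_5_6, T.w_pos u3, T.w_pos u5, T.w_pos u6]
              · push Not at hx
                have cl_5 := hx
                clear hx
                exfalso
                refine Groth.Agent.Helper6.NT.closed_contra T [u0, u1, u2, u3, u4, u5] (by simp) (by simp) ?_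
                intro i hi j hj
                simp only [List.mem_cons, List.not_mem_nil, or_false, not_or] at hi hj
                rcases hi with rfl | rfl | rfl | rfl | rfl | rfl
                · exact cl_0 j ⟨hj.1, hj.2.1, hj.2.2.1⟩
                · exact cl_1 j ⟨hj.1, hj.2.1, hj.2.2.1, hj.2.2.2.1⟩
                · exact cl_2 j ⟨hj.1, hj.2.1, hj.2.2.1, hj.2.2.2.1, hj.2.2.2.2.1⟩
                · exact cl_3 j ⟨hj.1, hj.2.1, hj.2.2.1, hj.2.2.2.1, hj.2.2.2.2.1, hj.2.2.2.2.2⟩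
                · exact cl_4 j ⟨hj.1, hj.2.1, hj.2.2.1, hj.2.2.2.1, hj.2.2.2.2.1, hj.2.2.2.2.2⟩
                · exact cl_5 j ⟨hj.1, hj.2.1, hj.2.2.1, hj.2.2.2.1, hj.2.2.2.2.1, hj.2.2.2.2.2⟩
        · -- (4,5) nonzero
          obtain ⟨lbp_4_5, lbq_4_5⟩ := Groth.Agent.Helper6.NT.lb T u4 u5 hn_5_4.symm nz_4_5
          exfalso
          have key := Groth.Agent.Helper6.NT.negfun6 T h2 u0 u1 u2 u3 u4 u5 (by norm_num) 1 1 1 1 1 1 (by norm_num) (by norm_num)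
          linarith only [key, tap_0_1, taq_0_1, tap_0_2, taq_0_2, z_0_3, z_0_4, z_0_5, z_1_2, tap_1_3, taq_1_3, z_1_4, z_1_5, z_2_3, tap_2_4, taq_2_4, z_2_5, z_3_4, tap_3_5, taq_3_5, lbp_4_5, lbq_4_5, T.w_pos u0, T.w_pos u1, T.w_pos u2, T.w_pos u3, T.w_pos u4, T.w_pos u5]
      · -- (3,5) Dp
        rcases eq_or_ne (T.a u4 u5) 0 with z_4_5 | nz_4_5
        · -- (4,5) zero
          by_cases hx : ∃ j, (j ≠ u0 ∧ j ≠ u1 ∧ j ≠ u2 ∧ j ≠ u3 ∧ j ≠ u4 ∧ j ≠ u5) ∧ T.a u3 j ≠ 0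
          · obtain ⟨u6, ⟨hn_6_0, hn_6_1, hn_6_2, hn_6_3, hn_6_4, hn_6_5⟩, e_3_6⟩ := hx
            have z_0_6 : T.a u0 u6 = 0 := cl_0 u6 ⟨hn_6_0, hn_6_1, hn_6_2⟩
            have z_1_6 : T.a u1 u6 = 0 := cl_1 u6 ⟨hn_6_0, hn_6_1, hn_6_2, hn_6_3⟩
            have z_2_6 : T.a u2 u6 = 0 := cl_2 u6 ⟨hn_6_0, hn_6_1, hn_6_2, hn_6_3, hn_6_4⟩
            rcases Groth.Agent.Helper6.NT.edge5 T h2 (by norm_num) u3 u6 hn_6_3.symm e_3_6 with ⟨tw_3_6, tap_3_6, taq_3_6⟩ | ⟨tw_3_6, tap_3_6, taq_3_6⟩ | ⟨tw_3_6, tap_3_6, taq_3_6⟩ | ⟨tw_3_6, tap_3_6, taq_3_6⟩ | ⟨tw_3_6, tap_3_6, taq_3_6⟩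
            · -- (3,6) S
              exfalso
              have key := Groth.Agent.Helper6.NT.negfun4 T h2 u1 u3 u5 u6 (by norm_num) 1 2 1 1 (by norm_num) (by norm_num)
              linarith only [key, tap_1_3, taq_1_3, z_1_5, z_1_6, tap_3_5, taq_3_5, tap_3_6, taq_3_6, T.offDiag_nonneg u5 u6 hn_6_5.symm, T.w_pos u1, T.w_pos u3, T.w_pos u5, T.w_pos u6]
            · -- (3,6) Dp
              exfalso
              have key := Groth.Agent.Helper6.NT.negfun3 T h2 u3 u5 u6 (by norm_num) 2 1 1 (by norm_num) (by norm_num)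
              linarith only [key, tap_3_5, taq_3_5, tap_3_6, taq_3_6, T.offDiag_nonneg u5 u6 hn_6_5.symm, T.w_pos u3, T.w_pos u5, T.w_pos u6]
            · -- (3,6) Dm
              exfalso
              have key := Groth.Agent.Helper6.NT.negfun3 T h2 u3 u5 u6 (by norm_num) 2 1 2 (by norm_num) (by norm_num)
              linarith only [key, tap_3_5, taq_3_5, tap_3_6, taq_3_6, T.offDiag_nonneg u5 u6 hn_6_5.symm, T.w_pos u3, T.w_pos u5, T.w_pos u6]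
            · -- (3,6) Tp
              exfalso
              have key := Groth.Agent.Helper6.NT.negfun3 T h2 u3 u5 u6 (by norm_num) 2 1 1 (by norm_num) (by norm_num)
              linarith only [key, tap_3_5, taq_3_5, tap_3_6, taq_3_6, T.offDiag_nonneg u5 u6 hn_6_5.symm, T.w_pos u3, T.w_pos u5, T.w_pos u6]
            · -- (3,6) Tm
              exfalso
              have key := Groth.Agent.Helper6.NT.negfun3 T h2 u3 u5 u6 (by norm_num) 2 1 3 (by norm_num) (by norm_num)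
              linarith only [key, tap_3_5, taq_3_5, tap_3_6, taq_3_6, T.offDiag_nonneg u5 u6 hn_6_5.symm, T.w_pos u3, T.w_pos u5, T.w_pos u6]
          · push Not at hx
            have cl_3 := hx
            clear hx
            by_cases hx : ∃ j, (j ≠ u0 ∧ j ≠ u1 ∧ j ≠ u2 ∧ j ≠ u3 ∧ j ≠ u4 ∧ j ≠ u5) ∧ T.a u4 j ≠ 0
            · obtain ⟨u6, ⟨hn_6_0, hn_6_1, hn_6_2, hn_6_3, hn_6_4, hn_6_5⟩, e_4_6⟩ := hx
              have z_0_6 : T.a u0 u6 = 0 := cl_0 u6 ⟨hn_6_0, hn_6_1, hn_6_2⟩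
              have z_1_6 : T.a u1 u6 = 0 := cl_1 u6 ⟨hn_6_0, hn_6_1, hn_6_2, hn_6_3⟩
              have z_2_6 : T.a u2 u6 = 0 := cl_2 u6 ⟨hn_6_0, hn_6_1, hn_6_2, hn_6_3, hn_6_4⟩
              have z_3_6 : T.a u3 u6 = 0 := cl_3 u6 ⟨hn_6_0, hn_6_1, hn_6_2, hn_6_3, hn_6_4, hn_6_5⟩
              rcases Groth.Agent.Helper6.NT.edge5 T h2 (by norm_num) u4 u6 hn_6_4.symm e_4_6 with ⟨tw_4_6, tap_4_6, taq_4_6⟩ | ⟨tw_4_6, tap_4_6, taq_4_6⟩ | ⟨tw_4_6, tap_4_6, taq_4_6⟩ | ⟨tw_4_6, tap_4_6, taq_4_6⟩ | ⟨tw_4_6, tap_4_6, taq_4_6⟩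
              · -- (4,6) S
                rcases eq_or_ne (T.a u5 u6) 0 with z_5_6 | nz_5_6
                · -- (5,6) zero
                  have hinj := Groth.Agent.Helper6.NT.inj7 u0 u1 u2 u3 u4 u5 u6 hn_1_0 hn_2_0 hn_2_1 hn_3_0 hn_3_1 hn_3_2 hn_4_0 hn_4_1 hn_4_2 hn_4_3 hn_5_0 hn_5_1 hn_5_2 hn_5_3 hn_5_4 hn_6_0 hn_6_1 hn_6_2 hn_6_3 hn_6_4 hn_6_5
                  have r_0 : -2 * T.m u0 + 1 * T.m u1 + 1 * T.m u2 = 0 := by
                    have key := Groth.Agent.Helper6.NT.rowfun7 T u0 u1 u2 u3 u4 u5 u6 hinj u0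
                    rw [(h2 u0).2, tap_0_1, tap_0_2, z_0_3, z_0_4, z_0_5, z_0_6] at key
                    exact mul_left_cancel₀ (T.w_pos u0).ne' (by linarith only [key])
                  have r_1 : 1 * T.m u0 + -2 * T.m u1 + 1 * T.m u3 = 0 := by
                    have key := Groth.Agent.Helper6.NT.rowfun7 T u0 u1 u2 u3 u4 u5 u6 hinj u1
                    rw [Groth.Agent.Helper6.NT.symm' T u1 u0, taq_0_1, (h2 u1).2, z_1_2, tap_1_3, z_1_4, z_1_5, z_1_6] at key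
                    exact mul_left_cancel₀ (T.w_pos u1).ne' (by linarith only [key])
                  have r_2 : 1 * T.m u0 + -2 * T.m u2 + 1 * T.m u4 = 0 := by
                    have key := Groth.Agent.Helper6.NT.rowfun7 T u0 u1 u2 u3 u4 u5 u6 hinj u2
                    rw [Groth.Agent.Helper6.NT.symm' T u2 u0, taq_0_2, Groth.Agent.Helper6.NT.symm' T u2 u1, z_1_2, (h2 u2).2, z_2_3, tap_2_4, z_2_5, z_2_6] at key
                    exact mul_left_cancel₀ (T.w_pos u2).ne' (by linarith only [key])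
                  have r_3 : 1 * T.m u1 + -2 * T.m u3 + 2 * T.m u5 = 0 := by
                    have key := Groth.Agent.Helper6.NT.rowfun7 T u0 u1 u2 u3 u4 u5 u6 hinj u3
                    rw [Groth.Agent.Helper6.NT.symm' T u3 u0, z_0_3, Groth.Agent.Helper6.NT.symm' T u3 u1, taq_1_3, Groth.Agent.Helper6.NT.symm' T u3 u2, z_2_3, (h2 u3).2, z_3_4, tap_3_5, z_3_6] at key
                    exact mul_left_cancel₀ (T.w_pos u3).ne' (by linarith only [key])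
                  have r_4 : 1 * T.m u2 + -2 * T.m u4 + 1 * T.m u6 = 0 := by
                    have key := Groth.Agent.Helper6.NT.rowfun7 T u0 u1 u2 u3 u4 u5 u6 hinj u4
                    rw [Groth.Agent.Helper6.NT.symm' T u4 u0, z_0_4, Groth.Agent.Helper6.NT.symm' T u4 u1, z_1_4, Groth.Agent.Helper6.NT.symm' T u4 u2, taq_2_4, Groth.Agent.Helper6.NT.symm' T u4 u3, z_3_4, (h2 u4).2, z_4_5, tap_4_6] at key
                    exact mul_left_cancel₀ (T.w_pos u4).ne' (by linarith only [key])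
                  have r_5 : 1 * T.m u3 + -2 * T.m u5 = 0 := by
                    have key := Groth.Agent.Helper6.NT.rowfun7 T u0 u1 u2 u3 u4 u5 u6 hinj u5
                    rw [Groth.Agent.Helper6.NT.symm' T u5 u0, z_0_5, Groth.Agent.Helper6.NT.symm' T u5 u1, z_1_5, Groth.Agent.Helper6.NT.symm' T u5 u2, z_2_5, Groth.Agent.Helper6.NT.symm' T u5 u3, taq_3_5, Groth.Agent.Helper6.NT.symm' T u5 u4, z_4_5, (h2 u5).2, z_5_6] at key
                    exact mul_left_cancel₀ (T.w_pos u5).ne' (by linarith only [key])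
                  have r_6 : 1 * T.m u4 + -2 * T.m u6 = 0 := by
                    have key := Groth.Agent.Helper6.NT.rowfun7 T u0 u1 u2 u3 u4 u5 u6 hinj u6
                    rw [Groth.Agent.Helper6.NT.symm' T u6 u0, z_0_6, Groth.Agent.Helper6.NT.symm' T u6 u1, z_1_6, Groth.Agent.Helper6.NT.symm' T u6 u2, z_2_6, Groth.Agent.Helper6.NT.symm' T u6 u3, z_3_6, Groth.Agent.Helper6.NT.symm' T u6 u4, taq_4_6, Groth.Agent.Helper6.NT.symm' T u6 u5, z_5_6, (h2 u6).2] at key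
                    exact mul_left_cancel₀ (T.w_pos u6).ne' (by linarith only [key])
                  exfalso
                  linarith only [r_0, r_1, r_2, r_3, r_4, r_5, r_6, T.m_pos u0, T.m_pos u1, T.m_pos u2, T.m_pos u3, T.m_pos u4, T.m_pos u5, T.m_pos u6]
                · -- (5,6) nonzero
                  obtain ⟨lbp_5_6, lbq_5_6⟩ := Groth.Agent.Helper6.NT.lb T u5 u6 hn_6_5.symm nz_5_6
                  exfalso
                  have key := Groth.Agent.Helper6.NT.negfun5 T h2 u1 u3 u4 u5 u6 (by norm_num) 2 4 1 3 2 (by norm_num) (by norm_num)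
                  linarith only [key, tap_1_3, taq_1_3, z_1_4, z_1_5, z_1_6, z_3_4, tap_3_5, taq_3_5, z_3_6, z_4_5, tap_4_6, taq_4_6, lbp_5_6, lbq_5_6, T.w_pos u1, T.w_pos u3, T.w_pos u4, T.w_pos u5, T.w_pos u6]
              · -- (4,6) Dp
                rcases eq_or_ne (T.a u5 u6) 0 with z_5_6 | nz_5_6
                · -- (5,6) zero
                  have hinj := Groth.Agent.Helper6.NT.inj7 u0 u1 u2 u3 u4 u5 u6 hn_1_0 hn_2_0 hn_2_1 hn_3_0 hn_3_1 hn_3_2 hn_4_0 hn_4_1 hn_4_2 hn_4_3 hn_5_0 hn_5_1 hn_5_2 hn_5_3 hn_5_4 hn_6_0 hn_6_1 hn_6_2 hn_6_3 hn_6_4 hn_6_5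
                  have r_0 : -2 * T.m u0 + 1 * T.m u1 + 1 * T.m u2 = 0 := by
                    have key := Groth.Agent.Helper6.NT.rowfun7 T u0 u1 u2 u3 u4 u5 u6 hinj u0
                    rw [(h2 u0).2, tap_0_1, tap_0_2, z_0_3, z_0_4, z_0_5, z_0_6] at key
                    exact mul_left_cancel₀ (T.w_pos u0).ne' (by linarith only [key])
                  have r_1 : 1 * T.m u0 + -2 * T.m u1 + 1 * T.m u3 = 0 := by
                    have key := Groth.Agent.Helper6.NT.rowfun7 T u0 u1 u2 u3 u4 u5 u6 hinj u1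
                    rw [Groth.Agent.Helper6.NT.symm' T u1 u0, taq_0_1, (h2 u1).2, z_1_2, tap_1_3, z_1_4, z_1_5, z_1_6] at key
                    exact mul_left_cancel₀ (T.w_pos u1).ne' (by linarith only [key])
                  have r_2 : 1 * T.m u0 + -2 * T.m u2 + 1 * T.m u4 = 0 := by
                    have key := Groth.Agent.Helper6.NT.rowfun7 T u0 u1 u2 u3 u4 u5 u6 hinj u2
                    rw [Groth.Agent.Helper6.NT.symm' T u2 u0, taq_0_2, Groth.Agent.Helper6.NT.symm' T u2 u1, z_1_2, (h2 u2).2, z_2_3, tap_2_4, z_2_5, z_2_6] at key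
                    exact mul_left_cancel₀ (T.w_pos u2).ne' (by linarith only [key])
                  have r_3 : 1 * T.m u1 + -2 * T.m u3 + 2 * T.m u5 = 0 := by
                    have key := Groth.Agent.Helper6.NT.rowfun7 T u0 u1 u2 u3 u4 u5 u6 hinj u3
                    rw [Groth.Agent.Helper6.NT.symm' T u3 u0, z_0_3, Groth.Agent.Helper6.NT.symm' T u3 u1, taq_1_3, Groth.Agent.Helper6.NT.symm' T u3 u2, z_2_3, (h2 u3).2, z_3_4, tap_3_5, z_3_6] at key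
                    exact mul_left_cancel₀ (T.w_pos u3).ne' (by linarith only [key])
                  have r_4 : 1 * T.m u2 + -2 * T.m u4 + 2 * T.m u6 = 0 := by
                    have key := Groth.Agent.Helper6.NT.rowfun7 T u0 u1 u2 u3 u4 u5 u6 hinj u4
                    rw [Groth.Agent.Helper6.NT.symm' T u4 u0, z_0_4, Groth.Agent.Helper6.NT.symm' T u4 u1, z_1_4, Groth.Agent.Helper6.NT.symm' T u4 u2, taq_2_4, Groth.Agent.Helper6.NT.symm' T u4 u3, z_3_4, (h2 u4).2, z_4_5, tap_4_6] at key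
                    exact mul_left_cancel₀ (T.w_pos u4).ne' (by linarith only [key])
                  have r_5 : 1 * T.m u3 + -2 * T.m u5 = 0 := by
                    have key := Groth.Agent.Helper6.NT.rowfun7 T u0 u1 u2 u3 u4 u5 u6 hinj u5
                    rw [Groth.Agent.Helper6.NT.symm' T u5 u0, z_0_5, Groth.Agent.Helper6.NT.symm' T u5 u1, z_1_5, Groth.Agent.Helper6.NT.symm' T u5 u2, z_2_5, Groth.Agent.Helper6.NT.symm' T u5 u3, taq_3_5, Groth.Agent.Helper6.NT.symm' T u5 u4, z_4_5, (h2 u5).2, z_5_6] at key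
                    exact mul_left_cancel₀ (T.w_pos u5).ne' (by linarith only [key])
                  have r_6 : 1 * T.m u4 + -2 * T.m u6 = 0 := by
                    have key := Groth.Agent.Helper6.NT.rowfun7 T u0 u1 u2 u3 u4 u5 u6 hinj u6
                    rw [Groth.Agent.Helper6.NT.symm' T u6 u0, z_0_6, Groth.Agent.Helper6.NT.symm' T u6 u1, z_1_6, Groth.Agent.Helper6.NT.symm' T u6 u2, z_2_6, Groth.Agent.Helper6.NT.symm' T u6 u3, z_3_6, Groth.Agent.Helper6.NT.symm' T u6 u4, taq_4_6, Groth.Agent.Helper6.NT.symm' T u6 u5, z_5_6, (h2 u6).2] at key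
                    exact mul_left_cancel₀ (T.w_pos u6).ne' (by linarith only [key])
                  have f0 : T.m u5 = T.m u5 := rfl
                  have f1 : T.m u3 = 2 * T.m u5 := by linarith only [r_0, r_1, r_2, r_3, r_4, r_5, r_6]
                  have f2 : T.m u1 = 2 * T.m u5 := by linarith only [r_0, r_1, r_2, r_3, r_4, r_5, r_6]
                  have f3 : T.m u0 = 2 * T.m u5 := by linarith only [r_0, r_1, r_2, r_3, r_4, r_5, r_6]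
                  have f4 : T.m u2 = 2 * T.m u5 := by linarith only [r_0, r_1, r_2, r_3, r_4, r_5, r_6]
                  have f5 : T.m u4 = 2 * T.m u5 := by linarith only [r_0, r_1, r_2, r_3, r_4, r_5, r_6]
                  have f6 : T.m u6 = T.m u5 := by linarith only [r_0, r_1, r_2, r_3, r_4, r_5, r_6]
                  have f7 : T.w u5 = 2 * T.w u3 := by linarith only [tw_0_1, tw_0_2, tw_1_3, tw_2_4, tw_3_5, tw_4_6]
                  have f8 : T.w u3 = T.w u3 := rfl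
                  have f9 : T.w u1 = T.w u3 := by linarith only [tw_0_1, tw_0_2, tw_1_3, tw_2_4, tw_3_5, tw_4_6]
                  have f10 : T.w u0 = T.w u3 := by linarith only [tw_0_1, tw_0_2, tw_1_3, tw_2_4, tw_3_5, tw_4_6]
                  have f11 : T.w u2 = T.w u3 := by linarith only [tw_0_1, tw_0_2, tw_1_3, tw_2_4, tw_3_5, tw_4_6]
                  have f12 : T.w u4 = T.w u3 := by linarith only [tw_0_1, tw_0_2, tw_1_3, tw_2_4, tw_3_5, tw_4_6]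
                  have f13 : T.w u6 = 2 * T.w u3 := by linarith only [tw_0_1, tw_0_2, tw_1_3, tw_2_4, tw_3_5, tw_4_6]
                  have f14 : T.a u5 u5 = -4 * T.w u3 := by have := (h2 u5).2; linarith only [this, tw_0_1, tw_0_2, tw_1_3, tw_2_4, tw_3_5, tw_4_6]
                  have f15 : T.a u5 u3 = 2 * T.w u3 := by rw [Groth.Agent.Helper6.NT.symm' T u5 u3]; linarith only [tap_3_5, tw_0_1, tw_0_2, tw_1_3, tw_2_4, tw_3_5, tw_4_6]
                  have f16 : T.a u5 u1 = 0 := by rw [Groth.Agent.Helper6.NT.symm' T u5 u1]; exact z_1_5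
                  have f17 : T.a u5 u0 = 0 := by rw [Groth.Agent.Helper6.NT.symm' T u5 u0]; exact z_0_5
                  have f18 : T.a u5 u2 = 0 := by rw [Groth.Agent.Helper6.NT.symm' T u5 u2]; exact z_2_5
                  have f19 : T.a u5 u4 = 0 := by rw [Groth.Agent.Helper6.NT.symm' T u5 u4]; exact z_4_5
                  have f20 : T.a u5 u6 = 0 := by exact z_5_6
                  have f21 : T.a u3 u3 = -2 * T.w u3 := by have := (h2 u3).2; linarith only [this, tw_0_1, tw_0_2, tw_1_3, tw_2_4, tw_3_5, tw_4_6]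
                  have f22 : T.a u3 u1 = T.w u3 := by rw [Groth.Agent.Helper6.NT.symm' T u3 u1]; linarith only [tap_1_3, tw_0_1, tw_0_2, tw_1_3, tw_2_4, tw_3_5, tw_4_6]
                  have f23 : T.a u3 u0 = 0 := by rw [Groth.Agent.Helper6.NT.symm' T u3 u0]; exact z_0_3
                  have f24 : T.a u3 u2 = 0 := by rw [Groth.Agent.Helper6.NT.symm' T u3 u2]; exact z_2_3
                  have f25 : T.a u3 u4 = 0 := by exact z_3_4
                  have f26 : T.a u3 u6 = 0 := by exact z_3_6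
                  have f27 : T.a u1 u1 = -2 * T.w u3 := by have := (h2 u1).2; linarith only [this, tw_0_1, tw_0_2, tw_1_3, tw_2_4, tw_3_5, tw_4_6]
                  have f28 : T.a u1 u0 = T.w u3 := by rw [Groth.Agent.Helper6.NT.symm' T u1 u0]; linarith only [tap_0_1, tw_0_1, tw_0_2, tw_1_3, tw_2_4, tw_3_5, tw_4_6]
                  have f29 : T.a u1 u2 = 0 := by exact z_1_2
                  have f30 : T.a u1 u4 = 0 := by exact z_1_4
                  have f31 : T.a u1 u6 = 0 := by exact z_1_6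
                  have f32 : T.a u0 u0 = -2 * T.w u3 := by have := (h2 u0).2; linarith only [this, tw_0_1, tw_0_2, tw_1_3, tw_2_4, tw_3_5, tw_4_6]
                  have f33 : T.a u0 u2 = T.w u3 := by linarith only [tap_0_2, tw_0_1, tw_0_2, tw_1_3, tw_2_4, tw_3_5, tw_4_6]
                  have f34 : T.a u0 u4 = 0 := by exact z_0_4
                  have f35 : T.a u0 u6 = 0 := by exact z_0_6
                  have f36 : T.a u2 u2 = -2 * T.w u3 := by have := (h2 u2).2; linarith only [this, tw_0_1, tw_0_2, tw_1_3, tw_2_4, tw_3_5, tw_4_6]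
                  have f37 : T.a u2 u4 = T.w u3 := by linarith only [tap_2_4, tw_0_1, tw_0_2, tw_1_3, tw_2_4, tw_3_5, tw_4_6]
                  have f38 : T.a u2 u6 = 0 := by exact z_2_6
                  have f39 : T.a u4 u4 = -2 * T.w u3 := by have := (h2 u4).2; linarith only [this, tw_0_1, tw_0_2, tw_1_3, tw_2_4, tw_3_5, tw_4_6]
                  have f40 : T.a u4 u6 = 2 * T.w u3 := by linarith only [tap_4_6, tw_0_1, tw_0_2, tw_1_3, tw_2_4, tw_3_5, tw_4_6]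
                  have f41 : T.a u6 u6 = -4 * T.w u3 := by have := (h2 u6).2; linarith only [this, tw_0_1, tw_0_2, tw_1_3, tw_2_4, tw_3_5, tw_4_6]
                  have hsig := Groth.Agent.Helper6.NT.inj7 u5 u3 u1 u0 u2 u4 u6 hn_5_3.symm hn_5_1.symm hn_3_1.symm hn_5_0.symm hn_3_0.symm hn_1_0.symm hn_5_2.symm hn_3_2.symm hn_2_1 hn_2_0 hn_5_4.symm hn_4_3 hn_4_1 hn_4_0 hn_4_2 hn_6_5 hn_6_3 hn_6_1 hn_6_0 hn_6_2 hn_6_4
                  exact ⟨Equiv.ofBijective _ (Finite.injective_iff_bijective.1 hsig), T.m u5, T.w u3, Or.inr (Or.inr (Or.inr (Or.inl ⟨f0, f1, f2, f3, f4, f5, f6, f7, f8, f9, f10, f11, f12, f13, f14, f15, f16, f17, f18, f19, f20, f21, f22, f23, f24, f25, f26, f27, f28, f29, f30, f31, f32, f33, f34, f35, f36, f37, f38, f39, f40, f41⟩)))⟩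
                · -- (5,6) nonzero
                  obtain ⟨lbp_5_6, lbq_5_6⟩ := Groth.Agent.Helper6.NT.lb T u5 u6 hn_6_5.symm nz_5_6
                  exfalso
                  have key := Groth.Agent.Helper6.NT.negfun4 T h2 u3 u4 u5 u6 (by norm_num) 1 1 1 1 (by norm_num) (by norm_num)
                  linarith only [key, z_3_4, tap_3_5, taq_3_5, z_3_6, z_4_5, tap_4_6, taq_4_6, lbp_5_6, lbq_5_6, T.w_pos u3, T.w_pos u4, T.w_pos u5, T.w_pos u6]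
              · -- (4,6) Dm
                rcases eq_or_ne (T.a u5 u6) 0 with z_5_6 | nz_5_6
                · -- (5,6) zero
                  have hinj := Groth.Agent.Helper6.NT.inj7 u0 u1 u2 u3 u4 u5 u6 hn_1_0 hn_2_0 hn_2_1 hn_3_0 hn_3_1 hn_3_2 hn_4_0 hn_4_1 hn_4_2 hn_4_3 hn_5_0 hn_5_1 hn_5_2 hn_5_3 hn_5_4 hn_6_0 hn_6_1 hn_6_2 hn_6_3 hn_6_4 hn_6_5
                  have r_0 : -2 * T.m u0 + 1 * T.m u1 + 1 * T.m u2 = 0 := by
                    have key := Groth.Agent.Helper6.NT.rowfun7 T u0 u1 u2 u3 u4 u5 u6 hinj u0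
                    rw [(h2 u0).2, tap_0_1, tap_0_2, z_0_3, z_0_4, z_0_5, z_0_6] at key
                    exact mul_left_cancel₀ (T.w_pos u0).ne' (by linarith only [key])
                  have r_1 : 1 * T.m u0 + -2 * T.m u1 + 1 * T.m u3 = 0 := by
                    have key := Groth.Agent.Helper6.NT.rowfun7 T u0 u1 u2 u3 u4 u5 u6 hinj u1
                    rw [Groth.Agent.Helper6.NT.symm' T u1 u0, taq_0_1, (h2 u1).2, z_1_2, tap_1_3, z_1_4, z_1_5, z_1_6] at key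
                    exact mul_left_cancel₀ (T.w_pos u1).ne' (by linarith only [key])
                  have r_2 : 1 * T.m u0 + -2 * T.m u2 + 1 * T.m u4 = 0 := by
                    have key := Groth.Agent.Helper6.NT.rowfun7 T u0 u1 u2 u3 u4 u5 u6 hinj u2
                    rw [Groth.Agent.Helper6.NT.symm' T u2 u0, taq_0_2, Groth.Agent.Helper6.NT.symm' T u2 u1, z_1_2, (h2 u2).2, z_2_3, tap_2_4, z_2_5, z_2_6] at key
                    exact mul_left_cancel₀ (T.w_pos u2).ne' (by linarith only [key])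
                  have r_3 : 1 * T.m u1 + -2 * T.m u3 + 2 * T.m u5 = 0 := by
                    have key := Groth.Agent.Helper6.NT.rowfun7 T u0 u1 u2 u3 u4 u5 u6 hinj u3
                    rw [Groth.Agent.Helper6.NT.symm' T u3 u0, z_0_3, Groth.Agent.Helper6.NT.symm' T u3 u1, taq_1_3, Groth.Agent.Helper6.NT.symm' T u3 u2, z_2_3, (h2 u3).2, z_3_4, tap_3_5, z_3_6] at key
                    exact mul_left_cancel₀ (T.w_pos u3).ne' (by linarith only [key])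
                  have r_4 : 1 * T.m u2 + -2 * T.m u4 + 1 * T.m u6 = 0 := by
                    have key := Groth.Agent.Helper6.NT.rowfun7 T u0 u1 u2 u3 u4 u5 u6 hinj u4
                    rw [Groth.Agent.Helper6.NT.symm' T u4 u0, z_0_4, Groth.Agent.Helper6.NT.symm' T u4 u1, z_1_4, Groth.Agent.Helper6.NT.symm' T u4 u2, taq_2_4, Groth.Agent.Helper6.NT.symm' T u4 u3, z_3_4, (h2 u4).2, z_4_5, tap_4_6] at key
                    exact mul_left_cancel₀ (T.w_pos u4).ne' (by linarith only [key])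
                  have r_5 : 1 * T.m u3 + -2 * T.m u5 = 0 := by
                    have key := Groth.Agent.Helper6.NT.rowfun7 T u0 u1 u2 u3 u4 u5 u6 hinj u5
                    rw [Groth.Agent.Helper6.NT.symm' T u5 u0, z_0_5, Groth.Agent.Helper6.NT.symm' T u5 u1, z_1_5, Groth.Agent.Helper6.NT.symm' T u5 u2, z_2_5, Groth.Agent.Helper6.NT.symm' T u5 u3, taq_3_5, Groth.Agent.Helper6.NT.symm' T u5 u4, z_4_5, (h2 u5).2, z_5_6] at key
                    exact mul_left_cancel₀ (T.w_pos u5).ne' (by linarith only [key])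
                  have r_6 : 2 * T.m u4 + -2 * T.m u6 = 0 := by
                    have key := Groth.Agent.Helper6.NT.rowfun7 T u0 u1 u2 u3 u4 u5 u6 hinj u6
                    rw [Groth.Agent.Helper6.NT.symm' T u6 u0, z_0_6, Groth.Agent.Helper6.NT.symm' T u6 u1, z_1_6, Groth.Agent.Helper6.NT.symm' T u6 u2, z_2_6, Groth.Agent.Helper6.NT.symm' T u6 u3, z_3_6, Groth.Agent.Helper6.NT.symm' T u6 u4, taq_4_6, Groth.Agent.Helper6.NT.symm' T u6 u5, z_5_6, (h2 u6).2] at key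
                    exact mul_left_cancel₀ (T.w_pos u6).ne' (by linarith only [key])
                  have f0 : T.m u6 = 2 * T.m u5 := by linarith only [r_0, r_1, r_2, r_3, r_4, r_5, r_6]
                  have f1 : T.m u4 = 2 * T.m u5 := by linarith only [r_0, r_1, r_2, r_3, r_4, r_5, r_6]
                  have f2 : T.m u2 = 2 * T.m u5 := by linarith only [r_0, r_1, r_2, r_3, r_4, r_5, r_6]
                  have f3 : T.m u0 = 2 * T.m u5 := by linarith only [r_0, r_1, r_2, r_3, r_4, r_5, r_6]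
                  have f4 : T.m u1 = 2 * T.m u5 := by linarith only [r_0, r_1, r_2, r_3, r_4, r_5, r_6]
                  have f5 : T.m u3 = 2 * T.m u5 := by linarith only [r_0, r_1, r_2, r_3, r_4, r_5, r_6]
                  have f6 : T.m u5 = T.m u5 := rfl
                  have f7 : T.w u6 = T.w u6 := rfl
                  have f8 : T.w u4 = 2 * T.w u6 := by linarith only [tw_0_1, tw_0_2, tw_1_3, tw_2_4, tw_3_5, tw_4_6]
                  have f9 : T.w u2 = 2 * T.w u6 := by linarith only [tw_0_1, tw_0_2, tw_1_3, tw_2_4, tw_3_5, tw_4_6]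
                  have f10 : T.w u0 = 2 * T.w u6 := by linarith only [tw_0_1, tw_0_2, tw_1_3, tw_2_4, tw_3_5, tw_4_6]
                  have f11 : T.w u1 = 2 * T.w u6 := by linarith only [tw_0_1, tw_0_2, tw_1_3, tw_2_4, tw_3_5, tw_4_6]
                  have f12 : T.w u3 = 2 * T.w u6 := by linarith only [tw_0_1, tw_0_2, tw_1_3, tw_2_4, tw_3_5, tw_4_6]
                  have f13 : T.w u5 = 4 * T.w u6 := by linarith only [tw_0_1, tw_0_2, tw_1_3, tw_2_4, tw_3_5, tw_4_6]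
                  have f14 : T.a u6 u6 = -2 * T.w u6 := by have := (h2 u6).2; linarith only [this, tw_0_1, tw_0_2, tw_1_3, tw_2_4, tw_3_5, tw_4_6]
                  have f15 : T.a u6 u4 = 2 * T.w u6 := by rw [Groth.Agent.Helper6.NT.symm' T u6 u4]; linarith only [tap_4_6, tw_0_1, tw_0_2, tw_1_3, tw_2_4, tw_3_5, tw_4_6]
                  have f16 : T.a u6 u2 = 0 := by rw [Groth.Agent.Helper6.NT.symm' T u6 u2]; exact z_2_6
                  have f17 : T.a u6 u0 = 0 := by rw [Groth.Agent.Helper6.NT.symm' T u6 u0]; exact z_0_6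
                  have f18 : T.a u6 u1 = 0 := by rw [Groth.Agent.Helper6.NT.symm' T u6 u1]; exact z_1_6
                  have f19 : T.a u6 u3 = 0 := by rw [Groth.Agent.Helper6.NT.symm' T u6 u3]; exact z_3_6
                  have f20 : T.a u6 u5 = 0 := by rw [Groth.Agent.Helper6.NT.symm' T u6 u5]; exact z_5_6
                  have f21 : T.a u4 u4 = -4 * T.w u6 := by have := (h2 u4).2; linarith only [this, tw_0_1, tw_0_2, tw_1_3, tw_2_4, tw_3_5, tw_4_6]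
                  have f22 : T.a u4 u2 = 2 * T.w u6 := by rw [Groth.Agent.Helper6.NT.symm' T u4 u2]; linarith only [tap_2_4, tw_0_1, tw_0_2, tw_1_3, tw_2_4, tw_3_5, tw_4_6]
                  have f23 : T.a u4 u0 = 0 := by rw [Groth.Agent.Helper6.NT.symm' T u4 u0]; exact z_0_4
                  have f24 : T.a u4 u1 = 0 := by rw [Groth.Agent.Helper6.NT.symm' T u4 u1]; exact z_1_4
                  have f25 : T.a u4 u3 = 0 := by rw [Groth.Agent.Helper6.NT.symm' T u4 u3]; exact z_3_4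
                  have f26 : T.a u4 u5 = 0 := by exact z_4_5
                  have f27 : T.a u2 u2 = -4 * T.w u6 := by have := (h2 u2).2; linarith only [this, tw_0_1, tw_0_2, tw_1_3, tw_2_4, tw_3_5, tw_4_6]
                  have f28 : T.a u2 u0 = 2 * T.w u6 := by rw [Groth.Agent.Helper6.NT.symm' T u2 u0]; linarith only [tap_0_2, tw_0_1, tw_0_2, tw_1_3, tw_2_4, tw_3_5, tw_4_6]
                  have f29 : T.a u2 u1 = 0 := by rw [Groth.Agent.Helper6.NT.symm' T u2 u1]; exact z_1_2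
                  have f30 : T.a u2 u3 = 0 := by exact z_2_3
                  have f31 : T.a u2 u5 = 0 := by exact z_2_5
                  have f32 : T.a u0 u0 = -4 * T.w u6 := by have := (h2 u0).2; linarith only [this, tw_0_1, tw_0_2, tw_1_3, tw_2_4, tw_3_5, tw_4_6]
                  have f33 : T.a u0 u1 = 2 * T.w u6 := by linarith only [tap_0_1, tw_0_1, tw_0_2, tw_1_3, tw_2_4, tw_3_5, tw_4_6]
                  have f34 : T.a u0 u3 = 0 := by exact z_0_3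
                  have f35 : T.a u0 u5 = 0 := by exact z_0_5
                  have f36 : T.a u1 u1 = -4 * T.w u6 := by have := (h2 u1).2; linarith only [this, tw_0_1, tw_0_2, tw_1_3, tw_2_4, tw_3_5, tw_4_6]
                  have f37 : T.a u1 u3 = 2 * T.w u6 := by linarith only [tap_1_3, tw_0_1, tw_0_2, tw_1_3, tw_2_4, tw_3_5, tw_4_6]
                  have f38 : T.a u1 u5 = 0 := by exact z_1_5
                  have f39 : T.a u3 u3 = -4 * T.w u6 := by have := (h2 u3).2; linarith only [this, tw_0_1, tw_0_2, tw_1_3, tw_2_4, tw_3_5, tw_4_6]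
                  have f40 : T.a u3 u5 = 4 * T.w u6 := by linarith only [tap_3_5, tw_0_1, tw_0_2, tw_1_3, tw_2_4, tw_3_5, tw_4_6]
                  have f41 : T.a u5 u5 = -8 * T.w u6 := by have := (h2 u5).2; linarith only [this, tw_0_1, tw_0_2, tw_1_3, tw_2_4, tw_3_5, tw_4_6]
                  have hsig := Groth.Agent.Helper6.NT.inj7 u6 u4 u2 u0 u1 u3 u5 hn_6_4.symm hn_6_2.symm hn_4_2.symm hn_6_0.symm hn_4_0.symm hn_2_0.symm hn_6_1.symm hn_4_1.symm hn_2_1.symm hn_1_0 hn_6_3.symm hn_4_3.symm hn_3_2 hn_3_0 hn_3_1 hn_6_5.symm hn_5_4 hn_5_2 hn_5_0 hn_5_1 hn_5_3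
                  exact ⟨Equiv.ofBijective _ (Finite.injective_iff_bijective.1 hsig), T.m u5, T.w u6, Or.inr (Or.inl ⟨f0, f1, f2, f3, f4, f5, f6, f7, f8, f9, f10, f11, f12, f13, f14, f15, f16, f17, f18, f19, f20, f21, f22, f23, f24, f25, f26, f27, f28, f29, f30, f31, f32, f33, f34, f35, f36, f37, f38, f39, f40, f41⟩)⟩
                · -- (5,6) nonzero
                  obtain ⟨lbp_5_6, lbq_5_6⟩ := Groth.Agent.Helper6.NT.lb T u5 u6 hn_6_5.symm nz_5_6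
                  exfalso
                  have key := Groth.Agent.Helper6.NT.negfun4 T h2 u3 u4 u5 u6 (by norm_num) 2 1 2 2 (by norm_num) (by norm_num)
                  linarith only [key, z_3_4, tap_3_5, taq_3_5, z_3_6, z_4_5, tap_4_6, taq_4_6, lbp_5_6, lbq_5_6, T.w_pos u3, T.w_pos u4, T.w_pos u5, T.w_pos u6]
              · -- (4,6) Tp
                exfalso
                have key := Groth.Agent.Helper6.NT.negfun3 T h2 u2 u4 u6 (by norm_num) 1 2 1 (by norm_num) (by norm_num)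
                linarith only [key, tap_2_4, taq_2_4, z_2_6, tap_4_6, taq_4_6, T.w_pos u2, T.w_pos u4, T.w_pos u6]
              · -- (4,6) Tm
                exfalso
                have key := Groth.Agent.Helper6.NT.negfun3 T h2 u2 u4 u6 (by norm_num) 1 2 3 (by norm_num) (by norm_num)
                linarith only [key, tap_2_4, taq_2_4, z_2_6, tap_4_6, taq_4_6, T.w_pos u2, T.w_pos u4, T.w_pos u6]
            · push Not at hx
              have cl_4 := hx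
              clear hx
              by_cases hx : ∃ j, (j ≠ u0 ∧ j ≠ u1 ∧ j ≠ u2 ∧ j ≠ u3 ∧ j ≠ u4 ∧ j ≠ u5) ∧ T.a u5 j ≠ 0
              · obtain ⟨u6, ⟨hn_6_0, hn_6_1, hn_6_2, hn_6_3, hn_6_4, hn_6_5⟩, e_5_6⟩ := hx
                have z_0_6 : T.a u0 u6 = 0 := cl_0 u6 ⟨hn_6_0, hn_6_1, hn_6_2⟩
                have z_1_6 : T.a u1 u6 = 0 := cl_1 u6 ⟨hn_6_0, hn_6_1, hn_6_2, hn_6_3⟩
                have z_2_6 : T.a u2 u6 = 0 := cl_2 u6 ⟨hn_6_0, hn_6_1, hn_6_2, hn_6_3, hn_6_4⟩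
                have z_3_6 : T.a u3 u6 = 0 := cl_3 u6 ⟨hn_6_0, hn_6_1, hn_6_2, hn_6_3, hn_6_4, hn_6_5⟩
                have z_4_6 : T.a u4 u6 = 0 := cl_4 u6 ⟨hn_6_0, hn_6_1, hn_6_2, hn_6_3, hn_6_4, hn_6_5⟩
                rcases Groth.Agent.Helper6.NT.edge5 T h2 (by norm_num) u5 u6 hn_6_5.symm e_5_6 with ⟨tw_5_6, tap_5_6, taq_5_6⟩ | ⟨tw_5_6, tap_5_6, taq_5_6⟩ | ⟨tw_5_6, tap_5_6, taq_5_6⟩ | ⟨tw_5_6, tap_5_6, taq_5_6⟩ | ⟨tw_5_6, tap_5_6, taq_5_6⟩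
                · -- (5,6) S
                  exfalso
                  have key := Groth.Agent.Helper6.NT.negfun5 T h2 u0 u1 u3 u5 u6 (by norm_num) 1 2 3 2 1 (by norm_num) (by norm_num)
                  linarith only [key, tap_0_1, taq_0_1, z_0_3, z_0_5, z_0_6, tap_1_3, taq_1_3, z_1_5, z_1_6, tap_3_5, taq_3_5, z_3_6, tap_5_6, taq_5_6, T.w_pos u0, T.w_pos u1, T.w_pos u3, T.w_pos u5, T.w_pos u6]
                · -- (5,6) Dp
                  exfalso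
                  have key := Groth.Agent.Helper6.NT.negfun3 T h2 u3 u5 u6 (by norm_num) 2 2 1 (by norm_num) (by norm_num)
                  linarith only [key, tap_3_5, taq_3_5, z_3_6, tap_5_6, taq_5_6, T.w_pos u3, T.w_pos u5, T.w_pos u6]
                · -- (5,6) Dm
                  exfalso
                  have key := Groth.Agent.Helper6.NT.negfun3 T h2 u3 u5 u6 (by norm_num) 1 1 1 (by norm_num) (by norm_num)
                  linarith only [key, tap_3_5, taq_3_5, z_3_6, tap_5_6, taq_5_6, T.w_pos u3, T.w_pos u5, T.w_pos u6]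
                · -- (5,6) Tp
                  exfalso
                  have key := Groth.Agent.Helper6.NT.negfun3 T h2 u3 u5 u6 (by norm_num) 2 2 1 (by norm_num) (by norm_num)
                  linarith only [key, tap_3_5, taq_3_5, z_3_6, tap_5_6, taq_5_6, T.w_pos u3, T.w_pos u5, T.w_pos u6]
                · -- (5,6) Tm
                  exfalso
                  have key := Groth.Agent.Helper6.NT.negfun3 T h2 u3 u5 u6 (by norm_num) 2 2 3 (by norm_num) (by norm_num)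
                  linarith only [key, tap_3_5, taq_3_5, z_3_6, tap_5_6, taq_5_6, T.w_pos u3, T.w_pos u5, T.w_pos u6]
              · push Not at hx
                have cl_5 := hx
                clear hx
                exfalso
                refine Groth.Agent.Helper6.NT.closed_contra T [u0, u1, u2, u3, u4, u5] (by simp) (by simp) ?_
                intro i hi j hj
                simp only [List.mem_cons, List.not_mem_nil, or_false, not_or] at hi hj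
                rcases hi with rfl | rfl | rfl | rfl | rfl | rfl
                · exact cl_0 j ⟨hj.1, hj.2.1, hj.2.2.1⟩
                · exact cl_1 j ⟨hj.1, hj.2.1, hj.2.2.1, hj.2.2.2.1⟩
                · exact cl_2 j ⟨hj.1, hj.2.1, hj.2.2.1, hj.2.2.2.1, hj.2.2.2.2.1⟩
                · exact cl_3 j ⟨hj.1, hj.2.1, hj.2.2.1, hj.2.2.2.1, hj.2.2.2.2.1, hj.2.2.2.2.2⟩
                · exact cl_4 j ⟨hj.1, hj.2.1, hj.2.2.1, hj.2.2.2.1, hj.2.2.2.2.1, hj.2.2.2.2.2⟩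
                · exact cl_5 j ⟨hj.1, hj.2.1, hj.2.2.1, hj.2.2.2.1, hj.2.2.2.2.1, hj.2.2.2.2.2⟩
        · -- (4,5) nonzero
          obtain ⟨lbp_4_5, lbq_4_5⟩ := Groth.Agent.Helper6.NT.lb T u4 u5 hn_5_4.symm nz_4_5
          exfalso
          have key := Groth.Agent.Helper6.NT.negfun5 T h2 u1 u2 u3 u4 u5 (by norm_num) 2 1 4 2 3 (by norm_num) (by norm_num)
          linarith only [key, z_1_2, tap_1_3, taq_1_3, z_1_4, z_1_5, z_2_3, tap_2_4, taq_2_4, z_2_5, z_3_4, tap_3_5, taq_3_5, lbp_4_5, lbq_4_5, T.w_pos u1, T.w_pos u2, T.w_pos u3, T.w_pos u4, T.w_pos u5]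
      · -- (3,5) Dm
        rcases eq_or_ne (T.a u4 u5) 0 with z_4_5 | nz_4_5
        · -- (4,5) zero
          by_cases hx : ∃ j, (j ≠ u0 ∧ j ≠ u1 ∧ j ≠ u2 ∧ j ≠ u3 ∧ j ≠ u4 ∧ j ≠ u5) ∧ T.a u3 j ≠ 0
          · obtain ⟨u6, ⟨hn_6_0, hn_6_1, hn_6_2, hn_6_3, hn_6_4, hn_6_5⟩, e_3_6⟩ := hx
            have z_0_6 : T.a u0 u6 = 0 := cl_0 u6 ⟨hn_6_0, hn_6_1, hn_6_2⟩
            have z_1_6 : T.a u1 u6 = 0 := cl_1 u6 ⟨hn_6_0, hn_6_1, hn_6_2, hn_6_3⟩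
            have z_2_6 : T.a u2 u6 = 0 := cl_2 u6 ⟨hn_6_0, hn_6_1, hn_6_2, hn_6_3, hn_6_4⟩
            rcases Groth.Agent.Helper6.NT.edge5 T h2 (by norm_num) u3 u6 hn_6_3.symm e_3_6 with ⟨tw_3_6, tap_3_6, taq_3_6⟩ | ⟨tw_3_6, tap_3_6, taq_3_6⟩ | ⟨tw_3_6, tap_3_6, taq_3_6⟩ | ⟨tw_3_6, tap_3_6, taq_3_6⟩ | ⟨tw_3_6, tap_3_6, taq_3_6⟩
            · -- (3,6) S
              exfalso
              have key := Groth.Agent.Helper6.NT.negfun4 T h2 u1 u3 u5 u6 (by norm_num) 1 2 2 1 (by norm_num) (by norm_num)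
              linarith only [key, tap_1_3, taq_1_3, z_1_5, z_1_6, tap_3_5, taq_3_5, tap_3_6, taq_3_6, T.offDiag_nonneg u5 u6 hn_6_5.symm, T.w_pos u1, T.w_pos u3, T.w_pos u5, T.w_pos u6]
            · -- (3,6) Dp
              exfalso
              have key := Groth.Agent.Helper6.NT.negfun3 T h2 u3 u5 u6 (by norm_num) 2 2 1 (by norm_num) (by norm_num)
              linarith only [key, tap_3_5, taq_3_5, tap_3_6, taq_3_6, T.offDiag_nonneg u5 u6 hn_6_5.symm, T.w_pos u3, T.w_pos u5, T.w_pos u6]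
            · -- (3,6) Dm
              exfalso
              have key := Groth.Agent.Helper6.NT.negfun3 T h2 u3 u5 u6 (by norm_num) 1 1 1 (by norm_num) (by norm_num)
              linarith only [key, tap_3_5, taq_3_5, tap_3_6, taq_3_6, T.offDiag_nonneg u5 u6 hn_6_5.symm, T.w_pos u3, T.w_pos u5, T.w_pos u6]
            · -- (3,6) Tp
              exfalso
              have key := Groth.Agent.Helper6.NT.negfun3 T h2 u3 u5 u6 (by norm_num) 2 2 1 (by norm_num) (by norm_num)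
              linarith only [key, tap_3_5, taq_3_5, tap_3_6, taq_3_6, T.offDiag_nonneg u5 u6 hn_6_5.symm, T.w_pos u3, T.w_pos u5, T.w_pos u6]
            · -- (3,6) Tm
              exfalso
              have key := Groth.Agent.Helper6.NT.negfun3 T h2 u3 u5 u6 (by norm_num) 2 2 3 (by norm_num) (by norm_num)
              linarith only [key, tap_3_5, taq_3_5, tap_3_6, taq_3_6, T.offDiag_nonneg u5 u6 hn_6_5.symm, T.w_pos u3, T.w_pos u5, T.w_pos u6]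
          · push Not at hx
            have cl_3 := hx
            clear hx
            by_cases hx : ∃ j, (j ≠ u0 ∧ j ≠ u1 ∧ j ≠ u2 ∧ j ≠ u3 ∧ j ≠ u4 ∧ j ≠ u5) ∧ T.a u4 j ≠ 0
            · obtain ⟨u6, ⟨hn_6_0, hn_6_1, hn_6_2, hn_6_3, hn_6_4, hn_6_5⟩, e_4_6⟩ := hx
              have z_0_6 : T.a u0 u6 = 0 := cl_0 u6 ⟨hn_6_0, hn_6_1, hn_6_2⟩
              have z_1_6 : T.a u1 u6 = 0 := cl_1 u6 ⟨hn_6_0, hn_6_1, hn_6_2, hn_6_3⟩
              have z_2_6 : T.a u2 u6 = 0 := cl_2 u6 ⟨hn_6_0, hn_6_1, hn_6_2, hn_6_3, hn_6_4⟩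
              have z_3_6 : T.a u3 u6 = 0 := cl_3 u6 ⟨hn_6_0, hn_6_1, hn_6_2, hn_6_3, hn_6_4, hn_6_5⟩
              rcases Groth.Agent.Helper6.NT.edge5 T h2 (by norm_num) u4 u6 hn_6_4.symm e_4_6 with ⟨tw_4_6, tap_4_6, taq_4_6⟩ | ⟨tw_4_6, tap_4_6, taq_4_6⟩ | ⟨tw_4_6, tap_4_6, taq_4_6⟩ | ⟨tw_4_6, tap_4_6, taq_4_6⟩ | ⟨tw_4_6, tap_4_6, taq_4_6⟩
              · -- (4,6) S
                rcases eq_or_ne (T.a u5 u6) 0 with z_5_6 | nz_5_6
                · -- (5,6) zero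
                  have hinj := Groth.Agent.Helper6.NT.inj7 u0 u1 u2 u3 u4 u5 u6 hn_1_0 hn_2_0 hn_2_1 hn_3_0 hn_3_1 hn_3_2 hn_4_0 hn_4_1 hn_4_2 hn_4_3 hn_5_0 hn_5_1 hn_5_2 hn_5_3 hn_5_4 hn_6_0 hn_6_1 hn_6_2 hn_6_3 hn_6_4 hn_6_5
                  have r_0 : -2 * T.m u0 + 1 * T.m u1 + 1 * T.m u2 = 0 := by
                    have key := Groth.Agent.Helper6.NT.rowfun7 T u0 u1 u2 u3 u4 u5 u6 hinj u0
                    rw [(h2 u0).2, tap_0_1, tap_0_2, z_0_3, z_0_4, z_0_5, z_0_6] at key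
                    exact mul_left_cancel₀ (T.w_pos u0).ne' (by linarith only [key])
                  have r_1 : 1 * T.m u0 + -2 * T.m u1 + 1 * T.m u3 = 0 := by
                    have key := Groth.Agent.Helper6.NT.rowfun7 T u0 u1 u2 u3 u4 u5 u6 hinj u1
                    rw [Groth.Agent.Helper6.NT.symm' T u1 u0, taq_0_1, (h2 u1).2, z_1_2, tap_1_3, z_1_4, z_1_5, z_1_6] at key
                    exact mul_left_cancel₀ (T.w_pos u1).ne' (by linarith only [key])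
                  have r_2 : 1 * T.m u0 + -2 * T.m u2 + 1 * T.m u4 = 0 := by
                    have key := Groth.Agent.Helper6.NT.rowfun7 T u0 u1 u2 u3 u4 u5 u6 hinj u2
                    rw [Groth.Agent.Helper6.NT.symm' T u2 u0, taq_0_2, Groth.Agent.Helper6.NT.symm' T u2 u1, z_1_2, (h2 u2).2, z_2_3, tap_2_4, z_2_5, z_2_6] at key
                    exact mul_left_cancel₀ (T.w_pos u2).ne' (by linarith only [key])
                  have r_3 : 1 * T.m u1 + -2 * T.m u3 + 1 * T.m u5 = 0 := by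
                    have key := Groth.Agent.Helper6.NT.rowfun7 T u0 u1 u2 u3 u4 u5 u6 hinj u3
                    rw [Groth.Agent.Helper6.NT.symm' T u3 u0, z_0_3, Groth.Agent.Helper6.NT.symm' T u3 u1, taq_1_3, Groth.Agent.Helper6.NT.symm' T u3 u2, z_2_3, (h2 u3).2, z_3_4, tap_3_5, z_3_6] at key
                    exact mul_left_cancel₀ (T.w_pos u3).ne' (by linarith only [key])
                  have r_4 : 1 * T.m u2 + -2 * T.m u4 + 1 * T.m u6 = 0 := by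
                    have key := Groth.Agent.Helper6.NT.rowfun7 T u0 u1 u2 u3 u4 u5 u6 hinj u4
                    rw [Groth.Agent.Helper6.NT.symm' T u4 u0, z_0_4, Groth.Agent.Helper6.NT.symm' T u4 u1, z_1_4, Groth.Agent.Helper6.NT.symm' T u4 u2, taq_2_4, Groth.Agent.Helper6.NT.symm' T u4 u3, z_3_4, (h2 u4).2, z_4_5, tap_4_6] at key
                    exact mul_left_cancel₀ (T.w_pos u4).ne' (by linarith only [key])
                  have r_5 : 2 * T.m u3 + -2 * T.m u5 = 0 := by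
                    have key := Groth.Agent.Helper6.NT.rowfun7 T u0 u1 u2 u3 u4 u5 u6 hinj u5
                    rw [Groth.Agent.Helper6.NT.symm' T u5 u0, z_0_5, Groth.Agent.Helper6.NT.symm' T u5 u1, z_1_5, Groth.Agent.Helper6.NT.symm' T u5 u2, z_2_5, Groth.Agent.Helper6.NT.symm' T u5 u3, taq_3_5, Groth.Agent.Helper6.NT.symm' T u5 u4, z_4_5, (h2 u5).2, z_5_6] at key
                    exact mul_left_cancel₀ (T.w_pos u5).ne' (by linarith only [key])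
                  have r_6 : 1 * T.m u4 + -2 * T.m u6 = 0 := by
                    have key := Groth.Agent.Helper6.NT.rowfun7 T u0 u1 u2 u3 u4 u5 u6 hinj u6
                    rw [Groth.Agent.Helper6.NT.symm' T u6 u0, z_0_6, Groth.Agent.Helper6.NT.symm' T u6 u1, z_1_6, Groth.Agent.Helper6.NT.symm' T u6 u2, z_2_6, Groth.Agent.Helper6.NT.symm' T u6 u3, z_3_6, Groth.Agent.Helper6.NT.symm' T u6 u4, taq_4_6, Groth.Agent.Helper6.NT.symm' T u6 u5, z_5_6, (h2 u6).2] at key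
                    exact mul_left_cancel₀ (T.w_pos u6).ne' (by linarith only [key])
                  exfalso
                  linarith only [r_0, r_1, r_2, r_3, r_4, r_5, r_6, T.m_pos u0, T.m_pos u1, T.m_pos u2, T.m_pos u3, T.m_pos u4, T.m_pos u5, T.m_pos u6]
                · -- (5,6) nonzero
                  obtain ⟨lbp_5_6, lbq_5_6⟩ := Groth.Agent.Helper6.NT.lb T u5 u6 hn_6_5.symm nz_5_6
                  exfalso
                  have key := Groth.Agent.Helper6.NT.negfun5 T h2 u1 u3 u4 u5 u6 (by norm_num) 1 2 1 3 2 (by norm_num) (by norm_num)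
                  linarith only [key, tap_1_3, taq_1_3, z_1_4, z_1_5, z_1_6, z_3_4, tap_3_5, taq_3_5, z_3_6, z_4_5, tap_4_6, taq_4_6, lbp_5_6, lbq_5_6, T.w_pos u1, T.w_pos u3, T.w_pos u4, T.w_pos u5, T.w_pos u6]
              · -- (4,6) Dp
                rcases eq_or_ne (T.a u5 u6) 0 with z_5_6 | nz_5_6
                · -- (5,6) zero
                  have hinj := Groth.Agent.Helper6.NT.inj7 u0 u1 u2 u3 u4 u5 u6 hn_1_0 hn_2_0 hn_2_1 hn_3_0 hn_3_1 hn_3_2 hn_4_0 hn_4_1 hn_4_2 hn_4_3 hn_5_0 hn_5_1 hn_5_2 hn_5_3 hn_5_4 hn_6_0 hn_6_1 hn_6_2 hn_6_3 hn_6_4 hn_6_5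
                  have r_0 : -2 * T.m u0 + 1 * T.m u1 + 1 * T.m u2 = 0 := by
                    have key := Groth.Agent.Helper6.NT.rowfun7 T u0 u1 u2 u3 u4 u5 u6 hinj u0
                    rw [(h2 u0).2, tap_0_1, tap_0_2, z_0_3, z_0_4, z_0_5, z_0_6] at key
                    exact mul_left_cancel₀ (T.w_pos u0).ne' (by linarith only [key])
                  have r_1 : 1 * T.m u0 + -2 * T.m u1 + 1 * T.m u3 = 0 := by
                    have key := Groth.Agent.Helper6.NT.rowfun7 T u0 u1 u2 u3 u4 u5 u6 hinj u1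
                    rw [Groth.Agent.Helper6.NT.symm' T u1 u0, taq_0_1, (h2 u1).2, z_1_2, tap_1_3, z_1_4, z_1_5, z_1_6] at key
                    exact mul_left_cancel₀ (T.w_pos u1).ne' (by linarith only [key])
                  have r_2 : 1 * T.m u0 + -2 * T.m u2 + 1 * T.m u4 = 0 := by
                    have key := Groth.Agent.Helper6.NT.rowfun7 T u0 u1 u2 u3 u4 u5 u6 hinj u2
                    rw [Groth.Agent.Helper6.NT.symm' T u2 u0, taq_0_2, Groth.Agent.Helper6.NT.symm' T u2 u1, z_1_2, (h2 u2).2, z_2_3, tap_2_4, z_2_5, z_2_6] at key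
                    exact mul_left_cancel₀ (T.w_pos u2).ne' (by linarith only [key])
                  have r_3 : 1 * T.m u1 + -2 * T.m u3 + 1 * T.m u5 = 0 := by
                    have key := Groth.Agent.Helper6.NT.rowfun7 T u0 u1 u2 u3 u4 u5 u6 hinj u3
                    rw [Groth.Agent.Helper6.NT.symm' T u3 u0, z_0_3, Groth.Agent.Helper6.NT.symm' T u3 u1, taq_1_3, Groth.Agent.Helper6.NT.symm' T u3 u2, z_2_3, (h2 u3).2, z_3_4, tap_3_5, z_3_6] at key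
                    exact mul_left_cancel₀ (T.w_pos u3).ne' (by linarith only [key])
                  have r_4 : 1 * T.m u2 + -2 * T.m u4 + 2 * T.m u6 = 0 := by
                    have key := Groth.Agent.Helper6.NT.rowfun7 T u0 u1 u2 u3 u4 u5 u6 hinj u4
                    rw [Groth.Agent.Helper6.NT.symm' T u4 u0, z_0_4, Groth.Agent.Helper6.NT.symm' T u4 u1, z_1_4, Groth.Agent.Helper6.NT.symm' T u4 u2, taq_2_4, Groth.Agent.Helper6.NT.symm' T u4 u3, z_3_4, (h2 u4).2, z_4_5, tap_4_6] at key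
                    exact mul_left_cancel₀ (T.w_pos u4).ne' (by linarith only [key])
                  have r_5 : 2 * T.m u3 + -2 * T.m u5 = 0 := by
                    have key := Groth.Agent.Helper6.NT.rowfun7 T u0 u1 u2 u3 u4 u5 u6 hinj u5
                    rw [Groth.Agent.Helper6.NT.symm' T u5 u0, z_0_5, Groth.Agent.Helper6.NT.symm' T u5 u1, z_1_5, Groth.Agent.Helper6.NT.symm' T u5 u2, z_2_5, Groth.Agent.Helper6.NT.symm' T u5 u3, taq_3_5, Groth.Agent.Helper6.NT.symm' T u5 u4, z_4_5, (h2 u5).2, z_5_6] at key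
                    exact mul_left_cancel₀ (T.w_pos u5).ne' (by linarith only [key])
                  have r_6 : 1 * T.m u4 + -2 * T.m u6 = 0 := by
                    have key := Groth.Agent.Helper6.NT.rowfun7 T u0 u1 u2 u3 u4 u5 u6 hinj u6
                    rw [Groth.Agent.Helper6.NT.symm' T u6 u0, z_0_6, Groth.Agent.Helper6.NT.symm' T u6 u1, z_1_6, Groth.Agent.Helper6.NT.symm' T u6 u2, z_2_6, Groth.Agent.Helper6.NT.symm' T u6 u3, z_3_6, Groth.Agent.Helper6.NT.symm' T u6 u4, taq_4_6, Groth.Agent.Helper6.NT.symm' T u6 u5, z_5_6, (h2 u6).2] at key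
                    exact mul_left_cancel₀ (T.w_pos u6).ne' (by linarith only [key])
                  have f0 : T.m u5 = 2 * T.m u6 := by linarith only [r_0, r_1, r_2, r_3, r_4, r_5, r_6]
                  have f1 : T.m u3 = 2 * T.m u6 := by linarith only [r_0, r_1, r_2, r_3, r_4, r_5, r_6]
                  have f2 : T.m u1 = 2 * T.m u6 := by linarith only [r_0, r_1, r_2, r_3, r_4, r_5, r_6]
                  have f3 : T.m u0 = 2 * T.m u6 := by linarith only [r_0, r_1, r_2, r_3, r_4, r_5, r_6]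
                  have f4 : T.m u2 = 2 * T.m u6 := by linarith only [r_0, r_1, r_2, r_3, r_4, r_5, r_6]
                  have f5 : T.m u4 = 2 * T.m u6 := by linarith only [r_0, r_1, r_2, r_3, r_4, r_5, r_6]
                  have f6 : T.m u6 = T.m u6 := rfl
                  have f7 : T.w u5 = T.w u5 := rfl
                  have f8 : T.w u3 = 2 * T.w u5 := by linarith only [tw_0_1, tw_0_2, tw_1_3, tw_2_4, tw_3_5, tw_4_6]
                  have f9 : T.w u1 = 2 * T.w u5 := by linarith only [tw_0_1, tw_0_2, tw_1_3, tw_2_4, tw_3_5, tw_4_6]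
                  have f10 : T.w u0 = 2 * T.w u5 := by linarith only [tw_0_1, tw_0_2, tw_1_3, tw_2_4, tw_3_5, tw_4_6]
                  have f11 : T.w u2 = 2 * T.w u5 := by linarith only [tw_0_1, tw_0_2, tw_1_3, tw_2_4, tw_3_5, tw_4_6]
                  have f12 : T.w u4 = 2 * T.w u5 := by linarith only [tw_0_1, tw_0_2, tw_1_3, tw_2_4, tw_3_5, tw_4_6]
                  have f13 : T.w u6 = 4 * T.w u5 := by linarith only [tw_0_1, tw_0_2, tw_1_3, tw_2_4, tw_3_5, tw_4_6]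
                  have f14 : T.a u5 u5 = -2 * T.w u5 := by have := (h2 u5).2; linarith only [this, tw_0_1, tw_0_2, tw_1_3, tw_2_4, tw_3_5, tw_4_6]
                  have f15 : T.a u5 u3 = 2 * T.w u5 := by rw [Groth.Agent.Helper6.NT.symm' T u5 u3]; linarith only [tap_3_5, tw_0_1, tw_0_2, tw_1_3, tw_2_4, tw_3_5, tw_4_6]
                  have f16 : T.a u5 u1 = 0 := by rw [Groth.Agent.Helper6.NT.symm' T u5 u1]; exact z_1_5
                  have f17 : T.a u5 u0 = 0 := by rw [Groth.Agent.Helper6.NT.symm' T u5 u0]; exact z_0_5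
                  have f18 : T.a u5 u2 = 0 := by rw [Groth.Agent.Helper6.NT.symm' T u5 u2]; exact z_2_5
                  have f19 : T.a u5 u4 = 0 := by rw [Groth.Agent.Helper6.NT.symm' T u5 u4]; exact z_4_5
                  have f20 : T.a u5 u6 = 0 := by exact z_5_6
                  have f21 : T.a u3 u3 = -4 * T.w u5 := by have := (h2 u3).2; linarith only [this, tw_0_1, tw_0_2, tw_1_3, tw_2_4, tw_3_5, tw_4_6]
                  have f22 : T.a u3 u1 = 2 * T.w u5 := by rw [Groth.Agent.Helper6.NT.symm' T u3 u1]; linarith only [tap_1_3, tw_0_1, tw_0_2, tw_1_3, tw_2_4, tw_3_5, tw_4_6]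
                  have f23 : T.a u3 u0 = 0 := by rw [Groth.Agent.Helper6.NT.symm' T u3 u0]; exact z_0_3
                  have f24 : T.a u3 u2 = 0 := by rw [Groth.Agent.Helper6.NT.symm' T u3 u2]; exact z_2_3
                  have f25 : T.a u3 u4 = 0 := by exact z_3_4
                  have f26 : T.a u3 u6 = 0 := by exact z_3_6
                  have f27 : T.a u1 u1 = -4 * T.w u5 := by have := (h2 u1).2; linarith only [this, tw_0_1, tw_0_2, tw_1_3, tw_2_4, tw_3_5, tw_4_6]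
                  have f28 : T.a u1 u0 = 2 * T.w u5 := by rw [Groth.Agent.Helper6.NT.symm' T u1 u0]; linarith only [tap_0_1, tw_0_1, tw_0_2, tw_1_3, tw_2_4, tw_3_5, tw_4_6]
                  have f29 : T.a u1 u2 = 0 := by exact z_1_2
                  have f30 : T.a u1 u4 = 0 := by exact z_1_4
                  have f31 : T.a u1 u6 = 0 := by exact z_1_6
                  have f32 : T.a u0 u0 = -4 * T.w u5 := by have := (h2 u0).2; linarith only [this, tw_0_1, tw_0_2, tw_1_3, tw_2_4, tw_3_5, tw_4_6]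
                  have f33 : T.a u0 u2 = 2 * T.w u5 := by linarith only [tap_0_2, tw_0_1, tw_0_2, tw_1_3, tw_2_4, tw_3_5, tw_4_6]
                  have f34 : T.a u0 u4 = 0 := by exact z_0_4
                  have f35 : T.a u0 u6 = 0 := by exact z_0_6
                  have f36 : T.a u2 u2 = -4 * T.w u5 := by have := (h2 u2).2; linarith only [this, tw_0_1, tw_0_2, tw_1_3, tw_2_4, tw_3_5, tw_4_6]
                  have f37 : T.a u2 u4 = 2 * T.w u5 := by linarith only [tap_2_4, tw_0_1, tw_0_2, tw_1_3, tw_2_4, tw_3_5, tw_4_6]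
                  have f38 : T.a u2 u6 = 0 := by exact z_2_6
                  have f39 : T.a u4 u4 = -4 * T.w u5 := by have := (h2 u4).2; linarith only [this, tw_0_1, tw_0_2, tw_1_3, tw_2_4, tw_3_5, tw_4_6]
                  have f40 : T.a u4 u6 = 4 * T.w u5 := by linarith only [tap_4_6, tw_0_1, tw_0_2, tw_1_3, tw_2_4, tw_3_5, tw_4_6]
                  have f41 : T.a u6 u6 = -8 * T.w u5 := by have := (h2 u6).2; linarith only [this, tw_0_1, tw_0_2, tw_1_3, tw_2_4, tw_3_5, tw_4_6]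
                  have hsig := Groth.Agent.Helper6.NT.inj7 u5 u3 u1 u0 u2 u4 u6 hn_5_3.symm hn_5_1.symm hn_3_1.symm hn_5_0.symm hn_3_0.symm hn_1_0.symm hn_5_2.symm hn_3_2.symm hn_2_1 hn_2_0 hn_5_4.symm hn_4_3 hn_4_1 hn_4_0 hn_4_2 hn_6_5 hn_6_3 hn_6_1 hn_6_0 hn_6_2 hn_6_4
                  exact ⟨Equiv.ofBijective _ (Finite.injective_iff_bijective.1 hsig), T.m u6, T.w u5, Or.inr (Or.inl ⟨f0, f1, f2, f3, f4, f5, f6, f7, f8, f9, f10, f11, f12, f13, f14, f15, f16, f17, f18, f19, f20, f21, f22, f23, f24, f25, f26, f27, f28, f29, f30, f31, f32, f33, f34, f35, f36, f37, f38, f39, f40, f41⟩)⟩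
                · -- (5,6) nonzero
                  obtain ⟨lbp_5_6, lbq_5_6⟩ := Groth.Agent.Helper6.NT.lb T u5 u6 hn_6_5.symm nz_5_6
                  exfalso
                  have key := Groth.Agent.Helper6.NT.negfun4 T h2 u3 u4 u5 u6 (by norm_num) 1 2 2 2 (by norm_num) (by norm_num)
                  linarith only [key, z_3_4, tap_3_5, taq_3_5, z_3_6, z_4_5, tap_4_6, taq_4_6, lbp_5_6, lbq_5_6, T.w_pos u3, T.w_pos u4, T.w_pos u5, T.w_pos u6]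
              · -- (4,6) Dm
                rcases eq_or_ne (T.a u5 u6) 0 with z_5_6 | nz_5_6
                · -- (5,6) zero
                  have hinj := Groth.Agent.Helper6.NT.inj7 u0 u1 u2 u3 u4 u5 u6 hn_1_0 hn_2_0 hn_2_1 hn_3_0 hn_3_1 hn_3_2 hn_4_0 hn_4_1 hn_4_2 hn_4_3 hn_5_0 hn_5_1 hn_5_2 hn_5_3 hn_5_4 hn_6_0 hn_6_1 hn_6_2 hn_6_3 hn_6_4 hn_6_5
                  have r_0 : -2 * T.m u0 + 1 * T.m u1 + 1 * T.m u2 = 0 := by
                    have key := Groth.Agent.Helper6.NT.rowfun7 T u0 u1 u2 u3 u4 u5 u6 hinj u0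
                    rw [(h2 u0).2, tap_0_1, tap_0_2, z_0_3, z_0_4, z_0_5, z_0_6] at key
                    exact mul_left_cancel₀ (T.w_pos u0).ne' (by linarith only [key])
                  have r_1 : 1 * T.m u0 + -2 * T.m u1 + 1 * T.m u3 = 0 := by
                    have key := Groth.Agent.Helper6.NT.rowfun7 T u0 u1 u2 u3 u4 u5 u6 hinj u1
                    rw [Groth.Agent.Helper6.NT.symm' T u1 u0, taq_0_1, (h2 u1).2, z_1_2, tap_1_3, z_1_4, z_1_5, z_1_6] at key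
                    exact mul_left_cancel₀ (T.w_pos u1).ne' (by linarith only [key])
                  have r_2 : 1 * T.m u0 + -2 * T.m u2 + 1 * T.m u4 = 0 := by
                    have key := Groth.Agent.Helper6.NT.rowfun7 T u0 u1 u2 u3 u4 u5 u6 hinj u2
                    rw [Groth.Agent.Helper6.NT.symm' T u2 u0, taq_0_2, Groth.Agent.Helper6.NT.symm' T u2 u1, z_1_2, (h2 u2).2, z_2_3, tap_2_4, z_2_5, z_2_6] at key
                    exact mul_left_cancel₀ (T.w_pos u2).ne' (by linarith only [key])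
                  have r_3 : 1 * T.m u1 + -2 * T.m u3 + 1 * T.m u5 = 0 := by
                    have key := Groth.Agent.Helper6.NT.rowfun7 T u0 u1 u2 u3 u4 u5 u6 hinj u3
                    rw [Groth.Agent.Helper6.NT.symm' T u3 u0, z_0_3, Groth.Agent.Helper6.NT.symm' T u3 u1, taq_1_3, Groth.Agent.Helper6.NT.symm' T u3 u2, z_2_3, (h2 u3).2, z_3_4, tap_3_5, z_3_6] at key
                    exact mul_left_cancel₀ (T.w_pos u3).ne' (by linarith only [key])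
                  have r_4 : 1 * T.m u2 + -2 * T.m u4 + 1 * T.m u6 = 0 := by
                    have key := Groth.Agent.Helper6.NT.rowfun7 T u0 u1 u2 u3 u4 u5 u6 hinj u4
                    rw [Groth.Agent.Helper6.NT.symm' T u4 u0, z_0_4, Groth.Agent.Helper6.NT.symm' T u4 u1, z_1_4, Groth.Agent.Helper6.NT.symm' T u4 u2, taq_2_4, Groth.Agent.Helper6.NT.symm' T u4 u3, z_3_4, (h2 u4).2, z_4_5, tap_4_6] at key
                    exact mul_left_cancel₀ (T.w_pos u4).ne' (by linarith only [key])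
                  have r_5 : 2 * T.m u3 + -2 * T.m u5 = 0 := by
                    have key := Groth.Agent.Helper6.NT.rowfun7 T u0 u1 u2 u3 u4 u5 u6 hinj u5
                    rw [Groth.Agent.Helper6.NT.symm' T u5 u0, z_0_5, Groth.Agent.Helper6.NT.symm' T u5 u1, z_1_5, Groth.Agent.Helper6.NT.symm' T u5 u2, z_2_5, Groth.Agent.Helper6.NT.symm' T u5 u3, taq_3_5, Groth.Agent.Helper6.NT.symm' T u5 u4, z_4_5, (h2 u5).2, z_5_6] at key
                    exact mul_left_cancel₀ (T.w_pos u5).ne' (by linarith only [key])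
                  have r_6 : 2 * T.m u4 + -2 * T.m u6 = 0 := by
                    have key := Groth.Agent.Helper6.NT.rowfun7 T u0 u1 u2 u3 u4 u5 u6 hinj u6
                    rw [Groth.Agent.Helper6.NT.symm' T u6 u0, z_0_6, Groth.Agent.Helper6.NT.symm' T u6 u1, z_1_6, Groth.Agent.Helper6.NT.symm' T u6 u2, z_2_6, Groth.Agent.Helper6.NT.symm' T u6 u3, z_3_6, Groth.Agent.Helper6.NT.symm' T u6 u4, taq_4_6, Groth.Agent.Helper6.NT.symm' T u6 u5, z_5_6, (h2 u6).2] at key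
                    exact mul_left_cancel₀ (T.w_pos u6).ne' (by linarith only [key])
                  have f0 : T.m u5 = T.m u5 := rfl
                  have f1 : T.m u3 = T.m u5 := by linarith only [r_0, r_1, r_2, r_3, r_4, r_5, r_6]
                  have f2 : T.m u1 = T.m u5 := by linarith only [r_0, r_1, r_2, r_3, r_4, r_5, r_6]
                  have f3 : T.m u0 = T.m u5 := by linarith only [r_0, r_1, r_2, r_3, r_4, r_5, r_6]
                  have f4 : T.m u2 = T.m u5 := by linarith only [r_0, r_1, r_2, r_3, r_4, r_5, r_6]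
                  have f5 : T.m u4 = T.m u5 := by linarith only [r_0, r_1, r_2, r_3, r_4, r_5, r_6]
                  have f6 : T.m u6 = T.m u5 := by linarith only [r_0, r_1, r_2, r_3, r_4, r_5, r_6]
                  have f7 : T.w u5 = T.w u5 := rfl
                  have f8 : T.w u3 = 2 * T.w u5 := by linarith only [tw_0_1, tw_0_2, tw_1_3, tw_2_4, tw_3_5, tw_4_6]
                  have f9 : T.w u1 = 2 * T.w u5 := by linarith only [tw_0_1, tw_0_2, tw_1_3, tw_2_4, tw_3_5, tw_4_6]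
                  have f10 : T.w u0 = 2 * T.w u5 := by linarith only [tw_0_1, tw_0_2, tw_1_3, tw_2_4, tw_3_5, tw_4_6]
                  have f11 : T.w u2 = 2 * T.w u5 := by linarith only [tw_0_1, tw_0_2, tw_1_3, tw_2_4, tw_3_5, tw_4_6]
                  have f12 : T.w u4 = 2 * T.w u5 := by linarith only [tw_0_1, tw_0_2, tw_1_3, tw_2_4, tw_3_5, tw_4_6]
                  have f13 : T.w u6 = T.w u5 := by linarith only [tw_0_1, tw_0_2, tw_1_3, tw_2_4, tw_3_5, tw_4_6]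
                  have f14 : T.a u5 u5 = -2 * T.w u5 := by have := (h2 u5).2; linarith only [this, tw_0_1, tw_0_2, tw_1_3, tw_2_4, tw_3_5, tw_4_6]
                  have f15 : T.a u5 u3 = 2 * T.w u5 := by rw [Groth.Agent.Helper6.NT.symm' T u5 u3]; linarith only [tap_3_5, tw_0_1, tw_0_2, tw_1_3, tw_2_4, tw_3_5, tw_4_6]
                  have f16 : T.a u5 u1 = 0 := by rw [Groth.Agent.Helper6.NT.symm' T u5 u1]; exact z_1_5
                  have f17 : T.a u5 u0 = 0 := by rw [Groth.Agent.Helper6.NT.symm' T u5 u0]; exact z_0_5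
                  have f18 : T.a u5 u2 = 0 := by rw [Groth.Agent.Helper6.NT.symm' T u5 u2]; exact z_2_5
                  have f19 : T.a u5 u4 = 0 := by rw [Groth.Agent.Helper6.NT.symm' T u5 u4]; exact z_4_5
                  have f20 : T.a u5 u6 = 0 := by exact z_5_6
                  have f21 : T.a u3 u3 = -4 * T.w u5 := by have := (h2 u3).2; linarith only [this, tw_0_1, tw_0_2, tw_1_3, tw_2_4, tw_3_5, tw_4_6]
                  have f22 : T.a u3 u1 = 2 * T.w u5 := by rw [Groth.Agent.Helper6.NT.symm' T u3 u1]; linarith only [tap_1_3, tw_0_1, tw_0_2, tw_1_3, tw_2_4, tw_3_5, tw_4_6]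
                  have f23 : T.a u3 u0 = 0 := by rw [Groth.Agent.Helper6.NT.symm' T u3 u0]; exact z_0_3
                  have f24 : T.a u3 u2 = 0 := by rw [Groth.Agent.Helper6.NT.symm' T u3 u2]; exact z_2_3
                  have f25 : T.a u3 u4 = 0 := by exact z_3_4
                  have f26 : T.a u3 u6 = 0 := by exact z_3_6
                  have f27 : T.a u1 u1 = -4 * T.w u5 := by have := (h2 u1).2; linarith only [this, tw_0_1, tw_0_2, tw_1_3, tw_2_4, tw_3_5, tw_4_6]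
                  have f28 : T.a u1 u0 = 2 * T.w u5 := by rw [Groth.Agent.Helper6.NT.symm' T u1 u0]; linarith only [tap_0_1, tw_0_1, tw_0_2, tw_1_3, tw_2_4, tw_3_5, tw_4_6]
                  have f29 : T.a u1 u2 = 0 := by exact z_1_2
                  have f30 : T.a u1 u4 = 0 := by exact z_1_4
                  have f31 : T.a u1 u6 = 0 := by exact z_1_6
                  have f32 : T.a u0 u0 = -4 * T.w u5 := by have := (h2 u0).2; linarith only [this, tw_0_1, tw_0_2, tw_1_3, tw_2_4, tw_3_5, tw_4_6]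
                  have f33 : T.a u0 u2 = 2 * T.w u5 := by linarith only [tap_0_2, tw_0_1, tw_0_2, tw_1_3, tw_2_4, tw_3_5, tw_4_6]
                  have f34 : T.a u0 u4 = 0 := by exact z_0_4
                  have f35 : T.a u0 u6 = 0 := by exact z_0_6
                  have f36 : T.a u2 u2 = -4 * T.w u5 := by have := (h2 u2).2; linarith only [this, tw_0_1, tw_0_2, tw_1_3, tw_2_4, tw_3_5, tw_4_6]
                  have f37 : T.a u2 u4 = 2 * T.w u5 := by linarith only [tap_2_4, tw_0_1, tw_0_2, tw_1_3, tw_2_4, tw_3_5, tw_4_6]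
                  have f38 : T.a u2 u6 = 0 := by exact z_2_6
                  have f39 : T.a u4 u4 = -4 * T.w u5 := by have := (h2 u4).2; linarith only [this, tw_0_1, tw_0_2, tw_1_3, tw_2_4, tw_3_5, tw_4_6]
                  have f40 : T.a u4 u6 = 2 * T.w u5 := by linarith only [tap_4_6, tw_0_1, tw_0_2, tw_1_3, tw_2_4, tw_3_5, tw_4_6]
                  have f41 : T.a u6 u6 = -2 * T.w u5 := by have := (h2 u6).2; linarith only [this, tw_0_1, tw_0_2, tw_1_3, tw_2_4, tw_3_5, tw_4_6]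
                  have hsig := Groth.Agent.Helper6.NT.inj7 u5 u3 u1 u0 u2 u4 u6 hn_5_3.symm hn_5_1.symm hn_3_1.symm hn_5_0.symm hn_3_0.symm hn_1_0.symm hn_5_2.symm hn_3_2.symm hn_2_1 hn_2_0 hn_5_4.symm hn_4_3 hn_4_1 hn_4_0 hn_4_2 hn_6_5 hn_6_3 hn_6_1 hn_6_0 hn_6_2 hn_6_4
                  exact ⟨Equiv.ofBijective _ (Finite.injective_iff_bijective.1 hsig), T.m u5, T.w u5, Or.inr (Or.inr (Or.inl ⟨f0, f1, f2, f3, f4, f5, f6, f7, f8, f9, f10, f11, f12, f13, f14, f15, f16, f17, f18, f19, f20, f21, f22, f23, f24, f25, f26, f27, f28, f29, f30, f31, f32, f33, f34, f35, f36, f37, f38, f39, f40, f41⟩))⟩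
                · -- (5,6) nonzero
                  obtain ⟨lbp_5_6, lbq_5_6⟩ := Groth.Agent.Helper6.NT.lb T u5 u6 hn_6_5.symm nz_5_6
                  exfalso
                  have key := Groth.Agent.Helper6.NT.negfun4 T h2 u3 u4 u5 u6 (by norm_num) 1 1 2 2 (by norm_num) (by norm_num)
                  linarith only [key, z_3_4, tap_3_5, taq_3_5, z_3_6, z_4_5, tap_4_6, taq_4_6, lbp_5_6, lbq_5_6, T.w_pos u3, T.w_pos u4, T.w_pos u5, T.w_pos u6]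
              · -- (4,6) Tp
                exfalso
                have key := Groth.Agent.Helper6.NT.negfun3 T h2 u2 u4 u6 (by norm_num) 1 2 1 (by norm_num) (by norm_num)
                linarith only [key, tap_2_4, taq_2_4, z_2_6, tap_4_6, taq_4_6, T.w_pos u2, T.w_pos u4, T.w_pos u6]
              · -- (4,6) Tm
                exfalso
                have key := Groth.Agent.Helper6.NT.negfun3 T h2 u2 u4 u6 (by norm_num) 1 2 3 (by norm_num) (by norm_num)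
                linarith only [key, tap_2_4, taq_2_4, z_2_6, tap_4_6, taq_4_6, T.w_pos u2, T.w_pos u4, T.w_pos u6]
            · push Not at hx
              have cl_4 := hx
              clear hx
              by_cases hx : ∃ j, (j ≠ u0 ∧ j ≠ u1 ∧ j ≠ u2 ∧ j ≠ u3 ∧ j ≠ u4 ∧ j ≠ u5) ∧ T.a u5 j ≠ 0
              · obtain ⟨u6, ⟨hn_6_0, hn_6_1, hn_6_2, hn_6_3, hn_6_4, hn_6_5⟩, e_5_6⟩ := hx
                have z_0_6 : T.a u0 u6 = 0 := cl_0 u6 ⟨hn_6_0, hn_6_1, hn_6_2⟩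
                have z_1_6 : T.a u1 u6 = 0 := cl_1 u6 ⟨hn_6_0, hn_6_1, hn_6_2, hn_6_3⟩
                have z_2_6 : T.a u2 u6 = 0 := cl_2 u6 ⟨hn_6_0, hn_6_1, hn_6_2, hn_6_3, hn_6_4⟩
                have z_3_6 : T.a u3 u6 = 0 := cl_3 u6 ⟨hn_6_0, hn_6_1, hn_6_2, hn_6_3, hn_6_4, hn_6_5⟩
                have z_4_6 : T.a u4 u6 = 0 := cl_4 u6 ⟨hn_6_0, hn_6_1, hn_6_2, hn_6_3, hn_6_4, hn_6_5⟩
                rcases Groth.Agent.Helper6.NT.edge5 T h2 (by norm_num) u5 u6 hn_6_5.symm e_5_6 with ⟨tw_5_6, tap_5_6, taq_5_6⟩ | ⟨tw_5_6, tap_5_6, taq_5_6⟩ | ⟨tw_5_6, tap_5_6, taq_5_6⟩ | ⟨tw_5_6, tap_5_6, taq_5_6⟩ | ⟨tw_5_6, tap_5_6, taq_5_6⟩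
                · -- (5,6) S
                  exfalso
                  have key := Groth.Agent.Helper6.NT.negfun5 T h2 u0 u1 u3 u5 u6 (by norm_num) 1 2 3 4 2 (by norm_num) (by norm_num)
                  linarith only [key, tap_0_1, taq_0_1, z_0_3, z_0_5, z_0_6, tap_1_3, taq_1_3, z_1_5, z_1_6, tap_3_5, taq_3_5, z_3_6, tap_5_6, taq_5_6, T.w_pos u0, T.w_pos u1, T.w_pos u3, T.w_pos u5, T.w_pos u6]
                · -- (5,6) Dp
                  exfalso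
                  have key := Groth.Agent.Helper6.NT.negfun3 T h2 u3 u5 u6 (by norm_num) 1 2 1 (by norm_num) (by norm_num)
                  linarith only [key, tap_3_5, taq_3_5, z_3_6, tap_5_6, taq_5_6, T.w_pos u3, T.w_pos u5, T.w_pos u6]
                · -- (5,6) Dm
                  exfalso
                  have key := Groth.Agent.Helper6.NT.negfun3 T h2 u3 u5 u6 (by norm_num) 1 2 2 (by norm_num) (by norm_num)
                  linarith only [key, tap_3_5, taq_3_5, z_3_6, tap_5_6, taq_5_6, T.w_pos u3, T.w_pos u5, T.w_pos u6]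
                · -- (5,6) Tp
                  exfalso
                  have key := Groth.Agent.Helper6.NT.negfun3 T h2 u3 u5 u6 (by norm_num) 1 2 1 (by norm_num) (by norm_num)
                  linarith only [key, tap_3_5, taq_3_5, z_3_6, tap_5_6, taq_5_6, T.w_pos u3, T.w_pos u5, T.w_pos u6]
                · -- (5,6) Tm
                  exfalso
                  have key := Groth.Agent.Helper6.NT.negfun3 T h2 u3 u5 u6 (by norm_num) 1 2 3 (by norm_num) (by norm_num)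
                  linarith only [key, tap_3_5, taq_3_5, z_3_6, tap_5_6, taq_5_6, T.w_pos u3, T.w_pos u5, T.w_pos u6]
              · push Not at hx
                have cl_5 := hx
                clear hx
                exfalso
                refine Groth.Agent.Helper6.NT.closed_contra T [u0, u1, u2, u3, u4, u5] (by simp) (by simp) ?_
                intro i hi j hj
                simp only [List.mem_cons, List.not_mem_nil, or_false, not_or] at hi hj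
                rcases hi with rfl | rfl | rfl | rfl | rfl | rfl
                · exact cl_0 j ⟨hj.1, hj.2.1, hj.2.2.1⟩
                · exact cl_1 j ⟨hj.1, hj.2.1, hj.2.2.1, hj.2.2.2.1⟩
                · exact cl_2 j ⟨hj.1, hj.2.1, hj.2.2.1, hj.2.2.2.1, hj.2.2.2.2.1⟩
                · exact cl_3 j ⟨hj.1, hj.2.1, hj.2.2.1, hj.2.2.2.1, hj.2.2.2.2.1, hj.2.2.2.2.2⟩
                · exact cl_4 j ⟨hj.1, hj.2.1, hj.2.2.1, hj.2.2.2.1, hj.2.2.2.2.1, hj.2.2.2.2.2⟩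
                · exact cl_5 j ⟨hj.1, hj.2.1, hj.2.2.1, hj.2.2.2.1, hj.2.2.2.2.1, hj.2.2.2.2.2⟩
        · -- (4,5) nonzero
          obtain ⟨lbp_4_5, lbq_4_5⟩ := Groth.Agent.Helper6.NT.lb T u4 u5 hn_5_4.symm nz_4_5
          exfalso
          have key := Groth.Agent.Helper6.NT.negfun5 T h2 u1 u2 u3 u4 u5 (by norm_num) 1 1 2 2 3 (by norm_num) (by norm_num)
          linarith only [key, z_1_2, tap_1_3, taq_1_3, z_1_4, z_1_5, z_2_3, tap_2_4, taq_2_4, z_2_5, z_3_4, tap_3_5, taq_3_5, lbp_4_5, lbq_4_5, T.w_pos u1, T.w_pos u2, T.w_pos u3, T.w_pos u4, T.w_pos u5]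
      · -- (3,5) Tp
        exfalso
        have key := Groth.Agent.Helper6.NT.negfun3 T h2 u1 u3 u5 (by norm_num) 1 2 1 (by norm_num) (by norm_num)
        linarith only [key, tap_1_3, taq_1_3, z_1_5, tap_3_5, taq_3_5, T.w_pos u1, T.w_pos u3, T.w_pos u5]
      · -- (3,5) Tm
        exfalso
        have key := Groth.Agent.Helper6.NT.negfun3 T h2 u1 u3 u5 (by norm_num) 1 2 3 (by norm_num) (by norm_num)
        linarith only [key, tap_1_3, taq_1_3, z_1_5, tap_3_5, taq_3_5, T.w_pos u1, T.w_pos u3, T.w_pos u5]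
    · push Not at hx
      have cl_3 := hx
      clear hx
      by_cases hx : ∃ j, (j ≠ u0 ∧ j ≠ u1 ∧ j ≠ u2 ∧ j ≠ u3 ∧ j ≠ u4) ∧ T.a u4 j ≠ 0
      · obtain ⟨u5, ⟨hn_5_0, hn_5_1, hn_5_2, hn_5_3, hn_5_4⟩, e_4_5⟩ := hx
        have z_0_5 : T.a u0 u5 = 0 := cl_0 u5 ⟨hn_5_0, hn_5_1, hn_5_2⟩
        have z_1_5 : T.a u1 u5 = 0 := cl_1 u5 ⟨hn_5_0, hn_5_1, hn_5_2, hn_5_3⟩
        have z_2_5 : T.a u2 u5 = 0 := cl_2 u5 ⟨hn_5_0, hn_5_1, hn_5_2, hn_5_3, hn_5_4⟩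
        have z_3_5 : T.a u3 u5 = 0 := cl_3 u5 ⟨hn_5_0, hn_5_1, hn_5_2, hn_5_3, hn_5_4⟩
        rcases Groth.Agent.Helper6.NT.edge5 T h2 (by norm_num) u4 u5 hn_5_4.symm e_4_5 with ⟨tw_4_5, tap_4_5, taq_4_5⟩ | ⟨tw_4_5, tap_4_5, taq_4_5⟩ | ⟨tw_4_5, tap_4_5, taq_4_5⟩ | ⟨tw_4_5, tap_4_5, taq_4_5⟩ | ⟨tw_4_5, tap_4_5, taq_4_5⟩
        · -- (4,5) S
          by_cases hx : ∃ j, (j ≠ u0 ∧ j ≠ u1 ∧ j ≠ u2 ∧ j ≠ u3 ∧ j ≠ u4 ∧ j ≠ u5) ∧ T.a u4 j ≠ 0
          · obtain ⟨u6, ⟨hn_6_0, hn_6_1, hn_6_2, hn_6_3, hn_6_4, hn_6_5⟩, e_4_6⟩ := hx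
            have z_0_6 : T.a u0 u6 = 0 := cl_0 u6 ⟨hn_6_0, hn_6_1, hn_6_2⟩
            have z_1_6 : T.a u1 u6 = 0 := cl_1 u6 ⟨hn_6_0, hn_6_1, hn_6_2, hn_6_3⟩
            have z_2_6 : T.a u2 u6 = 0 := cl_2 u6 ⟨hn_6_0, hn_6_1, hn_6_2, hn_6_3, hn_6_4⟩
            have z_3_6 : T.a u3 u6 = 0 := cl_3 u6 ⟨hn_6_0, hn_6_1, hn_6_2, hn_6_3, hn_6_4⟩
            rcases Groth.Agent.Helper6.NT.edge5 T h2 (by norm_num) u4 u6 hn_6_4.symm e_4_6 with ⟨tw_4_6, tap_4_6, taq_4_6⟩ | ⟨tw_4_6, tap_4_6, taq_4_6⟩ | ⟨tw_4_6, tap_4_6, taq_4_6⟩ | ⟨tw_4_6, tap_4_6, taq_4_6⟩ | ⟨tw_4_6, tap_4_6, taq_4_6⟩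
            · -- (4,6) S
              rcases eq_or_ne (T.a u5 u6) 0 with z_5_6 | nz_5_6
              · -- (5,6) zero
                have hinj := Groth.Agent.Helper6.NT.inj7 u0 u1 u2 u3 u4 u5 u6 hn_1_0 hn_2_0 hn_2_1 hn_3_0 hn_3_1 hn_3_2 hn_4_0 hn_4_1 hn_4_2 hn_4_3 hn_5_0 hn_5_1 hn_5_2 hn_5_3 hn_5_4 hn_6_0 hn_6_1 hn_6_2 hn_6_3 hn_6_4 hn_6_5
                have r_0 : -2 * T.m u0 + 1 * T.m u1 + 1 * T.m u2 = 0 := by
                  have key := Groth.Agent.Helper6.NT.rowfun7 T u0 u1 u2 u3 u4 u5 u6 hinj u0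
                  rw [(h2 u0).2, tap_0_1, tap_0_2, z_0_3, z_0_4, z_0_5, z_0_6] at key
                  exact mul_left_cancel₀ (T.w_pos u0).ne' (by linarith only [key])
                have r_1 : 1 * T.m u0 + -2 * T.m u1 + 1 * T.m u3 = 0 := by
                  have key := Groth.Agent.Helper6.NT.rowfun7 T u0 u1 u2 u3 u4 u5 u6 hinj u1
                  rw [Groth.Agent.Helper6.NT.symm' T u1 u0, taq_0_1, (h2 u1).2, z_1_2, tap_1_3, z_1_4, z_1_5, z_1_6] at key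
                  exact mul_left_cancel₀ (T.w_pos u1).ne' (by linarith only [key])
                have r_2 : 1 * T.m u0 + -2 * T.m u2 + 1 * T.m u4 = 0 := by
                  have key := Groth.Agent.Helper6.NT.rowfun7 T u0 u1 u2 u3 u4 u5 u6 hinj u2
                  rw [Groth.Agent.Helper6.NT.symm' T u2 u0, taq_0_2, Groth.Agent.Helper6.NT.symm' T u2 u1, z_1_2, (h2 u2).2, z_2_3, tap_2_4, z_2_5, z_2_6] at key
                  exact mul_left_cancel₀ (T.w_pos u2).ne' (by linarith only [key])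
                have r_3 : 1 * T.m u1 + -2 * T.m u3 = 0 := by
                  have key := Groth.Agent.Helper6.NT.rowfun7 T u0 u1 u2 u3 u4 u5 u6 hinj u3
                  rw [Groth.Agent.Helper6.NT.symm' T u3 u0, z_0_3, Groth.Agent.Helper6.NT.symm' T u3 u1, taq_1_3, Groth.Agent.Helper6.NT.symm' T u3 u2, z_2_3, (h2 u3).2, z_3_4, z_3_5, z_3_6] at key
                  exact mul_left_cancel₀ (T.w_pos u3).ne' (by linarith only [key])
                have r_4 : 1 * T.m u2 + -2 * T.m u4 + 1 * T.m u5 + 1 * T.m u6 = 0 := by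
                  have key := Groth.Agent.Helper6.NT.rowfun7 T u0 u1 u2 u3 u4 u5 u6 hinj u4
                  rw [Groth.Agent.Helper6.NT.symm' T u4 u0, z_0_4, Groth.Agent.Helper6.NT.symm' T u4 u1, z_1_4, Groth.Agent.Helper6.NT.symm' T u4 u2, taq_2_4, Groth.Agent.Helper6.NT.symm' T u4 u3, z_3_4, (h2 u4).2, tap_4_5, tap_4_6] at key
                  exact mul_left_cancel₀ (T.w_pos u4).ne' (by linarith only [key])
                have r_5 : 1 * T.m u4 + -2 * T.m u5 = 0 := by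
                  have key := Groth.Agent.Helper6.NT.rowfun7 T u0 u1 u2 u3 u4 u5 u6 hinj u5
                  rw [Groth.Agent.Helper6.NT.symm' T u5 u0, z_0_5, Groth.Agent.Helper6.NT.symm' T u5 u1, z_1_5, Groth.Agent.Helper6.NT.symm' T u5 u2, z_2_5, Groth.Agent.Helper6.NT.symm' T u5 u3, z_3_5, Groth.Agent.Helper6.NT.symm' T u5 u4, taq_4_5, (h2 u5).2, z_5_6] at key
                  exact mul_left_cancel₀ (T.w_pos u5).ne' (by linarith only [key])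
                have r_6 : 1 * T.m u4 + -2 * T.m u6 = 0 := by
                  have key := Groth.Agent.Helper6.NT.rowfun7 T u0 u1 u2 u3 u4 u5 u6 hinj u6
                  rw [Groth.Agent.Helper6.NT.symm' T u6 u0, z_0_6, Groth.Agent.Helper6.NT.symm' T u6 u1, z_1_6, Groth.Agent.Helper6.NT.symm' T u6 u2, z_2_6, Groth.Agent.Helper6.NT.symm' T u6 u3, z_3_6, Groth.Agent.Helper6.NT.symm' T u6 u4, taq_4_6, Groth.Agent.Helper6.NT.symm' T u6 u5, z_5_6, (h2 u6).2] at key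
                  exact mul_left_cancel₀ (T.w_pos u6).ne' (by linarith only [key])
                exfalso
                linarith only [r_0, r_1, r_2, r_3, r_4, r_5, r_6, T.m_pos u0, T.m_pos u1, T.m_pos u2, T.m_pos u3, T.m_pos u4, T.m_pos u5, T.m_pos u6]
              · -- (5,6) nonzero
                obtain ⟨lbp_5_6, lbq_5_6⟩ := Groth.Agent.Helper6.NT.lb T u5 u6 hn_6_5.symm nz_5_6
                exfalso
                have key := Groth.Agent.Helper6.NT.negfun3 T h2 u4 u5 u6 (by norm_num) 1 1 1 (by norm_num) (by norm_num)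
                linarith only [key, tap_4_5, taq_4_5, tap_4_6, taq_4_6, lbp_5_6, lbq_5_6, T.w_pos u4, T.w_pos u5, T.w_pos u6]
            · -- (4,6) Dp
              exfalso
              have key := Groth.Agent.Helper6.NT.negfun4 T h2 u2 u4 u5 u6 (by norm_num) 1 2 1 1 (by norm_num) (by norm_num)
              linarith only [key, tap_2_4, taq_2_4, z_2_5, z_2_6, tap_4_5, taq_4_5, tap_4_6, taq_4_6, T.offDiag_nonneg u5 u6 hn_6_5.symm, T.w_pos u2, T.w_pos u4, T.w_pos u5, T.w_pos u6]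
            · -- (4,6) Dm
              exfalso
              have key := Groth.Agent.Helper6.NT.negfun4 T h2 u2 u4 u5 u6 (by norm_num) 1 2 1 2 (by norm_num) (by norm_num)
              linarith only [key, tap_2_4, taq_2_4, z_2_5, z_2_6, tap_4_5, taq_4_5, tap_4_6, taq_4_6, T.offDiag_nonneg u5 u6 hn_6_5.symm, T.w_pos u2, T.w_pos u4, T.w_pos u5, T.w_pos u6]
            · -- (4,6) Tp
              exfalso
              have key := Groth.Agent.Helper6.NT.negfun3 T h2 u4 u5 u6 (by norm_num) 2 1 1 (by norm_num) (by norm_num)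
              linarith only [key, tap_4_5, taq_4_5, tap_4_6, taq_4_6, T.offDiag_nonneg u5 u6 hn_6_5.symm, T.w_pos u4, T.w_pos u5, T.w_pos u6]
            · -- (4,6) Tm
              exfalso
              have key := Groth.Agent.Helper6.NT.negfun3 T h2 u4 u5 u6 (by norm_num) 2 1 3 (by norm_num) (by norm_num)
              linarith only [key, tap_4_5, taq_4_5, tap_4_6, taq_4_6, T.offDiag_nonneg u5 u6 hn_6_5.symm, T.w_pos u4, T.w_pos u5, T.w_pos u6]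
          · push Not at hx
            have cl_4 := hx
            clear hx
            by_cases hx : ∃ j, (j ≠ u0 ∧ j ≠ u1 ∧ j ≠ u2 ∧ j ≠ u3 ∧ j ≠ u4 ∧ j ≠ u5) ∧ T.a u5 j ≠ 0
            · obtain ⟨u6, ⟨hn_6_0, hn_6_1, hn_6_2, hn_6_3, hn_6_4, hn_6_5⟩, e_5_6⟩ := hx
              have z_0_6 : T.a u0 u6 = 0 := cl_0 u6 ⟨hn_6_0, hn_6_1, hn_6_2⟩
              have z_1_6 : T.a u1 u6 = 0 := cl_1 u6 ⟨hn_6_0, hn_6_1, hn_6_2, hn_6_3⟩
              have z_2_6 : T.a u2 u6 = 0 := cl_2 u6 ⟨hn_6_0, hn_6_1, hn_6_2, hn_6_3, hn_6_4⟩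
              have z_3_6 : T.a u3 u6 = 0 := cl_3 u6 ⟨hn_6_0, hn_6_1, hn_6_2, hn_6_3, hn_6_4⟩
              have z_4_6 : T.a u4 u6 = 0 := cl_4 u6 ⟨hn_6_0, hn_6_1, hn_6_2, hn_6_3, hn_6_4, hn_6_5⟩
              rcases Groth.Agent.Helper6.NT.edge5 T h2 (by norm_num) u5 u6 hn_6_5.symm e_5_6 with ⟨tw_5_6, tap_5_6, taq_5_6⟩ | ⟨tw_5_6, tap_5_6, taq_5_6⟩ | ⟨tw_5_6, tap_5_6, taq_5_6⟩ | ⟨tw_5_6, tap_5_6, taq_5_6⟩ | ⟨tw_5_6, tap_5_6, taq_5_6⟩
              · -- (5,6) S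
                have hinj := Groth.Agent.Helper6.NT.inj7 u0 u1 u2 u3 u4 u5 u6 hn_1_0 hn_2_0 hn_2_1 hn_3_0 hn_3_1 hn_3_2 hn_4_0 hn_4_1 hn_4_2 hn_4_3 hn_5_0 hn_5_1 hn_5_2 hn_5_3 hn_5_4 hn_6_0 hn_6_1 hn_6_2 hn_6_3 hn_6_4 hn_6_5
                have r_0 : -2 * T.m u0 + 1 * T.m u1 + 1 * T.m u2 = 0 := by
                  have key := Groth.Agent.Helper6.NT.rowfun7 T u0 u1 u2 u3 u4 u5 u6 hinj u0
                  rw [(h2 u0).2, tap_0_1, tap_0_2, z_0_3, z_0_4, z_0_5, z_0_6] at key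
                  exact mul_left_cancel₀ (T.w_pos u0).ne' (by linarith only [key])
                have r_1 : 1 * T.m u0 + -2 * T.m u1 + 1 * T.m u3 = 0 := by
                  have key := Groth.Agent.Helper6.NT.rowfun7 T u0 u1 u2 u3 u4 u5 u6 hinj u1
                  rw [Groth.Agent.Helper6.NT.symm' T u1 u0, taq_0_1, (h2 u1).2, z_1_2, tap_1_3, z_1_4, z_1_5, z_1_6] at key
                  exact mul_left_cancel₀ (T.w_pos u1).ne' (by linarith only [key])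
                have r_2 : 1 * T.m u0 + -2 * T.m u2 + 1 * T.m u4 = 0 := by
                  have key := Groth.Agent.Helper6.NT.rowfun7 T u0 u1 u2 u3 u4 u5 u6 hinj u2
                  rw [Groth.Agent.Helper6.NT.symm' T u2 u0, taq_0_2, Groth.Agent.Helper6.NT.symm' T u2 u1, z_1_2, (h2 u2).2, z_2_3, tap_2_4, z_2_5, z_2_6] at key
                  exact mul_left_cancel₀ (T.w_pos u2).ne' (by linarith only [key])
                have r_3 : 1 * T.m u1 + -2 * T.m u3 = 0 := by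
                  have key := Groth.Agent.Helper6.NT.rowfun7 T u0 u1 u2 u3 u4 u5 u6 hinj u3
                  rw [Groth.Agent.Helper6.NT.symm' T u3 u0, z_0_3, Groth.Agent.Helper6.NT.symm' T u3 u1, taq_1_3, Groth.Agent.Helper6.NT.symm' T u3 u2, z_2_3, (h2 u3).2, z_3_4, z_3_5, z_3_6] at key
                  exact mul_left_cancel₀ (T.w_pos u3).ne' (by linarith only [key])
                have r_4 : 1 * T.m u2 + -2 * T.m u4 + 1 * T.m u5 = 0 := by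
                  have key := Groth.Agent.Helper6.NT.rowfun7 T u0 u1 u2 u3 u4 u5 u6 hinj u4
                  rw [Groth.Agent.Helper6.NT.symm' T u4 u0, z_0_4, Groth.Agent.Helper6.NT.symm' T u4 u1, z_1_4, Groth.Agent.Helper6.NT.symm' T u4 u2, taq_2_4, Groth.Agent.Helper6.NT.symm' T u4 u3, z_3_4, (h2 u4).2, tap_4_5, z_4_6] at key
                  exact mul_left_cancel₀ (T.w_pos u4).ne' (by linarith only [key])
                have r_5 : 1 * T.m u4 + -2 * T.m u5 + 1 * T.m u6 = 0 := by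
                  have key := Groth.Agent.Helper6.NT.rowfun7 T u0 u1 u2 u3 u4 u5 u6 hinj u5
                  rw [Groth.Agent.Helper6.NT.symm' T u5 u0, z_0_5, Groth.Agent.Helper6.NT.symm' T u5 u1, z_1_5, Groth.Agent.Helper6.NT.symm' T u5 u2, z_2_5, Groth.Agent.Helper6.NT.symm' T u5 u3, z_3_5, Groth.Agent.Helper6.NT.symm' T u5 u4, taq_4_5, (h2 u5).2, tap_5_6] at key
                  exact mul_left_cancel₀ (T.w_pos u5).ne' (by linarith only [key])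
                have r_6 : 1 * T.m u5 + -2 * T.m u6 = 0 := by
                  have key := Groth.Agent.Helper6.NT.rowfun7 T u0 u1 u2 u3 u4 u5 u6 hinj u6
                  rw [Groth.Agent.Helper6.NT.symm' T u6 u0, z_0_6, Groth.Agent.Helper6.NT.symm' T u6 u1, z_1_6, Groth.Agent.Helper6.NT.symm' T u6 u2, z_2_6, Groth.Agent.Helper6.NT.symm' T u6 u3, z_3_6, Groth.Agent.Helper6.NT.symm' T u6 u4, z_4_6, Groth.Agent.Helper6.NT.symm' T u6 u5, taq_5_6, (h2 u6).2] at key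
                  exact mul_left_cancel₀ (T.w_pos u6).ne' (by linarith only [key])
                exfalso
                linarith only [r_0, r_1, r_2, r_3, r_4, r_5, r_6, T.m_pos u0, T.m_pos u1, T.m_pos u2, T.m_pos u3, T.m_pos u4, T.m_pos u5, T.m_pos u6]
              · -- (5,6) Dp
                have hinj := Groth.Agent.Helper6.NT.inj7 u0 u1 u2 u3 u4 u5 u6 hn_1_0 hn_2_0 hn_2_1 hn_3_0 hn_3_1 hn_3_2 hn_4_0 hn_4_1 hn_4_2 hn_4_3 hn_5_0 hn_5_1 hn_5_2 hn_5_3 hn_5_4 hn_6_0 hn_6_1 hn_6_2 hn_6_3 hn_6_4 hn_6_5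
                have r_0 : -2 * T.m u0 + 1 * T.m u1 + 1 * T.m u2 = 0 := by
                  have key := Groth.Agent.Helper6.NT.rowfun7 T u0 u1 u2 u3 u4 u5 u6 hinj u0
                  rw [(h2 u0).2, tap_0_1, tap_0_2, z_0_3, z_0_4, z_0_5, z_0_6] at key
                  exact mul_left_cancel₀ (T.w_pos u0).ne' (by linarith only [key])
                have r_1 : 1 * T.m u0 + -2 * T.m u1 + 1 * T.m u3 = 0 := by
                  have key := Groth.Agent.Helper6.NT.rowfun7 T u0 u1 u2 u3 u4 u5 u6 hinj u1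
                  rw [Groth.Agent.Helper6.NT.symm' T u1 u0, taq_0_1, (h2 u1).2, z_1_2, tap_1_3, z_1_4, z_1_5, z_1_6] at key
                  exact mul_left_cancel₀ (T.w_pos u1).ne' (by linarith only [key])
                have r_2 : 1 * T.m u0 + -2 * T.m u2 + 1 * T.m u4 = 0 := by
                  have key := Groth.Agent.Helper6.NT.rowfun7 T u0 u1 u2 u3 u4 u5 u6 hinj u2
                  rw [Groth.Agent.Helper6.NT.symm' T u2 u0, taq_0_2, Groth.Agent.Helper6.NT.symm' T u2 u1, z_1_2, (h2 u2).2, z_2_3, tap_2_4, z_2_5, z_2_6] at key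
                  exact mul_left_cancel₀ (T.w_pos u2).ne' (by linarith only [key])
                have r_3 : 1 * T.m u1 + -2 * T.m u3 = 0 := by
                  have key := Groth.Agent.Helper6.NT.rowfun7 T u0 u1 u2 u3 u4 u5 u6 hinj u3
                  rw [Groth.Agent.Helper6.NT.symm' T u3 u0, z_0_3, Groth.Agent.Helper6.NT.symm' T u3 u1, taq_1_3, Groth.Agent.Helper6.NT.symm' T u3 u2, z_2_3, (h2 u3).2, z_3_4, z_3_5, z_3_6] at key
                  exact mul_left_cancel₀ (T.w_pos u3).ne' (by linarith only [key])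
                have r_4 : 1 * T.m u2 + -2 * T.m u4 + 1 * T.m u5 = 0 := by
                  have key := Groth.Agent.Helper6.NT.rowfun7 T u0 u1 u2 u3 u4 u5 u6 hinj u4
                  rw [Groth.Agent.Helper6.NT.symm' T u4 u0, z_0_4, Groth.Agent.Helper6.NT.symm' T u4 u1, z_1_4, Groth.Agent.Helper6.NT.symm' T u4 u2, taq_2_4, Groth.Agent.Helper6.NT.symm' T u4 u3, z_3_4, (h2 u4).2, tap_4_5, z_4_6] at key
                  exact mul_left_cancel₀ (T.w_pos u4).ne' (by linarith only [key])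
                have r_5 : 1 * T.m u4 + -2 * T.m u5 + 2 * T.m u6 = 0 := by
                  have key := Groth.Agent.Helper6.NT.rowfun7 T u0 u1 u2 u3 u4 u5 u6 hinj u5
                  rw [Groth.Agent.Helper6.NT.symm' T u5 u0, z_0_5, Groth.Agent.Helper6.NT.symm' T u5 u1, z_1_5, Groth.Agent.Helper6.NT.symm' T u5 u2, z_2_5, Groth.Agent.Helper6.NT.symm' T u5 u3, z_3_5, Groth.Agent.Helper6.NT.symm' T u5 u4, taq_4_5, (h2 u5).2, tap_5_6] at key
                  exact mul_left_cancel₀ (T.w_pos u5).ne' (by linarith only [key])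
                have r_6 : 1 * T.m u5 + -2 * T.m u6 = 0 := by
                  have key := Groth.Agent.Helper6.NT.rowfun7 T u0 u1 u2 u3 u4 u5 u6 hinj u6
                  rw [Groth.Agent.Helper6.NT.symm' T u6 u0, z_0_6, Groth.Agent.Helper6.NT.symm' T u6 u1, z_1_6, Groth.Agent.Helper6.NT.symm' T u6 u2, z_2_6, Groth.Agent.Helper6.NT.symm' T u6 u3, z_3_6, Groth.Agent.Helper6.NT.symm' T u6 u4, z_4_6, Groth.Agent.Helper6.NT.symm' T u6 u5, taq_5_6, (h2 u6).2] at key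
                  exact mul_left_cancel₀ (T.w_pos u6).ne' (by linarith only [key])
                exfalso
                linarith only [r_0, r_1, r_2, r_3, r_4, r_5, r_6, T.m_pos u0, T.m_pos u1, T.m_pos u2, T.m_pos u3, T.m_pos u4, T.m_pos u5, T.m_pos u6]
              · -- (5,6) Dm
                have hinj := Groth.Agent.Helper6.NT.inj7 u0 u1 u2 u3 u4 u5 u6 hn_1_0 hn_2_0 hn_2_1 hn_3_0 hn_3_1 hn_3_2 hn_4_0 hn_4_1 hn_4_2 hn_4_3 hn_5_0 hn_5_1 hn_5_2 hn_5_3 hn_5_4 hn_6_0 hn_6_1 hn_6_2 hn_6_3 hn_6_4 hn_6_5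
                have r_0 : -2 * T.m u0 + 1 * T.m u1 + 1 * T.m u2 = 0 := by
                  have key := Groth.Agent.Helper6.NT.rowfun7 T u0 u1 u2 u3 u4 u5 u6 hinj u0
                  rw [(h2 u0).2, tap_0_1, tap_0_2, z_0_3, z_0_4, z_0_5, z_0_6] at key
                  exact mul_left_cancel₀ (T.w_pos u0).ne' (by linarith only [key])
                have r_1 : 1 * T.m u0 + -2 * T.m u1 + 1 * T.m u3 = 0 := by
                  have key := Groth.Agent.Helper6.NT.rowfun7 T u0 u1 u2 u3 u4 u5 u6 hinj u1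
                  rw [Groth.Agent.Helper6.NT.symm' T u1 u0, taq_0_1, (h2 u1).2, z_1_2, tap_1_3, z_1_4, z_1_5, z_1_6] at key
                  exact mul_left_cancel₀ (T.w_pos u1).ne' (by linarith only [key])
                have r_2 : 1 * T.m u0 + -2 * T.m u2 + 1 * T.m u4 = 0 := by
                  have key := Groth.Agent.Helper6.NT.rowfun7 T u0 u1 u2 u3 u4 u5 u6 hinj u2
                  rw [Groth.Agent.Helper6.NT.symm' T u2 u0, taq_0_2, Groth.Agent.Helper6.NT.symm' T u2 u1, z_1_2, (h2 u2).2, z_2_3, tap_2_4, z_2_5, z_2_6] at key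
                  exact mul_left_cancel₀ (T.w_pos u2).ne' (by linarith only [key])
                have r_3 : 1 * T.m u1 + -2 * T.m u3 = 0 := by
                  have key := Groth.Agent.Helper6.NT.rowfun7 T u0 u1 u2 u3 u4 u5 u6 hinj u3
                  rw [Groth.Agent.Helper6.NT.symm' T u3 u0, z_0_3, Groth.Agent.Helper6.NT.symm' T u3 u1, taq_1_3, Groth.Agent.Helper6.NT.symm' T u3 u2, z_2_3, (h2 u3).2, z_3_4, z_3_5, z_3_6] at key
                  exact mul_left_cancel₀ (T.w_pos u3).ne' (by linarith only [key])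
                have r_4 : 1 * T.m u2 + -2 * T.m u4 + 1 * T.m u5 = 0 := by
                  have key := Groth.Agent.Helper6.NT.rowfun7 T u0 u1 u2 u3 u4 u5 u6 hinj u4
                  rw [Groth.Agent.Helper6.NT.symm' T u4 u0, z_0_4, Groth.Agent.Helper6.NT.symm' T u4 u1, z_1_4, Groth.Agent.Helper6.NT.symm' T u4 u2, taq_2_4, Groth.Agent.Helper6.NT.symm' T u4 u3, z_3_4, (h2 u4).2, tap_4_5, z_4_6] at key
                  exact mul_left_cancel₀ (T.w_pos u4).ne' (by linarith only [key])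
                have r_5 : 1 * T.m u4 + -2 * T.m u5 + 1 * T.m u6 = 0 := by
                  have key := Groth.Agent.Helper6.NT.rowfun7 T u0 u1 u2 u3 u4 u5 u6 hinj u5
                  rw [Groth.Agent.Helper6.NT.symm' T u5 u0, z_0_5, Groth.Agent.Helper6.NT.symm' T u5 u1, z_1_5, Groth.Agent.Helper6.NT.symm' T u5 u2, z_2_5, Groth.Agent.Helper6.NT.symm' T u5 u3, z_3_5, Groth.Agent.Helper6.NT.symm' T u5 u4, taq_4_5, (h2 u5).2, tap_5_6] at key
                  exact mul_left_cancel₀ (T.w_pos u5).ne' (by linarith only [key])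
                have r_6 : 2 * T.m u5 + -2 * T.m u6 = 0 := by
                  have key := Groth.Agent.Helper6.NT.rowfun7 T u0 u1 u2 u3 u4 u5 u6 hinj u6
                  rw [Groth.Agent.Helper6.NT.symm' T u6 u0, z_0_6, Groth.Agent.Helper6.NT.symm' T u6 u1, z_1_6, Groth.Agent.Helper6.NT.symm' T u6 u2, z_2_6, Groth.Agent.Helper6.NT.symm' T u6 u3, z_3_6, Groth.Agent.Helper6.NT.symm' T u6 u4, z_4_6, Groth.Agent.Helper6.NT.symm' T u6 u5, taq_5_6, (h2 u6).2] at key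
                  exact mul_left_cancel₀ (T.w_pos u6).ne' (by linarith only [key])
                exfalso
                linarith only [r_0, r_1, r_2, r_3, r_4, r_5, r_6, T.m_pos u0, T.m_pos u1, T.m_pos u2, T.m_pos u3, T.m_pos u4, T.m_pos u5, T.m_pos u6]
              · -- (5,6) Tp
                exfalso
                have key := Groth.Agent.Helper6.NT.negfun3 T h2 u4 u5 u6 (by norm_num) 1 2 1 (by norm_num) (by norm_num)
                linarith only [key, tap_4_5, taq_4_5, z_4_6, tap_5_6, taq_5_6, T.w_pos u4, T.w_pos u5, T.w_pos u6]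
              · -- (5,6) Tm
                exfalso
                have key := Groth.Agent.Helper6.NT.negfun3 T h2 u4 u5 u6 (by norm_num) 1 2 3 (by norm_num) (by norm_num)
                linarith only [key, tap_4_5, taq_4_5, z_4_6, tap_5_6, taq_5_6, T.w_pos u4, T.w_pos u5, T.w_pos u6]
            · push Not at hx
              have cl_5 := hx
              clear hx
              exfalso
              refine Groth.Agent.Helper6.NT.closed_contra T [u0, u1, u2, u3, u4, u5] (by simp) (by simp) ?_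
              intro i hi j hj
              simp only [List.mem_cons, List.not_mem_nil, or_false, not_or] at hi hj
              rcases hi with rfl | rfl | rfl | rfl | rfl | rfl
              · exact cl_0 j ⟨hj.1, hj.2.1, hj.2.2.1⟩
              · exact cl_1 j ⟨hj.1, hj.2.1, hj.2.2.1, hj.2.2.2.1⟩
              · exact cl_2 j ⟨hj.1, hj.2.1, hj.2.2.1, hj.2.2.2.1, hj.2.2.2.2.1⟩
              · exact cl_3 j ⟨hj.1, hj.2.1, hj.2.2.1, hj.2.2.2.1, hj.2.2.2.2.1⟩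
              · exact cl_4 j ⟨hj.1, hj.2.1, hj.2.2.1, hj.2.2.2.1, hj.2.2.2.2.1, hj.2.2.2.2.2⟩
              · exact cl_5 j ⟨hj.1, hj.2.1, hj.2.2.1, hj.2.2.2.1, hj.2.2.2.2.1, hj.2.2.2.2.2⟩
        · -- (4,5) Dp
          by_cases hx : ∃ j, (j ≠ u0 ∧ j ≠ u1 ∧ j ≠ u2 ∧ j ≠ u3 ∧ j ≠ u4 ∧ j ≠ u5) ∧ T.a u4 j ≠ 0
          · obtain ⟨u6, ⟨hn_6_0, hn_6_1, hn_6_2, hn_6_3, hn_6_4, hn_6_5⟩, e_4_6⟩ := hx
            have z_0_6 : T.a u0 u6 = 0 := cl_0 u6 ⟨hn_6_0, hn_6_1, hn_6_2⟩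
            have z_1_6 : T.a u1 u6 = 0 := cl_1 u6 ⟨hn_6_0, hn_6_1, hn_6_2, hn_6_3⟩
            have z_2_6 : T.a u2 u6 = 0 := cl_2 u6 ⟨hn_6_0, hn_6_1, hn_6_2, hn_6_3, hn_6_4⟩
            have z_3_6 : T.a u3 u6 = 0 := cl_3 u6 ⟨hn_6_0, hn_6_1, hn_6_2, hn_6_3, hn_6_4⟩
            rcases Groth.Agent.Helper6.NT.edge5 T h2 (by norm_num) u4 u6 hn_6_4.symm e_4_6 with ⟨tw_4_6, tap_4_6, taq_4_6⟩ | ⟨tw_4_6, tap_4_6, taq_4_6⟩ | ⟨tw_4_6, tap_4_6, taq_4_6⟩ | ⟨tw_4_6, tap_4_6, taq_4_6⟩ | ⟨tw_4_6, tap_4_6, taq_4_6⟩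
            · -- (4,6) S
              exfalso
              have key := Groth.Agent.Helper6.NT.negfun4 T h2 u2 u4 u5 u6 (by norm_num) 1 2 1 1 (by norm_num) (by norm_num)
              linarith only [key, tap_2_4, taq_2_4, z_2_5, z_2_6, tap_4_5, taq_4_5, tap_4_6, taq_4_6, T.offDiag_nonneg u5 u6 hn_6_5.symm, T.w_pos u2, T.w_pos u4, T.w_pos u5, T.w_pos u6]
            · -- (4,6) Dp
              exfalso
              have key := Groth.Agent.Helper6.NT.negfun3 T h2 u4 u5 u6 (by norm_num) 2 1 1 (by norm_num) (by norm_num)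
              linarith only [key, tap_4_5, taq_4_5, tap_4_6, taq_4_6, T.offDiag_nonneg u5 u6 hn_6_5.symm, T.w_pos u4, T.w_pos u5, T.w_pos u6]
            · -- (4,6) Dm
              exfalso
              have key := Groth.Agent.Helper6.NT.negfun3 T h2 u4 u5 u6 (by norm_num) 2 1 2 (by norm_num) (by norm_num)
              linarith only [key, tap_4_5, taq_4_5, tap_4_6, taq_4_6, T.offDiag_nonneg u5 u6 hn_6_5.symm, T.w_pos u4, T.w_pos u5, T.w_pos u6]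
            · -- (4,6) Tp
              exfalso
              have key := Groth.Agent.Helper6.NT.negfun3 T h2 u4 u5 u6 (by norm_num) 2 1 1 (by norm_num) (by norm_num)
              linarith only [key, tap_4_5, taq_4_5, tap_4_6, taq_4_6, T.offDiag_nonneg u5 u6 hn_6_5.symm, T.w_pos u4, T.w_pos u5, T.w_pos u6]
            · -- (4,6) Tm
              exfalso
              have key := Groth.Agent.Helper6.NT.negfun3 T h2 u4 u5 u6 (by norm_num) 2 1 3 (by norm_num) (by norm_num)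
              linarith only [key, tap_4_5, taq_4_5, tap_4_6, taq_4_6, T.offDiag_nonneg u5 u6 hn_6_5.symm, T.w_pos u4, T.w_pos u5, T.w_pos u6]
          · push Not at hx
            have cl_4 := hx
            clear hx
            by_cases hx : ∃ j, (j ≠ u0 ∧ j ≠ u1 ∧ j ≠ u2 ∧ j ≠ u3 ∧ j ≠ u4 ∧ j ≠ u5) ∧ T.a u5 j ≠ 0
            · obtain ⟨u6, ⟨hn_6_0, hn_6_1, hn_6_2, hn_6_3, hn_6_4, hn_6_5⟩, e_5_6⟩ := hx
              have z_0_6 : T.a u0 u6 = 0 := cl_0 u6 ⟨hn_6_0, hn_6_1, hn_6_2⟩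
              have z_1_6 : T.a u1 u6 = 0 := cl_1 u6 ⟨hn_6_0, hn_6_1, hn_6_2, hn_6_3⟩
              have z_2_6 : T.a u2 u6 = 0 := cl_2 u6 ⟨hn_6_0, hn_6_1, hn_6_2, hn_6_3, hn_6_4⟩
              have z_3_6 : T.a u3 u6 = 0 := cl_3 u6 ⟨hn_6_0, hn_6_1, hn_6_2, hn_6_3, hn_6_4⟩
              have z_4_6 : T.a u4 u6 = 0 := cl_4 u6 ⟨hn_6_0, hn_6_1, hn_6_2, hn_6_3, hn_6_4, hn_6_5⟩
              rcases Groth.Agent.Helper6.NT.edge5 T h2 (by norm_num) u5 u6 hn_6_5.symm e_5_6 with ⟨tw_5_6, tap_5_6, taq_5_6⟩ | ⟨tw_5_6, tap_5_6, taq_5_6⟩ | ⟨tw_5_6, tap_5_6, taq_5_6⟩ | ⟨tw_5_6, tap_5_6, taq_5_6⟩ | ⟨tw_5_6, tap_5_6, taq_5_6⟩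
              · -- (5,6) S
                exfalso
                have key := Groth.Agent.Helper6.NT.negfun5 T h2 u0 u2 u4 u5 u6 (by norm_num) 1 2 3 2 1 (by norm_num) (by norm_num)
                linarith only [key, tap_0_2, taq_0_2, z_0_4, z_0_5, z_0_6, tap_2_4, taq_2_4, z_2_5, z_2_6, tap_4_5, taq_4_5, z_4_6, tap_5_6, taq_5_6, T.w_pos u0, T.w_pos u2, T.w_pos u4, T.w_pos u5, T.w_pos u6]
              · -- (5,6) Dp
                exfalso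
                have key := Groth.Agent.Helper6.NT.negfun3 T h2 u4 u5 u6 (by norm_num) 2 2 1 (by norm_num) (by norm_num)
                linarith only [key, tap_4_5, taq_4_5, z_4_6, tap_5_6, taq_5_6, T.w_pos u4, T.w_pos u5, T.w_pos u6]
              · -- (5,6) Dm
                exfalso
                have key := Groth.Agent.Helper6.NT.negfun3 T h2 u4 u5 u6 (by norm_num) 1 1 1 (by norm_num) (by norm_num)
                linarith only [key, tap_4_5, taq_4_5, z_4_6, tap_5_6, taq_5_6, T.w_pos u4, T.w_pos u5, T.w_pos u6]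
              · -- (5,6) Tp
                exfalso
                have key := Groth.Agent.Helper6.NT.negfun3 T h2 u4 u5 u6 (by norm_num) 2 2 1 (by norm_num) (by norm_num)
                linarith only [key, tap_4_5, taq_4_5, z_4_6, tap_5_6, taq_5_6, T.w_pos u4, T.w_pos u5, T.w_pos u6]
              · -- (5,6) Tm
                exfalso
                have key := Groth.Agent.Helper6.NT.negfun3 T h2 u4 u5 u6 (by norm_num) 2 2 3 (by norm_num) (by norm_num)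
                linarith only [key, tap_4_5, taq_4_5, z_4_6, tap_5_6, taq_5_6, T.w_pos u4, T.w_pos u5, T.w_pos u6]
            · push Not at hx
              have cl_5 := hx
              clear hx
              exfalso
              refine Groth.Agent.Helper6.NT.closed_contra T [u0, u1, u2, u3, u4, u5] (by simp) (by simp) ?_
              intro i hi j hj
              simp only [List.mem_cons, List.not_mem_nil, or_false, not_or] at hi hj
              rcases hi with rfl | rfl | rfl | rfl | rfl | rfl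
              · exact cl_0 j ⟨hj.1, hj.2.1, hj.2.2.1⟩
              · exact cl_1 j ⟨hj.1, hj.2.1, hj.2.2.1, hj.2.2.2.1⟩
              · exact cl_2 j ⟨hj.1, hj.2.1, hj.2.2.1, hj.2.2.2.1, hj.2.2.2.2.1⟩
              · exact cl_3 j ⟨hj.1, hj.2.1, hj.2.2.1, hj.2.2.2.1, hj.2.2.2.2.1⟩
              · exact cl_4 j ⟨hj.1, hj.2.1, hj.2.2.1, hj.2.2.2.1, hj.2.2.2.2.1, hj.2.2.2.2.2⟩
              · exact cl_5 j ⟨hj.1, hj.2.1, hj.2.2.1, hj.2.2.2.1, hj.2.2.2.2.1, hj.2.2.2.2.2⟩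
        · -- (4,5) Dm
          by_cases hx : ∃ j, (j ≠ u0 ∧ j ≠ u1 ∧ j ≠ u2 ∧ j ≠ u3 ∧ j ≠ u4 ∧ j ≠ u5) ∧ T.a u4 j ≠ 0
          · obtain ⟨u6, ⟨hn_6_0, hn_6_1, hn_6_2, hn_6_3, hn_6_4, hn_6_5⟩, e_4_6⟩ := hx
            have z_0_6 : T.a u0 u6 = 0 := cl_0 u6 ⟨hn_6_0, hn_6_1, hn_6_2⟩
            have z_1_6 : T.a u1 u6 = 0 := cl_1 u6 ⟨hn_6_0, hn_6_1, hn_6_2, hn_6_3⟩
            have z_2_6 : T.a u2 u6 = 0 := cl_2 u6 ⟨hn_6_0, hn_6_1, hn_6_2, hn_6_3, hn_6_4⟩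
            have z_3_6 : T.a u3 u6 = 0 := cl_3 u6 ⟨hn_6_0, hn_6_1, hn_6_2, hn_6_3, hn_6_4⟩
            rcases Groth.Agent.Helper6.NT.edge5 T h2 (by norm_num) u4 u6 hn_6_4.symm e_4_6 with ⟨tw_4_6, tap_4_6, taq_4_6⟩ | ⟨tw_4_6, tap_4_6, taq_4_6⟩ | ⟨tw_4_6, tap_4_6, taq_4_6⟩ | ⟨tw_4_6, tap_4_6, taq_4_6⟩ | ⟨tw_4_6, tap_4_6, taq_4_6⟩
            · -- (4,6) S
              exfalso
              have key := Groth.Agent.Helper6.NT.negfun4 T h2 u2 u4 u5 u6 (by norm_num) 1 2 2 1 (by norm_num) (by norm_num)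
              linarith only [key, tap_2_4, taq_2_4, z_2_5, z_2_6, tap_4_5, taq_4_5, tap_4_6, taq_4_6, T.offDiag_nonneg u5 u6 hn_6_5.symm, T.w_pos u2, T.w_pos u4, T.w_pos u5, T.w_pos u6]
            · -- (4,6) Dp
              exfalso
              have key := Groth.Agent.Helper6.NT.negfun3 T h2 u4 u5 u6 (by norm_num) 2 2 1 (by norm_num) (by norm_num)
              linarith only [key, tap_4_5, taq_4_5, tap_4_6, taq_4_6, T.offDiag_nonneg u5 u6 hn_6_5.symm, T.w_pos u4, T.w_pos u5, T.w_pos u6]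
            · -- (4,6) Dm
              exfalso
              have key := Groth.Agent.Helper6.NT.negfun3 T h2 u4 u5 u6 (by norm_num) 1 1 1 (by norm_num) (by norm_num)
              linarith only [key, tap_4_5, taq_4_5, tap_4_6, taq_4_6, T.offDiag_nonneg u5 u6 hn_6_5.symm, T.w_pos u4, T.w_pos u5, T.w_pos u6]
            · -- (4,6) Tp
              exfalso
              have key := Groth.Agent.Helper6.NT.negfun3 T h2 u4 u5 u6 (by norm_num) 2 2 1 (by norm_num) (by norm_num)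
              linarith only [key, tap_4_5, taq_4_5, tap_4_6, taq_4_6, T.offDiag_nonneg u5 u6 hn_6_5.symm, T.w_pos u4, T.w_pos u5, T.w_pos u6]
            · -- (4,6) Tm
              exfalso
              have key := Groth.Agent.Helper6.NT.negfun3 T h2 u4 u5 u6 (by norm_num) 2 2 3 (by norm_num) (by norm_num)
              linarith only [key, tap_4_5, taq_4_5, tap_4_6, taq_4_6, T.offDiag_nonneg u5 u6 hn_6_5.symm, T.w_pos u4, T.w_pos u5, T.w_pos u6]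
          · push Not at hx
            have cl_4 := hx
            clear hx
            by_cases hx : ∃ j, (j ≠ u0 ∧ j ≠ u1 ∧ j ≠ u2 ∧ j ≠ u3 ∧ j ≠ u4 ∧ j ≠ u5) ∧ T.a u5 j ≠ 0
            · obtain ⟨u6, ⟨hn_6_0, hn_6_1, hn_6_2, hn_6_3, hn_6_4, hn_6_5⟩, e_5_6⟩ := hx
              have z_0_6 : T.a u0 u6 = 0 := cl_0 u6 ⟨hn_6_0, hn_6_1, hn_6_2⟩
              have z_1_6 : T.a u1 u6 = 0 := cl_1 u6 ⟨hn_6_0, hn_6_1, hn_6_2, hn_6_3⟩
              have z_2_6 : T.a u2 u6 = 0 := cl_2 u6 ⟨hn_6_0, hn_6_1, hn_6_2, hn_6_3, hn_6_4⟩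
              have z_3_6 : T.a u3 u6 = 0 := cl_3 u6 ⟨hn_6_0, hn_6_1, hn_6_2, hn_6_3, hn_6_4⟩
              have z_4_6 : T.a u4 u6 = 0 := cl_4 u6 ⟨hn_6_0, hn_6_1, hn_6_2, hn_6_3, hn_6_4, hn_6_5⟩
              rcases Groth.Agent.Helper6.NT.edge5 T h2 (by norm_num) u5 u6 hn_6_5.symm e_5_6 with ⟨tw_5_6, tap_5_6, taq_5_6⟩ | ⟨tw_5_6, tap_5_6, taq_5_6⟩ | ⟨tw_5_6, tap_5_6, taq_5_6⟩ | ⟨tw_5_6, tap_5_6, taq_5_6⟩ | ⟨tw_5_6, tap_5_6, taq_5_6⟩
              · -- (5,6) S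
                exfalso
                have key := Groth.Agent.Helper6.NT.negfun5 T h2 u0 u2 u4 u5 u6 (by norm_num) 1 2 3 4 2 (by norm_num) (by norm_num)
                linarith only [key, tap_0_2, taq_0_2, z_0_4, z_0_5, z_0_6, tap_2_4, taq_2_4, z_2_5, z_2_6, tap_4_5, taq_4_5, z_4_6, tap_5_6, taq_5_6, T.w_pos u0, T.w_pos u2, T.w_pos u4, T.w_pos u5, T.w_pos u6]
              · -- (5,6) Dp
                exfalso
                have key := Groth.Agent.Helper6.NT.negfun3 T h2 u4 u5 u6 (by norm_num) 1 2 1 (by norm_num) (by norm_num)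
                linarith only [key, tap_4_5, taq_4_5, z_4_6, tap_5_6, taq_5_6, T.w_pos u4, T.w_pos u5, T.w_pos u6]
              · -- (5,6) Dm
                exfalso
                have key := Groth.Agent.Helper6.NT.negfun3 T h2 u4 u5 u6 (by norm_num) 1 2 2 (by norm_num) (by norm_num)
                linarith only [key, tap_4_5, taq_4_5, z_4_6, tap_5_6, taq_5_6, T.w_pos u4, T.w_pos u5, T.w_pos u6]
              · -- (5,6) Tp
                exfalso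
                have key := Groth.Agent.Helper6.NT.negfun3 T h2 u4 u5 u6 (by norm_num) 1 2 1 (by norm_num) (by norm_num)
                linarith only [key, tap_4_5, taq_4_5, z_4_6, tap_5_6, taq_5_6, T.w_pos u4, T.w_pos u5, T.w_pos u6]
              · -- (5,6) Tm
                exfalso
                have key := Groth.Agent.Helper6.NT.negfun3 T h2 u4 u5 u6 (by norm_num) 1 2 3 (by norm_num) (by norm_num)
                linarith only [key, tap_4_5, taq_4_5, z_4_6, tap_5_6, taq_5_6, T.w_pos u4, T.w_pos u5, T.w_pos u6]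
            · push Not at hx
              have cl_5 := hx
              clear hx
              exfalso
              refine Groth.Agent.Helper6.NT.closed_contra T [u0, u1, u2, u3, u4, u5] (by simp) (by simp) ?_
              intro i hi j hj
              simp only [List.mem_cons, List.not_mem_nil, or_false, not_or] at hi hj
              rcases hi with rfl | rfl | rfl | rfl | rfl | rfl
              · exact cl_0 j ⟨hj.1, hj.2.1, hj.2.2.1⟩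
              · exact cl_1 j ⟨hj.1, hj.2.1, hj.2.2.1, hj.2.2.2.1⟩
              · exact cl_2 j ⟨hj.1, hj.2.1, hj.2.2.1, hj.2.2.2.1, hj.2.2.2.2.1⟩
              · exact cl_3 j ⟨hj.1, hj.2.1, hj.2.2.1, hj.2.2.2.1, hj.2.2.2.2.1⟩
              · exact cl_4 j ⟨hj.1, hj.2.1, hj.2.2.1, hj.2.2.2.1, hj.2.2.2.2.1, hj.2.2.2.2.2⟩
              · exact cl_5 j ⟨hj.1, hj.2.1, hj.2.2.1, hj.2.2.2.1, hj.2.2.2.2.1, hj.2.2.2.2.2⟩
        · -- (4,5) Tp
          exfalso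
          have key := Groth.Agent.Helper6.NT.negfun3 T h2 u2 u4 u5 (by norm_num) 1 2 1 (by norm_num) (by norm_num)
          linarith only [key, tap_2_4, taq_2_4, z_2_5, tap_4_5, taq_4_5, T.w_pos u2, T.w_pos u4, T.w_pos u5]
        · -- (4,5) Tm
          exfalso
          have key := Groth.Agent.Helper6.NT.negfun3 T h2 u2 u4 u5 (by norm_num) 1 2 3 (by norm_num) (by norm_num)
          linarith only [key, tap_2_4, taq_2_4, z_2_5, tap_4_5, taq_4_5, T.w_pos u2, T.w_pos u4, T.w_pos u5]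
      · push Not at hx
        have cl_4 := hx
        clear hx
        exfalso
        refine Groth.Agent.Helper6.NT.closed_contra T [u0, u1, u2, u3, u4] (by simp) (by simp) ?_
        intro i hi j hj
        simp only [List.mem_cons, List.not_mem_nil, or_false, not_or] at hi hj
        rcases hi with rfl | rfl | rfl | rfl | rfl
        · exact cl_0 j ⟨hj.1, hj.2.1, hj.2.2.1⟩
        · exact cl_1 j ⟨hj.1, hj.2.1, hj.2.2.1, hj.2.2.2.1⟩
        · exact cl_2 j ⟨hj.1, hj.2.1, hj.2.2.1, hj.2.2.2.1, hj.2.2.2.2⟩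
        · exact cl_3 j ⟨hj.1, hj.2.1, hj.2.2.1, hj.2.2.2.1, hj.2.2.2.2⟩
        · exact cl_4 j ⟨hj.1, hj.2.1, hj.2.2.1, hj.2.2.2.1, hj.2.2.2.2⟩

theorem cut7_7 (T : Models.NumericalType 7) (h2 : ∀ i, T.IsMinusTwo i) (u0 u1 u2 u3 u4 : Fin 7)
    (hn_1_0 : u1 ≠ u0)
    (e_0_1 : T.a u0 u1 ≠ 0)
    (tw_0_1 : T.w u1 = T.w u0)
    (tap_0_1 : T.a u0 u1 = T.w u0)
    (taq_0_1 : T.a u0 u1 = T.w u1)
    (hn_2_0 : u2 ≠ u0)
    (hn_2_1 : u2 ≠ u1)
    (e_0_2 : T.a u0 u2 ≠ 0)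
    (tw_0_2 : T.w u2 = T.w u0)
    (tap_0_2 : T.a u0 u2 = T.w u0)
    (taq_0_2 : T.a u0 u2 = T.w u2)
    (z_1_2 : T.a u1 u2 = 0)
    (cl_0 : ∀ j : Fin 7, (j ≠ u0 ∧ j ≠ u1 ∧ j ≠ u2) → T.a u0 j = 0)
    (hn_3_0 : u3 ≠ u0)
    (hn_3_1 : u3 ≠ u1)
    (hn_3_2 : u3 ≠ u2)
    (e_1_3 : T.a u1 u3 ≠ 0)
    (z_0_3 : T.a u0 u3 = 0)
    (tw_1_3 : T.w u3 = T.w u1)
    (tap_1_3 : T.a u1 u3 = T.w u1)
    (taq_1_3 : T.a u1 u3 = T.w u3)
    (z_2_3 : T.a u2 u3 = 0)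
    (cl_1 : ∀ j : Fin 7, (j ≠ u0 ∧ j ≠ u1 ∧ j ≠ u2 ∧ j ≠ u3) → T.a u1 j = 0)
    (hn_4_0 : u4 ≠ u0)
    (hn_4_1 : u4 ≠ u1)
    (hn_4_2 : u4 ≠ u2)
    (hn_4_3 : u4 ≠ u3)
    (e_2_4 : T.a u2 u4 ≠ 0)
    (z_0_4 : T.a u0 u4 = 0)
    (z_1_4 : T.a u1 u4 = 0)
    (tw_2_4 : T.w u4 = 2 * T.w u2)
    (tap_2_4 : T.a u2 u4 = 2 * T.w u2)
    (taq_2_4 : T.a u2 u4 = T.w u4)
    (z_3_4 : T.a u3 u4 = 0) :
    ∃ (σ : Equiv.Perm (Fin 7)) (m w : ℤ), ((T.m (σ 0) = m ∧ T.m (σ 1) = m ∧ T.m (σ 2) = m ∧ T.m (σ 3) = m ∧ T.m (σ 4) = m ∧ T.m (σ 5) = m ∧ T.m (σ 6) = m ∧ T.w (σ 0) = w ∧ T.w (σ 1) = w ∧ T.w (σ 2) = w ∧ T.w (σ 3) = w ∧ T.w (σ 4) = w ∧ T.w (σ 5) = w ∧ T.w (σ 6) = w ∧ T.a (σ 0) (σ 0) = -2 * w ∧ T.a (σ 0) (σ 1) = w ∧ T.a (σ 0) (σ 2) = 0 ∧ T.a (σ 0) (σ 3) = 0 ∧ T.a (σ 0) (σ 4) = 0 ∧ T.a (σ 0) (σ 5) = 0 ∧ T.a (σ 0) (σ 6) = w ∧ T.a (σ 1) (σ 1) = -2 * w ∧ T.a (σ 1) (σ 2) = w ∧ T.a (σ 1) (σ 3) = 0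 ∧ T.a (σ 1) (σ 4) = 0 ∧ T.a (σ 1) (σ 5) = 0 ∧ T.a (σ 1) (σ 6) = 0 ∧ T.a (σ 2) (σ 2) = -2 * w ∧ T.a (σ 2) (σ 3) = w ∧ T.a (σ 2) (σ 4) = 0 ∧ T.a (σ 2) (σ 5) = 0 ∧ T.a (σ 2) (σ 6) = 0 ∧ T.a (σ 3) (σ 3) = -2 * w ∧ T.a (σ 3) (σ 4) = w ∧ T.a (σ 3) (σ 5) = 0 ∧ T.a (σ 3) (σ 6) = 0 ∧ T.a (σ 4) (σ 4) = -2 * w ∧ T.a (σ 4) (σ 5) = w ∧ T.a (σ 4) (σ 6) = 0 ∧ T.a (σ 5) (σ 5) = -2 * w ∧ T.a (σ 5) (σ 6) = w ∧ T.a (σ 6) (σ 6) = -2 * w) ∨ (T.m (σ 0) = 2 * m ∧ T.m (σ 1) = 2 * m ∧ T.m (σ 2) = 2 * m ∧ T.m (σ 3) = 2 * m ∧ T.m (σ 4) = 2 * m ∧ T.m (σ 5) = 2 * m ∧ T.m (σ 6) = m ∧ T.w (σ 0) = w ∧ T.w (σ 1) = 2 * w ∧ T.w (σ 2) = 2 * w ∧ T.w (σ 3) = 2 * w ∧ T.w (σ 4) = 2 * w ∧ T.w (σ 5) = 2 * w ∧ T.w (σ 6) = 4 * w ∧ T.a (σ 0) (σ 0) = -2 * w ∧ T.a (σ 0) (σ 1) = 2 * w ∧ T.a (σ 0) (σ 2) = 0 ∧ T.a (σ 0) (σ 3) = 0 ∧ T.a (σ 0) (σ 4) = 0 ∧ T.a (σ 0) (σ 5) = 0 ∧ T.a (σ 0) (σ 6) = 0 ∧ T.a (σ 1) (σ 1) = -4 * w ∧ T.a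 (σ 1) (σ 2) = 2 * w ∧ T.a (σ 1) (σ 3) = 0 ∧ T.a (σ 1) (σ 4) = 0 ∧ T.a (σ 1) (σ 5) = 0 ∧ T.a (σ 1) (σ 6) = 0 ∧ T.a (σ 2) (σ 2) = -4 * w ∧ T.a (σ 2) (σ 3) = 2 * w ∧ T.a (σ 2) (σ 4) = 0 ∧ T.a (σ 2) (σ 5) = 0 ∧ T.a (σ 2) (σ 6) = 0 ∧ T.a (σ 3) (σ 3) = -4 * w ∧ T.a (σ 3) (σ 4) = 2 * w ∧ T.a (σ 3) (σ 5) = 0 ∧ T.a (σ 3) (σ 6) = 0 ∧ T.a (σ 4) (σ 4) = -4 * w ∧ T.a (σ 4) (σ 5) = 2 * w ∧ T.a (σ 4) (σ 6) = 0 ∧ T.a (σ 5) (σ 5) = -4 * w ∧ T.a (σ 5) (σ 6) = 4 * w ∧ T.a (σ 6) (σ 6) = -8 * w) ∨ (T.m (σ 0) = m ∧ T.m (σ 1) = m ∧ T.m (σ 2) = m ∧ T.m (σ 3) = m ∧ T.m (σ 4) = m ∧ T.m (σ 5) = m ∧ T.m (σ 6) = m ∧ T.w (σ 0) = w ∧ T.w (σ 1) = 2 * w ∧ T.w (σ 2) = 2 * w ∧ T.w (σ 3) = 2 * w ∧ T.w (σ 4) = 2 * w ∧ T.w (σ 5) = 2 * w ∧ T.w (σ 6) = w ∧ T.a (σ 0) (σ 0) = -2 * w ∧ T.a (σ 0) (σ 1) = 2 * w ∧ T.a (σ 0) (σ 2) = 0 ∧ T.a (σ 0) (σ 3) = 0 ∧ T.a (σ 0) (σ 4) = 0 ∧ T.a (σ 0) (σ 5) = 0 ∧ T.a (σ 0) (σ 6) = 0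 ∧ T.a (σ 1) (σ 1) = -4 * w ∧ T.a (σ 1) (σ 2) = 2 * w ∧ T.a (σ 1) (σ 3) = 0 ∧ T.a (σ 1) (σ 4) = 0 ∧ T.a (σ 1) (σ 5) = 0 ∧ T.a (σ 1) (σ 6) = 0 ∧ T.a (σ 2) (σ 2) = -4 * w ∧ T.a (σ 2) (σ 3) = 2 * w ∧ T.a (σ 2) (σ 4) = 0 ∧ T.a (σ 2) (σ 5) = 0 ∧ T.a (σ 2) (σ 6) = 0 ∧ T.a (σ 3) (σ 3) = -4 * w ∧ T.a (σ 3) (σ 4) = 2 * w ∧ T.a (σ 3) (σ 5) = 0 ∧ T.a (σ 3) (σ 6) = 0 ∧ T.a (σ 4) (σ 4) = -4 * w ∧ T.a (σ 4) (σ 5) = 2 * w ∧ T.a (σ 4) (σ 6) = 0 ∧ T.a (σ 5) (σ 5) = -4 * w ∧ T.a (σ 5) (σ 6) = 2 * w ∧ T.a (σ 6) (σ 6) = -2 * w) ∨ (T.m (σ 0) = m ∧ T.m (σ 1) = 2 * m ∧ T.m (σ 2) = 2 * m ∧ T.m (σ 3) = 2 * m ∧ T.m (σ 4) = 2 * m ∧ T.m (σ 5) = 2 * m ∧ T.m (σ 6) = m ∧ T.w (σ 0) = 2 * w ∧ T.w (σ 1) = w ∧ T.w (σ 2) = w ∧ T.w (σ 3) = w ∧ T.w (σ 4) = w ∧ T.w (σ 5) = w ∧ T.w (σ 6) = 2 * w ∧ T.a (σ 0) (σ 0) = -4 * w ∧ T.a (σ 0) (σ 1) = 2 * w ∧ T.a (σ 0) (σ 2) = 0 ∧ T.a (σ 0) (σ 3) = 0 ∧ T.a (σ 0) (σ 4) = 0 ∧ T.a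 (σ 0) (σ 5) = 0 ∧ T.a (σ 0) (σ 6) = 0 ∧ T.a (σ 1) (σ 1) = -2 * w ∧ T.a (σ 1) (σ 2) = w ∧ T.a (σ 1) (σ 3) = 0 ∧ T.a (σ 1) (σ 4) = 0 ∧ T.a (σ 1) (σ 5) = 0 ∧ T.a (σ 1) (σ 6) = 0 ∧ T.a (σ 2) (σ 2) = -2 * w ∧ T.a (σ 2) (σ 3) = w ∧ T.a (σ 2) (σ 4) = 0 ∧ T.a (σ 2) (σ 5) = 0 ∧ T.a (σ 2) (σ 6) = 0 ∧ T.a (σ 3) (σ 3) = -2 * w ∧ T.a (σ 3) (σ 4) = w ∧ T.a (σ 3) (σ 5) = 0 ∧ T.a (σ 3) (σ 6) = 0 ∧ T.a (σ 4) (σ 4) = -2 * w ∧ T.a (σ 4) (σ 5) = w ∧ T.a (σ 4) (σ 6) = 0 ∧ T.a (σ 5) (σ 5) = -2 * w ∧ T.a (σ 5) (σ 6) = 2 * w ∧ T.a (σ 6) (σ 6) = -4 * w) ∨ (T.m (σ 0) = m ∧ T.m (σ 1) = 2 * m ∧ T.m (σ 2) = 2 * m ∧ T.m (σ 3) = 2 * m ∧ T.m (σ 4) = 2 * m ∧ T.m (σ 5) = m ∧ T.m (σ 6) = m ∧ T.w (σ 0) = 2 * w ∧ T.w (σ 1) = w ∧ T.w (σ 2) = w ∧ T.w (σ 3) = w ∧ T.w (σ 4) = w ∧ T.w (σ 5) = w ∧ T.w (σ 6) = w ∧ T.a (σ 0) (σ 0) = -4 * w ∧ T.a (σ 0) (σ 1) = 2 * w ∧ T.a (σ 0) (σ 2) = 0 ∧ T.a (σ 0) (σ 3) = 0 ∧ T.a (σ 0)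 (σ 4) = 0 ∧ T.a (σ 0) (σ 5) = 0 ∧ T.a (σ 0) (σ 6) = 0 ∧ T.a (σ 1) (σ 1) = -2 * w ∧ T.a (σ 1) (σ 2) = w ∧ T.a (σ 1) (σ 3) = 0 ∧ T.a (σ 1) (σ 4) = 0 ∧ T.a (σ 1) (σ 5) = 0 ∧ T.a (σ 1) (σ 6) = 0 ∧ T.a (σ 2) (σ 2) = -2 * w ∧ T.a (σ 2) (σ 3) = w ∧ T.a (σ 2) (σ 4) = 0 ∧ T.a (σ 2) (σ 5) = 0 ∧ T.a (σ 2) (σ 6) = 0 ∧ T.a (σ 3) (σ 3) = -2 * w ∧ T.a (σ 3) (σ 4) = w ∧ T.a (σ 3) (σ 5) = 0 ∧ T.a (σ 3) (σ 6) = 0 ∧ T.a (σ 4) (σ 4) = -2 * w ∧ T.a (σ 4) (σ 5) = w ∧ T.a (σ 4) (σ 6) = w ∧ T.a (σ 5) (σ 5) = -2 * w ∧ T.a (σ 5) (σ 6) = 0 ∧ T.a (σ 6) (σ 6) = -2 * w) ∨ (T.m (σ 0) = 2 * m ∧ T.m (σ 1) = 2 * m ∧ T.m (σ 2) = 2 * m ∧ T.m (σ 3) = 2 * m ∧ T.m (σ 4) = 2 * m ∧ T.m (σ 5) = m ∧ T.m (σ 6) = m ∧ T.w (σ 0) = w ∧ T.w (σ 1) = 2 * w ∧ T.w (σ 2) = 2 * w ∧ T.w (σ 3) = 2 * w ∧ T.w (σ 4) = 2 * w ∧ T.w (σ 5) = 2 * w ∧ T.w (σ 6) = 2 * w ∧ T.a (σ 0) (σ 0) = -2 * w ∧ T.a (σ 0) (σ 1) = 2 * w ∧ T.a (σ 0) (σ 2) =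 0 ∧ T.a (σ 0) (σ 3) = 0 ∧ T.a (σ 0) (σ 4) = 0 ∧ T.a (σ 0) (σ 5) = 0 ∧ T.a (σ 0) (σ 6) = 0 ∧ T.a (σ 1) (σ 1) = -4 * w ∧ T.a (σ 1) (σ 2) = 2 * w ∧ T.a (σ 1) (σ 3) = 0 ∧ T.a (σ 1) (σ 4) = 0 ∧ T.a (σ 1) (σ 5) = 0 ∧ T.a (σ 1) (σ 6) = 0 ∧ T.a (σ 2) (σ 2) = -4 * w ∧ T.a (σ 2) (σ 3) = 2 * w ∧ T.a (σ 2) (σ 4) = 0 ∧ T.a (σ 2) (σ 5) = 0 ∧ T.a (σ 2) (σ 6) = 0 ∧ T.a (σ 3) (σ 3) = -4 * w ∧ T.a (σ 3) (σ 4) = 2 * w ∧ T.a (σ 3) (σ 5) = 0 ∧ T.a (σ 3) (σ 6) = 0 ∧ T.a (σ 4) (σ 4) = -4 * w ∧ T.a (σ 4) (σ 5) = 2 * w ∧ T.a (σ 4) (σ 6) = 2 * w ∧ T.a (σ 5) (σ 5) = -4 * w ∧ T.a (σ 5) (σ 6) = 0 ∧ T.a (σ 6) (σ 6) = -4 * w) ∨ (T.m (σ 0) = m ∧ T.m (σ 1) = m ∧ T.m (σ 2) = 2 * m ∧ T.m (σ 3) = 2 * m ∧ T.m (σ 4) = 2 * m ∧ T.m (σ 5) = m ∧ T.m (σ 6) = m ∧ T.w (σ 0) = w ∧ T.w (σ 1) = w ∧ T.w (σ 2) = w ∧ T.w (σ 3) = w ∧ T.w (σ 4) = w ∧ T.w (σ 5) = w ∧ T.w (σ 6) = w ∧ T.a (σ 0) (σ 0) = -2 * w ∧ T.a (σ 0) (σ 1) = 0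 ∧ T.a (σ 0) (σ 2) = w ∧ T.a (σ 0) (σ 3) = 0 ∧ T.a (σ 0) (σ 4) = 0 ∧ T.a (σ 0) (σ 5) = 0 ∧ T.a (σ 0) (σ 6) = 0 ∧ T.a (σ 1) (σ 1) = -2 * w ∧ T.a (σ 1) (σ 2) = w ∧ T.a (σ 1) (σ 3) = 0 ∧ T.a (σ 1) (σ 4) = 0 ∧ T.a (σ 1) (σ 5) = 0 ∧ T.a (σ 1) (σ 6) = 0 ∧ T.a (σ 2) (σ 2) = -2 * w ∧ T.a (σ 2) (σ 3) = w ∧ T.a (σ 2) (σ 4) = 0 ∧ T.a (σ 2) (σ 5) = 0 ∧ T.a (σ 2) (σ 6) = 0 ∧ T.a (σ 3) (σ 3) = -2 * w ∧ T.a (σ 3) (σ 4) = w ∧ T.a (σ 3) (σ 5) = 0 ∧ T.a (σ 3) (σ 6) = 0 ∧ T.a (σ 4) (σ 4) = -2 * w ∧ T.a (σ 4) (σ 5) = w ∧ T.a (σ 4) (σ 6) = w ∧ T.a (σ 5) (σ 5) = -2 * w ∧ T.a (σ 5) (σ 6) = 0 ∧ T.a (σ 6) (σ 6) = -2 * w) ∨ (T.m (σ 0) = m ∧ T.m (σ 1) = 2 * m ∧ T.m (σ 2) = 3 * m ∧ T.m (σ 3) = m ∧ T.m (σ 4) = 2 * m ∧ T.m (σ 5) = m ∧ T.m (σ 6) = 2 * m ∧ T.w (σ 0) = w ∧ T.w (σ 1) = w ∧ T.w (σ 2) = w ∧ T.w (σ 3) = w ∧ T.w (σ 4) = w ∧ T.w (σ 5) = w ∧ T.w (σ 6) = w ∧ T.a (σ 0) (σ 0) = -2 * w ∧ T.a (σ 0) (σ 1)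 = w ∧ T.a (σ 0) (σ 2) = 0 ∧ T.a (σ 0) (σ 3) = 0 ∧ T.a (σ 0) (σ 4) = 0 ∧ T.a (σ 0) (σ 5) = 0 ∧ T.a (σ 0) (σ 6) = 0 ∧ T.a (σ 1) (σ 1) = -2 * w ∧ T.a (σ 1) (σ 2) = w ∧ T.a (σ 1) (σ 3) = 0 ∧ T.a (σ 1) (σ 4) = 0 ∧ T.a (σ 1) (σ 5) = 0 ∧ T.a (σ 1) (σ 6) = 0 ∧ T.a (σ 2) (σ 2) = -2 * w ∧ T.a (σ 2) (σ 3) = 0 ∧ T.a (σ 2) (σ 4) = w ∧ T.a (σ 2) (σ 5) = 0 ∧ T.a (σ 2) (σ 6) = w ∧ T.a (σ 3) (σ 3) = -2 * w ∧ T.a (σ 3) (σ 4) = w ∧ T.a (σ 3) (σ 5) = 0 ∧ T.a (σ 3) (σ 6) = 0 ∧ T.a (σ 4) (σ 4) = -2 * w ∧ T.a (σ 4) (σ 5) = 0 ∧ T.a (σ 4) (σ 6) = 0 ∧ T.a (σ 5) (σ 5) = -2 * w ∧ T.a (σ 5) (σ 6) = w ∧ T.a (σ 6) (σ 6) = -2 * w)) := by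
  by_cases hx : ∃ j, (j ≠ u0 ∧ j ≠ u1 ∧ j ≠ u2 ∧ j ≠ u3 ∧ j ≠ u4) ∧ T.a u2 j ≠ 0
  · obtain ⟨u5, ⟨hn_5_0, hn_5_1, hn_5_2, hn_5_3, hn_5_4⟩, e_2_5⟩ := hx
    have z_0_5 : T.a u0 u5 = 0 := cl_0 u5 ⟨hn_5_0, hn_5_1, hn_5_2⟩
    have z_1_5 : T.a u1 u5 = 0 := cl_1 u5 ⟨hn_5_0, hn_5_1, hn_5_2, hn_5_3⟩
    rcases Groth.Agent.Helper6.NT.edge5 T h2 (by norm_num) u2 u5 hn_5_2.symm e_2_5 with ⟨tw_2_5, tap_2_5, taq_2_5⟩ | ⟨tw_2_5, tap_2_5, taq_2_5⟩ | ⟨tw_2_5, tap_2_5, taq_2_5⟩ | ⟨tw_2_5, tap_2_5, taq_2_5⟩ | ⟨tw_2_5, tap_2_5, taq_2_5⟩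
    · -- (2,5) S
      exfalso
      have key := Groth.Agent.Helper6.NT.negfun4 T h2 u0 u2 u4 u5 (by norm_num) 1 2 1 1 (by norm_num) (by norm_num)
      linarith only [key, tap_0_2, taq_0_2, z_0_4, z_0_5, tap_2_4, taq_2_4, tap_2_5, taq_2_5, T.offDiag_nonneg u4 u5 hn_5_4.symm, T.w_pos u0, T.w_pos u2, T.w_pos u4, T.w_pos u5]
    · -- (2,5) Dp
      exfalso
      have key := Groth.Agent.Helper6.NT.negfun3 T h2 u2 u4 u5 (by norm_num) 2 1 1 (by norm_num) (by norm_num)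
      linarith only [key, tap_2_4, taq_2_4, tap_2_5, taq_2_5, T.offDiag_nonneg u4 u5 hn_5_4.symm, T.w_pos u2, T.w_pos u4, T.w_pos u5]
    · -- (2,5) Dm
      exfalso
      have key := Groth.Agent.Helper6.NT.negfun3 T h2 u2 u4 u5 (by norm_num) 2 1 2 (by norm_num) (by norm_num)
      linarith only [key, tap_2_4, taq_2_4, tap_2_5, taq_2_5, T.offDiag_nonneg u4 u5 hn_5_4.symm, T.w_pos u2, T.w_pos u4, T.w_pos u5]
    · -- (2,5) Tp
      exfalso
      have key := Groth.Agent.Helper6.NT.negfun3 T h2 u2 u4 u5 (by norm_num) 2 1 1 (by norm_num) (by norm_num)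
      linarith only [key, tap_2_4, taq_2_4, tap_2_5, taq_2_5, T.offDiag_nonneg u4 u5 hn_5_4.symm, T.w_pos u2, T.w_pos u4, T.w_pos u5]
    · -- (2,5) Tm
      exfalso
      have key := Groth.Agent.Helper6.NT.negfun3 T h2 u2 u4 u5 (by norm_num) 2 1 3 (by norm_num) (by norm_num)
      linarith only [key, tap_2_4, taq_2_4, tap_2_5, taq_2_5, T.offDiag_nonneg u4 u5 hn_5_4.symm, T.w_pos u2, T.w_pos u4, T.w_pos u5]
  · push Not at hx
    have cl_2 := hx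
    clear hx
    by_cases hx : ∃ j, (j ≠ u0 ∧ j ≠ u1 ∧ j ≠ u2 ∧ j ≠ u3 ∧ j ≠ u4) ∧ T.a u3 j ≠ 0
    · obtain ⟨u5, ⟨hn_5_0, hn_5_1, hn_5_2, hn_5_3, hn_5_4⟩, e_3_5⟩ := hx
      have z_0_5 : T.a u0 u5 = 0 := cl_0 u5 ⟨hn_5_0, hn_5_1, hn_5_2⟩
      have z_1_5 : T.a u1 u5 = 0 := cl_1 u5 ⟨hn_5_0, hn_5_1, hn_5_2, hn_5_3⟩
      have z_2_5 : T.a u2 u5 = 0 := cl_2 u5 ⟨hn_5_0, hn_5_1, hn_5_2, hn_5_3, hn_5_4⟩
      rcases Groth.Agent.Helper6.NT.edge5 T h2 (by norm_num) u3 u5 hn_5_3.symm e_3_5 with ⟨tw_3_5, tap_3_5, taq_3_5⟩ | ⟨tw_3_5, tap_3_5, taq_3_5⟩ | ⟨tw_3_5, tap_3_5, taq_3_5⟩ | ⟨tw_3_5, tap_3_5, taq_3_5⟩ | ⟨tw_3_5, tap_3_5, taq_3_5⟩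
      · -- (3,5) S
        rcases eq_or_ne (T.a u4 u5) 0 with z_4_5 | nz_4_5
        · -- (4,5) zero
          by_cases hx : ∃ j, (j ≠ u0 ∧ j ≠ u1 ∧ j ≠ u2 ∧ j ≠ u3 ∧ j ≠ u4 ∧ j ≠ u5) ∧ T.a u3 j ≠ 0
          · obtain ⟨u6, ⟨hn_6_0, hn_6_1, hn_6_2, hn_6_3, hn_6_4, hn_6_5⟩, e_3_6⟩ := hx
            have z_0_6 : T.a u0 u6 = 0 := cl_0 u6 ⟨hn_6_0, hn_6_1, hn_6_2⟩
            have z_1_6 : T.a u1 u6 = 0 := cl_1 u6 ⟨hn_6_0, hn_6_1, hn_6_2, hn_6_3⟩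
            have z_2_6 : T.a u2 u6 = 0 := cl_2 u6 ⟨hn_6_0, hn_6_1, hn_6_2, hn_6_3, hn_6_4⟩
            rcases Groth.Agent.Helper6.NT.edge5 T h2 (by norm_num) u3 u6 hn_6_3.symm e_3_6 with ⟨tw_3_6, tap_3_6, taq_3_6⟩ | ⟨tw_3_6, tap_3_6, taq_3_6⟩ | ⟨tw_3_6, tap_3_6, taq_3_6⟩ | ⟨tw_3_6, tap_3_6, taq_3_6⟩ | ⟨tw_3_6, tap_3_6, taq_3_6⟩
            · -- (3,6) S
              rcases eq_or_ne (T.a u4 u6) 0 with z_4_6 | nz_4_6
              · -- (4,6) zero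
                rcases eq_or_ne (T.a u5 u6) 0 with z_5_6 | nz_5_6
                · -- (5,6) zero
                  have hinj := Groth.Agent.Helper6.NT.inj7 u0 u1 u2 u3 u4 u5 u6 hn_1_0 hn_2_0 hn_2_1 hn_3_0 hn_3_1 hn_3_2 hn_4_0 hn_4_1 hn_4_2 hn_4_3 hn_5_0 hn_5_1 hn_5_2 hn_5_3 hn_5_4 hn_6_0 hn_6_1 hn_6_2 hn_6_3 hn_6_4 hn_6_5
                  have r_0 : -2 * T.m u0 + 1 * T.m u1 + 1 * T.m u2 = 0 := by
                    have key := Groth.Agent.Helper6.NT.rowfun7 T u0 u1 u2 u3 u4 u5 u6 hinj u0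
                    rw [(h2 u0).2, tap_0_1, tap_0_2, z_0_3, z_0_4, z_0_5, z_0_6] at key
                    exact mul_left_cancel₀ (T.w_pos u0).ne' (by linarith only [key])
                  have r_1 : 1 * T.m u0 + -2 * T.m u1 + 1 * T.m u3 = 0 := by
                    have key := Groth.Agent.Helper6.NT.rowfun7 T u0 u1 u2 u3 u4 u5 u6 hinj u1
                    rw [Groth.Agent.Helper6.NT.symm' T u1 u0, taq_0_1, (h2 u1).2, z_1_2, tap_1_3, z_1_4, z_1_5, z_1_6] at key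
                    exact mul_left_cancel₀ (T.w_pos u1).ne' (by linarith only [key])
                  have r_2 : 1 * T.m u0 + -2 * T.m u2 + 2 * T.m u4 = 0 := by
                    have key := Groth.Agent.Helper6.NT.rowfun7 T u0 u1 u2 u3 u4 u5 u6 hinj u2
                    rw [Groth.Agent.Helper6.NT.symm' T u2 u0, taq_0_2, Groth.Agent.Helper6.NT.symm' T u2 u1, z_1_2, (h2 u2).2, z_2_3, tap_2_4, z_2_5, z_2_6] at key
                    exact mul_left_cancel₀ (T.w_pos u2).ne' (by linarith only [key])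
                  have r_3 : 1 * T.m u1 + -2 * T.m u3 + 1 * T.m u5 + 1 * T.m u6 = 0 := by
                    have key := Groth.Agent.Helper6.NT.rowfun7 T u0 u1 u2 u3 u4 u5 u6 hinj u3
                    rw [Groth.Agent.Helper6.NT.symm' T u3 u0, z_0_3, Groth.Agent.Helper6.NT.symm' T u3 u1, taq_1_3, Groth.Agent.Helper6.NT.symm' T u3 u2, z_2_3, (h2 u3).2, z_3_4, tap_3_5, tap_3_6] at key
                    exact mul_left_cancel₀ (T.w_pos u3).ne' (by linarith only [key])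
                  have r_4 : 1 * T.m u2 + -2 * T.m u4 = 0 := by
                    have key := Groth.Agent.Helper6.NT.rowfun7 T u0 u1 u2 u3 u4 u5 u6 hinj u4
                    rw [Groth.Agent.Helper6.NT.symm' T u4 u0, z_0_4, Groth.Agent.Helper6.NT.symm' T u4 u1, z_1_4, Groth.Agent.Helper6.NT.symm' T u4 u2, taq_2_4, Groth.Agent.Helper6.NT.symm' T u4 u3, z_3_4, (h2 u4).2, z_4_5, z_4_6] at key
                    exact mul_left_cancel₀ (T.w_pos u4).ne' (by linarith only [key])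
                  have r_5 : 1 * T.m u3 + -2 * T.m u5 = 0 := by
                    have key := Groth.Agent.Helper6.NT.rowfun7 T u0 u1 u2 u3 u4 u5 u6 hinj u5
                    rw [Groth.Agent.Helper6.NT.symm' T u5 u0, z_0_5, Groth.Agent.Helper6.NT.symm' T u5 u1, z_1_5, Groth.Agent.Helper6.NT.symm' T u5 u2, z_2_5, Groth.Agent.Helper6.NT.symm' T u5 u3, taq_3_5, Groth.Agent.Helper6.NT.symm' T u5 u4, z_4_5, (h2 u5).2, z_5_6] at key
                    exact mul_left_cancel₀ (T.w_pos u5).ne' (by linarith only [key])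
                  have r_6 : 1 * T.m u3 + -2 * T.m u6 = 0 := by
                    have key := Groth.Agent.Helper6.NT.rowfun7 T u0 u1 u2 u3 u4 u5 u6 hinj u6
                    rw [Groth.Agent.Helper6.NT.symm' T u6 u0, z_0_6, Groth.Agent.Helper6.NT.symm' T u6 u1, z_1_6, Groth.Agent.Helper6.NT.symm' T u6 u2, z_2_6, Groth.Agent.Helper6.NT.symm' T u6 u3, taq_3_6, Groth.Agent.Helper6.NT.symm' T u6 u4, z_4_6, Groth.Agent.Helper6.NT.symm' T u6 u5, z_5_6, (h2 u6).2] at key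
                    exact mul_left_cancel₀ (T.w_pos u6).ne' (by linarith only [key])
                  have f0 : T.m u4 = T.m u4 := rfl
                  have f1 : T.m u2 = 2 * T.m u4 := by linarith only [r_0, r_1, r_2, r_3, r_4, r_5, r_6]
                  have f2 : T.m u0 = 2 * T.m u4 := by linarith only [r_0, r_1, r_2, r_3, r_4, r_5, r_6]
                  have f3 : T.m u1 = 2 * T.m u4 := by linarith only [r_0, r_1, r_2, r_3, r_4, r_5, r_6]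
                  have f4 : T.m u3 = 2 * T.m u4 := by linarith only [r_0, r_1, r_2, r_3, r_4, r_5, r_6]
                  have f5 : T.m u5 = T.m u4 := by linarith only [r_0, r_1, r_2, r_3, r_4, r_5, r_6]
                  have f6 : T.m u6 = T.m u4 := by linarith only [r_0, r_1, r_2, r_3, r_4, r_5, r_6]
                  have f7 : T.w u4 = 2 * T.w u2 := by linarith only [tw_0_1, tw_0_2, tw_1_3, tw_2_4, tw_3_5, tw_3_6]
                  have f8 : T.w u2 = T.w u2 := rfl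
                  have f9 : T.w u0 = T.w u2 := by linarith only [tw_0_1, tw_0_2, tw_1_3, tw_2_4, tw_3_5, tw_3_6]
                  have f10 : T.w u1 = T.w u2 := by linarith only [tw_0_1, tw_0_2, tw_1_3, tw_2_4, tw_3_5, tw_3_6]
                  have f11 : T.w u3 = T.w u2 := by linarith only [tw_0_1, tw_0_2, tw_1_3, tw_2_4, tw_3_5, tw_3_6]
                  have f12 : T.w u5 = T.w u2 := by linarith only [tw_0_1, tw_0_2, tw_1_3, tw_2_4, tw_3_5, tw_3_6]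
                  have f13 : T.w u6 = T.w u2 := by linarith only [tw_0_1, tw_0_2, tw_1_3, tw_2_4, tw_3_5, tw_3_6]
                  have f14 : T.a u4 u4 = -4 * T.w u2 := by have := (h2 u4).2; linarith only [this, tw_0_1, tw_0_2, tw_1_3, tw_2_4, tw_3_5, tw_3_6]
                  have f15 : T.a u4 u2 = 2 * T.w u2 := by rw [Groth.Agent.Helper6.NT.symm' T u4 u2]; linarith only [tap_2_4, tw_0_1, tw_0_2, tw_1_3, tw_2_4, tw_3_5, tw_3_6]
                  have f16 : T.a u4 u0 = 0 := by rw [Groth.Agent.Helper6.NT.symm' T u4 u0]; exact z_0_4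
                  have f17 : T.a u4 u1 = 0 := by rw [Groth.Agent.Helper6.NT.symm' T u4 u1]; exact z_1_4
                  have f18 : T.a u4 u3 = 0 := by rw [Groth.Agent.Helper6.NT.symm' T u4 u3]; exact z_3_4
                  have f19 : T.a u4 u5 = 0 := by exact z_4_5
                  have f20 : T.a u4 u6 = 0 := by exact z_4_6
                  have f21 : T.a u2 u2 = -2 * T.w u2 := by have := (h2 u2).2; linarith only [this, tw_0_1, tw_0_2, tw_1_3, tw_2_4, tw_3_5, tw_3_6]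
                  have f22 : T.a u2 u0 = T.w u2 := by rw [Groth.Agent.Helper6.NT.symm' T u2 u0]; linarith only [tap_0_2, tw_0_1, tw_0_2, tw_1_3, tw_2_4, tw_3_5, tw_3_6]
                  have f23 : T.a u2 u1 = 0 := by rw [Groth.Agent.Helper6.NT.symm' T u2 u1]; exact z_1_2
                  have f24 : T.a u2 u3 = 0 := by exact z_2_3
                  have f25 : T.a u2 u5 = 0 := by exact z_2_5
                  have f26 : T.a u2 u6 = 0 := by exact z_2_6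
                  have f27 : T.a u0 u0 = -2 * T.w u2 := by have := (h2 u0).2; linarith only [this, tw_0_1, tw_0_2, tw_1_3, tw_2_4, tw_3_5, tw_3_6]
                  have f28 : T.a u0 u1 = T.w u2 := by linarith only [tap_0_1, tw_0_1, tw_0_2, tw_1_3, tw_2_4, tw_3_5, tw_3_6]
                  have f29 : T.a u0 u3 = 0 := by exact z_0_3
                  have f30 : T.a u0 u5 = 0 := by exact z_0_5
                  have f31 : T.a u0 u6 = 0 := by exact z_0_6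
                  have f32 : T.a u1 u1 = -2 * T.w u2 := by have := (h2 u1).2; linarith only [this, tw_0_1, tw_0_2, tw_1_3, tw_2_4, tw_3_5, tw_3_6]
                  have f33 : T.a u1 u3 = T.w u2 := by linarith only [tap_1_3, tw_0_1, tw_0_2, tw_1_3, tw_2_4, tw_3_5, tw_3_6]
                  have f34 : T.a u1 u5 = 0 := by exact z_1_5
                  have f35 : T.a u1 u6 = 0 := by exact z_1_6
                  have f36 : T.a u3 u3 = -2 * T.w u2 := by have := (h2 u3).2; linarith only [this, tw_0_1, tw_0_2, tw_1_3, tw_2_4, tw_3_5, tw_3_6]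
                  have f37 : T.a u3 u5 = T.w u2 := by linarith only [tap_3_5, tw_0_1, tw_0_2, tw_1_3, tw_2_4, tw_3_5, tw_3_6]
                  have f38 : T.a u3 u6 = T.w u2 := by linarith only [tap_3_6, tw_0_1, tw_0_2, tw_1_3, tw_2_4, tw_3_5, tw_3_6]
                  have f39 : T.a u5 u5 = -2 * T.w u2 := by have := (h2 u5).2; linarith only [this, tw_0_1, tw_0_2, tw_1_3, tw_2_4, tw_3_5, tw_3_6]
                  have f40 : T.a u5 u6 = 0 := by exact z_5_6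
                  have f41 : T.a u6 u6 = -2 * T.w u2 := by have := (h2 u6).2; linarith only [this, tw_0_1, tw_0_2, tw_1_3, tw_2_4, tw_3_5, tw_3_6]
                  have hsig := Groth.Agent.Helper6.NT.inj7 u4 u2 u0 u1 u3 u5 u6 hn_4_2.symm hn_4_0.symm hn_2_0.symm hn_4_1.symm hn_2_1.symm hn_1_0 hn_4_3.symm hn_3_2 hn_3_0 hn_3_1 hn_5_4 hn_5_2 hn_5_0 hn_5_1 hn_5_3 hn_6_4 hn_6_2 hn_6_0 hn_6_1 hn_6_3 hn_6_5
                  exact ⟨Equiv.ofBijective _ (Finite.injective_iff_bijective.1 hsig), T.m u4, T.w u2, Or.inr (Or.inr (Or.inr (Or.inr (Or.inl ⟨f0, f1, f2, f3, f4, f5, f6, f7, f8, f9, f10, f11, f12, f13, f14, f15, f16, f17, f18, f19, f20, f21, f22, f23, f24, f25, f26, f27, f28, f29, f30, f31, f32, f33, f34, f35, f36, f37, f38, f39, f40, f41⟩))))⟩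
                · -- (5,6) nonzero
                  obtain ⟨lbp_5_6, lbq_5_6⟩ := Groth.Agent.Helper6.NT.lb T u5 u6 hn_6_5.symm nz_5_6
                  exfalso
                  have key := Groth.Agent.Helper6.NT.negfun3 T h2 u3 u5 u6 (by norm_num) 1 1 1 (by norm_num) (by norm_num)
                  linarith only [key, tap_3_5, taq_3_5, tap_3_6, taq_3_6, lbp_5_6, lbq_5_6, T.w_pos u3, T.w_pos u5, T.w_pos u6]
              · -- (4,6) nonzero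
                obtain ⟨lbp_4_6, lbq_4_6⟩ := Groth.Agent.Helper6.NT.lb T u4 u6 hn_6_4.symm nz_4_6
                exfalso
                have key := Groth.Agent.Helper6.NT.negfun6 T h2 u1 u2 u3 u4 u5 u6 (by norm_num) 1 2 2 2 1 2 (by norm_num) (by norm_num)
                linarith only [key, z_1_2, tap_1_3, taq_1_3, z_1_4, z_1_5, z_1_6, z_2_3, tap_2_4, taq_2_4, z_2_5, z_2_6, z_3_4, tap_3_5, taq_3_5, tap_3_6, taq_3_6, z_4_5, lbp_4_6, lbq_4_6, T.offDiag_nonneg u5 u6 hn_6_5.symm, T.w_pos u1, T.w_pos u2, T.w_pos u3, T.w_pos u4, T.w_pos u5, T.w_pos u6]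
            · -- (3,6) Dp
              exfalso
              have key := Groth.Agent.Helper6.NT.negfun4 T h2 u1 u3 u5 u6 (by norm_num) 1 2 1 1 (by norm_num) (by norm_num)
              linarith only [key, tap_1_3, taq_1_3, z_1_5, z_1_6, tap_3_5, taq_3_5, tap_3_6, taq_3_6, T.offDiag_nonneg u5 u6 hn_6_5.symm, T.w_pos u1, T.w_pos u3, T.w_pos u5, T.w_pos u6]
            · -- (3,6) Dm
              exfalso
              have key := Groth.Agent.Helper6.NT.negfun4 T h2 u1 u3 u5 u6 (by norm_num) 1 2 1 2 (by norm_num) (by norm_num)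
              linarith only [key, tap_1_3, taq_1_3, z_1_5, z_1_6, tap_3_5, taq_3_5, tap_3_6, taq_3_6, T.offDiag_nonneg u5 u6 hn_6_5.symm, T.w_pos u1, T.w_pos u3, T.w_pos u5, T.w_pos u6]
            · -- (3,6) Tp
              exfalso
              have key := Groth.Agent.Helper6.NT.negfun3 T h2 u3 u5 u6 (by norm_num) 2 1 1 (by norm_num) (by norm_num)
              linarith only [key, tap_3_5, taq_3_5, tap_3_6, taq_3_6, T.offDiag_nonneg u5 u6 hn_6_5.symm, T.w_pos u3, T.w_pos u5, T.w_pos u6]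
            · -- (3,6) Tm
              exfalso
              have key := Groth.Agent.Helper6.NT.negfun3 T h2 u3 u5 u6 (by norm_num) 2 1 3 (by norm_num) (by norm_num)
              linarith only [key, tap_3_5, taq_3_5, tap_3_6, taq_3_6, T.offDiag_nonneg u5 u6 hn_6_5.symm, T.w_pos u3, T.w_pos u5, T.w_pos u6]
          · push Not at hx
            have cl_3 := hx
            clear hx
            by_cases hx : ∃ j, (j ≠ u0 ∧ j ≠ u1 ∧ j ≠ u2 ∧ j ≠ u3 ∧ j ≠ u4 ∧ j ≠ u5) ∧ T.a u4 j ≠ 0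
            · obtain ⟨u6, ⟨hn_6_0, hn_6_1, hn_6_2, hn_6_3, hn_6_4, hn_6_5⟩, e_4_6⟩ := hx
              have z_0_6 : T.a u0 u6 = 0 := cl_0 u6 ⟨hn_6_0, hn_6_1, hn_6_2⟩
              have z_1_6 : T.a u1 u6 = 0 := cl_1 u6 ⟨hn_6_0, hn_6_1, hn_6_2, hn_6_3⟩
              have z_2_6 : T.a u2 u6 = 0 := cl_2 u6 ⟨hn_6_0, hn_6_1, hn_6_2, hn_6_3, hn_6_4⟩
              have z_3_6 : T.a u3 u6 = 0 := cl_3 u6 ⟨hn_6_0, hn_6_1, hn_6_2, hn_6_3, hn_6_4, hn_6_5⟩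
              rcases Groth.Agent.Helper6.NT.edge5 T h2 (by norm_num) u4 u6 hn_6_4.symm e_4_6 with ⟨tw_4_6, tap_4_6, taq_4_6⟩ | ⟨tw_4_6, tap_4_6, taq_4_6⟩ | ⟨tw_4_6, tap_4_6, taq_4_6⟩ | ⟨tw_4_6, tap_4_6, taq_4_6⟩ | ⟨tw_4_6, tap_4_6, taq_4_6⟩
              · -- (4,6) S
                exfalso
                have key := Groth.Agent.Helper6.NT.negfun5 T h2 u0 u1 u2 u4 u6 (by norm_num) 2 1 3 2 1 (by norm_num) (by norm_num)
                linarith only [key, tap_0_1, taq_0_1, tap_0_2, taq_0_2, z_0_4, z_0_6, z_1_2, z_1_4, z_1_6, tap_2_4, taq_2_4, z_2_6, tap_4_6, taq_4_6, T.w_pos u0, T.w_pos u1, T.w_pos u2, T.w_pos u4, T.w_pos u6]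
              · -- (4,6) Dp
                exfalso
                have key := Groth.Agent.Helper6.NT.negfun3 T h2 u2 u4 u6 (by norm_num) 2 2 1 (by norm_num) (by norm_num)
                linarith only [key, tap_2_4, taq_2_4, z_2_6, tap_4_6, taq_4_6, T.w_pos u2, T.w_pos u4, T.w_pos u6]
              · -- (4,6) Dm
                exfalso
                have key := Groth.Agent.Helper6.NT.negfun3 T h2 u2 u4 u6 (by norm_num) 1 1 1 (by norm_num) (by norm_num)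
                linarith only [key, tap_2_4, taq_2_4, z_2_6, tap_4_6, taq_4_6, T.w_pos u2, T.w_pos u4, T.w_pos u6]
              · -- (4,6) Tp
                exfalso
                have key := Groth.Agent.Helper6.NT.negfun3 T h2 u2 u4 u6 (by norm_num) 2 2 1 (by norm_num) (by norm_num)
                linarith only [key, tap_2_4, taq_2_4, z_2_6, tap_4_6, taq_4_6, T.w_pos u2, T.w_pos u4, T.w_pos u6]
              · -- (4,6) Tm
                exfalso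
                have key := Groth.Agent.Helper6.NT.negfun3 T h2 u2 u4 u6 (by norm_num) 2 2 3 (by norm_num) (by norm_num)
                linarith only [key, tap_2_4, taq_2_4, z_2_6, tap_4_6, taq_4_6, T.w_pos u2, T.w_pos u4, T.w_pos u6]
            · push Not at hx
              have cl_4 := hx
              clear hx
              by_cases hx : ∃ j, (j ≠ u0 ∧ j ≠ u1 ∧ j ≠ u2 ∧ j ≠ u3 ∧ j ≠ u4 ∧ j ≠ u5) ∧ T.a u5 j ≠ 0
              · obtain ⟨u6, ⟨hn_6_0, hn_6_1, hn_6_2, hn_6_3, hn_6_4, hn_6_5⟩, e_5_6⟩ := hx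
                have z_0_6 : T.a u0 u6 = 0 := cl_0 u6 ⟨hn_6_0, hn_6_1, hn_6_2⟩
                have z_1_6 : T.a u1 u6 = 0 := cl_1 u6 ⟨hn_6_0, hn_6_1, hn_6_2, hn_6_3⟩
                have z_2_6 : T.a u2 u6 = 0 := cl_2 u6 ⟨hn_6_0, hn_6_1, hn_6_2, hn_6_3, hn_6_4⟩
                have z_3_6 : T.a u3 u6 = 0 := cl_3 u6 ⟨hn_6_0, hn_6_1, hn_6_2, hn_6_3, hn_6_4, hn_6_5⟩
                have z_4_6 : T.a u4 u6 = 0 := cl_4 u6 ⟨hn_6_0, hn_6_1, hn_6_2, hn_6_3, hn_6_4, hn_6_5⟩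
                rcases Groth.Agent.Helper6.NT.edge5 T h2 (by norm_num) u5 u6 hn_6_5.symm e_5_6 with ⟨tw_5_6, tap_5_6, taq_5_6⟩ | ⟨tw_5_6, tap_5_6, taq_5_6⟩ | ⟨tw_5_6, tap_5_6, taq_5_6⟩ | ⟨tw_5_6, tap_5_6, taq_5_6⟩ | ⟨tw_5_6, tap_5_6, taq_5_6⟩
                · -- (5,6) S
                  have hinj := Groth.Agent.Helper6.NT.inj7 u0 u1 u2 u3 u4 u5 u6 hn_1_0 hn_2_0 hn_2_1 hn_3_0 hn_3_1 hn_3_2 hn_4_0 hn_4_1 hn_4_2 hn_4_3 hn_5_0 hn_5_1 hn_5_2 hn_5_3 hn_5_4 hn_6_0 hn_6_1 hn_6_2 hn_6_3 hn_6_4 hn_6_5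
                  have r_0 : -2 * T.m u0 + 1 * T.m u1 + 1 * T.m u2 = 0 := by
                    have key := Groth.Agent.Helper6.NT.rowfun7 T u0 u1 u2 u3 u4 u5 u6 hinj u0
                    rw [(h2 u0).2, tap_0_1, tap_0_2, z_0_3, z_0_4, z_0_5, z_0_6] at key
                    exact mul_left_cancel₀ (T.w_pos u0).ne' (by linarith only [key])
                  have r_1 : 1 * T.m u0 + -2 * T.m u1 + 1 * T.m u3 = 0 := by
                    have key := Groth.Agent.Helper6.NT.rowfun7 T u0 u1 u2 u3 u4 u5 u6 hinj u1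
                    rw [Groth.Agent.Helper6.NT.symm' T u1 u0, taq_0_1, (h2 u1).2, z_1_2, tap_1_3, z_1_4, z_1_5, z_1_6] at key
                    exact mul_left_cancel₀ (T.w_pos u1).ne' (by linarith only [key])
                  have r_2 : 1 * T.m u0 + -2 * T.m u2 + 2 * T.m u4 = 0 := by
                    have key := Groth.Agent.Helper6.NT.rowfun7 T u0 u1 u2 u3 u4 u5 u6 hinj u2
                    rw [Groth.Agent.Helper6.NT.symm' T u2 u0, taq_0_2, Groth.Agent.Helper6.NT.symm' T u2 u1, z_1_2, (h2 u2).2, z_2_3, tap_2_4, z_2_5, z_2_6] at key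
                    exact mul_left_cancel₀ (T.w_pos u2).ne' (by linarith only [key])
                  have r_3 : 1 * T.m u1 + -2 * T.m u3 + 1 * T.m u5 = 0 := by
                    have key := Groth.Agent.Helper6.NT.rowfun7 T u0 u1 u2 u3 u4 u5 u6 hinj u3
                    rw [Groth.Agent.Helper6.NT.symm' T u3 u0, z_0_3, Groth.Agent.Helper6.NT.symm' T u3 u1, taq_1_3, Groth.Agent.Helper6.NT.symm' T u3 u2, z_2_3, (h2 u3).2, z_3_4, tap_3_5, z_3_6] at key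
                    exact mul_left_cancel₀ (T.w_pos u3).ne' (by linarith only [key])
                  have r_4 : 1 * T.m u2 + -2 * T.m u4 = 0 := by
                    have key := Groth.Agent.Helper6.NT.rowfun7 T u0 u1 u2 u3 u4 u5 u6 hinj u4
                    rw [Groth.Agent.Helper6.NT.symm' T u4 u0, z_0_4, Groth.Agent.Helper6.NT.symm' T u4 u1, z_1_4, Groth.Agent.Helper6.NT.symm' T u4 u2, taq_2_4, Groth.Agent.Helper6.NT.symm' T u4 u3, z_3_4, (h2 u4).2, z_4_5, z_4_6] at key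
                    exact mul_left_cancel₀ (T.w_pos u4).ne' (by linarith only [key])
                  have r_5 : 1 * T.m u3 + -2 * T.m u5 + 1 * T.m u6 = 0 := by
                    have key := Groth.Agent.Helper6.NT.rowfun7 T u0 u1 u2 u3 u4 u5 u6 hinj u5
                    rw [Groth.Agent.Helper6.NT.symm' T u5 u0, z_0_5, Groth.Agent.Helper6.NT.symm' T u5 u1, z_1_5, Groth.Agent.Helper6.NT.symm' T u5 u2, z_2_5, Groth.Agent.Helper6.NT.symm' T u5 u3, taq_3_5, Groth.Agent.Helper6.NT.symm' T u5 u4, z_4_5, (h2 u5).2, tap_5_6] at key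
                    exact mul_left_cancel₀ (T.w_pos u5).ne' (by linarith only [key])
                  have r_6 : 1 * T.m u5 + -2 * T.m u6 = 0 := by
                    have key := Groth.Agent.Helper6.NT.rowfun7 T u0 u1 u2 u3 u4 u5 u6 hinj u6
                    rw [Groth.Agent.Helper6.NT.symm' T u6 u0, z_0_6, Groth.Agent.Helper6.NT.symm' T u6 u1, z_1_6, Groth.Agent.Helper6.NT.symm' T u6 u2, z_2_6, Groth.Agent.Helper6.NT.symm' T u6 u3, z_3_6, Groth.Agent.Helper6.NT.symm' T u6 u4, z_4_6, Groth.Agent.Helper6.NT.symm' T u6 u5, taq_5_6, (h2 u6).2] at key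
                    exact mul_left_cancel₀ (T.w_pos u6).ne' (by linarith only [key])
                  exfalso
                  linarith only [r_0, r_1, r_2, r_3, r_4, r_5, r_6, T.m_pos u0, T.m_pos u1, T.m_pos u2, T.m_pos u3, T.m_pos u4, T.m_pos u5, T.m_pos u6]
                · -- (5,6) Dp
                  have hinj := Groth.Agent.Helper6.NT.inj7 u0 u1 u2 u3 u4 u5 u6 hn_1_0 hn_2_0 hn_2_1 hn_3_0 hn_3_1 hn_3_2 hn_4_0 hn_4_1 hn_4_2 hn_4_3 hn_5_0 hn_5_1 hn_5_2 hn_5_3 hn_5_4 hn_6_0 hn_6_1 hn_6_2 hn_6_3 hn_6_4 hn_6_5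
                  have r_0 : -2 * T.m u0 + 1 * T.m u1 + 1 * T.m u2 = 0 := by
                    have key := Groth.Agent.Helper6.NT.rowfun7 T u0 u1 u2 u3 u4 u5 u6 hinj u0
                    rw [(h2 u0).2, tap_0_1, tap_0_2, z_0_3, z_0_4, z_0_5, z_0_6] at key
                    exact mul_left_cancel₀ (T.w_pos u0).ne' (by linarith only [key])
                  have r_1 : 1 * T.m u0 + -2 * T.m u1 + 1 * T.m u3 = 0 := by
                    have key := Groth.Agent.Helper6.NT.rowfun7 T u0 u1 u2 u3 u4 u5 u6 hinj u1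
                    rw [Groth.Agent.Helper6.NT.symm' T u1 u0, taq_0_1, (h2 u1).2, z_1_2, tap_1_3, z_1_4, z_1_5, z_1_6] at key
                    exact mul_left_cancel₀ (T.w_pos u1).ne' (by linarith only [key])
                  have r_2 : 1 * T.m u0 + -2 * T.m u2 + 2 * T.m u4 = 0 := by
                    have key := Groth.Agent.Helper6.NT.rowfun7 T u0 u1 u2 u3 u4 u5 u6 hinj u2
                    rw [Groth.Agent.Helper6.NT.symm' T u2 u0, taq_0_2, Groth.Agent.Helper6.NT.symm' T u2 u1, z_1_2, (h2 u2).2, z_2_3, tap_2_4, z_2_5, z_2_6] at key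
                    exact mul_left_cancel₀ (T.w_pos u2).ne' (by linarith only [key])
                  have r_3 : 1 * T.m u1 + -2 * T.m u3 + 1 * T.m u5 = 0 := by
                    have key := Groth.Agent.Helper6.NT.rowfun7 T u0 u1 u2 u3 u4 u5 u6 hinj u3
                    rw [Groth.Agent.Helper6.NT.symm' T u3 u0, z_0_3, Groth.Agent.Helper6.NT.symm' T u3 u1, taq_1_3, Groth.Agent.Helper6.NT.symm' T u3 u2, z_2_3, (h2 u3).2, z_3_4, tap_3_5, z_3_6] at key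
                    exact mul_left_cancel₀ (T.w_pos u3).ne' (by linarith only [key])
                  have r_4 : 1 * T.m u2 + -2 * T.m u4 = 0 := by
                    have key := Groth.Agent.Helper6.NT.rowfun7 T u0 u1 u2 u3 u4 u5 u6 hinj u4
                    rw [Groth.Agent.Helper6.NT.symm' T u4 u0, z_0_4, Groth.Agent.Helper6.NT.symm' T u4 u1, z_1_4, Groth.Agent.Helper6.NT.symm' T u4 u2, taq_2_4, Groth.Agent.Helper6.NT.symm' T u4 u3, z_3_4, (h2 u4).2, z_4_5, z_4_6] at key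
                    exact mul_left_cancel₀ (T.w_pos u4).ne' (by linarith only [key])
                  have r_5 : 1 * T.m u3 + -2 * T.m u5 + 2 * T.m u6 = 0 := by
                    have key := Groth.Agent.Helper6.NT.rowfun7 T u0 u1 u2 u3 u4 u5 u6 hinj u5
                    rw [Groth.Agent.Helper6.NT.symm' T u5 u0, z_0_5, Groth.Agent.Helper6.NT.symm' T u5 u1, z_1_5, Groth.Agent.Helper6.NT.symm' T u5 u2, z_2_5, Groth.Agent.Helper6.NT.symm' T u5 u3, taq_3_5, Groth.Agent.Helper6.NT.symm' T u5 u4, z_4_5, (h2 u5).2, tap_5_6] at key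
                    exact mul_left_cancel₀ (T.w_pos u5).ne' (by linarith only [key])
                  have r_6 : 1 * T.m u5 + -2 * T.m u6 = 0 := by
                    have key := Groth.Agent.Helper6.NT.rowfun7 T u0 u1 u2 u3 u4 u5 u6 hinj u6
                    rw [Groth.Agent.Helper6.NT.symm' T u6 u0, z_0_6, Groth.Agent.Helper6.NT.symm' T u6 u1, z_1_6, Groth.Agent.Helper6.NT.symm' T u6 u2, z_2_6, Groth.Agent.Helper6.NT.symm' T u6 u3, z_3_6, Groth.Agent.Helper6.NT.symm' T u6 u4, z_4_6, Groth.Agent.Helper6.NT.symm' T u6 u5, taq_5_6, (h2 u6).2] at key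
                    exact mul_left_cancel₀ (T.w_pos u6).ne' (by linarith only [key])
                  have f0 : T.m u4 = T.m u4 := rfl
                  have f1 : T.m u2 = 2 * T.m u4 := by linarith only [r_0, r_1, r_2, r_3, r_4, r_5, r_6]
                  have f2 : T.m u0 = 2 * T.m u4 := by linarith only [r_0, r_1, r_2, r_3, r_4, r_5, r_6]
                  have f3 : T.m u1 = 2 * T.m u4 := by linarith only [r_0, r_1, r_2, r_3, r_4, r_5, r_6]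
                  have f4 : T.m u3 = 2 * T.m u4 := by linarith only [r_0, r_1, r_2, r_3, r_4, r_5, r_6]
                  have f5 : T.m u5 = 2 * T.m u4 := by linarith only [r_0, r_1, r_2, r_3, r_4, r_5, r_6]
                  have f6 : T.m u6 = T.m u4 := by linarith only [r_0, r_1, r_2, r_3, r_4, r_5, r_6]
                  have f7 : T.w u4 = 2 * T.w u2 := by linarith only [tw_0_1, tw_0_2, tw_1_3, tw_2_4, tw_3_5, tw_5_6]
                  have f8 : T.w u2 = T.w u2 := rfl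
                  have f9 : T.w u0 = T.w u2 := by linarith only [tw_0_1, tw_0_2, tw_1_3, tw_2_4, tw_3_5, tw_5_6]
                  have f10 : T.w u1 = T.w u2 := by linarith only [tw_0_1, tw_0_2, tw_1_3, tw_2_4, tw_3_5, tw_5_6]
                  have f11 : T.w u3 = T.w u2 := by linarith only [tw_0_1, tw_0_2, tw_1_3, tw_2_4, tw_3_5, tw_5_6]
                  have f12 : T.w u5 = T.w u2 := by linarith only [tw_0_1, tw_0_2, tw_1_3, tw_2_4, tw_3_5, tw_5_6]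
                  have f13 : T.w u6 = 2 * T.w u2 := by linarith only [tw_0_1, tw_0_2, tw_1_3, tw_2_4, tw_3_5, tw_5_6]
                  have f14 : T.a u4 u4 = -4 * T.w u2 := by have := (h2 u4).2; linarith only [this, tw_0_1, tw_0_2, tw_1_3, tw_2_4, tw_3_5, tw_5_6]
                  have f15 : T.a u4 u2 = 2 * T.w u2 := by rw [Groth.Agent.Helper6.NT.symm' T u4 u2]; linarith only [tap_2_4, tw_0_1, tw_0_2, tw_1_3, tw_2_4, tw_3_5, tw_5_6]
                  have f16 : T.a u4 u0 = 0 := by rw [Groth.Agent.Helper6.NT.symm' T u4 u0]; exact z_0_4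
                  have f17 : T.a u4 u1 = 0 := by rw [Groth.Agent.Helper6.NT.symm' T u4 u1]; exact z_1_4
                  have f18 : T.a u4 u3 = 0 := by rw [Groth.Agent.Helper6.NT.symm' T u4 u3]; exact z_3_4
                  have f19 : T.a u4 u5 = 0 := by exact z_4_5
                  have f20 : T.a u4 u6 = 0 := by exact z_4_6
                  have f21 : T.a u2 u2 = -2 * T.w u2 := by have := (h2 u2).2; linarith only [this, tw_0_1, tw_0_2, tw_1_3, tw_2_4, tw_3_5, tw_5_6]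
                  have f22 : T.a u2 u0 = T.w u2 := by rw [Groth.Agent.Helper6.NT.symm' T u2 u0]; linarith only [tap_0_2, tw_0_1, tw_0_2, tw_1_3, tw_2_4, tw_3_5, tw_5_6]
                  have f23 : T.a u2 u1 = 0 := by rw [Groth.Agent.Helper6.NT.symm' T u2 u1]; exact z_1_2
                  have f24 : T.a u2 u3 = 0 := by exact z_2_3
                  have f25 : T.a u2 u5 = 0 := by exact z_2_5
                  have f26 : T.a u2 u6 = 0 := by exact z_2_6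
                  have f27 : T.a u0 u0 = -2 * T.w u2 := by have := (h2 u0).2; linarith only [this, tw_0_1, tw_0_2, tw_1_3, tw_2_4, tw_3_5, tw_5_6]
                  have f28 : T.a u0 u1 = T.w u2 := by linarith only [tap_0_1, tw_0_1, tw_0_2, tw_1_3, tw_2_4, tw_3_5, tw_5_6]
                  have f29 : T.a u0 u3 = 0 := by exact z_0_3
                  have f30 : T.a u0 u5 = 0 := by exact z_0_5
                  have f31 : T.a u0 u6 = 0 := by exact z_0_6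
                  have f32 : T.a u1 u1 = -2 * T.w u2 := by have := (h2 u1).2; linarith only [this, tw_0_1, tw_0_2, tw_1_3, tw_2_4, tw_3_5, tw_5_6]
                  have f33 : T.a u1 u3 = T.w u2 := by linarith only [tap_1_3, tw_0_1, tw_0_2, tw_1_3, tw_2_4, tw_3_5, tw_5_6]
                  have f34 : T.a u1 u5 = 0 := by exact z_1_5
                  have f35 : T.a u1 u6 = 0 := by exact z_1_6
                  have f36 : T.a u3 u3 = -2 * T.w u2 := by have := (h2 u3).2; linarith only [this, tw_0_1, tw_0_2, tw_1_3, tw_2_4, tw_3_5, tw_5_6]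
                  have f37 : T.a u3 u5 = T.w u2 := by linarith only [tap_3_5, tw_0_1, tw_0_2, tw_1_3, tw_2_4, tw_3_5, tw_5_6]
                  have f38 : T.a u3 u6 = 0 := by exact z_3_6
                  have f39 : T.a u5 u5 = -2 * T.w u2 := by have := (h2 u5).2; linarith only [this, tw_0_1, tw_0_2, tw_1_3, tw_2_4, tw_3_5, tw_5_6]
                  have f40 : T.a u5 u6 = 2 * T.w u2 := by linarith only [tap_5_6, tw_0_1, tw_0_2, tw_1_3, tw_2_4, tw_3_5, tw_5_6]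
                  have f41 : T.a u6 u6 = -4 * T.w u2 := by have := (h2 u6).2; linarith only [this, tw_0_1, tw_0_2, tw_1_3, tw_2_4, tw_3_5, tw_5_6]
                  have hsig := Groth.Agent.Helper6.NT.inj7 u4 u2 u0 u1 u3 u5 u6 hn_4_2.symm hn_4_0.symm hn_2_0.symm hn_4_1.symm hn_2_1.symm hn_1_0 hn_4_3.symm hn_3_2 hn_3_0 hn_3_1 hn_5_4 hn_5_2 hn_5_0 hn_5_1 hn_5_3 hn_6_4 hn_6_2 hn_6_0 hn_6_1 hn_6_3 hn_6_5
                  exact ⟨Equiv.ofBijective _ (Finite.injective_iff_bijective.1 hsig), T.m u4, T.w u2, Or.inr (Or.inr (Or.inr (Or.inl ⟨f0, f1, f2, f3, f4, f5, f6, f7, f8, f9, f10, f11, f12, f13, f14, f15, f16, f17, f18, f19, f20, f21, f22, f23, f24, f25, f26, f27, f28, f29, f30, f31, f32, f33, f34, f35, f36, f37, f38, f39, f40, f41⟩)))⟩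
                · -- (5,6) Dm
                  have hinj := Groth.Agent.Helper6.NT.inj7 u0 u1 u2 u3 u4 u5 u6 hn_1_0 hn_2_0 hn_2_1 hn_3_0 hn_3_1 hn_3_2 hn_4_0 hn_4_1 hn_4_2 hn_4_3 hn_5_0 hn_5_1 hn_5_2 hn_5_3 hn_5_4 hn_6_0 hn_6_1 hn_6_2 hn_6_3 hn_6_4 hn_6_5
                  have r_0 : -2 * T.m u0 + 1 * T.m u1 + 1 * T.m u2 = 0 := by
                    have key := Groth.Agent.Helper6.NT.rowfun7 T u0 u1 u2 u3 u4 u5 u6 hinj u0
                    rw [(h2 u0).2, tap_0_1, tap_0_2, z_0_3, z_0_4, z_0_5, z_0_6] at key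
                    exact mul_left_cancel₀ (T.w_pos u0).ne' (by linarith only [key])
                  have r_1 : 1 * T.m u0 + -2 * T.m u1 + 1 * T.m u3 = 0 := by
                    have key := Groth.Agent.Helper6.NT.rowfun7 T u0 u1 u2 u3 u4 u5 u6 hinj u1
                    rw [Groth.Agent.Helper6.NT.symm' T u1 u0, taq_0_1, (h2 u1).2, z_1_2, tap_1_3, z_1_4, z_1_5, z_1_6] at key
                    exact mul_left_cancel₀ (T.w_pos u1).ne' (by linarith only [key])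
                  have r_2 : 1 * T.m u0 + -2 * T.m u2 + 2 * T.m u4 = 0 := by
                    have key := Groth.Agent.Helper6.NT.rowfun7 T u0 u1 u2 u3 u4 u5 u6 hinj u2
                    rw [Groth.Agent.Helper6.NT.symm' T u2 u0, taq_0_2, Groth.Agent.Helper6.NT.symm' T u2 u1, z_1_2, (h2 u2).2, z_2_3, tap_2_4, z_2_5, z_2_6] at key
                    exact mul_left_cancel₀ (T.w_pos u2).ne' (by linarith only [key])
                  have r_3 : 1 * T.m u1 + -2 * T.m u3 + 1 * T.m u5 = 0 := by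
                    have key := Groth.Agent.Helper6.NT.rowfun7 T u0 u1 u2 u3 u4 u5 u6 hinj u3
                    rw [Groth.Agent.Helper6.NT.symm' T u3 u0, z_0_3, Groth.Agent.Helper6.NT.symm' T u3 u1, taq_1_3, Groth.Agent.Helper6.NT.symm' T u3 u2, z_2_3, (h2 u3).2, z_3_4, tap_3_5, z_3_6] at key
                    exact mul_left_cancel₀ (T.w_pos u3).ne' (by linarith only [key])
                  have r_4 : 1 * T.m u2 + -2 * T.m u4 = 0 := by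
                    have key := Groth.Agent.Helper6.NT.rowfun7 T u0 u1 u2 u3 u4 u5 u6 hinj u4
                    rw [Groth.Agent.Helper6.NT.symm' T u4 u0, z_0_4, Groth.Agent.Helper6.NT.symm' T u4 u1, z_1_4, Groth.Agent.Helper6.NT.symm' T u4 u2, taq_2_4, Groth.Agent.Helper6.NT.symm' T u4 u3, z_3_4, (h2 u4).2, z_4_5, z_4_6] at key
                    exact mul_left_cancel₀ (T.w_pos u4).ne' (by linarith only [key])
                  have r_5 : 1 * T.m u3 + -2 * T.m u5 + 1 * T.m u6 = 0 := by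
                    have key := Groth.Agent.Helper6.NT.rowfun7 T u0 u1 u2 u3 u4 u5 u6 hinj u5
                    rw [Groth.Agent.Helper6.NT.symm' T u5 u0, z_0_5, Groth.Agent.Helper6.NT.symm' T u5 u1, z_1_5, Groth.Agent.Helper6.NT.symm' T u5 u2, z_2_5, Groth.Agent.Helper6.NT.symm' T u5 u3, taq_3_5, Groth.Agent.Helper6.NT.symm' T u5 u4, z_4_5, (h2 u5).2, tap_5_6] at key
                    exact mul_left_cancel₀ (T.w_pos u5).ne' (by linarith only [key])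
                  have r_6 : 2 * T.m u5 + -2 * T.m u6 = 0 := by
                    have key := Groth.Agent.Helper6.NT.rowfun7 T u0 u1 u2 u3 u4 u5 u6 hinj u6
                    rw [Groth.Agent.Helper6.NT.symm' T u6 u0, z_0_6, Groth.Agent.Helper6.NT.symm' T u6 u1, z_1_6, Groth.Agent.Helper6.NT.symm' T u6 u2, z_2_6, Groth.Agent.Helper6.NT.symm' T u6 u3, z_3_6, Groth.Agent.Helper6.NT.symm' T u6 u4, z_4_6, Groth.Agent.Helper6.NT.symm' T u6 u5, taq_5_6, (h2 u6).2] at key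
                    exact mul_left_cancel₀ (T.w_pos u6).ne' (by linarith only [key])
                  have f0 : T.m u6 = 2 * T.m u4 := by linarith only [r_0, r_1, r_2, r_3, r_4, r_5, r_6]
                  have f1 : T.m u5 = 2 * T.m u4 := by linarith only [r_0, r_1, r_2, r_3, r_4, r_5, r_6]
                  have f2 : T.m u3 = 2 * T.m u4 := by linarith only [r_0, r_1, r_2, r_3, r_4, r_5, r_6]
                  have f3 : T.m u1 = 2 * T.m u4 := by linarith only [r_0, r_1, r_2, r_3, r_4, r_5, r_6]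
                  have f4 : T.m u0 = 2 * T.m u4 := by linarith only [r_0, r_1, r_2, r_3, r_4, r_5, r_6]
                  have f5 : T.m u2 = 2 * T.m u4 := by linarith only [r_0, r_1, r_2, r_3, r_4, r_5, r_6]
                  have f6 : T.m u4 = T.m u4 := rfl
                  have f7 : T.w u6 = T.w u6 := rfl
                  have f8 : T.w u5 = 2 * T.w u6 := by linarith only [tw_0_1, tw_0_2, tw_1_3, tw_2_4, tw_3_5, tw_5_6]
                  have f9 : T.w u3 = 2 * T.w u6 := by linarith only [tw_0_1, tw_0_2, tw_1_3, tw_2_4, tw_3_5, tw_5_6]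
                  have f10 : T.w u1 = 2 * T.w u6 := by linarith only [tw_0_1, tw_0_2, tw_1_3, tw_2_4, tw_3_5, tw_5_6]
                  have f11 : T.w u0 = 2 * T.w u6 := by linarith only [tw_0_1, tw_0_2, tw_1_3, tw_2_4, tw_3_5, tw_5_6]
                  have f12 : T.w u2 = 2 * T.w u6 := by linarith only [tw_0_1, tw_0_2, tw_1_3, tw_2_4, tw_3_5, tw_5_6]
                  have f13 : T.w u4 = 4 * T.w u6 := by linarith only [tw_0_1, tw_0_2, tw_1_3, tw_2_4, tw_3_5, tw_5_6]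
                  have f14 : T.a u6 u6 = -2 * T.w u6 := by have := (h2 u6).2; linarith only [this, tw_0_1, tw_0_2, tw_1_3, tw_2_4, tw_3_5, tw_5_6]
                  have f15 : T.a u6 u5 = 2 * T.w u6 := by rw [Groth.Agent.Helper6.NT.symm' T u6 u5]; linarith only [tap_5_6, tw_0_1, tw_0_2, tw_1_3, tw_2_4, tw_3_5, tw_5_6]
                  have f16 : T.a u6 u3 = 0 := by rw [Groth.Agent.Helper6.NT.symm' T u6 u3]; exact z_3_6
                  have f17 : T.a u6 u1 = 0 := by rw [Groth.Agent.Helper6.NT.symm' T u6 u1]; exact z_1_6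
                  have f18 : T.a u6 u0 = 0 := by rw [Groth.Agent.Helper6.NT.symm' T u6 u0]; exact z_0_6
                  have f19 : T.a u6 u2 = 0 := by rw [Groth.Agent.Helper6.NT.symm' T u6 u2]; exact z_2_6
                  have f20 : T.a u6 u4 = 0 := by rw [Groth.Agent.Helper6.NT.symm' T u6 u4]; exact z_4_6
                  have f21 : T.a u5 u5 = -4 * T.w u6 := by have := (h2 u5).2; linarith only [this, tw_0_1, tw_0_2, tw_1_3, tw_2_4, tw_3_5, tw_5_6]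
                  have f22 : T.a u5 u3 = 2 * T.w u6 := by rw [Groth.Agent.Helper6.NT.symm' T u5 u3]; linarith only [tap_3_5, tw_0_1, tw_0_2, tw_1_3, tw_2_4, tw_3_5, tw_5_6]
                  have f23 : T.a u5 u1 = 0 := by rw [Groth.Agent.Helper6.NT.symm' T u5 u1]; exact z_1_5
                  have f24 : T.a u5 u0 = 0 := by rw [Groth.Agent.Helper6.NT.symm' T u5 u0]; exact z_0_5
                  have f25 : T.a u5 u2 = 0 := by rw [Groth.Agent.Helper6.NT.symm' T u5 u2]; exact z_2_5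
                  have f26 : T.a u5 u4 = 0 := by rw [Groth.Agent.Helper6.NT.symm' T u5 u4]; exact z_4_5
                  have f27 : T.a u3 u3 = -4 * T.w u6 := by have := (h2 u3).2; linarith only [this, tw_0_1, tw_0_2, tw_1_3, tw_2_4, tw_3_5, tw_5_6]
                  have f28 : T.a u3 u1 = 2 * T.w u6 := by rw [Groth.Agent.Helper6.NT.symm' T u3 u1]; linarith only [tap_1_3, tw_0_1, tw_0_2, tw_1_3, tw_2_4, tw_3_5, tw_5_6]
                  have f29 : T.a u3 u0 = 0 := by rw [Groth.Agent.Helper6.NT.symm' T u3 u0]; exact z_0_3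
                  have f30 : T.a u3 u2 = 0 := by rw [Groth.Agent.Helper6.NT.symm' T u3 u2]; exact z_2_3
                  have f31 : T.a u3 u4 = 0 := by exact z_3_4
                  have f32 : T.a u1 u1 = -4 * T.w u6 := by have := (h2 u1).2; linarith only [this, tw_0_1, tw_0_2, tw_1_3, tw_2_4, tw_3_5, tw_5_6]
                  have f33 : T.a u1 u0 = 2 * T.w u6 := by rw [Groth.Agent.Helper6.NT.symm' T u1 u0]; linarith only [tap_0_1, tw_0_1, tw_0_2, tw_1_3, tw_2_4, tw_3_5, tw_5_6]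
                  have f34 : T.a u1 u2 = 0 := by exact z_1_2
                  have f35 : T.a u1 u4 = 0 := by exact z_1_4
                  have f36 : T.a u0 u0 = -4 * T.w u6 := by have := (h2 u0).2; linarith only [this, tw_0_1, tw_0_2, tw_1_3, tw_2_4, tw_3_5, tw_5_6]
                  have f37 : T.a u0 u2 = 2 * T.w u6 := by linarith only [tap_0_2, tw_0_1, tw_0_2, tw_1_3, tw_2_4, tw_3_5, tw_5_6]
                  have f38 : T.a u0 u4 = 0 := by exact z_0_4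
                  have f39 : T.a u2 u2 = -4 * T.w u6 := by have := (h2 u2).2; linarith only [this, tw_0_1, tw_0_2, tw_1_3, tw_2_4, tw_3_5, tw_5_6]
                  have f40 : T.a u2 u4 = 4 * T.w u6 := by linarith only [tap_2_4, tw_0_1, tw_0_2, tw_1_3, tw_2_4, tw_3_5, tw_5_6]
                  have f41 : T.a u4 u4 = -8 * T.w u6 := by have := (h2 u4).2; linarith only [this, tw_0_1, tw_0_2, tw_1_3, tw_2_4, tw_3_5, tw_5_6]
                  have hsig := Groth.Agent.Helper6.NT.inj7 u6 u5 u3 u1 u0 u2 u4 hn_6_5.symm hn_6_3.symm hn_5_3.symm hn_6_1.symm hn_5_1.symm hn_3_1.symm hn_6_0.symm hn_5_0.symm hn_3_0.symm hn_1_0.symm hn_6_2.symm hn_5_2.symm hn_3_2.symm hn_2_1 hn_2_0 hn_6_4.symm hn_5_4.symm hn_4_3 hn_4_1 hn_4_0 hn_4_2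
                  exact ⟨Equiv.ofBijective _ (Finite.injective_iff_bijective.1 hsig), T.m u4, T.w u6, Or.inr (Or.inl ⟨f0, f1, f2, f3, f4, f5, f6, f7, f8, f9, f10, f11, f12, f13, f14, f15, f16, f17, f18, f19, f20, f21, f22, f23, f24, f25, f26, f27, f28, f29, f30, f31, f32, f33, f34, f35, f36, f37, f38, f39, f40, f41⟩)⟩
                · -- (5,6) Tp
                  exfalso
                  have key := Groth.Agent.Helper6.NT.negfun3 T h2 u3 u5 u6 (by norm_num) 1 2 1 (by norm_num) (by norm_num)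
                  linarith only [key, tap_3_5, taq_3_5, z_3_6, tap_5_6, taq_5_6, T.w_pos u3, T.w_pos u5, T.w_pos u6]
                · -- (5,6) Tm
                  exfalso
                  have key := Groth.Agent.Helper6.NT.negfun3 T h2 u3 u5 u6 (by norm_num) 1 2 3 (by norm_num) (by norm_num)
                  linarith only [key, tap_3_5, taq_3_5, z_3_6, tap_5_6, taq_5_6, T.w_pos u3, T.w_pos u5, T.w_pos u6]
              · push Not at hx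
                have cl_5 := hx
                clear hx
                exfalso
                refine Groth.Agent.Helper6.NT.closed_contra T [u0, u1, u2, u3, u4, u5] (by simp) (by simp) ?_
                intro i hi j hj
                simp only [List.mem_cons, List.not_mem_nil, or_false, not_or] at hi hj
                rcases hi with rfl | rfl | rfl | rfl | rfl | rfl
                · exact cl_0 j ⟨hj.1, hj.2.1, hj.2.2.1⟩
                · exact cl_1 j ⟨hj.1, hj.2.1, hj.2.2.1, hj.2.2.2.1⟩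
                · exact cl_2 j ⟨hj.1, hj.2.1, hj.2.2.1, hj.2.2.2.1, hj.2.2.2.2.1⟩
                · exact cl_3 j ⟨hj.1, hj.2.1, hj.2.2.1, hj.2.2.2.1, hj.2.2.2.2.1, hj.2.2.2.2.2⟩
                · exact cl_4 j ⟨hj.1, hj.2.1, hj.2.2.1, hj.2.2.2.1, hj.2.2.2.2.1, hj.2.2.2.2.2⟩
                · exact cl_5 j ⟨hj.1, hj.2.1, hj.2.2.1, hj.2.2.2.1, hj.2.2.2.2.1, hj.2.2.2.2.2⟩
        · -- (4,5) nonzero
          obtain ⟨lbp_4_5, lbq_4_5⟩ := Groth.Agent.Helper6.NT.lb T u4 u5 hn_5_4.symm nz_4_5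
          exfalso
          have key := Groth.Agent.Helper6.NT.negfun5 T h2 u0 u2 u3 u4 u5 (by norm_num) 2 4 1 3 2 (by norm_num) (by norm_num)
          linarith only [key, tap_0_2, taq_0_2, z_0_3, z_0_4, z_0_5, z_2_3, tap_2_4, taq_2_4, z_2_5, z_3_4, tap_3_5, taq_3_5, lbp_4_5, lbq_4_5, T.w_pos u0, T.w_pos u2, T.w_pos u3, T.w_pos u4, T.w_pos u5]
      · -- (3,5) Dp
        exfalso
        have key := Groth.Agent.Helper6.NT.negfun6 T h2 u0 u1 u2 u3 u4 u5 (by norm_num) 2 2 2 2 1 1 (by norm_num) (by norm_num)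
        linarith only [key, tap_0_1, taq_0_1, tap_0_2, taq_0_2, z_0_3, z_0_4, z_0_5, z_1_2, tap_1_3, taq_1_3, z_1_4, z_1_5, z_2_3, tap_2_4, taq_2_4, z_2_5, z_3_4, tap_3_5, taq_3_5, T.offDiag_nonneg u4 u5 hn_5_4.symm, T.w_pos u0, T.w_pos u1, T.w_pos u2, T.w_pos u3, T.w_pos u4, T.w_pos u5]
      · -- (3,5) Dm
        exfalso
        have key := Groth.Agent.Helper6.NT.negfun6 T h2 u0 u1 u2 u3 u4 u5 (by norm_num) 2 2 2 2 1 2 (by norm_num) (by norm_num)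
        linarith only [key, tap_0_1, taq_0_1, tap_0_2, taq_0_2, z_0_3, z_0_4, z_0_5, z_1_2, tap_1_3, taq_1_3, z_1_4, z_1_5, z_2_3, tap_2_4, taq_2_4, z_2_5, z_3_4, tap_3_5, taq_3_5, T.offDiag_nonneg u4 u5 hn_5_4.symm, T.w_pos u0, T.w_pos u1, T.w_pos u2, T.w_pos u3, T.w_pos u4, T.w_pos u5]
      · -- (3,5) Tp
        exfalso
        have key := Groth.Agent.Helper6.NT.negfun3 T h2 u1 u3 u5 (by norm_num) 1 2 1 (by norm_num) (by norm_num)
        linarith only [key, tap_1_3, taq_1_3, z_1_5, tap_3_5, taq_3_5, T.w_pos u1, T.w_pos u3, T.w_pos u5]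
      · -- (3,5) Tm
        exfalso
        have key := Groth.Agent.Helper6.NT.negfun3 T h2 u1 u3 u5 (by norm_num) 1 2 3 (by norm_num) (by norm_num)
        linarith only [key, tap_1_3, taq_1_3, z_1_5, tap_3_5, taq_3_5, T.w_pos u1, T.w_pos u3, T.w_pos u5]
    · push Not at hx
      have cl_3 := hx
      clear hx
      by_cases hx : ∃ j, (j ≠ u0 ∧ j ≠ u1 ∧ j ≠ u2 ∧ j ≠ u3 ∧ j ≠ u4) ∧ T.a u4 j ≠ 0
      · obtain ⟨u5, ⟨hn_5_0, hn_5_1, hn_5_2, hn_5_3, hn_5_4⟩, e_4_5⟩ := hx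
        have z_0_5 : T.a u0 u5 = 0 := cl_0 u5 ⟨hn_5_0, hn_5_1, hn_5_2⟩
        have z_1_5 : T.a u1 u5 = 0 := cl_1 u5 ⟨hn_5_0, hn_5_1, hn_5_2, hn_5_3⟩
        have z_2_5 : T.a u2 u5 = 0 := cl_2 u5 ⟨hn_5_0, hn_5_1, hn_5_2, hn_5_3, hn_5_4⟩
        have z_3_5 : T.a u3 u5 = 0 := cl_3 u5 ⟨hn_5_0, hn_5_1, hn_5_2, hn_5_3, hn_5_4⟩
        rcases Groth.Agent.Helper6.NT.edge5 T h2 (by norm_num) u4 u5 hn_5_4.symm e_4_5 with ⟨tw_4_5, tap_4_5, taq_4_5⟩ | ⟨tw_4_5, tap_4_5, taq_4_5⟩ | ⟨tw_4_5, tap_4_5, taq_4_5⟩ | ⟨tw_4_5, tap_4_5, taq_4_5⟩ | ⟨tw_4_5, tap_4_5, taq_4_5⟩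
        · -- (4,5) S
          exfalso
          have key := Groth.Agent.Helper6.NT.negfun5 T h2 u0 u1 u2 u4 u5 (by norm_num) 2 1 3 2 1 (by norm_num) (by norm_num)
          linarith only [key, tap_0_1, taq_0_1, tap_0_2, taq_0_2, z_0_4, z_0_5, z_1_2, z_1_4, z_1_5, tap_2_4, taq_2_4, z_2_5, tap_4_5, taq_4_5, T.w_pos u0, T.w_pos u1, T.w_pos u2, T.w_pos u4, T.w_pos u5]
        · -- (4,5) Dp
          exfalso
          have key := Groth.Agent.Helper6.NT.negfun3 T h2 u2 u4 u5 (by norm_num) 2 2 1 (by norm_num) (by norm_num)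
          linarith only [key, tap_2_4, taq_2_4, z_2_5, tap_4_5, taq_4_5, T.w_pos u2, T.w_pos u4, T.w_pos u5]
        · -- (4,5) Dm
          exfalso
          have key := Groth.Agent.Helper6.NT.negfun3 T h2 u2 u4 u5 (by norm_num) 1 1 1 (by norm_num) (by norm_num)
          linarith only [key, tap_2_4, taq_2_4, z_2_5, tap_4_5, taq_4_5, T.w_pos u2, T.w_pos u4, T.w_pos u5]
        · -- (4,5) Tp
          exfalso
          have key := Groth.Agent.Helper6.NT.negfun3 T h2 u2 u4 u5 (by norm_num) 2 2 1 (by norm_num) (by norm_num)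
          linarith only [key, tap_2_4, taq_2_4, z_2_5, tap_4_5, taq_4_5, T.w_pos u2, T.w_pos u4, T.w_pos u5]
        · -- (4,5) Tm
          exfalso
          have key := Groth.Agent.Helper6.NT.negfun3 T h2 u2 u4 u5 (by norm_num) 2 2 3 (by norm_num) (by norm_num)
          linarith only [key, tap_2_4, taq_2_4, z_2_5, tap_4_5, taq_4_5, T.w_pos u2, T.w_pos u4, T.w_pos u5]
      · push Not at hx
        have cl_4 := hx
        clear hx
        exfalso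
        refine Groth.Agent.Helper6.NT.closed_contra T [u0, u1, u2, u3, u4] (by simp) (by simp) ?_
        intro i hi j hj
        simp only [List.mem_cons, List.not_mem_nil, or_false, not_or] at hi hj
        rcases hi with rfl | rfl | rfl | rfl | rfl
        · exact cl_0 j ⟨hj.1, hj.2.1, hj.2.2.1⟩
        · exact cl_1 j ⟨hj.1, hj.2.1, hj.2.2.1, hj.2.2.2.1⟩
        · exact cl_2 j ⟨hj.1, hj.2.1, hj.2.2.1, hj.2.2.2.1, hj.2.2.2.2⟩
        · exact cl_3 j ⟨hj.1, hj.2.1, hj.2.2.1, hj.2.2.2.1, hj.2.2.2.2⟩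
        · exact cl_4 j ⟨hj.1, hj.2.1, hj.2.2.1, hj.2.2.2.1, hj.2.2.2.2⟩

theorem cut7_8 (T : Models.NumericalType 7) (h2 : ∀ i, T.IsMinusTwo i) (u0 u1 u2 u3 u4 : Fin 7)
    (hn_1_0 : u1 ≠ u0)
    (e_0_1 : T.a u0 u1 ≠ 0)
    (tw_0_1 : T.w u1 = T.w u0)
    (tap_0_1 : T.a u0 u1 = T.w u0)
    (taq_0_1 : T.a u0 u1 = T.w u1)
    (hn_2_0 : u2 ≠ u0)
    (hn_2_1 : u2 ≠ u1)
    (e_0_2 : T.a u0 u2 ≠ 0)
    (tw_0_2 : T.w u2 = T.w u0)
    (tap_0_2 : T.a u0 u2 = T.w u0)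
    (taq_0_2 : T.a u0 u2 = T.w u2)
    (z_1_2 : T.a u1 u2 = 0)
    (cl_0 : ∀ j : Fin 7, (j ≠ u0 ∧ j ≠ u1 ∧ j ≠ u2) → T.a u0 j = 0)
    (hn_3_0 : u3 ≠ u0)
    (hn_3_1 : u3 ≠ u1)
    (hn_3_2 : u3 ≠ u2)
    (e_1_3 : T.a u1 u3 ≠ 0)
    (z_0_3 : T.a u0 u3 = 0)
    (tw_1_3 : T.w u3 = T.w u1)
    (tap_1_3 : T.a u1 u3 = T.w u1)
    (taq_1_3 : T.a u1 u3 = T.w u3)
    (z_2_3 : T.a u2 u3 = 0)
    (cl_1 : ∀ j : Fin 7, (j ≠ u0 ∧ j ≠ u1 ∧ j ≠ u2 ∧ j ≠ u3) → T.a u1 j = 0)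
    (hn_4_0 : u4 ≠ u0)
    (hn_4_1 : u4 ≠ u1)
    (hn_4_2 : u4 ≠ u2)
    (hn_4_3 : u4 ≠ u3)
    (e_2_4 : T.a u2 u4 ≠ 0)
    (z_0_4 : T.a u0 u4 = 0)
    (z_1_4 : T.a u1 u4 = 0)
    (tw_2_4 : T.w u2 = 2 * T.w u4)
    (tap_2_4 : T.a u2 u4 = T.w u2)
    (taq_2_4 : T.a u2 u4 = 2 * T.w u4)
    (z_3_4 : T.a u3 u4 = 0) :
    ∃ (σ : Equiv.Perm (Fin 7)) (m w : ℤ), ((T.m (σ 0) = m ∧ T.m (σ 1) = m ∧ T.m (σ 2) = m ∧ T.m (σ 3) = m ∧ T.m (σ 4) = m ∧ T.m (σ 5) = m ∧ T.m (σ 6) = m ∧ T.w (σ 0) = w ∧ T.w (σ 1) = w ∧ T.w (σ 2) = w ∧ T.w (σ 3) = w ∧ T.w (σ 4) = w ∧ T.w (σ 5) = w ∧ T.w (σ 6) = w ∧ T.a (σ 0) (σ 0) = -2 * w ∧ T.a (σ 0) (σ 1) = w ∧ T.a (σ 0) (σ 2) = 0 ∧ T.a (σ 0) (σ 3) = 0 ∧ T.a (σ 0) (σ 4) = 0 ∧ T.a (σ 0) (σ 5) = 0 ∧ T.a (σ 0) (σ 6) = w ∧ T.a (σ 1) (σ 1) = -2 * w ∧ T.a (σ 1) (σ 2) = w ∧ T.a (σ 1) (σ 3) = 0 ∧ T.a (σ 1) (σ 4) = 0 ∧ T.a (σ 1) (σ 5) = 0 ∧ T.a (σ 1) (σ 6) = 0 ∧ T.a (σ 2)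 (σ 2) = -2 * w ∧ T.a (σ 2) (σ 3) = w ∧ T.a (σ 2) (σ 4) = 0 ∧ T.a (σ 2) (σ 5) = 0 ∧ T.a (σ 2) (σ 6) = 0 ∧ T.a (σ 3) (σ 3) = -2 * w ∧ T.a (σ 3) (σ 4) = w ∧ T.a (σ 3) (σ 5) = 0 ∧ T.a (σ 3) (σ 6) = 0 ∧ T.a (σ 4) (σ 4) = -2 * w ∧ T.a (σ 4) (σ 5) = w ∧ T.a (σ 4) (σ 6) = 0 ∧ T.a (σ 5) (σ 5) = -2 * w ∧ T.a (σ 5) (σ 6) = w ∧ T.a (σ 6) (σ 6) = -2 * w) ∨ (T.m (σ 0) = 2 * m ∧ T.m (σ 1) = 2 * m ∧ T.m (σ 2) = 2 * m ∧ T.m (σ 3) = 2 * m ∧ T.m (σ 4) = 2 * m ∧ T.m (σ 5) = 2 * m ∧ T.m (σ 6) = m ∧ T.w (σ 0) = w ∧ T.w (σ 1) = 2 * w ∧ T.w (σ 2) = 2 * w ∧ T.w (σ 3) = 2 * w ∧ T.w (σ 4) = 2 * w ∧ T.w (σ 5) = 2 * w ∧ T.w (σ 6) = 4 * w ∧ T.a (σ 0) (σ 0) = -2 * w ∧ T.a (σ 0) (σ 1) = 2 * w ∧ T.a (σ 0) (σ 2) = 0 ∧ T.a (σ 0) (σ 3) = 0 ∧ T.a (σ 0) (σ 4) = 0 ∧ T.a (σ 0) (σ 5) = 0 ∧ T.a (σ 0) (σ 6) = 0 ∧ T.a (σ 1) (σ 1) = -4 * w ∧ T.a (σ 1) (σ 2) = 2 * w ∧ T.a (σ 1) (σ 3) = 0 ∧ T.a (σ 1) (σ 4) = 0 ∧ T.a (σ 1)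 (σ 5) = 0 ∧ T.a (σ 1) (σ 6) = 0 ∧ T.a (σ 2) (σ 2) = -4 * w ∧ T.a (σ 2) (σ 3) = 2 * w ∧ T.a (σ 2) (σ 4) = 0 ∧ T.a (σ 2) (σ 5) = 0 ∧ T.a (σ 2) (σ 6) = 0 ∧ T.a (σ 3) (σ 3) = -4 * w ∧ T.a (σ 3) (σ 4) = 2 * w ∧ T.a (σ 3) (σ 5) = 0 ∧ T.a (σ 3) (σ 6) = 0 ∧ T.a (σ 4) (σ 4) = -4 * w ∧ T.a (σ 4) (σ 5) = 2 * w ∧ T.a (σ 4) (σ 6) = 0 ∧ T.a (σ 5) (σ 5) = -4 * w ∧ T.a (σ 5) (σ 6) = 4 * w ∧ T.a (σ 6) (σ 6) = -8 * w) ∨ (T.m (σ 0) = m ∧ T.m (σ 1) = m ∧ T.m (σ 2) = m ∧ T.m (σ 3) = m ∧ T.m (σ 4) = m ∧ T.m (σ 5) = m ∧ T.m (σ 6) = m ∧ T.w (σ 0) = w ∧ T.w (σ 1) = 2 * w ∧ T.w (σ 2) = 2 * w ∧ T.w (σ 3) = 2 * w ∧ T.w (σ 4) = 2 * w ∧ T.w (σ 5) = 2 * w ∧ T.w (σ 6) = w ∧ T.a (σ 0) (σ 0) = -2 * w ∧ T.a (σ 0) (σ 1) = 2 * w ∧ T.a (σ 0) (σ 2) = 0 ∧ T.a (σ 0) (σ 3) = 0 ∧ T.a (σ 0) (σ 4) = 0 ∧ T.a (σ 0) (σ 5) = 0 ∧ T.a (σ 0) (σ 6) = 0 ∧ T.a (σ 1) (σ 1) = -4 * w ∧ T.a (σ 1) (σ 2) = 2 * w ∧ T.a (σ 1) (σ 3) = 0 ∧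 T.a (σ 1) (σ 4) = 0 ∧ T.a (σ 1) (σ 5) = 0 ∧ T.a (σ 1) (σ 6) = 0 ∧ T.a (σ 2) (σ 2) = -4 * w ∧ T.a (σ 2) (σ 3) = 2 * w ∧ T.a (σ 2) (σ 4) = 0 ∧ T.a (σ 2) (σ 5) = 0 ∧ T.a (σ 2) (σ 6) = 0 ∧ T.a (σ 3) (σ 3) = -4 * w ∧ T.a (σ 3) (σ 4) = 2 * w ∧ T.a (σ 3) (σ 5) = 0 ∧ T.a (σ 3) (σ 6) = 0 ∧ T.a (σ 4) (σ 4) = -4 * w ∧ T.a (σ 4) (σ 5) = 2 * w ∧ T.a (σ 4) (σ 6) = 0 ∧ T.a (σ 5) (σ 5) = -4 * w ∧ T.a (σ 5) (σ 6) = 2 * w ∧ T.a (σ 6) (σ 6) = -2 * w) ∨ (T.m (σ 0) = m ∧ T.m (σ 1) = 2 * m ∧ T.m (σ 2) = 2 * m ∧ T.m (σ 3) = 2 * m ∧ T.m (σ 4) = 2 * m ∧ T.m (σ 5) = 2 * m ∧ T.m (σ 6) = m ∧ T.w (σ 0) = 2 * w ∧ T.w (σ 1) = w ∧ T.w (σ 2) = w ∧ T.w (σ 3) = w ∧ T.w (σ 4) = w ∧ T.w (σ 5) = w ∧ T.w (σ 6) = 2 * w ∧ T.a (σ 0) (σ 0) = -4 * w ∧ T.a (σ 0) (σ 1) = 2 * w ∧ T.a (σ 0) (σ 2) = 0 ∧ T.a (σ 0) (σ 3) = 0 ∧ T.a (σ 0) (σ 4) = 0 ∧ T.a (σ 0) (σ 5) = 0 ∧ T.a (σ 0) (σ 6) = 0 ∧ T.a (σ 1) (σ 1) = -2 * w ∧ T.a (σ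 1) (σ 2) = w ∧ T.a (σ 1) (σ 3) = 0 ∧ T.a (σ 1) (σ 4) = 0 ∧ T.a (σ 1) (σ 5) = 0 ∧ T.a (σ 1) (σ 6) = 0 ∧ T.a (σ 2) (σ 2) = -2 * w ∧ T.a (σ 2) (σ 3) = w ∧ T.a (σ 2) (σ 4) = 0 ∧ T.a (σ 2) (σ 5) = 0 ∧ T.a (σ 2) (σ 6) = 0 ∧ T.a (σ 3) (σ 3) = -2 * w ∧ T.a (σ 3) (σ 4) = w ∧ T.a (σ 3) (σ 5) = 0 ∧ T.a (σ 3) (σ 6) = 0 ∧ T.a (σ 4) (σ 4) = -2 * w ∧ T.a (σ 4) (σ 5) = w ∧ T.a (σ 4) (σ 6) = 0 ∧ T.a (σ 5) (σ 5) = -2 * w ∧ T.a (σ 5) (σ 6) = 2 * w ∧ T.a (σ 6) (σ 6) = -4 * w) ∨ (T.m (σ 0) = m ∧ T.m (σ 1) = 2 * m ∧ T.m (σ 2) = 2 * m ∧ T.m (σ 3) = 2 * m ∧ T.m (σ 4) = 2 * m ∧ T.m (σ 5) = m ∧ T.m (σ 6) = m ∧ T.w (σ 0) = 2 * w ∧ T.w (σ 1) = w ∧ T.w (σ 2) = w ∧ T.w (σ 3) = w ∧ T.w (σ 4) = w ∧ T.w (σ 5) = w ∧ T.w (σ 6) = w ∧ T.a (σ 0) (σ 0) = -4 * w ∧ T.a (σ 0) (σ 1) = 2 * w ∧ T.a (σ 0) (σ 2) = 0 ∧ T.a (σ 0) (σ 3) = 0 ∧ T.a (σ 0) (σ 4) = 0 ∧ T.a (σ 0) (σ 5) = 0 ∧ T.a (σ 0) (σ 6) = 0 ∧ T.a (σ 1) (σ 1) =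 -2 * w ∧ T.a (σ 1) (σ 2) = w ∧ T.a (σ 1) (σ 3) = 0 ∧ T.a (σ 1) (σ 4) = 0 ∧ T.a (σ 1) (σ 5) = 0 ∧ T.a (σ 1) (σ 6) = 0 ∧ T.a (σ 2) (σ 2) = -2 * w ∧ T.a (σ 2) (σ 3) = w ∧ T.a (σ 2) (σ 4) = 0 ∧ T.a (σ 2) (σ 5) = 0 ∧ T.a (σ 2) (σ 6) = 0 ∧ T.a (σ 3) (σ 3) = -2 * w ∧ T.a (σ 3) (σ 4) = w ∧ T.a (σ 3) (σ 5) = 0 ∧ T.a (σ 3) (σ 6) = 0 ∧ T.a (σ 4) (σ 4) = -2 * w ∧ T.a (σ 4) (σ 5) = w ∧ T.a (σ 4) (σ 6) = w ∧ T.a (σ 5) (σ 5) = -2 * w ∧ T.a (σ 5) (σ 6) = 0 ∧ T.a (σ 6) (σ 6) = -2 * w) ∨ (T.m (σ 0) = 2 * m ∧ T.m (σ 1) = 2 * m ∧ T.m (σ 2) = 2 * m ∧ T.m (σ 3) = 2 * m ∧ T.m (σ 4) = 2 * m ∧ T.m (σ 5) = m ∧ T.m (σ 6) = m ∧ T.w (σ 0) = w ∧ T.w (σ 1) = 2 * w ∧ T.w (σ 2) = 2 * w ∧ T.w (σ 3) = 2 * w ∧ T.w (σ 4) = 2 * w ∧ T.w (σ 5) = 2 * w ∧ T.w (σ 6) = 2 * w ∧ T.a (σ 0) (σ 0) = -2 * w ∧ T.a (σ 0) (σ 1) = 2 * w ∧ T.a (σ 0) (σ 2) = 0 ∧ T.a (σ 0) (σ 3) = 0 ∧ T.a (σ 0) (σ 4) = 0 ∧ T.a (σ 0) (σ 5) = 0 ∧ T.a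 (σ 0) (σ 6) = 0 ∧ T.a (σ 1) (σ 1) = -4 * w ∧ T.a (σ 1) (σ 2) = 2 * w ∧ T.a (σ 1) (σ 3) = 0 ∧ T.a (σ 1) (σ 4) = 0 ∧ T.a (σ 1) (σ 5) = 0 ∧ T.a (σ 1) (σ 6) = 0 ∧ T.a (σ 2) (σ 2) = -4 * w ∧ T.a (σ 2) (σ 3) = 2 * w ∧ T.a (σ 2) (σ 4) = 0 ∧ T.a (σ 2) (σ 5) = 0 ∧ T.a (σ 2) (σ 6) = 0 ∧ T.a (σ 3) (σ 3) = -4 * w ∧ T.a (σ 3) (σ 4) = 2 * w ∧ T.a (σ 3) (σ 5) = 0 ∧ T.a (σ 3) (σ 6) = 0 ∧ T.a (σ 4) (σ 4) = -4 * w ∧ T.a (σ 4) (σ 5) = 2 * w ∧ T.a (σ 4) (σ 6) = 2 * w ∧ T.a (σ 5) (σ 5) = -4 * w ∧ T.a (σ 5) (σ 6) = 0 ∧ T.a (σ 6) (σ 6) = -4 * w) ∨ (T.m (σ 0) = m ∧ T.m (σ 1) = m ∧ T.m (σ 2) = 2 * m ∧ T.m (σ 3) = 2 * m ∧ T.m (σ 4) = 2 * m ∧ T.m (σ 5) = m ∧ T.m (σ 6) = m ∧ T.w (σ 0) = w ∧ T.w (σ 1) = w ∧ T.w (σ 2) = w ∧ T.w (σ 3) = w ∧ T.w (σ 4) = w ∧ T.w (σ 5) = w ∧ T.w (σ 6) = w ∧ T.a (σ 0) (σ 0) = -2 * w ∧ T.a (σ 0) (σ 1) = 0 ∧ T.a (σ 0) (σ 2) = w ∧ T.a (σ 0) (σ 3) = 0 ∧ T.a (σ 0) (σ 4) = 0 ∧ T.a (σ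 0) (σ 5) = 0 ∧ T.a (σ 0) (σ 6) = 0 ∧ T.a (σ 1) (σ 1) = -2 * w ∧ T.a (σ 1) (σ 2) = w ∧ T.a (σ 1) (σ 3) = 0 ∧ T.a (σ 1) (σ 4) = 0 ∧ T.a (σ 1) (σ 5) = 0 ∧ T.a (σ 1) (σ 6) = 0 ∧ T.a (σ 2) (σ 2) = -2 * w ∧ T.a (σ 2) (σ 3) = w ∧ T.a (σ 2) (σ 4) = 0 ∧ T.a (σ 2) (σ 5) = 0 ∧ T.a (σ 2) (σ 6) = 0 ∧ T.a (σ 3) (σ 3) = -2 * w ∧ T.a (σ 3) (σ 4) = w ∧ T.a (σ 3) (σ 5) = 0 ∧ T.a (σ 3) (σ 6) = 0 ∧ T.a (σ 4) (σ 4) = -2 * w ∧ T.a (σ 4) (σ 5) = w ∧ T.a (σ 4) (σ 6) = w ∧ T.a (σ 5) (σ 5) = -2 * w ∧ T.a (σ 5) (σ 6) = 0 ∧ T.a (σ 6) (σ 6) = -2 * w) ∨ (T.m (σ 0) = m ∧ T.m (σ 1) = 2 * m ∧ T.m (σ 2) = 3 * m ∧ T.m (σ 3) = m ∧ T.m (σ 4) = 2 * m ∧ T.m (σ 5) = m ∧ T.m (σ 6) = 2 * m ∧ T.w (σ 0) = w ∧ T.w (σ 1) = w ∧ T.w (σ 2) = w ∧ T.w (σ 3) = w ∧ T.w (σ 4) = w ∧ T.w (σ 5) = w ∧ T.w (σ 6) = w ∧ T.a (σ 0) (σ 0) = -2 * w ∧ T.a (σ 0) (σ 1) = w ∧ T.a (σ 0) (σ 2) = 0 ∧ T.a (σ 0) (σ 3) = 0 ∧ T.a (σ 0) (σ 4) = 0 ∧ T.a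 (σ 0) (σ 5) = 0 ∧ T.a (σ 0) (σ 6) = 0 ∧ T.a (σ 1) (σ 1) = -2 * w ∧ T.a (σ 1) (σ 2) = w ∧ T.a (σ 1) (σ 3) = 0 ∧ T.a (σ 1) (σ 4) = 0 ∧ T.a (σ 1) (σ 5) = 0 ∧ T.a (σ 1) (σ 6) = 0 ∧ T.a (σ 2) (σ 2) = -2 * w ∧ T.a (σ 2) (σ 3) = 0 ∧ T.a (σ 2) (σ 4) = w ∧ T.a (σ 2) (σ 5) = 0 ∧ T.a (σ 2) (σ 6) = w ∧ T.a (σ 3) (σ 3) = -2 * w ∧ T.a (σ 3) (σ 4) = w ∧ T.a (σ 3) (σ 5) = 0 ∧ T.a (σ 3) (σ 6) = 0 ∧ T.a (σ 4) (σ 4) = -2 * w ∧ T.a (σ 4) (σ 5) = 0 ∧ T.a (σ 4) (σ 6) = 0 ∧ T.a (σ 5) (σ 5) = -2 * w ∧ T.a (σ 5) (σ 6) = w ∧ T.a (σ 6) (σ 6) = -2 * w)) := by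
  by_cases hx : ∃ j, (j ≠ u0 ∧ j ≠ u1 ∧ j ≠ u2 ∧ j ≠ u3 ∧ j ≠ u4) ∧ T.a u2 j ≠ 0
  · obtain ⟨u5, ⟨hn_5_0, hn_5_1, hn_5_2, hn_5_3, hn_5_4⟩, e_2_5⟩ := hx
    have z_0_5 : T.a u0 u5 = 0 := cl_0 u5 ⟨hn_5_0, hn_5_1, hn_5_2⟩
    have z_1_5 : T.a u1 u5 = 0 := cl_1 u5 ⟨hn_5_0, hn_5_1, hn_5_2, hn_5_3⟩
    rcases Groth.Agent.Helper6.NT.edge5 T h2 (by norm_num) u2 u5 hn_5_2.symm e_2_5 with ⟨tw_2_5, tap_2_5, taq_2_5⟩ | ⟨tw_2_5, tap_2_5, taq_2_5⟩ | ⟨tw_2_5, tap_2_5, taq_2_5⟩ | ⟨tw_2_5, tap_2_5, taq_2_5⟩ | ⟨tw_2_5, tap_2_5, taq_2_5⟩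
    · -- (2,5) S
      exfalso
      have key := Groth.Agent.Helper6.NT.negfun4 T h2 u0 u2 u4 u5 (by norm_num) 1 2 2 1 (by norm_num) (by norm_num)
      linarith only [key, tap_0_2, taq_0_2, z_0_4, z_0_5, tap_2_4, taq_2_4, tap_2_5, taq_2_5, T.offDiag_nonneg u4 u5 hn_5_4.symm, T.w_pos u0, T.w_pos u2, T.w_pos u4, T.w_pos u5]
    · -- (2,5) Dp
      exfalso
      have key := Groth.Agent.Helper6.NT.negfun3 T h2 u2 u4 u5 (by norm_num) 2 2 1 (by norm_num) (by norm_num)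
      linarith only [key, tap_2_4, taq_2_4, tap_2_5, taq_2_5, T.offDiag_nonneg u4 u5 hn_5_4.symm, T.w_pos u2, T.w_pos u4, T.w_pos u5]
    · -- (2,5) Dm
      exfalso
      have key := Groth.Agent.Helper6.NT.negfun3 T h2 u2 u4 u5 (by norm_num) 1 1 1 (by norm_num) (by norm_num)
      linarith only [key, tap_2_4, taq_2_4, tap_2_5, taq_2_5, T.offDiag_nonneg u4 u5 hn_5_4.symm, T.w_pos u2, T.w_pos u4, T.w_pos u5]
    · -- (2,5) Tp
      exfalso
      have key := Groth.Agent.Helper6.NT.negfun3 T h2 u2 u4 u5 (by norm_num) 2 2 1 (by norm_num) (by norm_num)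
      linarith only [key, tap_2_4, taq_2_4, tap_2_5, taq_2_5, T.offDiag_nonneg u4 u5 hn_5_4.symm, T.w_pos u2, T.w_pos u4, T.w_pos u5]
    · -- (2,5) Tm
      exfalso
      have key := Groth.Agent.Helper6.NT.negfun3 T h2 u2 u4 u5 (by norm_num) 2 2 3 (by norm_num) (by norm_num)
      linarith only [key, tap_2_4, taq_2_4, tap_2_5, taq_2_5, T.offDiag_nonneg u4 u5 hn_5_4.symm, T.w_pos u2, T.w_pos u4, T.w_pos u5]
  · push Not at hx
    have cl_2 := hx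
    clear hx
    by_cases hx : ∃ j, (j ≠ u0 ∧ j ≠ u1 ∧ j ≠ u2 ∧ j ≠ u3 ∧ j ≠ u4) ∧ T.a u3 j ≠ 0
    · obtain ⟨u5, ⟨hn_5_0, hn_5_1, hn_5_2, hn_5_3, hn_5_4⟩, e_3_5⟩ := hx
      have z_0_5 : T.a u0 u5 = 0 := cl_0 u5 ⟨hn_5_0, hn_5_1, hn_5_2⟩
      have z_1_5 : T.a u1 u5 = 0 := cl_1 u5 ⟨hn_5_0, hn_5_1, hn_5_2, hn_5_3⟩
      have z_2_5 : T.a u2 u5 = 0 := cl_2 u5 ⟨hn_5_0, hn_5_1, hn_5_2, hn_5_3, hn_5_4⟩
      rcases Groth.Agent.Helper6.NT.edge5 T h2 (by norm_num) u3 u5 hn_5_3.symm e_3_5 with ⟨tw_3_5, tap_3_5, taq_3_5⟩ | ⟨tw_3_5, tap_3_5, taq_3_5⟩ | ⟨tw_3_5, tap_3_5, taq_3_5⟩ | ⟨tw_3_5, tap_3_5, taq_3_5⟩ | ⟨tw_3_5, tap_3_5, taq_3_5⟩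
      · -- (3,5) S
        rcases eq_or_ne (T.a u4 u5) 0 with z_4_5 | nz_4_5
        · -- (4,5) zero
          by_cases hx : ∃ j, (j ≠ u0 ∧ j ≠ u1 ∧ j ≠ u2 ∧ j ≠ u3 ∧ j ≠ u4 ∧ j ≠ u5) ∧ T.a u3 j ≠ 0
          · obtain ⟨u6, ⟨hn_6_0, hn_6_1, hn_6_2, hn_6_3, hn_6_4, hn_6_5⟩, e_3_6⟩ := hx
            have z_0_6 : T.a u0 u6 = 0 := cl_0 u6 ⟨hn_6_0, hn_6_1, hn_6_2⟩
            have z_1_6 : T.a u1 u6 = 0 := cl_1 u6 ⟨hn_6_0, hn_6_1, hn_6_2, hn_6_3⟩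
            have z_2_6 : T.a u2 u6 = 0 := cl_2 u6 ⟨hn_6_0, hn_6_1, hn_6_2, hn_6_3, hn_6_4⟩
            rcases Groth.Agent.Helper6.NT.edge5 T h2 (by norm_num) u3 u6 hn_6_3.symm e_3_6 with ⟨tw_3_6, tap_3_6, taq_3_6⟩ | ⟨tw_3_6, tap_3_6, taq_3_6⟩ | ⟨tw_3_6, tap_3_6, taq_3_6⟩ | ⟨tw_3_6, tap_3_6, taq_3_6⟩ | ⟨tw_3_6, tap_3_6, taq_3_6⟩
            · -- (3,6) S
              rcases eq_or_ne (T.a u4 u6) 0 with z_4_6 | nz_4_6
              · -- (4,6) zero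
                rcases eq_or_ne (T.a u5 u6) 0 with z_5_6 | nz_5_6
                · -- (5,6) zero
                  have hinj := Groth.Agent.Helper6.NT.inj7 u0 u1 u2 u3 u4 u5 u6 hn_1_0 hn_2_0 hn_2_1 hn_3_0 hn_3_1 hn_3_2 hn_4_0 hn_4_1 hn_4_2 hn_4_3 hn_5_0 hn_5_1 hn_5_2 hn_5_3 hn_5_4 hn_6_0 hn_6_1 hn_6_2 hn_6_3 hn_6_4 hn_6_5
                  have r_0 : -2 * T.m u0 + 1 * T.m u1 + 1 * T.m u2 = 0 := by
                    have key := Groth.Agent.Helper6.NT.rowfun7 T u0 u1 u2 u3 u4 u5 u6 hinj u0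
                    rw [(h2 u0).2, tap_0_1, tap_0_2, z_0_3, z_0_4, z_0_5, z_0_6] at key
                    exact mul_left_cancel₀ (T.w_pos u0).ne' (by linarith only [key])
                  have r_1 : 1 * T.m u0 + -2 * T.m u1 + 1 * T.m u3 = 0 := by
                    have key := Groth.Agent.Helper6.NT.rowfun7 T u0 u1 u2 u3 u4 u5 u6 hinj u1
                    rw [Groth.Agent.Helper6.NT.symm' T u1 u0, taq_0_1, (h2 u1).2, z_1_2, tap_1_3, z_1_4, z_1_5, z_1_6] at key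
                    exact mul_left_cancel₀ (T.w_pos u1).ne' (by linarith only [key])
                  have r_2 : 1 * T.m u0 + -2 * T.m u2 + 1 * T.m u4 = 0 := by
                    have key := Groth.Agent.Helper6.NT.rowfun7 T u0 u1 u2 u3 u4 u5 u6 hinj u2
                    rw [Groth.Agent.Helper6.NT.symm' T u2 u0, taq_0_2, Groth.Agent.Helper6.NT.symm' T u2 u1, z_1_2, (h2 u2).2, z_2_3, tap_2_4, z_2_5, z_2_6] at key
                    exact mul_left_cancel₀ (T.w_pos u2).ne' (by linarith only [key])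
                  have r_3 : 1 * T.m u1 + -2 * T.m u3 + 1 * T.m u5 + 1 * T.m u6 = 0 := by
                    have key := Groth.Agent.Helper6.NT.rowfun7 T u0 u1 u2 u3 u4 u5 u6 hinj u3
                    rw [Groth.Agent.Helper6.NT.symm' T u3 u0, z_0_3, Groth.Agent.Helper6.NT.symm' T u3 u1, taq_1_3, Groth.Agent.Helper6.NT.symm' T u3 u2, z_2_3, (h2 u3).2, z_3_4, tap_3_5, tap_3_6] at key
                    exact mul_left_cancel₀ (T.w_pos u3).ne' (by linarith only [key])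
                  have r_4 : 2 * T.m u2 + -2 * T.m u4 = 0 := by
                    have key := Groth.Agent.Helper6.NT.rowfun7 T u0 u1 u2 u3 u4 u5 u6 hinj u4
                    rw [Groth.Agent.Helper6.NT.symm' T u4 u0, z_0_4, Groth.Agent.Helper6.NT.symm' T u4 u1, z_1_4, Groth.Agent.Helper6.NT.symm' T u4 u2, taq_2_4, Groth.Agent.Helper6.NT.symm' T u4 u3, z_3_4, (h2 u4).2, z_4_5, z_4_6] at key
                    exact mul_left_cancel₀ (T.w_pos u4).ne' (by linarith only [key])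
                  have r_5 : 1 * T.m u3 + -2 * T.m u5 = 0 := by
                    have key := Groth.Agent.Helper6.NT.rowfun7 T u0 u1 u2 u3 u4 u5 u6 hinj u5
                    rw [Groth.Agent.Helper6.NT.symm' T u5 u0, z_0_5, Groth.Agent.Helper6.NT.symm' T u5 u1, z_1_5, Groth.Agent.Helper6.NT.symm' T u5 u2, z_2_5, Groth.Agent.Helper6.NT.symm' T u5 u3, taq_3_5, Groth.Agent.Helper6.NT.symm' T u5 u4, z_4_5, (h2 u5).2, z_5_6] at key
                    exact mul_left_cancel₀ (T.w_pos u5).ne' (by linarith only [key])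
                  have r_6 : 1 * T.m u3 + -2 * T.m u6 = 0 := by
                    have key := Groth.Agent.Helper6.NT.rowfun7 T u0 u1 u2 u3 u4 u5 u6 hinj u6
                    rw [Groth.Agent.Helper6.NT.symm' T u6 u0, z_0_6, Groth.Agent.Helper6.NT.symm' T u6 u1, z_1_6, Groth.Agent.Helper6.NT.symm' T u6 u2, z_2_6, Groth.Agent.Helper6.NT.symm' T u6 u3, taq_3_6, Groth.Agent.Helper6.NT.symm' T u6 u4, z_4_6, Groth.Agent.Helper6.NT.symm' T u6 u5, z_5_6, (h2 u6).2] at key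
                    exact mul_left_cancel₀ (T.w_pos u6).ne' (by linarith only [key])
                  have f0 : T.m u4 = 2 * T.m u5 := by linarith only [r_0, r_1, r_2, r_3, r_4, r_5, r_6]
                  have f1 : T.m u2 = 2 * T.m u5 := by linarith only [r_0, r_1, r_2, r_3, r_4, r_5, r_6]
                  have f2 : T.m u0 = 2 * T.m u5 := by linarith only [r_0, r_1, r_2, r_3, r_4, r_5, r_6]
                  have f3 : T.m u1 = 2 * T.m u5 := by linarith only [r_0, r_1, r_2, r_3, r_4, r_5, r_6]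
                  have f4 : T.m u3 = 2 * T.m u5 := by linarith only [r_0, r_1, r_2, r_3, r_4, r_5, r_6]
                  have f5 : T.m u5 = T.m u5 := rfl
                  have f6 : T.m u6 = T.m u5 := by linarith only [r_0, r_1, r_2, r_3, r_4, r_5, r_6]
                  have f7 : T.w u4 = T.w u4 := rfl
                  have f8 : T.w u2 = 2 * T.w u4 := by linarith only [tw_0_1, tw_0_2, tw_1_3, tw_2_4, tw_3_5, tw_3_6]
                  have f9 : T.w u0 = 2 * T.w u4 := by linarith only [tw_0_1, tw_0_2, tw_1_3, tw_2_4, tw_3_5, tw_3_6]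
                  have f10 : T.w u1 = 2 * T.w u4 := by linarith only [tw_0_1, tw_0_2, tw_1_3, tw_2_4, tw_3_5, tw_3_6]
                  have f11 : T.w u3 = 2 * T.w u4 := by linarith only [tw_0_1, tw_0_2, tw_1_3, tw_2_4, tw_3_5, tw_3_6]
                  have f12 : T.w u5 = 2 * T.w u4 := by linarith only [tw_0_1, tw_0_2, tw_1_3, tw_2_4, tw_3_5, tw_3_6]
                  have f13 : T.w u6 = 2 * T.w u4 := by linarith only [tw_0_1, tw_0_2, tw_1_3, tw_2_4, tw_3_5, tw_3_6]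
                  have f14 : T.a u4 u4 = -2 * T.w u4 := by have := (h2 u4).2; linarith only [this, tw_0_1, tw_0_2, tw_1_3, tw_2_4, tw_3_5, tw_3_6]
                  have f15 : T.a u4 u2 = 2 * T.w u4 := by rw [Groth.Agent.Helper6.NT.symm' T u4 u2]; linarith only [tap_2_4, tw_0_1, tw_0_2, tw_1_3, tw_2_4, tw_3_5, tw_3_6]
                  have f16 : T.a u4 u0 = 0 := by rw [Groth.Agent.Helper6.NT.symm' T u4 u0]; exact z_0_4
                  have f17 : T.a u4 u1 = 0 := by rw [Groth.Agent.Helper6.NT.symm' T u4 u1]; exact z_1_4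
                  have f18 : T.a u4 u3 = 0 := by rw [Groth.Agent.Helper6.NT.symm' T u4 u3]; exact z_3_4
                  have f19 : T.a u4 u5 = 0 := by exact z_4_5
                  have f20 : T.a u4 u6 = 0 := by exact z_4_6
                  have f21 : T.a u2 u2 = -4 * T.w u4 := by have := (h2 u2).2; linarith only [this, tw_0_1, tw_0_2, tw_1_3, tw_2_4, tw_3_5, tw_3_6]
                  have f22 : T.a u2 u0 = 2 * T.w u4 := by rw [Groth.Agent.Helper6.NT.symm' T u2 u0]; linarith only [tap_0_2, tw_0_1, tw_0_2, tw_1_3, tw_2_4, tw_3_5, tw_3_6]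
                  have f23 : T.a u2 u1 = 0 := by rw [Groth.Agent.Helper6.NT.symm' T u2 u1]; exact z_1_2
                  have f24 : T.a u2 u3 = 0 := by exact z_2_3
                  have f25 : T.a u2 u5 = 0 := by exact z_2_5
                  have f26 : T.a u2 u6 = 0 := by exact z_2_6
                  have f27 : T.a u0 u0 = -4 * T.w u4 := by have := (h2 u0).2; linarith only [this, tw_0_1, tw_0_2, tw_1_3, tw_2_4, tw_3_5, tw_3_6]
                  have f28 : T.a u0 u1 = 2 * T.w u4 := by linarith only [tap_0_1, tw_0_1, tw_0_2, tw_1_3, tw_2_4, tw_3_5, tw_3_6]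
                  have f29 : T.a u0 u3 = 0 := by exact z_0_3
                  have f30 : T.a u0 u5 = 0 := by exact z_0_5
                  have f31 : T.a u0 u6 = 0 := by exact z_0_6
                  have f32 : T.a u1 u1 = -4 * T.w u4 := by have := (h2 u1).2; linarith only [this, tw_0_1, tw_0_2, tw_1_3, tw_2_4, tw_3_5, tw_3_6]
                  have f33 : T.a u1 u3 = 2 * T.w u4 := by linarith only [tap_1_3, tw_0_1, tw_0_2, tw_1_3, tw_2_4, tw_3_5, tw_3_6]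
                  have f34 : T.a u1 u5 = 0 := by exact z_1_5
                  have f35 : T.a u1 u6 = 0 := by exact z_1_6
                  have f36 : T.a u3 u3 = -4 * T.w u4 := by have := (h2 u3).2; linarith only [this, tw_0_1, tw_0_2, tw_1_3, tw_2_4, tw_3_5, tw_3_6]
                  have f37 : T.a u3 u5 = 2 * T.w u4 := by linarith only [tap_3_5, tw_0_1, tw_0_2, tw_1_3, tw_2_4, tw_3_5, tw_3_6]
                  have f38 : T.a u3 u6 = 2 * T.w u4 := by linarith only [tap_3_6, tw_0_1, tw_0_2, tw_1_3, tw_2_4, tw_3_5, tw_3_6]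
                  have f39 : T.a u5 u5 = -4 * T.w u4 := by have := (h2 u5).2; linarith only [this, tw_0_1, tw_0_2, tw_1_3, tw_2_4, tw_3_5, tw_3_6]
                  have f40 : T.a u5 u6 = 0 := by exact z_5_6
                  have f41 : T.a u6 u6 = -4 * T.w u4 := by have := (h2 u6).2; linarith only [this, tw_0_1, tw_0_2, tw_1_3, tw_2_4, tw_3_5, tw_3_6]
                  have hsig := Groth.Agent.Helper6.NT.inj7 u4 u2 u0 u1 u3 u5 u6 hn_4_2.symm hn_4_0.symm hn_2_0.symm hn_4_1.symm hn_2_1.symm hn_1_0 hn_4_3.symm hn_3_2 hn_3_0 hn_3_1 hn_5_4 hn_5_2 hn_5_0 hn_5_1 hn_5_3 hn_6_4 hn_6_2 hn_6_0 hn_6_1 hn_6_3 hn_6_5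
                  exact ⟨Equiv.ofBijective _ (Finite.injective_iff_bijective.1 hsig), T.m u5, T.w u4, Or.inr (Or.inr (Or.inr (Or.inr (Or.inr (Or.inl ⟨f0, f1, f2, f3, f4, f5, f6, f7, f8, f9, f10, f11, f12, f13, f14, f15, f16, f17, f18, f19, f20, f21, f22, f23, f24, f25, f26, f27, f28, f29, f30, f31, f32, f33, f34, f35, f36, f37, f38, f39, f40, f41⟩)))))⟩
                · -- (5,6) nonzero
                  obtain ⟨lbp_5_6, lbq_5_6⟩ := Groth.Agent.Helper6.NT.lb T u5 u6 hn_6_5.symm nz_5_6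
                  exfalso
                  have key := Groth.Agent.Helper6.NT.negfun3 T h2 u3 u5 u6 (by norm_num) 1 1 1 (by norm_num) (by norm_num)
                  linarith only [key, tap_3_5, taq_3_5, tap_3_6, taq_3_6, lbp_5_6, lbq_5_6, T.w_pos u3, T.w_pos u5, T.w_pos u6]
              · -- (4,6) nonzero
                obtain ⟨lbp_4_6, lbq_4_6⟩ := Groth.Agent.Helper6.NT.lb T u4 u6 hn_6_4.symm nz_4_6
                exfalso
                have key := Groth.Agent.Helper6.NT.negfun6 T h2 u1 u2 u3 u4 u5 u6 (by norm_num) 1 1 2 2 1 2 (by norm_num) (by norm_num)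
                linarith only [key, z_1_2, tap_1_3, taq_1_3, z_1_4, z_1_5, z_1_6, z_2_3, tap_2_4, taq_2_4, z_2_5, z_2_6, z_3_4, tap_3_5, taq_3_5, tap_3_6, taq_3_6, z_4_5, lbp_4_6, lbq_4_6, T.offDiag_nonneg u5 u6 hn_6_5.symm, T.w_pos u1, T.w_pos u2, T.w_pos u3, T.w_pos u4, T.w_pos u5, T.w_pos u6]
            · -- (3,6) Dp
              exfalso
              have key := Groth.Agent.Helper6.NT.negfun4 T h2 u1 u3 u5 u6 (by norm_num) 1 2 1 1 (by norm_num) (by norm_num)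
              linarith only [key, tap_1_3, taq_1_3, z_1_5, z_1_6, tap_3_5, taq_3_5, tap_3_6, taq_3_6, T.offDiag_nonneg u5 u6 hn_6_5.symm, T.w_pos u1, T.w_pos u3, T.w_pos u5, T.w_pos u6]
            · -- (3,6) Dm
              exfalso
              have key := Groth.Agent.Helper6.NT.negfun4 T h2 u1 u3 u5 u6 (by norm_num) 1 2 1 2 (by norm_num) (by norm_num)
              linarith only [key, tap_1_3, taq_1_3, z_1_5, z_1_6, tap_3_5, taq_3_5, tap_3_6, taq_3_6, T.offDiag_nonneg u5 u6 hn_6_5.symm, T.w_pos u1, T.w_pos u3, T.w_pos u5, T.w_pos u6]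
            · -- (3,6) Tp
              exfalso
              have key := Groth.Agent.Helper6.NT.negfun3 T h2 u3 u5 u6 (by norm_num) 2 1 1 (by norm_num) (by norm_num)
              linarith only [key, tap_3_5, taq_3_5, tap_3_6, taq_3_6, T.offDiag_nonneg u5 u6 hn_6_5.symm, T.w_pos u3, T.w_pos u5, T.w_pos u6]
            · -- (3,6) Tm
              exfalso
              have key := Groth.Agent.Helper6.NT.negfun3 T h2 u3 u5 u6 (by norm_num) 2 1 3 (by norm_num) (by norm_num)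
              linarith only [key, tap_3_5, taq_3_5, tap_3_6, taq_3_6, T.offDiag_nonneg u5 u6 hn_6_5.symm, T.w_pos u3, T.w_pos u5, T.w_pos u6]
          · push Not at hx
            have cl_3 := hx
            clear hx
            by_cases hx : ∃ j, (j ≠ u0 ∧ j ≠ u1 ∧ j ≠ u2 ∧ j ≠ u3 ∧ j ≠ u4 ∧ j ≠ u5) ∧ T.a u4 j ≠ 0
            · obtain ⟨u6, ⟨hn_6_0, hn_6_1, hn_6_2, hn_6_3, hn_6_4, hn_6_5⟩, e_4_6⟩ := hx
              have z_0_6 : T.a u0 u6 = 0 := cl_0 u6 ⟨hn_6_0, hn_6_1, hn_6_2⟩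
              have z_1_6 : T.a u1 u6 = 0 := cl_1 u6 ⟨hn_6_0, hn_6_1, hn_6_2, hn_6_3⟩
              have z_2_6 : T.a u2 u6 = 0 := cl_2 u6 ⟨hn_6_0, hn_6_1, hn_6_2, hn_6_3, hn_6_4⟩
              have z_3_6 : T.a u3 u6 = 0 := cl_3 u6 ⟨hn_6_0, hn_6_1, hn_6_2, hn_6_3, hn_6_4, hn_6_5⟩
              rcases Groth.Agent.Helper6.NT.edge5 T h2 (by norm_num) u4 u6 hn_6_4.symm e_4_6 with ⟨tw_4_6, tap_4_6, taq_4_6⟩ | ⟨tw_4_6, tap_4_6, taq_4_6⟩ | ⟨tw_4_6, tap_4_6, taq_4_6⟩ | ⟨tw_4_6, tap_4_6, taq_4_6⟩ | ⟨tw_4_6, tap_4_6, taq_4_6⟩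
              · -- (4,6) S
                exfalso
                have key := Groth.Agent.Helper6.NT.negfun5 T h2 u0 u1 u2 u4 u6 (by norm_num) 2 1 3 4 2 (by norm_num) (by norm_num)
                linarith only [key, tap_0_1, taq_0_1, tap_0_2, taq_0_2, z_0_4, z_0_6, z_1_2, z_1_4, z_1_6, tap_2_4, taq_2_4, z_2_6, tap_4_6, taq_4_6, T.w_pos u0, T.w_pos u1, T.w_pos u2, T.w_pos u4, T.w_pos u6]
              · -- (4,6) Dp
                exfalso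
                have key := Groth.Agent.Helper6.NT.negfun3 T h2 u2 u4 u6 (by norm_num) 1 2 1 (by norm_num) (by norm_num)
                linarith only [key, tap_2_4, taq_2_4, z_2_6, tap_4_6, taq_4_6, T.w_pos u2, T.w_pos u4, T.w_pos u6]
              · -- (4,6) Dm
                exfalso
                have key := Groth.Agent.Helper6.NT.negfun3 T h2 u2 u4 u6 (by norm_num) 1 2 2 (by norm_num) (by norm_num)
                linarith only [key, tap_2_4, taq_2_4, z_2_6, tap_4_6, taq_4_6, T.w_pos u2, T.w_pos u4, T.w_pos u6]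
              · -- (4,6) Tp
                exfalso
                have key := Groth.Agent.Helper6.NT.negfun3 T h2 u2 u4 u6 (by norm_num) 1 2 1 (by norm_num) (by norm_num)
                linarith only [key, tap_2_4, taq_2_4, z_2_6, tap_4_6, taq_4_6, T.w_pos u2, T.w_pos u4, T.w_pos u6]
              · -- (4,6) Tm
                exfalso
                have key := Groth.Agent.Helper6.NT.negfun3 T h2 u2 u4 u6 (by norm_num) 1 2 3 (by norm_num) (by norm_num)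
                linarith only [key, tap_2_4, taq_2_4, z_2_6, tap_4_6, taq_4_6, T.w_pos u2, T.w_pos u4, T.w_pos u6]
            · push Not at hx
              have cl_4 := hx
              clear hx
              by_cases hx : ∃ j, (j ≠ u0 ∧ j ≠ u1 ∧ j ≠ u2 ∧ j ≠ u3 ∧ j ≠ u4 ∧ j ≠ u5) ∧ T.a u5 j ≠ 0
              · obtain ⟨u6, ⟨hn_6_0, hn_6_1, hn_6_2, hn_6_3, hn_6_4, hn_6_5⟩, e_5_6⟩ := hx
                have z_0_6 : T.a u0 u6 = 0 := cl_0 u6 ⟨hn_6_0, hn_6_1, hn_6_2⟩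
                have z_1_6 : T.a u1 u6 = 0 := cl_1 u6 ⟨hn_6_0, hn_6_1, hn_6_2, hn_6_3⟩
                have z_2_6 : T.a u2 u6 = 0 := cl_2 u6 ⟨hn_6_0, hn_6_1, hn_6_2, hn_6_3, hn_6_4⟩
                have z_3_6 : T.a u3 u6 = 0 := cl_3 u6 ⟨hn_6_0, hn_6_1, hn_6_2, hn_6_3, hn_6_4, hn_6_5⟩
                have z_4_6 : T.a u4 u6 = 0 := cl_4 u6 ⟨hn_6_0, hn_6_1, hn_6_2, hn_6_3, hn_6_4, hn_6_5⟩
                rcases Groth.Agent.Helper6.NT.edge5 T h2 (by norm_num) u5 u6 hn_6_5.symm e_5_6 with ⟨tw_5_6, tap_5_6, taq_5_6⟩ | ⟨tw_5_6, tap_5_6, taq_5_6⟩ | ⟨tw_5_6, tap_5_6, taq_5_6⟩ | ⟨tw_5_6, tap_5_6, taq_5_6⟩ | ⟨tw_5_6, tap_5_6, taq_5_6⟩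
                · -- (5,6) S
                  have hinj := Groth.Agent.Helper6.NT.inj7 u0 u1 u2 u3 u4 u5 u6 hn_1_0 hn_2_0 hn_2_1 hn_3_0 hn_3_1 hn_3_2 hn_4_0 hn_4_1 hn_4_2 hn_4_3 hn_5_0 hn_5_1 hn_5_2 hn_5_3 hn_5_4 hn_6_0 hn_6_1 hn_6_2 hn_6_3 hn_6_4 hn_6_5
                  have r_0 : -2 * T.m u0 + 1 * T.m u1 + 1 * T.m u2 = 0 := by
                    have key := Groth.Agent.Helper6.NT.rowfun7 T u0 u1 u2 u3 u4 u5 u6 hinj u0
                    rw [(h2 u0).2, tap_0_1, tap_0_2, z_0_3, z_0_4, z_0_5, z_0_6] at key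
                    exact mul_left_cancel₀ (T.w_pos u0).ne' (by linarith only [key])
                  have r_1 : 1 * T.m u0 + -2 * T.m u1 + 1 * T.m u3 = 0 := by
                    have key := Groth.Agent.Helper6.NT.rowfun7 T u0 u1 u2 u3 u4 u5 u6 hinj u1
                    rw [Groth.Agent.Helper6.NT.symm' T u1 u0, taq_0_1, (h2 u1).2, z_1_2, tap_1_3, z_1_4, z_1_5, z_1_6] at key
                    exact mul_left_cancel₀ (T.w_pos u1).ne' (by linarith only [key])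
                  have r_2 : 1 * T.m u0 + -2 * T.m u2 + 1 * T.m u4 = 0 := by
                    have key := Groth.Agent.Helper6.NT.rowfun7 T u0 u1 u2 u3 u4 u5 u6 hinj u2
                    rw [Groth.Agent.Helper6.NT.symm' T u2 u0, taq_0_2, Groth.Agent.Helper6.NT.symm' T u2 u1, z_1_2, (h2 u2).2, z_2_3, tap_2_4, z_2_5, z_2_6] at key
                    exact mul_left_cancel₀ (T.w_pos u2).ne' (by linarith only [key])
                  have r_3 : 1 * T.m u1 + -2 * T.m u3 + 1 * T.m u5 = 0 := by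
                    have key := Groth.Agent.Helper6.NT.rowfun7 T u0 u1 u2 u3 u4 u5 u6 hinj u3
                    rw [Groth.Agent.Helper6.NT.symm' T u3 u0, z_0_3, Groth.Agent.Helper6.NT.symm' T u3 u1, taq_1_3, Groth.Agent.Helper6.NT.symm' T u3 u2, z_2_3, (h2 u3).2, z_3_4, tap_3_5, z_3_6] at key
                    exact mul_left_cancel₀ (T.w_pos u3).ne' (by linarith only [key])
                  have r_4 : 2 * T.m u2 + -2 * T.m u4 = 0 := by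
                    have key := Groth.Agent.Helper6.NT.rowfun7 T u0 u1 u2 u3 u4 u5 u6 hinj u4
                    rw [Groth.Agent.Helper6.NT.symm' T u4 u0, z_0_4, Groth.Agent.Helper6.NT.symm' T u4 u1, z_1_4, Groth.Agent.Helper6.NT.symm' T u4 u2, taq_2_4, Groth.Agent.Helper6.NT.symm' T u4 u3, z_3_4, (h2 u4).2, z_4_5, z_4_6] at key
                    exact mul_left_cancel₀ (T.w_pos u4).ne' (by linarith only [key])
                  have r_5 : 1 * T.m u3 + -2 * T.m u5 + 1 * T.m u6 = 0 := by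
                    have key := Groth.Agent.Helper6.NT.rowfun7 T u0 u1 u2 u3 u4 u5 u6 hinj u5
                    rw [Groth.Agent.Helper6.NT.symm' T u5 u0, z_0_5, Groth.Agent.Helper6.NT.symm' T u5 u1, z_1_5, Groth.Agent.Helper6.NT.symm' T u5 u2, z_2_5, Groth.Agent.Helper6.NT.symm' T u5 u3, taq_3_5, Groth.Agent.Helper6.NT.symm' T u5 u4, z_4_5, (h2 u5).2, tap_5_6] at key
                    exact mul_left_cancel₀ (T.w_pos u5).ne' (by linarith only [key])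
                  have r_6 : 1 * T.m u5 + -2 * T.m u6 = 0 := by
                    have key := Groth.Agent.Helper6.NT.rowfun7 T u0 u1 u2 u3 u4 u5 u6 hinj u6
                    rw [Groth.Agent.Helper6.NT.symm' T u6 u0, z_0_6, Groth.Agent.Helper6.NT.symm' T u6 u1, z_1_6, Groth.Agent.Helper6.NT.symm' T u6 u2, z_2_6, Groth.Agent.Helper6.NT.symm' T u6 u3, z_3_6, Groth.Agent.Helper6.NT.symm' T u6 u4, z_4_6, Groth.Agent.Helper6.NT.symm' T u6 u5, taq_5_6, (h2 u6).2] at key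
                    exact mul_left_cancel₀ (T.w_pos u6).ne' (by linarith only [key])
                  exfalso
                  linarith only [r_0, r_1, r_2, r_3, r_4, r_5, r_6, T.m_pos u0, T.m_pos u1, T.m_pos u2, T.m_pos u3, T.m_pos u4, T.m_pos u5, T.m_pos u6]
                · -- (5,6) Dp
                  have hinj := Groth.Agent.Helper6.NT.inj7 u0 u1 u2 u3 u4 u5 u6 hn_1_0 hn_2_0 hn_2_1 hn_3_0 hn_3_1 hn_3_2 hn_4_0 hn_4_1 hn_4_2 hn_4_3 hn_5_0 hn_5_1 hn_5_2 hn_5_3 hn_5_4 hn_6_0 hn_6_1 hn_6_2 hn_6_3 hn_6_4 hn_6_5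
                  have r_0 : -2 * T.m u0 + 1 * T.m u1 + 1 * T.m u2 = 0 := by
                    have key := Groth.Agent.Helper6.NT.rowfun7 T u0 u1 u2 u3 u4 u5 u6 hinj u0
                    rw [(h2 u0).2, tap_0_1, tap_0_2, z_0_3, z_0_4, z_0_5, z_0_6] at key
                    exact mul_left_cancel₀ (T.w_pos u0).ne' (by linarith only [key])
                  have r_1 : 1 * T.m u0 + -2 * T.m u1 + 1 * T.m u3 = 0 := by
                    have key := Groth.Agent.Helper6.NT.rowfun7 T u0 u1 u2 u3 u4 u5 u6 hinj u1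
                    rw [Groth.Agent.Helper6.NT.symm' T u1 u0, taq_0_1, (h2 u1).2, z_1_2, tap_1_3, z_1_4, z_1_5, z_1_6] at key
                    exact mul_left_cancel₀ (T.w_pos u1).ne' (by linarith only [key])
                  have r_2 : 1 * T.m u0 + -2 * T.m u2 + 1 * T.m u4 = 0 := by
                    have key := Groth.Agent.Helper6.NT.rowfun7 T u0 u1 u2 u3 u4 u5 u6 hinj u2
                    rw [Groth.Agent.Helper6.NT.symm' T u2 u0, taq_0_2, Groth.Agent.Helper6.NT.symm' T u2 u1, z_1_2, (h2 u2).2, z_2_3, tap_2_4, z_2_5, z_2_6] at key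
                    exact mul_left_cancel₀ (T.w_pos u2).ne' (by linarith only [key])
                  have r_3 : 1 * T.m u1 + -2 * T.m u3 + 1 * T.m u5 = 0 := by
                    have key := Groth.Agent.Helper6.NT.rowfun7 T u0 u1 u2 u3 u4 u5 u6 hinj u3
                    rw [Groth.Agent.Helper6.NT.symm' T u3 u0, z_0_3, Groth.Agent.Helper6.NT.symm' T u3 u1, taq_1_3, Groth.Agent.Helper6.NT.symm' T u3 u2, z_2_3, (h2 u3).2, z_3_4, tap_3_5, z_3_6] at key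
                    exact mul_left_cancel₀ (T.w_pos u3).ne' (by linarith only [key])
                  have r_4 : 2 * T.m u2 + -2 * T.m u4 = 0 := by
                    have key := Groth.Agent.Helper6.NT.rowfun7 T u0 u1 u2 u3 u4 u5 u6 hinj u4
                    rw [Groth.Agent.Helper6.NT.symm' T u4 u0, z_0_4, Groth.Agent.Helper6.NT.symm' T u4 u1, z_1_4, Groth.Agent.Helper6.NT.symm' T u4 u2, taq_2_4, Groth.Agent.Helper6.NT.symm' T u4 u3, z_3_4, (h2 u4).2, z_4_5, z_4_6] at key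
                    exact mul_left_cancel₀ (T.w_pos u4).ne' (by linarith only [key])
                  have r_5 : 1 * T.m u3 + -2 * T.m u5 + 2 * T.m u6 = 0 := by
                    have key := Groth.Agent.Helper6.NT.rowfun7 T u0 u1 u2 u3 u4 u5 u6 hinj u5
                    rw [Groth.Agent.Helper6.NT.symm' T u5 u0, z_0_5, Groth.Agent.Helper6.NT.symm' T u5 u1, z_1_5, Groth.Agent.Helper6.NT.symm' T u5 u2, z_2_5, Groth.Agent.Helper6.NT.symm' T u5 u3, taq_3_5, Groth.Agent.Helper6.NT.symm' T u5 u4, z_4_5, (h2 u5).2, tap_5_6] at key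
                    exact mul_left_cancel₀ (T.w_pos u5).ne' (by linarith only [key])
                  have r_6 : 1 * T.m u5 + -2 * T.m u6 = 0 := by
                    have key := Groth.Agent.Helper6.NT.rowfun7 T u0 u1 u2 u3 u4 u5 u6 hinj u6
                    rw [Groth.Agent.Helper6.NT.symm' T u6 u0, z_0_6, Groth.Agent.Helper6.NT.symm' T u6 u1, z_1_6, Groth.Agent.Helper6.NT.symm' T u6 u2, z_2_6, Groth.Agent.Helper6.NT.symm' T u6 u3, z_3_6, Groth.Agent.Helper6.NT.symm' T u6 u4, z_4_6, Groth.Agent.Helper6.NT.symm' T u6 u5, taq_5_6, (h2 u6).2] at key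
                    exact mul_left_cancel₀ (T.w_pos u6).ne' (by linarith only [key])
                  have f0 : T.m u4 = 2 * T.m u6 := by linarith only [r_0, r_1, r_2, r_3, r_4, r_5, r_6]
                  have f1 : T.m u2 = 2 * T.m u6 := by linarith only [r_0, r_1, r_2, r_3, r_4, r_5, r_6]
                  have f2 : T.m u0 = 2 * T.m u6 := by linarith only [r_0, r_1, r_2, r_3, r_4, r_5, r_6]
                  have f3 : T.m u1 = 2 * T.m u6 := by linarith only [r_0, r_1, r_2, r_3, r_4, r_5, r_6]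
                  have f4 : T.m u3 = 2 * T.m u6 := by linarith only [r_0, r_1, r_2, r_3, r_4, r_5, r_6]
                  have f5 : T.m u5 = 2 * T.m u6 := by linarith only [r_0, r_1, r_2, r_3, r_4, r_5, r_6]
                  have f6 : T.m u6 = T.m u6 := rfl
                  have f7 : T.w u4 = T.w u4 := rfl
                  have f8 : T.w u2 = 2 * T.w u4 := by linarith only [tw_0_1, tw_0_2, tw_1_3, tw_2_4, tw_3_5, tw_5_6]
                  have f9 : T.w u0 = 2 * T.w u4 := by linarith only [tw_0_1, tw_0_2, tw_1_3, tw_2_4, tw_3_5, tw_5_6]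
                  have f10 : T.w u1 = 2 * T.w u4 := by linarith only [tw_0_1, tw_0_2, tw_1_3, tw_2_4, tw_3_5, tw_5_6]
                  have f11 : T.w u3 = 2 * T.w u4 := by linarith only [tw_0_1, tw_0_2, tw_1_3, tw_2_4, tw_3_5, tw_5_6]
                  have f12 : T.w u5 = 2 * T.w u4 := by linarith only [tw_0_1, tw_0_2, tw_1_3, tw_2_4, tw_3_5, tw_5_6]
                  have f13 : T.w u6 = 4 * T.w u4 := by linarith only [tw_0_1, tw_0_2, tw_1_3, tw_2_4, tw_3_5, tw_5_6]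
                  have f14 : T.a u4 u4 = -2 * T.w u4 := by have := (h2 u4).2; linarith only [this, tw_0_1, tw_0_2, tw_1_3, tw_2_4, tw_3_5, tw_5_6]
                  have f15 : T.a u4 u2 = 2 * T.w u4 := by rw [Groth.Agent.Helper6.NT.symm' T u4 u2]; linarith only [tap_2_4, tw_0_1, tw_0_2, tw_1_3, tw_2_4, tw_3_5, tw_5_6]
                  have f16 : T.a u4 u0 = 0 := by rw [Groth.Agent.Helper6.NT.symm' T u4 u0]; exact z_0_4
                  have f17 : T.a u4 u1 = 0 := by rw [Groth.Agent.Helper6.NT.symm' T u4 u1]; exact z_1_4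
                  have f18 : T.a u4 u3 = 0 := by rw [Groth.Agent.Helper6.NT.symm' T u4 u3]; exact z_3_4
                  have f19 : T.a u4 u5 = 0 := by exact z_4_5
                  have f20 : T.a u4 u6 = 0 := by exact z_4_6
                  have f21 : T.a u2 u2 = -4 * T.w u4 := by have := (h2 u2).2; linarith only [this, tw_0_1, tw_0_2, tw_1_3, tw_2_4, tw_3_5, tw_5_6]
                  have f22 : T.a u2 u0 = 2 * T.w u4 := by rw [Groth.Agent.Helper6.NT.symm' T u2 u0]; linarith only [tap_0_2, tw_0_1, tw_0_2, tw_1_3, tw_2_4, tw_3_5, tw_5_6]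
                  have f23 : T.a u2 u1 = 0 := by rw [Groth.Agent.Helper6.NT.symm' T u2 u1]; exact z_1_2
                  have f24 : T.a u2 u3 = 0 := by exact z_2_3
                  have f25 : T.a u2 u5 = 0 := by exact z_2_5
                  have f26 : T.a u2 u6 = 0 := by exact z_2_6
                  have f27 : T.a u0 u0 = -4 * T.w u4 := by have := (h2 u0).2; linarith only [this, tw_0_1, tw_0_2, tw_1_3, tw_2_4, tw_3_5, tw_5_6]
                  have f28 : T.a u0 u1 = 2 * T.w u4 := by linarith only [tap_0_1, tw_0_1, tw_0_2, tw_1_3, tw_2_4, tw_3_5, tw_5_6]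
                  have f29 : T.a u0 u3 = 0 := by exact z_0_3
                  have f30 : T.a u0 u5 = 0 := by exact z_0_5
                  have f31 : T.a u0 u6 = 0 := by exact z_0_6
                  have f32 : T.a u1 u1 = -4 * T.w u4 := by have := (h2 u1).2; linarith only [this, tw_0_1, tw_0_2, tw_1_3, tw_2_4, tw_3_5, tw_5_6]
                  have f33 : T.a u1 u3 = 2 * T.w u4 := by linarith only [tap_1_3, tw_0_1, tw_0_2, tw_1_3, tw_2_4, tw_3_5, tw_5_6]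
                  have f34 : T.a u1 u5 = 0 := by exact z_1_5
                  have f35 : T.a u1 u6 = 0 := by exact z_1_6
                  have f36 : T.a u3 u3 = -4 * T.w u4 := by have := (h2 u3).2; linarith only [this, tw_0_1, tw_0_2, tw_1_3, tw_2_4, tw_3_5, tw_5_6]
                  have f37 : T.a u3 u5 = 2 * T.w u4 := by linarith only [tap_3_5, tw_0_1, tw_0_2, tw_1_3, tw_2_4, tw_3_5, tw_5_6]
                  have f38 : T.a u3 u6 = 0 := by exact z_3_6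
                  have f39 : T.a u5 u5 = -4 * T.w u4 := by have := (h2 u5).2; linarith only [this, tw_0_1, tw_0_2, tw_1_3, tw_2_4, tw_3_5, tw_5_6]
                  have f40 : T.a u5 u6 = 4 * T.w u4 := by linarith only [tap_5_6, tw_0_1, tw_0_2, tw_1_3, tw_2_4, tw_3_5, tw_5_6]
                  have f41 : T.a u6 u6 = -8 * T.w u4 := by have := (h2 u6).2; linarith only [this, tw_0_1, tw_0_2, tw_1_3, tw_2_4, tw_3_5, tw_5_6]
                  have hsig := Groth.Agent.Helper6.NT.inj7 u4 u2 u0 u1 u3 u5 u6 hn_4_2.symm hn_4_0.symm hn_2_0.symm hn_4_1.symm hn_2_1.symm hn_1_0 hn_4_3.symm hn_3_2 hn_3_0 hn_3_1 hn_5_4 hn_5_2 hn_5_0 hn_5_1 hn_5_3 hn_6_4 hn_6_2 hn_6_0 hn_6_1 hn_6_3 hn_6_5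
                  exact ⟨Equiv.ofBijective _ (Finite.injective_iff_bijective.1 hsig), T.m u6, T.w u4, Or.inr (Or.inl ⟨f0, f1, f2, f3, f4, f5, f6, f7, f8, f9, f10, f11, f12, f13, f14, f15, f16, f17, f18, f19, f20, f21, f22, f23, f24, f25, f26, f27, f28, f29, f30, f31, f32, f33, f34, f35, f36, f37, f38, f39, f40, f41⟩)⟩
                · -- (5,6) Dm
                  have hinj := Groth.Agent.Helper6.NT.inj7 u0 u1 u2 u3 u4 u5 u6 hn_1_0 hn_2_0 hn_2_1 hn_3_0 hn_3_1 hn_3_2 hn_4_0 hn_4_1 hn_4_2 hn_4_3 hn_5_0 hn_5_1 hn_5_2 hn_5_3 hn_5_4 hn_6_0 hn_6_1 hn_6_2 hn_6_3 hn_6_4 hn_6_5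
                  have r_0 : -2 * T.m u0 + 1 * T.m u1 + 1 * T.m u2 = 0 := by
                    have key := Groth.Agent.Helper6.NT.rowfun7 T u0 u1 u2 u3 u4 u5 u6 hinj u0
                    rw [(h2 u0).2, tap_0_1, tap_0_2, z_0_3, z_0_4, z_0_5, z_0_6] at key
                    exact mul_left_cancel₀ (T.w_pos u0).ne' (by linarith only [key])
                  have r_1 : 1 * T.m u0 + -2 * T.m u1 + 1 * T.m u3 = 0 := by
                    have key := Groth.Agent.Helper6.NT.rowfun7 T u0 u1 u2 u3 u4 u5 u6 hinj u1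
                    rw [Groth.Agent.Helper6.NT.symm' T u1 u0, taq_0_1, (h2 u1).2, z_1_2, tap_1_3, z_1_4, z_1_5, z_1_6] at key
                    exact mul_left_cancel₀ (T.w_pos u1).ne' (by linarith only [key])
                  have r_2 : 1 * T.m u0 + -2 * T.m u2 + 1 * T.m u4 = 0 := by
                    have key := Groth.Agent.Helper6.NT.rowfun7 T u0 u1 u2 u3 u4 u5 u6 hinj u2
                    rw [Groth.Agent.Helper6.NT.symm' T u2 u0, taq_0_2, Groth.Agent.Helper6.NT.symm' T u2 u1, z_1_2, (h2 u2).2, z_2_3, tap_2_4, z_2_5, z_2_6] at key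
                    exact mul_left_cancel₀ (T.w_pos u2).ne' (by linarith only [key])
                  have r_3 : 1 * T.m u1 + -2 * T.m u3 + 1 * T.m u5 = 0 := by
                    have key := Groth.Agent.Helper6.NT.rowfun7 T u0 u1 u2 u3 u4 u5 u6 hinj u3
                    rw [Groth.Agent.Helper6.NT.symm' T u3 u0, z_0_3, Groth.Agent.Helper6.NT.symm' T u3 u1, taq_1_3, Groth.Agent.Helper6.NT.symm' T u3 u2, z_2_3, (h2 u3).2, z_3_4, tap_3_5, z_3_6] at key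
                    exact mul_left_cancel₀ (T.w_pos u3).ne' (by linarith only [key])
                  have r_4 : 2 * T.m u2 + -2 * T.m u4 = 0 := by
                    have key := Groth.Agent.Helper6.NT.rowfun7 T u0 u1 u2 u3 u4 u5 u6 hinj u4
                    rw [Groth.Agent.Helper6.NT.symm' T u4 u0, z_0_4, Groth.Agent.Helper6.NT.symm' T u4 u1, z_1_4, Groth.Agent.Helper6.NT.symm' T u4 u2, taq_2_4, Groth.Agent.Helper6.NT.symm' T u4 u3, z_3_4, (h2 u4).2, z_4_5, z_4_6] at key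
                    exact mul_left_cancel₀ (T.w_pos u4).ne' (by linarith only [key])
                  have r_5 : 1 * T.m u3 + -2 * T.m u5 + 1 * T.m u6 = 0 := by
                    have key := Groth.Agent.Helper6.NT.rowfun7 T u0 u1 u2 u3 u4 u5 u6 hinj u5
                    rw [Groth.Agent.Helper6.NT.symm' T u5 u0, z_0_5, Groth.Agent.Helper6.NT.symm' T u5 u1, z_1_5, Groth.Agent.Helper6.NT.symm' T u5 u2, z_2_5, Groth.Agent.Helper6.NT.symm' T u5 u3, taq_3_5, Groth.Agent.Helper6.NT.symm' T u5 u4, z_4_5, (h2 u5).2, tap_5_6] at key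
                    exact mul_left_cancel₀ (T.w_pos u5).ne' (by linarith only [key])
                  have r_6 : 2 * T.m u5 + -2 * T.m u6 = 0 := by
                    have key := Groth.Agent.Helper6.NT.rowfun7 T u0 u1 u2 u3 u4 u5 u6 hinj u6
                    rw [Groth.Agent.Helper6.NT.symm' T u6 u0, z_0_6, Groth.Agent.Helper6.NT.symm' T u6 u1, z_1_6, Groth.Agent.Helper6.NT.symm' T u6 u2, z_2_6, Groth.Agent.Helper6.NT.symm' T u6 u3, z_3_6, Groth.Agent.Helper6.NT.symm' T u6 u4, z_4_6, Groth.Agent.Helper6.NT.symm' T u6 u5, taq_5_6, (h2 u6).2] at key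
                    exact mul_left_cancel₀ (T.w_pos u6).ne' (by linarith only [key])
                  have f0 : T.m u4 = T.m u4 := rfl
                  have f1 : T.m u2 = T.m u4 := by linarith only [r_0, r_1, r_2, r_3, r_4, r_5, r_6]
                  have f2 : T.m u0 = T.m u4 := by linarith only [r_0, r_1, r_2, r_3, r_4, r_5, r_6]
                  have f3 : T.m u1 = T.m u4 := by linarith only [r_0, r_1, r_2, r_3, r_4, r_5, r_6]
                  have f4 : T.m u3 = T.m u4 := by linarith only [r_0, r_1, r_2, r_3, r_4, r_5, r_6]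
                  have f5 : T.m u5 = T.m u4 := by linarith only [r_0, r_1, r_2, r_3, r_4, r_5, r_6]
                  have f6 : T.m u6 = T.m u4 := by linarith only [r_0, r_1, r_2, r_3, r_4, r_5, r_6]
                  have f7 : T.w u4 = T.w u4 := rfl
                  have f8 : T.w u2 = 2 * T.w u4 := by linarith only [tw_0_1, tw_0_2, tw_1_3, tw_2_4, tw_3_5, tw_5_6]
                  have f9 : T.w u0 = 2 * T.w u4 := by linarith only [tw_0_1, tw_0_2, tw_1_3, tw_2_4, tw_3_5, tw_5_6]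
                  have f10 : T.w u1 = 2 * T.w u4 := by linarith only [tw_0_1, tw_0_2, tw_1_3, tw_2_4, tw_3_5, tw_5_6]
                  have f11 : T.w u3 = 2 * T.w u4 := by linarith only [tw_0_1, tw_0_2, tw_1_3, tw_2_4, tw_3_5, tw_5_6]
                  have f12 : T.w u5 = 2 * T.w u4 := by linarith only [tw_0_1, tw_0_2, tw_1_3, tw_2_4, tw_3_5, tw_5_6]
                  have f13 : T.w u6 = T.w u4 := by linarith only [tw_0_1, tw_0_2, tw_1_3, tw_2_4, tw_3_5, tw_5_6]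
                  have f14 : T.a u4 u4 = -2 * T.w u4 := by have := (h2 u4).2; linarith only [this, tw_0_1, tw_0_2, tw_1_3, tw_2_4, tw_3_5, tw_5_6]
                  have f15 : T.a u4 u2 = 2 * T.w u4 := by rw [Groth.Agent.Helper6.NT.symm' T u4 u2]; linarith only [tap_2_4, tw_0_1, tw_0_2, tw_1_3, tw_2_4, tw_3_5, tw_5_6]
                  have f16 : T.a u4 u0 = 0 := by rw [Groth.Agent.Helper6.NT.symm' T u4 u0]; exact z_0_4
                  have f17 : T.a u4 u1 = 0 := by rw [Groth.Agent.Helper6.NT.symm' T u4 u1]; exact z_1_4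
                  have f18 : T.a u4 u3 = 0 := by rw [Groth.Agent.Helper6.NT.symm' T u4 u3]; exact z_3_4
                  have f19 : T.a u4 u5 = 0 := by exact z_4_5
                  have f20 : T.a u4 u6 = 0 := by exact z_4_6
                  have f21 : T.a u2 u2 = -4 * T.w u4 := by have := (h2 u2).2; linarith only [this, tw_0_1, tw_0_2, tw_1_3, tw_2_4, tw_3_5, tw_5_6]
                  have f22 : T.a u2 u0 = 2 * T.w u4 := by rw [Groth.Agent.Helper6.NT.symm' T u2 u0]; linarith only [tap_0_2, tw_0_1, tw_0_2, tw_1_3, tw_2_4, tw_3_5, tw_5_6]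
                  have f23 : T.a u2 u1 = 0 := by rw [Groth.Agent.Helper6.NT.symm' T u2 u1]; exact z_1_2
                  have f24 : T.a u2 u3 = 0 := by exact z_2_3
                  have f25 : T.a u2 u5 = 0 := by exact z_2_5
                  have f26 : T.a u2 u6 = 0 := by exact z_2_6
                  have f27 : T.a u0 u0 = -4 * T.w u4 := by have := (h2 u0).2; linarith only [this, tw_0_1, tw_0_2, tw_1_3, tw_2_4, tw_3_5, tw_5_6]
                  have f28 : T.a u0 u1 = 2 * T.w u4 := by linarith only [tap_0_1, tw_0_1, tw_0_2, tw_1_3, tw_2_4, tw_3_5, tw_5_6]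
                  have f29 : T.a u0 u3 = 0 := by exact z_0_3
                  have f30 : T.a u0 u5 = 0 := by exact z_0_5
                  have f31 : T.a u0 u6 = 0 := by exact z_0_6
                  have f32 : T.a u1 u1 = -4 * T.w u4 := by have := (h2 u1).2; linarith only [this, tw_0_1, tw_0_2, tw_1_3, tw_2_4, tw_3_5, tw_5_6]
                  have f33 : T.a u1 u3 = 2 * T.w u4 := by linarith only [tap_1_3, tw_0_1, tw_0_2, tw_1_3, tw_2_4, tw_3_5, tw_5_6]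
                  have f34 : T.a u1 u5 = 0 := by exact z_1_5
                  have f35 : T.a u1 u6 = 0 := by exact z_1_6
                  have f36 : T.a u3 u3 = -4 * T.w u4 := by have := (h2 u3).2; linarith only [this, tw_0_1, tw_0_2, tw_1_3, tw_2_4, tw_3_5, tw_5_6]
                  have f37 : T.a u3 u5 = 2 * T.w u4 := by linarith only [tap_3_5, tw_0_1, tw_0_2, tw_1_3, tw_2_4, tw_3_5, tw_5_6]
                  have f38 : T.a u3 u6 = 0 := by exact z_3_6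
                  have f39 : T.a u5 u5 = -4 * T.w u4 := by have := (h2 u5).2; linarith only [this, tw_0_1, tw_0_2, tw_1_3, tw_2_4, tw_3_5, tw_5_6]
                  have f40 : T.a u5 u6 = 2 * T.w u4 := by linarith only [tap_5_6, tw_0_1, tw_0_2, tw_1_3, tw_2_4, tw_3_5, tw_5_6]
                  have f41 : T.a u6 u6 = -2 * T.w u4 := by have := (h2 u6).2; linarith only [this, tw_0_1, tw_0_2, tw_1_3, tw_2_4, tw_3_5, tw_5_6]
                  have hsig := Groth.Agent.Helper6.NT.inj7 u4 u2 u0 u1 u3 u5 u6 hn_4_2.symm hn_4_0.symm hn_2_0.symm hn_4_1.symm hn_2_1.symm hn_1_0 hn_4_3.symm hn_3_2 hn_3_0 hn_3_1 hn_5_4 hn_5_2 hn_5_0 hn_5_1 hn_5_3 hn_6_4 hn_6_2 hn_6_0 hn_6_1 hn_6_3 hn_6_5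
                  exact ⟨Equiv.ofBijective _ (Finite.injective_iff_bijective.1 hsig), T.m u4, T.w u4, Or.inr (Or.inr (Or.inl ⟨f0, f1, f2, f3, f4, f5, f6, f7, f8, f9, f10, f11, f12, f13, f14, f15, f16, f17, f18, f19, f20, f21, f22, f23, f24, f25, f26, f27, f28, f29, f30, f31, f32, f33, f34, f35, f36, f37, f38, f39, f40, f41⟩))⟩
                · -- (5,6) Tp
                  exfalso
                  have key := Groth.Agent.Helper6.NT.negfun3 T h2 u3 u5 u6 (by norm_num) 1 2 1 (by norm_num) (by norm_num)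
                  linarith only [key, tap_3_5, taq_3_5, z_3_6, tap_5_6, taq_5_6, T.w_pos u3, T.w_pos u5, T.w_pos u6]
                · -- (5,6) Tm
                  exfalso
                  have key := Groth.Agent.Helper6.NT.negfun3 T h2 u3 u5 u6 (by norm_num) 1 2 3 (by norm_num) (by norm_num)
                  linarith only [key, tap_3_5, taq_3_5, z_3_6, tap_5_6, taq_5_6, T.w_pos u3, T.w_pos u5, T.w_pos u6]
              · push Not at hx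
                have cl_5 := hx
                clear hx
                exfalso
                refine Groth.Agent.Helper6.NT.closed_contra T [u0, u1, u2, u3, u4, u5] (by simp) (by simp) ?_
                intro i hi j hj
                simp only [List.mem_cons, List.not_mem_nil, or_false, not_or] at hi hj
                rcases hi with rfl | rfl | rfl | rfl | rfl | rfl
                · exact cl_0 j ⟨hj.1, hj.2.1, hj.2.2.1⟩
                · exact cl_1 j ⟨hj.1, hj.2.1, hj.2.2.1, hj.2.2.2.1⟩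
                · exact cl_2 j ⟨hj.1, hj.2.1, hj.2.2.1, hj.2.2.2.1, hj.2.2.2.2.1⟩
                · exact cl_3 j ⟨hj.1, hj.2.1, hj.2.2.1, hj.2.2.2.1, hj.2.2.2.2.1, hj.2.2.2.2.2⟩
                · exact cl_4 j ⟨hj.1, hj.2.1, hj.2.2.1, hj.2.2.2.1, hj.2.2.2.2.1, hj.2.2.2.2.2⟩
                · exact cl_5 j ⟨hj.1, hj.2.1, hj.2.2.1, hj.2.2.2.1, hj.2.2.2.2.1, hj.2.2.2.2.2⟩
        · -- (4,5) nonzero
          obtain ⟨lbp_4_5, lbq_4_5⟩ := Groth.Agent.Helper6.NT.lb T u4 u5 hn_5_4.symm nz_4_5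
          exfalso
          have key := Groth.Agent.Helper6.NT.negfun5 T h2 u0 u2 u3 u4 u5 (by norm_num) 1 2 1 3 2 (by norm_num) (by norm_num)
          linarith only [key, tap_0_2, taq_0_2, z_0_3, z_0_4, z_0_5, z_2_3, tap_2_4, taq_2_4, z_2_5, z_3_4, tap_3_5, taq_3_5, lbp_4_5, lbq_4_5, T.w_pos u0, T.w_pos u2, T.w_pos u3, T.w_pos u4, T.w_pos u5]
      · -- (3,5) Dp
        exfalso
        have key := Groth.Agent.Helper6.NT.negfun6 T h2 u0 u1 u2 u3 u4 u5 (by norm_num) 2 2 2 2 2 1 (by norm_num) (by norm_num)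
        linarith only [key, tap_0_1, taq_0_1, tap_0_2, taq_0_2, z_0_3, z_0_4, z_0_5, z_1_2, tap_1_3, taq_1_3, z_1_4, z_1_5, z_2_3, tap_2_4, taq_2_4, z_2_5, z_3_4, tap_3_5, taq_3_5, T.offDiag_nonneg u4 u5 hn_5_4.symm, T.w_pos u0, T.w_pos u1, T.w_pos u2, T.w_pos u3, T.w_pos u4, T.w_pos u5]
      · -- (3,5) Dm
        exfalso
        have key := Groth.Agent.Helper6.NT.negfun6 T h2 u0 u1 u2 u3 u4 u5 (by norm_num) 1 1 1 1 1 1 (by norm_num) (by norm_num)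
        linarith only [key, tap_0_1, taq_0_1, tap_0_2, taq_0_2, z_0_3, z_0_4, z_0_5, z_1_2, tap_1_3, taq_1_3, z_1_4, z_1_5, z_2_3, tap_2_4, taq_2_4, z_2_5, z_3_4, tap_3_5, taq_3_5, T.offDiag_nonneg u4 u5 hn_5_4.symm, T.w_pos u0, T.w_pos u1, T.w_pos u2, T.w_pos u3, T.w_pos u4, T.w_pos u5]
      · -- (3,5) Tp
        exfalso
        have key := Groth.Agent.Helper6.NT.negfun3 T h2 u1 u3 u5 (by norm_num) 1 2 1 (by norm_num) (by norm_num)
        linarith only [key, tap_1_3, taq_1_3, z_1_5, tap_3_5, taq_3_5, T.w_pos u1, T.w_pos u3, T.w_pos u5]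
      · -- (3,5) Tm
        exfalso
        have key := Groth.Agent.Helper6.NT.negfun3 T h2 u1 u3 u5 (by norm_num) 1 2 3 (by norm_num) (by norm_num)
        linarith only [key, tap_1_3, taq_1_3, z_1_5, tap_3_5, taq_3_5, T.w_pos u1, T.w_pos u3, T.w_pos u5]
    · push Not at hx
      have cl_3 := hx
      clear hx
      by_cases hx : ∃ j, (j ≠ u0 ∧ j ≠ u1 ∧ j ≠ u2 ∧ j ≠ u3 ∧ j ≠ u4) ∧ T.a u4 j ≠ 0
      · obtain ⟨u5, ⟨hn_5_0, hn_5_1, hn_5_2, hn_5_3, hn_5_4⟩, e_4_5⟩ := hx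
        have z_0_5 : T.a u0 u5 = 0 := cl_0 u5 ⟨hn_5_0, hn_5_1, hn_5_2⟩
        have z_1_5 : T.a u1 u5 = 0 := cl_1 u5 ⟨hn_5_0, hn_5_1, hn_5_2, hn_5_3⟩
        have z_2_5 : T.a u2 u5 = 0 := cl_2 u5 ⟨hn_5_0, hn_5_1, hn_5_2, hn_5_3, hn_5_4⟩
        have z_3_5 : T.a u3 u5 = 0 := cl_3 u5 ⟨hn_5_0, hn_5_1, hn_5_2, hn_5_3, hn_5_4⟩
        rcases Groth.Agent.Helper6.NT.edge5 T h2 (by norm_num) u4 u5 hn_5_4.symm e_4_5 with ⟨tw_4_5, tap_4_5, taq_4_5⟩ | ⟨tw_4_5, tap_4_5, taq_4_5⟩ | ⟨tw_4_5, tap_4_5, taq_4_5⟩ | ⟨tw_4_5, tap_4_5, taq_4_5⟩ | ⟨tw_4_5, tap_4_5, taq_4_5⟩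
        · -- (4,5) S
          exfalso
          have key := Groth.Agent.Helper6.NT.negfun5 T h2 u0 u1 u2 u4 u5 (by norm_num) 2 1 3 4 2 (by norm_num) (by norm_num)
          linarith only [key, tap_0_1, taq_0_1, tap_0_2, taq_0_2, z_0_4, z_0_5, z_1_2, z_1_4, z_1_5, tap_2_4, taq_2_4, z_2_5, tap_4_5, taq_4_5, T.w_pos u0, T.w_pos u1, T.w_pos u2, T.w_pos u4, T.w_pos u5]
        · -- (4,5) Dp
          exfalso
          have key := Groth.Agent.Helper6.NT.negfun3 T h2 u2 u4 u5 (by norm_num) 1 2 1 (by norm_num) (by norm_num)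
          linarith only [key, tap_2_4, taq_2_4, z_2_5, tap_4_5, taq_4_5, T.w_pos u2, T.w_pos u4, T.w_pos u5]
        · -- (4,5) Dm
          exfalso
          have key := Groth.Agent.Helper6.NT.negfun3 T h2 u2 u4 u5 (by norm_num) 1 2 2 (by norm_num) (by norm_num)
          linarith only [key, tap_2_4, taq_2_4, z_2_5, tap_4_5, taq_4_5, T.w_pos u2, T.w_pos u4, T.w_pos u5]
        · -- (4,5) Tp
          exfalso
          have key := Groth.Agent.Helper6.NT.negfun3 T h2 u2 u4 u5 (by norm_num) 1 2 1 (by norm_num) (by norm_num)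
          linarith only [key, tap_2_4, taq_2_4, z_2_5, tap_4_5, taq_4_5, T.w_pos u2, T.w_pos u4, T.w_pos u5]
        · -- (4,5) Tm
          exfalso
          have key := Groth.Agent.Helper6.NT.negfun3 T h2 u2 u4 u5 (by norm_num) 1 2 3 (by norm_num) (by norm_num)
          linarith only [key, tap_2_4, taq_2_4, z_2_5, tap_4_5, taq_4_5, T.w_pos u2, T.w_pos u4, T.w_pos u5]
      · push Not at hx
        have cl_4 := hx
        clear hx
        exfalso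
        refine Groth.Agent.Helper6.NT.closed_contra T [u0, u1, u2, u3, u4] (by simp) (by simp) ?_
        intro i hi j hj
        simp only [List.mem_cons, List.not_mem_nil, or_false, not_or] at hi hj
        rcases hi with rfl | rfl | rfl | rfl | rfl
        · exact cl_0 j ⟨hj.1, hj.2.1, hj.2.2.1⟩
        · exact cl_1 j ⟨hj.1, hj.2.1, hj.2.2.1, hj.2.2.2.1⟩
        · exact cl_2 j ⟨hj.1, hj.2.1, hj.2.2.1, hj.2.2.2.1, hj.2.2.2.2⟩
        · exact cl_3 j ⟨hj.1, hj.2.1, hj.2.2.1, hj.2.2.2.1, hj.2.2.2.2⟩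
        · exact cl_4 j ⟨hj.1, hj.2.1, hj.2.2.1, hj.2.2.2.1, hj.2.2.2.2⟩

theorem cut7_9 (T : Models.NumericalType 7) (h2 : ∀ i, T.IsMinusTwo i) (u0 u1 u2 u3 u4 : Fin 7)
    (hn_1_0 : u1 ≠ u0)
    (e_0_1 : T.a u0 u1 ≠ 0)
    (tw_0_1 : T.w u1 = T.w u0)
    (tap_0_1 : T.a u0 u1 = T.w u0)
    (taq_0_1 : T.a u0 u1 = T.w u1)
    (hn_2_0 : u2 ≠ u0)
    (hn_2_1 : u2 ≠ u1)
    (e_0_2 : T.a u0 u2 ≠ 0)
    (tw_0_2 : T.w u2 = T.w u0)
    (tap_0_2 : T.a u0 u2 = T.w u0)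
    (taq_0_2 : T.a u0 u2 = T.w u2)
    (z_1_2 : T.a u1 u2 = 0)
    (cl_0 : ∀ j : Fin 7, (j ≠ u0 ∧ j ≠ u1 ∧ j ≠ u2) → T.a u0 j = 0)
    (hn_3_0 : u3 ≠ u0)
    (hn_3_1 : u3 ≠ u1)
    (hn_3_2 : u3 ≠ u2)
    (e_1_3 : T.a u1 u3 ≠ 0)
    (z_0_3 : T.a u0 u3 = 0)
    (tw_1_3 : T.w u3 = T.w u1)
    (tap_1_3 : T.a u1 u3 = T.w u1)
    (taq_1_3 : T.a u1 u3 = T.w u3)
    (z_2_3 : T.a u2 u3 = 0)
    (cl_1 : ∀ j : Fin 7, (j ≠ u0 ∧ j ≠ u1 ∧ j ≠ u2 ∧ j ≠ u3) → T.a u1 j = 0)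
    (cl_2 : ∀ j : Fin 7, (j ≠ u0 ∧ j ≠ u1 ∧ j ≠ u2 ∧ j ≠ u3) → T.a u2 j = 0)
    (hn_4_0 : u4 ≠ u0)
    (hn_4_1 : u4 ≠ u1)
    (hn_4_2 : u4 ≠ u2)
    (hn_4_3 : u4 ≠ u3)
    (e_3_4 : T.a u3 u4 ≠ 0)
    (z_0_4 : T.a u0 u4 = 0)
    (z_1_4 : T.a u1 u4 = 0)
    (z_2_4 : T.a u2 u4 = 0)
    (tw_3_4 : T.w u4 = T.w u3)
    (tap_3_4 : T.a u3 u4 = T.w u3)
    (taq_3_4 : T.a u3 u4 = T.w u4) :
    ∃ (σ : Equiv.Perm (Fin 7)) (m w : ℤ), ((T.m (σ 0) = m ∧ T.m (σ 1) = m ∧ T.m (σ 2) = m ∧ T.m (σ 3) = m ∧ T.m (σ 4) = m ∧ T.m (σ 5) = m ∧ T.m (σ 6) = m ∧ T.w (σ 0) = w ∧ T.w (σ 1) = w ∧ T.w (σ 2) = w ∧ T.w (σ 3) = w ∧ T.w (σ 4) = w ∧ T.w (σ 5) = w ∧ T.w (σ 6) = w ∧ T.a (σ 0) (σ 0) = -2 * w ∧ T.a (σ 0) (σ 1) = w ∧ T.a (σ 0) (σ 2) = 0 ∧ T.a (σ 0) (σ 3) = 0 ∧ T.a (σ 0) (σ 4) = 0 ∧ T.a (σ 0) (σ 5) = 0 ∧ T.a (σ 0) (σ 6) = w ∧ T.a (σ 1) (σ 1) = -2 * w ∧ T.a (σ 1) (σ 2) = w ∧ T.a (σ 1) (σ 3) = 0 ∧ T.a (σ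 1) (σ 4) = 0 ∧ T.a (σ 1) (σ 5) = 0 ∧ T.a (σ 1) (σ 6) = 0 ∧ T.a (σ 2) (σ 2) = -2 * w ∧ T.a (σ 2) (σ 3) = w ∧ T.a (σ 2) (σ 4) = 0 ∧ T.a (σ 2) (σ 5) = 0 ∧ T.a (σ 2) (σ 6) = 0 ∧ T.a (σ 3) (σ 3) = -2 * w ∧ T.a (σ 3) (σ 4) = w ∧ T.a (σ 3) (σ 5) = 0 ∧ T.a (σ 3) (σ 6) = 0 ∧ T.a (σ 4) (σ 4) = -2 * w ∧ T.a (σ 4) (σ 5) = w ∧ T.a (σ 4) (σ 6) = 0 ∧ T.a (σ 5) (σ 5) = -2 * w ∧ T.a (σ 5) (σ 6) = w ∧ T.a (σ 6) (σ 6) = -2 * w) ∨ (T.m (σ 0) = 2 * m ∧ T.m (σ 1) = 2 * m ∧ T.m (σ 2) = 2 * m ∧ T.m (σ 3) = 2 * m ∧ T.m (σ 4) = 2 * m ∧ T.m (σ 5) = 2 * m ∧ T.m (σ 6) = m ∧ T.w (σ 0) = w ∧ T.w (σ 1) = 2 * w ∧ T.w (σ 2) = 2 * w ∧ T.w (σ 3) = 2 * w ∧ T.w (σ 4) = 2 * w ∧ T.w (σ 5) = 2 * w ∧ T.w (σ 6) = 4 * w ∧ T.a (σ 0) (σ 0) = -2 * w ∧ T.a (σ 0) (σ 1) = 2 * w ∧ T.a (σ 0) (σ 2) = 0 ∧ T.a (σ 0) (σ 3) = 0 ∧ T.a (σ 0) (σ 4) = 0 ∧ T.a (σ 0) (σ 5) = 0 ∧ T.a (σ 0) (σ 6) = 0 ∧ T.a (σ 1) (σ 1) = -4 * w ∧ T.a (σ 1)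 (σ 2) = 2 * w ∧ T.a (σ 1) (σ 3) = 0 ∧ T.a (σ 1) (σ 4) = 0 ∧ T.a (σ 1) (σ 5) = 0 ∧ T.a (σ 1) (σ 6) = 0 ∧ T.a (σ 2) (σ 2) = -4 * w ∧ T.a (σ 2) (σ 3) = 2 * w ∧ T.a (σ 2) (σ 4) = 0 ∧ T.a (σ 2) (σ 5) = 0 ∧ T.a (σ 2) (σ 6) = 0 ∧ T.a (σ 3) (σ 3) = -4 * w ∧ T.a (σ 3) (σ 4) = 2 * w ∧ T.a (σ 3) (σ 5) = 0 ∧ T.a (σ 3) (σ 6) = 0 ∧ T.a (σ 4) (σ 4) = -4 * w ∧ T.a (σ 4) (σ 5) = 2 * w ∧ T.a (σ 4) (σ 6) = 0 ∧ T.a (σ 5) (σ 5) = -4 * w ∧ T.a (σ 5) (σ 6) = 4 * w ∧ T.a (σ 6) (σ 6) = -8 * w) ∨ (T.m (σ 0) = m ∧ T.m (σ 1) = m ∧ T.m (σ 2) = m ∧ T.m (σ 3) = m ∧ T.m (σ 4) = m ∧ T.m (σ 5) = m ∧ T.m (σ 6) = m ∧ T.w (σ 0) = w ∧ T.w (σ 1) = 2 * w ∧ T.w (σ 2) = 2 * w ∧ T.w (σ 3) = 2 * w ∧ T.w (σ 4) = 2 * w ∧ T.w (σ 5) = 2 * w ∧ T.w (σ 6) = w ∧ T.a (σ 0) (σ 0) = -2 * w ∧ T.a (σ 0) (σ 1) = 2 * w ∧ T.a (σ 0) (σ 2) = 0 ∧ T.a (σ 0) (σ 3) = 0 ∧ T.a (σ 0) (σ 4) = 0 ∧ T.a (σ 0) (σ 5) = 0 ∧ T.a (σ 0) (σ 6) = 0 ∧ T.a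 (σ 1) (σ 1) = -4 * w ∧ T.a (σ 1) (σ 2) = 2 * w ∧ T.a (σ 1) (σ 3) = 0 ∧ T.a (σ 1) (σ 4) = 0 ∧ T.a (σ 1) (σ 5) = 0 ∧ T.a (σ 1) (σ 6) = 0 ∧ T.a (σ 2) (σ 2) = -4 * w ∧ T.a (σ 2) (σ 3) = 2 * w ∧ T.a (σ 2) (σ 4) = 0 ∧ T.a (σ 2) (σ 5) = 0 ∧ T.a (σ 2) (σ 6) = 0 ∧ T.a (σ 3) (σ 3) = -4 * w ∧ T.a (σ 3) (σ 4) = 2 * w ∧ T.a (σ 3) (σ 5) = 0 ∧ T.a (σ 3) (σ 6) = 0 ∧ T.a (σ 4) (σ 4) = -4 * w ∧ T.a (σ 4) (σ 5) = 2 * w ∧ T.a (σ 4) (σ 6) = 0 ∧ T.a (σ 5) (σ 5) = -4 * w ∧ T.a (σ 5) (σ 6) = 2 * w ∧ T.a (σ 6) (σ 6) = -2 * w) ∨ (T.m (σ 0) = m ∧ T.m (σ 1) = 2 * m ∧ T.m (σ 2) = 2 * m ∧ T.m (σ 3) = 2 * m ∧ T.m (σ 4) = 2 * m ∧ T.m (σ 5) = 2 * m ∧ T.m (σ 6) = m ∧ T.w (σ 0) = 2 * w ∧ T.w (σ 1) = w ∧ T.w (σ 2) = w ∧ T.w (σ 3) = w ∧ T.w (σ 4) = w ∧ T.w (σ 5) = w ∧ T.w (σ 6) = 2 * w ∧ T.a (σ 0) (σ 0) = -4 * w ∧ T.a (σ 0) (σ 1) = 2 * w ∧ T.a (σ 0) (σ 2) = 0 ∧ T.a (σ 0) (σ 3) = 0 ∧ T.a (σ 0) (σ 4) = 0 ∧ T.a (σ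 0) (σ 5) = 0 ∧ T.a (σ 0) (σ 6) = 0 ∧ T.a (σ 1) (σ 1) = -2 * w ∧ T.a (σ 1) (σ 2) = w ∧ T.a (σ 1) (σ 3) = 0 ∧ T.a (σ 1) (σ 4) = 0 ∧ T.a (σ 1) (σ 5) = 0 ∧ T.a (σ 1) (σ 6) = 0 ∧ T.a (σ 2) (σ 2) = -2 * w ∧ T.a (σ 2) (σ 3) = w ∧ T.a (σ 2) (σ 4) = 0 ∧ T.a (σ 2) (σ 5) = 0 ∧ T.a (σ 2) (σ 6) = 0 ∧ T.a (σ 3) (σ 3) = -2 * w ∧ T.a (σ 3) (σ 4) = w ∧ T.a (σ 3) (σ 5) = 0 ∧ T.a (σ 3) (σ 6) = 0 ∧ T.a (σ 4) (σ 4) = -2 * w ∧ T.a (σ 4) (σ 5) = w ∧ T.a (σ 4) (σ 6) = 0 ∧ T.a (σ 5) (σ 5) = -2 * w ∧ T.a (σ 5) (σ 6) = 2 * w ∧ T.a (σ 6) (σ 6) = -4 * w) ∨ (T.m (σ 0) = m ∧ T.m (σ 1) = 2 * m ∧ T.m (σ 2) = 2 * m ∧ T.m (σ 3) = 2 * m ∧ T.m (σ 4) = 2 * m ∧ T.m (σ 5) = m ∧ T.m (σ 6) = m ∧ T.w (σ 0) = 2 * w ∧ T.w (σ 1) = w ∧ T.w (σ 2) = w ∧ T.w (σ 3) = w ∧ T.w (σ 4) = w ∧ T.w (σ 5) = w ∧ T.w (σ 6) = w ∧ T.a (σ 0) (σ 0) = -4 * w ∧ T.a (σ 0) (σ 1) = 2 * w ∧ T.a (σ 0) (σ 2) = 0 ∧ T.a (σ 0) (σ 3) = 0 ∧ T.a (σ 0) (σ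 4) = 0 ∧ T.a (σ 0) (σ 5) = 0 ∧ T.a (σ 0) (σ 6) = 0 ∧ T.a (σ 1) (σ 1) = -2 * w ∧ T.a (σ 1) (σ 2) = w ∧ T.a (σ 1) (σ 3) = 0 ∧ T.a (σ 1) (σ 4) = 0 ∧ T.a (σ 1) (σ 5) = 0 ∧ T.a (σ 1) (σ 6) = 0 ∧ T.a (σ 2) (σ 2) = -2 * w ∧ T.a (σ 2) (σ 3) = w ∧ T.a (σ 2) (σ 4) = 0 ∧ T.a (σ 2) (σ 5) = 0 ∧ T.a (σ 2) (σ 6) = 0 ∧ T.a (σ 3) (σ 3) = -2 * w ∧ T.a (σ 3) (σ 4) = w ∧ T.a (σ 3) (σ 5) = 0 ∧ T.a (σ 3) (σ 6) = 0 ∧ T.a (σ 4) (σ 4) = -2 * w ∧ T.a (σ 4) (σ 5) = w ∧ T.a (σ 4) (σ 6) = w ∧ T.a (σ 5) (σ 5) = -2 * w ∧ T.a (σ 5) (σ 6) = 0 ∧ T.a (σ 6) (σ 6) = -2 * w) ∨ (T.m (σ 0) = 2 * m ∧ T.m (σ 1) = 2 * m ∧ T.m (σ 2) = 2 * m ∧ T.m (σ 3) = 2 * m ∧ T.m (σ 4) = 2 * m ∧ T.m (σ 5) = m ∧ T.m (σ 6) = m ∧ T.w (σ 0) = w ∧ T.w (σ 1) = 2 * w ∧ T.w (σ 2) = 2 * w ∧ T.w (σ 3) = 2 * w ∧ T.w (σ 4) = 2 * w ∧ T.w (σ 5) = 2 * w ∧ T.w (σ 6) = 2 * w ∧ T.a (σ 0) (σ 0) = -2 * w ∧ T.a (σ 0) (σ 1) = 2 * w ∧ T.a (σ 0) (σ 2) = 0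 ∧ T.a (σ 0) (σ 3) = 0 ∧ T.a (σ 0) (σ 4) = 0 ∧ T.a (σ 0) (σ 5) = 0 ∧ T.a (σ 0) (σ 6) = 0 ∧ T.a (σ 1) (σ 1) = -4 * w ∧ T.a (σ 1) (σ 2) = 2 * w ∧ T.a (σ 1) (σ 3) = 0 ∧ T.a (σ 1) (σ 4) = 0 ∧ T.a (σ 1) (σ 5) = 0 ∧ T.a (σ 1) (σ 6) = 0 ∧ T.a (σ 2) (σ 2) = -4 * w ∧ T.a (σ 2) (σ 3) = 2 * w ∧ T.a (σ 2) (σ 4) = 0 ∧ T.a (σ 2) (σ 5) = 0 ∧ T.a (σ 2) (σ 6) = 0 ∧ T.a (σ 3) (σ 3) = -4 * w ∧ T.a (σ 3) (σ 4) = 2 * w ∧ T.a (σ 3) (σ 5) = 0 ∧ T.a (σ 3) (σ 6) = 0 ∧ T.a (σ 4) (σ 4) = -4 * w ∧ T.a (σ 4) (σ 5) = 2 * w ∧ T.a (σ 4) (σ 6) = 2 * w ∧ T.a (σ 5) (σ 5) = -4 * w ∧ T.a (σ 5) (σ 6) = 0 ∧ T.a (σ 6) (σ 6) = -4 * w) ∨ (T.m (σ 0) = m ∧ T.m (σ 1) = m ∧ T.m (σ 2) = 2 * m ∧ T.m (σ 3) = 2 * m ∧ T.m (σ 4) = 2 * m ∧ T.m (σ 5) = m ∧ T.m (σ 6) = m ∧ T.w (σ 0) = w ∧ T.w (σ 1) = w ∧ T.w (σ 2) = w ∧ T.w (σ 3) = w ∧ T.w (σ 4) = w ∧ T.w (σ 5) = w ∧ T.w (σ 6) = w ∧ T.a (σ 0) (σ 0) = -2 * w ∧ T.a (σ 0) (σ 1) = 0 ∧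 T.a (σ 0) (σ 2) = w ∧ T.a (σ 0) (σ 3) = 0 ∧ T.a (σ 0) (σ 4) = 0 ∧ T.a (σ 0) (σ 5) = 0 ∧ T.a (σ 0) (σ 6) = 0 ∧ T.a (σ 1) (σ 1) = -2 * w ∧ T.a (σ 1) (σ 2) = w ∧ T.a (σ 1) (σ 3) = 0 ∧ T.a (σ 1) (σ 4) = 0 ∧ T.a (σ 1) (σ 5) = 0 ∧ T.a (σ 1) (σ 6) = 0 ∧ T.a (σ 2) (σ 2) = -2 * w ∧ T.a (σ 2) (σ 3) = w ∧ T.a (σ 2) (σ 4) = 0 ∧ T.a (σ 2) (σ 5) = 0 ∧ T.a (σ 2) (σ 6) = 0 ∧ T.a (σ 3) (σ 3) = -2 * w ∧ T.a (σ 3) (σ 4) = w ∧ T.a (σ 3) (σ 5) = 0 ∧ T.a (σ 3) (σ 6) = 0 ∧ T.a (σ 4) (σ 4) = -2 * w ∧ T.a (σ 4) (σ 5) = w ∧ T.a (σ 4) (σ 6) = w ∧ T.a (σ 5) (σ 5) = -2 * w ∧ T.a (σ 5) (σ 6) = 0 ∧ T.a (σ 6) (σ 6) = -2 * w) ∨ (T.m (σ 0) = m ∧ T.m (σ 1) = 2 * m ∧ T.m (σ 2) = 3 * m ∧ T.m (σ 3) = m ∧ T.m (σ 4) = 2 * m ∧ T.m (σ 5) = m ∧ T.m (σ 6) = 2 * m ∧ T.w (σ 0) = w ∧ T.w (σ 1) = w ∧ T.w (σ 2) = w ∧ T.w (σ 3) = w ∧ T.w (σ 4) = w ∧ T.w (σ 5) = w ∧ T.w (σ 6) = w ∧ T.a (σ 0) (σ 0) = -2 * w ∧ T.a (σ 0) (σ 1) =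 w ∧ T.a (σ 0) (σ 2) = 0 ∧ T.a (σ 0) (σ 3) = 0 ∧ T.a (σ 0) (σ 4) = 0 ∧ T.a (σ 0) (σ 5) = 0 ∧ T.a (σ 0) (σ 6) = 0 ∧ T.a (σ 1) (σ 1) = -2 * w ∧ T.a (σ 1) (σ 2) = w ∧ T.a (σ 1) (σ 3) = 0 ∧ T.a (σ 1) (σ 4) = 0 ∧ T.a (σ 1) (σ 5) = 0 ∧ T.a (σ 1) (σ 6) = 0 ∧ T.a (σ 2) (σ 2) = -2 * w ∧ T.a (σ 2) (σ 3) = 0 ∧ T.a (σ 2) (σ 4) = w ∧ T.a (σ 2) (σ 5) = 0 ∧ T.a (σ 2) (σ 6) = w ∧ T.a (σ 3) (σ 3) = -2 * w ∧ T.a (σ 3) (σ 4) = w ∧ T.a (σ 3) (σ 5) = 0 ∧ T.a (σ 3) (σ 6) = 0 ∧ T.a (σ 4) (σ 4) = -2 * w ∧ T.a (σ 4) (σ 5) = 0 ∧ T.a (σ 4) (σ 6) = 0 ∧ T.a (σ 5) (σ 5) = -2 * w ∧ T.a (σ 5) (σ 6) = w ∧ T.a (σ 6) (σ 6) = -2 * w)) := by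
  by_cases hx : ∃ j, (j ≠ u0 ∧ j ≠ u1 ∧ j ≠ u2 ∧ j ≠ u3 ∧ j ≠ u4) ∧ T.a u3 j ≠ 0
  · obtain ⟨u5, ⟨hn_5_0, hn_5_1, hn_5_2, hn_5_3, hn_5_4⟩, e_3_5⟩ := hx
    have z_0_5 : T.a u0 u5 = 0 := cl_0 u5 ⟨hn_5_0, hn_5_1, hn_5_2⟩
    have z_1_5 : T.a u1 u5 = 0 := cl_1 u5 ⟨hn_5_0, hn_5_1, hn_5_2, hn_5_3⟩
    have z_2_5 : T.a u2 u5 = 0 := cl_2 u5 ⟨hn_5_0, hn_5_1, hn_5_2, hn_5_3⟩
    rcases Groth.Agent.Helper6.NT.edge5 T h2 (by norm_num) u3 u5 hn_5_3.symm e_3_5 with ⟨tw_3_5, tap_3_5, taq_3_5⟩ | ⟨tw_3_5, tap_3_5, taq_3_5⟩ | ⟨tw_3_5, tap_3_5, taq_3_5⟩ | ⟨tw_3_5, tap_3_5, taq_3_5⟩ | ⟨tw_3_5, tap_3_5, taq_3_5⟩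
    · -- (3,5) S
      rcases eq_or_ne (T.a u4 u5) 0 with z_4_5 | nz_4_5
      · -- (4,5) zero
        by_cases hx : ∃ j, (j ≠ u0 ∧ j ≠ u1 ∧ j ≠ u2 ∧ j ≠ u3 ∧ j ≠ u4 ∧ j ≠ u5) ∧ T.a u3 j ≠ 0
        · obtain ⟨u6, ⟨hn_6_0, hn_6_1, hn_6_2, hn_6_3, hn_6_4, hn_6_5⟩, e_3_6⟩ := hx
          have z_0_6 : T.a u0 u6 = 0 := cl_0 u6 ⟨hn_6_0, hn_6_1, hn_6_2⟩
          have z_1_6 : T.a u1 u6 = 0 := cl_1 u6 ⟨hn_6_0, hn_6_1, hn_6_2, hn_6_3⟩
          have z_2_6 : T.a u2 u6 = 0 := cl_2 u6 ⟨hn_6_0, hn_6_1, hn_6_2, hn_6_3⟩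
          rcases Groth.Agent.Helper6.NT.edge5 T h2 (by norm_num) u3 u6 hn_6_3.symm e_3_6 with ⟨tw_3_6, tap_3_6, taq_3_6⟩ | ⟨tw_3_6, tap_3_6, taq_3_6⟩ | ⟨tw_3_6, tap_3_6, taq_3_6⟩ | ⟨tw_3_6, tap_3_6, taq_3_6⟩ | ⟨tw_3_6, tap_3_6, taq_3_6⟩
          · -- (3,6) S
            exfalso
            have key := Groth.Agent.Helper6.NT.negfun5 T h2 u1 u3 u4 u5 u6 (by norm_num) 1 2 1 1 1 (by norm_num) (by norm_num)
            linarith only [key, tap_1_3, taq_1_3, z_1_4, z_1_5, z_1_6, tap_3_4, taq_3_4, tap_3_5, taq_3_5, tap_3_6, taq_3_6, z_4_5, T.offDiag_nonneg u4 u6 hn_6_4.symm, T.offDiag_nonneg u5 u6 hn_6_5.symm, T.w_pos u1, T.w_pos u3, T.w_pos u4, T.w_pos u5, T.w_pos u6]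
          · -- (3,6) Dp
            exfalso
            have key := Groth.Agent.Helper6.NT.negfun4 T h2 u3 u4 u5 u6 (by norm_num) 2 1 1 1 (by norm_num) (by norm_num)
            linarith only [key, tap_3_4, taq_3_4, tap_3_5, taq_3_5, tap_3_6, taq_3_6, z_4_5, T.offDiag_nonneg u4 u6 hn_6_4.symm, T.offDiag_nonneg u5 u6 hn_6_5.symm, T.w_pos u3, T.w_pos u4, T.w_pos u5, T.w_pos u6]
          · -- (3,6) Dm
            exfalso
            have key := Groth.Agent.Helper6.NT.negfun4 T h2 u3 u4 u5 u6 (by norm_num) 2 1 1 2 (by norm_num) (by norm_num)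
            linarith only [key, tap_3_4, taq_3_4, tap_3_5, taq_3_5, tap_3_6, taq_3_6, z_4_5, T.offDiag_nonneg u4 u6 hn_6_4.symm, T.offDiag_nonneg u5 u6 hn_6_5.symm, T.w_pos u3, T.w_pos u4, T.w_pos u5, T.w_pos u6]
          · -- (3,6) Tp
            exfalso
            have key := Groth.Agent.Helper6.NT.negfun3 T h2 u3 u5 u6 (by norm_num) 2 1 1 (by norm_num) (by norm_num)
            linarith only [key, tap_3_5, taq_3_5, tap_3_6, taq_3_6, T.offDiag_nonneg u5 u6 hn_6_5.symm, T.w_pos u3, T.w_pos u5, T.w_pos u6]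
          · -- (3,6) Tm
            exfalso
            have key := Groth.Agent.Helper6.NT.negfun3 T h2 u3 u5 u6 (by norm_num) 2 1 3 (by norm_num) (by norm_num)
            linarith only [key, tap_3_5, taq_3_5, tap_3_6, taq_3_6, T.offDiag_nonneg u5 u6 hn_6_5.symm, T.w_pos u3, T.w_pos u5, T.w_pos u6]
        · push Not at hx
          have cl_3 := hx
          clear hx
          by_cases hx : ∃ j, (j ≠ u0 ∧ j ≠ u1 ∧ j ≠ u2 ∧ j ≠ u3 ∧ j ≠ u4 ∧ j ≠ u5) ∧ T.a u4 j ≠ 0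
          · obtain ⟨u6, ⟨hn_6_0, hn_6_1, hn_6_2, hn_6_3, hn_6_4, hn_6_5⟩, e_4_6⟩ := hx
            have z_0_6 : T.a u0 u6 = 0 := cl_0 u6 ⟨hn_6_0, hn_6_1, hn_6_2⟩
            have z_1_6 : T.a u1 u6 = 0 := cl_1 u6 ⟨hn_6_0, hn_6_1, hn_6_2, hn_6_3⟩
            have z_2_6 : T.a u2 u6 = 0 := cl_2 u6 ⟨hn_6_0, hn_6_1, hn_6_2, hn_6_3⟩
            have z_3_6 : T.a u3 u6 = 0 := cl_3 u6 ⟨hn_6_0, hn_6_1, hn_6_2, hn_6_3, hn_6_4, hn_6_5⟩
            rcases Groth.Agent.Helper6.NT.edge5 T h2 (by norm_num) u4 u6 hn_6_4.symm e_4_6 with ⟨tw_4_6, tap_4_6, taq_4_6⟩ | ⟨tw_4_6, tap_4_6, taq_4_6⟩ | ⟨tw_4_6, tap_4_6, taq_4_6⟩ | ⟨tw_4_6, tap_4_6, taq_4_6⟩ | ⟨tw_4_6, tap_4_6, taq_4_6⟩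
            · -- (4,6) S
              rcases eq_or_ne (T.a u5 u6) 0 with z_5_6 | nz_5_6
              · -- (5,6) zero
                have hinj := Groth.Agent.Helper6.NT.inj7 u0 u1 u2 u3 u4 u5 u6 hn_1_0 hn_2_0 hn_2_1 hn_3_0 hn_3_1 hn_3_2 hn_4_0 hn_4_1 hn_4_2 hn_4_3 hn_5_0 hn_5_1 hn_5_2 hn_5_3 hn_5_4 hn_6_0 hn_6_1 hn_6_2 hn_6_3 hn_6_4 hn_6_5
                have r_0 : -2 * T.m u0 + 1 * T.m u1 + 1 * T.m u2 = 0 := by
                  have key := Groth.Agent.Helper6.NT.rowfun7 T u0 u1 u2 u3 u4 u5 u6 hinj u0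
                  rw [(h2 u0).2, tap_0_1, tap_0_2, z_0_3, z_0_4, z_0_5, z_0_6] at key
                  exact mul_left_cancel₀ (T.w_pos u0).ne' (by linarith only [key])
                have r_1 : 1 * T.m u0 + -2 * T.m u1 + 1 * T.m u3 = 0 := by
                  have key := Groth.Agent.Helper6.NT.rowfun7 T u0 u1 u2 u3 u4 u5 u6 hinj u1
                  rw [Groth.Agent.Helper6.NT.symm' T u1 u0, taq_0_1, (h2 u1).2, z_1_2, tap_1_3, z_1_4, z_1_5, z_1_6] at key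
                  exact mul_left_cancel₀ (T.w_pos u1).ne' (by linarith only [key])
                have r_2 : 1 * T.m u0 + -2 * T.m u2 = 0 := by
                  have key := Groth.Agent.Helper6.NT.rowfun7 T u0 u1 u2 u3 u4 u5 u6 hinj u2
                  rw [Groth.Agent.Helper6.NT.symm' T u2 u0, taq_0_2, Groth.Agent.Helper6.NT.symm' T u2 u1, z_1_2, (h2 u2).2, z_2_3, z_2_4, z_2_5, z_2_6] at key
                  exact mul_left_cancel₀ (T.w_pos u2).ne' (by linarith only [key])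
                have r_3 : 1 * T.m u1 + -2 * T.m u3 + 1 * T.m u4 + 1 * T.m u5 = 0 := by
                  have key := Groth.Agent.Helper6.NT.rowfun7 T u0 u1 u2 u3 u4 u5 u6 hinj u3
                  rw [Groth.Agent.Helper6.NT.symm' T u3 u0, z_0_3, Groth.Agent.Helper6.NT.symm' T u3 u1, taq_1_3, Groth.Agent.Helper6.NT.symm' T u3 u2, z_2_3, (h2 u3).2, tap_3_4, tap_3_5, z_3_6] at key
                  exact mul_left_cancel₀ (T.w_pos u3).ne' (by linarith only [key])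
                have r_4 : 1 * T.m u3 + -2 * T.m u4 + 1 * T.m u6 = 0 := by
                  have key := Groth.Agent.Helper6.NT.rowfun7 T u0 u1 u2 u3 u4 u5 u6 hinj u4
                  rw [Groth.Agent.Helper6.NT.symm' T u4 u0, z_0_4, Groth.Agent.Helper6.NT.symm' T u4 u1, z_1_4, Groth.Agent.Helper6.NT.symm' T u4 u2, z_2_4, Groth.Agent.Helper6.NT.symm' T u4 u3, taq_3_4, (h2 u4).2, z_4_5, tap_4_6] at key
                  exact mul_left_cancel₀ (T.w_pos u4).ne' (by linarith only [key])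
                have r_5 : 1 * T.m u3 + -2 * T.m u5 = 0 := by
                  have key := Groth.Agent.Helper6.NT.rowfun7 T u0 u1 u2 u3 u4 u5 u6 hinj u5
                  rw [Groth.Agent.Helper6.NT.symm' T u5 u0, z_0_5, Groth.Agent.Helper6.NT.symm' T u5 u1, z_1_5, Groth.Agent.Helper6.NT.symm' T u5 u2, z_2_5, Groth.Agent.Helper6.NT.symm' T u5 u3, taq_3_5, Groth.Agent.Helper6.NT.symm' T u5 u4, z_4_5, (h2 u5).2, z_5_6] at key
                  exact mul_left_cancel₀ (T.w_pos u5).ne' (by linarith only [key])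
                have r_6 : 1 * T.m u4 + -2 * T.m u6 = 0 := by
                  have key := Groth.Agent.Helper6.NT.rowfun7 T u0 u1 u2 u3 u4 u5 u6 hinj u6
                  rw [Groth.Agent.Helper6.NT.symm' T u6 u0, z_0_6, Groth.Agent.Helper6.NT.symm' T u6 u1, z_1_6, Groth.Agent.Helper6.NT.symm' T u6 u2, z_2_6, Groth.Agent.Helper6.NT.symm' T u6 u3, z_3_6, Groth.Agent.Helper6.NT.symm' T u6 u4, taq_4_6, Groth.Agent.Helper6.NT.symm' T u6 u5, z_5_6, (h2 u6).2] at key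
                  exact mul_left_cancel₀ (T.w_pos u6).ne' (by linarith only [key])
                exfalso
                linarith only [r_0, r_1, r_2, r_3, r_4, r_5, r_6, T.m_pos u0, T.m_pos u1, T.m_pos u2, T.m_pos u3, T.m_pos u4, T.m_pos u5, T.m_pos u6]
              · -- (5,6) nonzero
                obtain ⟨lbp_5_6, lbq_5_6⟩ := Groth.Agent.Helper6.NT.lb T u5 u6 hn_6_5.symm nz_5_6
                exfalso
                have key := Groth.Agent.Helper6.NT.negfun4 T h2 u3 u4 u5 u6 (by norm_num) 1 1 1 1 (by norm_num) (by norm_num)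
                linarith only [key, tap_3_4, taq_3_4, tap_3_5, taq_3_5, z_3_6, z_4_5, tap_4_6, taq_4_6, lbp_5_6, lbq_5_6, T.w_pos u3, T.w_pos u4, T.w_pos u5, T.w_pos u6]
            · -- (4,6) Dp
              exfalso
              have key := Groth.Agent.Helper6.NT.negfun5 T h2 u1 u3 u4 u5 u6 (by norm_num) 1 2 2 1 1 (by norm_num) (by norm_num)
              linarith only [key, tap_1_3, taq_1_3, z_1_4, z_1_5, z_1_6, tap_3_4, taq_3_4, tap_3_5, taq_3_5, z_3_6, z_4_5, tap_4_6, taq_4_6, T.offDiag_nonneg u5 u6 hn_6_5.symm, T.w_pos u1, T.w_pos u3, T.w_pos u4, T.w_pos u5, T.w_pos u6]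
            · -- (4,6) Dm
              exfalso
              have key := Groth.Agent.Helper6.NT.negfun5 T h2 u1 u3 u4 u5 u6 (by norm_num) 1 2 2 1 2 (by norm_num) (by norm_num)
              linarith only [key, tap_1_3, taq_1_3, z_1_4, z_1_5, z_1_6, tap_3_4, taq_3_4, tap_3_5, taq_3_5, z_3_6, z_4_5, tap_4_6, taq_4_6, T.offDiag_nonneg u5 u6 hn_6_5.symm, T.w_pos u1, T.w_pos u3, T.w_pos u4, T.w_pos u5, T.w_pos u6]
            · -- (4,6) Tp
              exfalso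
              have key := Groth.Agent.Helper6.NT.negfun3 T h2 u3 u4 u6 (by norm_num) 1 2 1 (by norm_num) (by norm_num)
              linarith only [key, tap_3_4, taq_3_4, z_3_6, tap_4_6, taq_4_6, T.w_pos u3, T.w_pos u4, T.w_pos u6]
            · -- (4,6) Tm
              exfalso
              have key := Groth.Agent.Helper6.NT.negfun3 T h2 u3 u4 u6 (by norm_num) 1 2 3 (by norm_num) (by norm_num)
              linarith only [key, tap_3_4, taq_3_4, z_3_6, tap_4_6, taq_4_6, T.w_pos u3, T.w_pos u4, T.w_pos u6]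
          · push Not at hx
            have cl_4 := hx
            clear hx
            by_cases hx : ∃ j, (j ≠ u0 ∧ j ≠ u1 ∧ j ≠ u2 ∧ j ≠ u3 ∧ j ≠ u4 ∧ j ≠ u5) ∧ T.a u5 j ≠ 0
            · obtain ⟨u6, ⟨hn_6_0, hn_6_1, hn_6_2, hn_6_3, hn_6_4, hn_6_5⟩, e_5_6⟩ := hx
              have z_0_6 : T.a u0 u6 = 0 := cl_0 u6 ⟨hn_6_0, hn_6_1, hn_6_2⟩
              have z_1_6 : T.a u1 u6 = 0 := cl_1 u6 ⟨hn_6_0, hn_6_1, hn_6_2, hn_6_3⟩
              have z_2_6 : T.a u2 u6 = 0 := cl_2 u6 ⟨hn_6_0, hn_6_1, hn_6_2, hn_6_3⟩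
              have z_3_6 : T.a u3 u6 = 0 := cl_3 u6 ⟨hn_6_0, hn_6_1, hn_6_2, hn_6_3, hn_6_4, hn_6_5⟩
              have z_4_6 : T.a u4 u6 = 0 := cl_4 u6 ⟨hn_6_0, hn_6_1, hn_6_2, hn_6_3, hn_6_4, hn_6_5⟩
              rcases Groth.Agent.Helper6.NT.edge5 T h2 (by norm_num) u5 u6 hn_6_5.symm e_5_6 with ⟨tw_5_6, tap_5_6, taq_5_6⟩ | ⟨tw_5_6, tap_5_6, taq_5_6⟩ | ⟨tw_5_6, tap_5_6, taq_5_6⟩ | ⟨tw_5_6, tap_5_6, taq_5_6⟩ | ⟨tw_5_6, tap_5_6, taq_5_6⟩
              · -- (5,6) S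
                have hinj := Groth.Agent.Helper6.NT.inj7 u0 u1 u2 u3 u4 u5 u6 hn_1_0 hn_2_0 hn_2_1 hn_3_0 hn_3_1 hn_3_2 hn_4_0 hn_4_1 hn_4_2 hn_4_3 hn_5_0 hn_5_1 hn_5_2 hn_5_3 hn_5_4 hn_6_0 hn_6_1 hn_6_2 hn_6_3 hn_6_4 hn_6_5
                have r_0 : -2 * T.m u0 + 1 * T.m u1 + 1 * T.m u2 = 0 := by
                  have key := Groth.Agent.Helper6.NT.rowfun7 T u0 u1 u2 u3 u4 u5 u6 hinj u0
                  rw [(h2 u0).2, tap_0_1, tap_0_2, z_0_3, z_0_4, z_0_5, z_0_6] at key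
                  exact mul_left_cancel₀ (T.w_pos u0).ne' (by linarith only [key])
                have r_1 : 1 * T.m u0 + -2 * T.m u1 + 1 * T.m u3 = 0 := by
                  have key := Groth.Agent.Helper6.NT.rowfun7 T u0 u1 u2 u3 u4 u5 u6 hinj u1
                  rw [Groth.Agent.Helper6.NT.symm' T u1 u0, taq_0_1, (h2 u1).2, z_1_2, tap_1_3, z_1_4, z_1_5, z_1_6] at key
                  exact mul_left_cancel₀ (T.w_pos u1).ne' (by linarith only [key])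
                have r_2 : 1 * T.m u0 + -2 * T.m u2 = 0 := by
                  have key := Groth.Agent.Helper6.NT.rowfun7 T u0 u1 u2 u3 u4 u5 u6 hinj u2
                  rw [Groth.Agent.Helper6.NT.symm' T u2 u0, taq_0_2, Groth.Agent.Helper6.NT.symm' T u2 u1, z_1_2, (h2 u2).2, z_2_3, z_2_4, z_2_5, z_2_6] at key
                  exact mul_left_cancel₀ (T.w_pos u2).ne' (by linarith only [key])
                have r_3 : 1 * T.m u1 + -2 * T.m u3 + 1 * T.m u4 + 1 * T.m u5 = 0 := by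
                  have key := Groth.Agent.Helper6.NT.rowfun7 T u0 u1 u2 u3 u4 u5 u6 hinj u3
                  rw [Groth.Agent.Helper6.NT.symm' T u3 u0, z_0_3, Groth.Agent.Helper6.NT.symm' T u3 u1, taq_1_3, Groth.Agent.Helper6.NT.symm' T u3 u2, z_2_3, (h2 u3).2, tap_3_4, tap_3_5, z_3_6] at key
                  exact mul_left_cancel₀ (T.w_pos u3).ne' (by linarith only [key])
                have r_4 : 1 * T.m u3 + -2 * T.m u4 = 0 := by
                  have key := Groth.Agent.Helper6.NT.rowfun7 T u0 u1 u2 u3 u4 u5 u6 hinj u4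
                  rw [Groth.Agent.Helper6.NT.symm' T u4 u0, z_0_4, Groth.Agent.Helper6.NT.symm' T u4 u1, z_1_4, Groth.Agent.Helper6.NT.symm' T u4 u2, z_2_4, Groth.Agent.Helper6.NT.symm' T u4 u3, taq_3_4, (h2 u4).2, z_4_5, z_4_6] at key
                  exact mul_left_cancel₀ (T.w_pos u4).ne' (by linarith only [key])
                have r_5 : 1 * T.m u3 + -2 * T.m u5 + 1 * T.m u6 = 0 := by
                  have key := Groth.Agent.Helper6.NT.rowfun7 T u0 u1 u2 u3 u4 u5 u6 hinj u5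
                  rw [Groth.Agent.Helper6.NT.symm' T u5 u0, z_0_5, Groth.Agent.Helper6.NT.symm' T u5 u1, z_1_5, Groth.Agent.Helper6.NT.symm' T u5 u2, z_2_5, Groth.Agent.Helper6.NT.symm' T u5 u3, taq_3_5, Groth.Agent.Helper6.NT.symm' T u5 u4, z_4_5, (h2 u5).2, tap_5_6] at key
                  exact mul_left_cancel₀ (T.w_pos u5).ne' (by linarith only [key])
                have r_6 : 1 * T.m u5 + -2 * T.m u6 = 0 := by
                  have key := Groth.Agent.Helper6.NT.rowfun7 T u0 u1 u2 u3 u4 u5 u6 hinj u6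
                  rw [Groth.Agent.Helper6.NT.symm' T u6 u0, z_0_6, Groth.Agent.Helper6.NT.symm' T u6 u1, z_1_6, Groth.Agent.Helper6.NT.symm' T u6 u2, z_2_6, Groth.Agent.Helper6.NT.symm' T u6 u3, z_3_6, Groth.Agent.Helper6.NT.symm' T u6 u4, z_4_6, Groth.Agent.Helper6.NT.symm' T u6 u5, taq_5_6, (h2 u6).2] at key
                  exact mul_left_cancel₀ (T.w_pos u6).ne' (by linarith only [key])
                exfalso
                linarith only [r_0, r_1, r_2, r_3, r_4, r_5, r_6, T.m_pos u0, T.m_pos u1, T.m_pos u2, T.m_pos u3, T.m_pos u4, T.m_pos u5, T.m_pos u6]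
              · -- (5,6) Dp
                exfalso
                have key := Groth.Agent.Helper6.NT.negfun5 T h2 u1 u3 u4 u5 u6 (by norm_num) 1 2 1 2 1 (by norm_num) (by norm_num)
                linarith only [key, tap_1_3, taq_1_3, z_1_4, z_1_5, z_1_6, tap_3_4, taq_3_4, tap_3_5, taq_3_5, z_3_6, z_4_5, z_4_6, tap_5_6, taq_5_6, T.w_pos u1, T.w_pos u3, T.w_pos u4, T.w_pos u5, T.w_pos u6]
              · -- (5,6) Dm
                exfalso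
                have key := Groth.Agent.Helper6.NT.negfun5 T h2 u1 u3 u4 u5 u6 (by norm_num) 1 2 1 2 2 (by norm_num) (by norm_num)
                linarith only [key, tap_1_3, taq_1_3, z_1_4, z_1_5, z_1_6, tap_3_4, taq_3_4, tap_3_5, taq_3_5, z_3_6, z_4_5, z_4_6, tap_5_6, taq_5_6, T.w_pos u1, T.w_pos u3, T.w_pos u4, T.w_pos u5, T.w_pos u6]
              · -- (5,6) Tp
                exfalso
                have key := Groth.Agent.Helper6.NT.negfun3 T h2 u3 u5 u6 (by norm_num) 1 2 1 (by norm_num) (by norm_num)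
                linarith only [key, tap_3_5, taq_3_5, z_3_6, tap_5_6, taq_5_6, T.w_pos u3, T.w_pos u5, T.w_pos u6]
              · -- (5,6) Tm
                exfalso
                have key := Groth.Agent.Helper6.NT.negfun3 T h2 u3 u5 u6 (by norm_num) 1 2 3 (by norm_num) (by norm_num)
                linarith only [key, tap_3_5, taq_3_5, z_3_6, tap_5_6, taq_5_6, T.w_pos u3, T.w_pos u5, T.w_pos u6]
            · push Not at hx
              have cl_5 := hx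
              clear hx
              exfalso
              refine Groth.Agent.Helper6.NT.closed_contra T [u0, u1, u2, u3, u4, u5] (by simp) (by simp) ?_
              intro i hi j hj
              simp only [List.mem_cons, List.not_mem_nil, or_false, not_or] at hi hj
              rcases hi with rfl | rfl | rfl | rfl | rfl | rfl
              · exact cl_0 j ⟨hj.1, hj.2.1, hj.2.2.1⟩
              · exact cl_1 j ⟨hj.1, hj.2.1, hj.2.2.1, hj.2.2.2.1⟩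
              · exact cl_2 j ⟨hj.1, hj.2.1, hj.2.2.1, hj.2.2.2.1⟩
              · exact cl_3 j ⟨hj.1, hj.2.1, hj.2.2.1, hj.2.2.2.1, hj.2.2.2.2.1, hj.2.2.2.2.2⟩
              · exact cl_4 j ⟨hj.1, hj.2.1, hj.2.2.1, hj.2.2.2.1, hj.2.2.2.2.1, hj.2.2.2.2.2⟩
              · exact cl_5 j ⟨hj.1, hj.2.1, hj.2.2.1, hj.2.2.2.1, hj.2.2.2.2.1, hj.2.2.2.2.2⟩
      · -- (4,5) nonzero
        obtain ⟨lbp_4_5, lbq_4_5⟩ := Groth.Agent.Helper6.NT.lb T u4 u5 hn_5_4.symm nz_4_5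
        exfalso
        have key := Groth.Agent.Helper6.NT.negfun3 T h2 u3 u4 u5 (by norm_num) 1 1 1 (by norm_num) (by norm_num)
        linarith only [key, tap_3_4, taq_3_4, tap_3_5, taq_3_5, lbp_4_5, lbq_4_5, T.w_pos u3, T.w_pos u4, T.w_pos u5]
    · -- (3,5) Dp
      exfalso
      have key := Groth.Agent.Helper6.NT.negfun4 T h2 u1 u3 u4 u5 (by norm_num) 1 2 1 1 (by norm_num) (by norm_num)
      linarith only [key, tap_1_3, taq_1_3, z_1_4, z_1_5, tap_3_4, taq_3_4, tap_3_5, taq_3_5, T.offDiag_nonneg u4 u5 hn_5_4.symm, T.w_pos u1, T.w_pos u3, T.w_pos u4, T.w_pos u5]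
    · -- (3,5) Dm
      exfalso
      have key := Groth.Agent.Helper6.NT.negfun4 T h2 u1 u3 u4 u5 (by norm_num) 1 2 1 2 (by norm_num) (by norm_num)
      linarith only [key, tap_1_3, taq_1_3, z_1_4, z_1_5, tap_3_4, taq_3_4, tap_3_5, taq_3_5, T.offDiag_nonneg u4 u5 hn_5_4.symm, T.w_pos u1, T.w_pos u3, T.w_pos u4, T.w_pos u5]
    · -- (3,5) Tp
      exfalso
      have key := Groth.Agent.Helper6.NT.negfun3 T h2 u3 u4 u5 (by norm_num) 2 1 1 (by norm_num) (by norm_num)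
      linarith only [key, tap_3_4, taq_3_4, tap_3_5, taq_3_5, T.offDiag_nonneg u4 u5 hn_5_4.symm, T.w_pos u3, T.w_pos u4, T.w_pos u5]
    · -- (3,5) Tm
      exfalso
      have key := Groth.Agent.Helper6.NT.negfun3 T h2 u3 u4 u5 (by norm_num) 2 1 3 (by norm_num) (by norm_num)
      linarith only [key, tap_3_4, taq_3_4, tap_3_5, taq_3_5, T.offDiag_nonneg u4 u5 hn_5_4.symm, T.w_pos u3, T.w_pos u4, T.w_pos u5]
  · push Not at hx
    have cl_3 := hx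
    clear hx
    by_cases hx : ∃ j, (j ≠ u0 ∧ j ≠ u1 ∧ j ≠ u2 ∧ j ≠ u3 ∧ j ≠ u4) ∧ T.a u4 j ≠ 0
    · obtain ⟨u5, ⟨hn_5_0, hn_5_1, hn_5_2, hn_5_3, hn_5_4⟩, e_4_5⟩ := hx
      have z_0_5 : T.a u0 u5 = 0 := cl_0 u5 ⟨hn_5_0, hn_5_1, hn_5_2⟩
      have z_1_5 : T.a u1 u5 = 0 := cl_1 u5 ⟨hn_5_0, hn_5_1, hn_5_2, hn_5_3⟩
      have z_2_5 : T.a u2 u5 = 0 := cl_2 u5 ⟨hn_5_0, hn_5_1, hn_5_2, hn_5_3⟩
      have z_3_5 : T.a u3 u5 = 0 := cl_3 u5 ⟨hn_5_0, hn_5_1, hn_5_2, hn_5_3, hn_5_4⟩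
      rcases Groth.Agent.Helper6.NT.edge5 T h2 (by norm_num) u4 u5 hn_5_4.symm e_4_5 with ⟨tw_4_5, tap_4_5, taq_4_5⟩ | ⟨tw_4_5, tap_4_5, taq_4_5⟩ | ⟨tw_4_5, tap_4_5, taq_4_5⟩ | ⟨tw_4_5, tap_4_5, taq_4_5⟩ | ⟨tw_4_5, tap_4_5, taq_4_5⟩
      · -- (4,5) S
        by_cases hx : ∃ j, (j ≠ u0 ∧ j ≠ u1 ∧ j ≠ u2 ∧ j ≠ u3 ∧ j ≠ u4 ∧ j ≠ u5) ∧ T.a u4 j ≠ 0
        · obtain ⟨u6, ⟨hn_6_0, hn_6_1, hn_6_2, hn_6_3, hn_6_4, hn_6_5⟩, e_4_6⟩ := hx
          have z_0_6 : T.a u0 u6 = 0 := cl_0 u6 ⟨hn_6_0, hn_6_1, hn_6_2⟩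
          have z_1_6 : T.a u1 u6 = 0 := cl_1 u6 ⟨hn_6_0, hn_6_1, hn_6_2, hn_6_3⟩
          have z_2_6 : T.a u2 u6 = 0 := cl_2 u6 ⟨hn_6_0, hn_6_1, hn_6_2, hn_6_3⟩
          have z_3_6 : T.a u3 u6 = 0 := cl_3 u6 ⟨hn_6_0, hn_6_1, hn_6_2, hn_6_3, hn_6_4⟩
          rcases Groth.Agent.Helper6.NT.edge5 T h2 (by norm_num) u4 u6 hn_6_4.symm e_4_6 with ⟨tw_4_6, tap_4_6, taq_4_6⟩ | ⟨tw_4_6, tap_4_6, taq_4_6⟩ | ⟨tw_4_6, tap_4_6, taq_4_6⟩ | ⟨tw_4_6, tap_4_6, taq_4_6⟩ | ⟨tw_4_6, tap_4_6, taq_4_6⟩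
          · -- (4,6) S
            rcases eq_or_ne (T.a u5 u6) 0 with z_5_6 | nz_5_6
            · -- (5,6) zero
              have hinj := Groth.Agent.Helper6.NT.inj7 u0 u1 u2 u3 u4 u5 u6 hn_1_0 hn_2_0 hn_2_1 hn_3_0 hn_3_1 hn_3_2 hn_4_0 hn_4_1 hn_4_2 hn_4_3 hn_5_0 hn_5_1 hn_5_2 hn_5_3 hn_5_4 hn_6_0 hn_6_1 hn_6_2 hn_6_3 hn_6_4 hn_6_5
              have r_0 : -2 * T.m u0 + 1 * T.m u1 + 1 * T.m u2 = 0 := by
                have key := Groth.Agent.Helper6.NT.rowfun7 T u0 u1 u2 u3 u4 u5 u6 hinj u0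
                rw [(h2 u0).2, tap_0_1, tap_0_2, z_0_3, z_0_4, z_0_5, z_0_6] at key
                exact mul_left_cancel₀ (T.w_pos u0).ne' (by linarith only [key])
              have r_1 : 1 * T.m u0 + -2 * T.m u1 + 1 * T.m u3 = 0 := by
                have key := Groth.Agent.Helper6.NT.rowfun7 T u0 u1 u2 u3 u4 u5 u6 hinj u1
                rw [Groth.Agent.Helper6.NT.symm' T u1 u0, taq_0_1, (h2 u1).2, z_1_2, tap_1_3, z_1_4, z_1_5, z_1_6] at key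
                exact mul_left_cancel₀ (T.w_pos u1).ne' (by linarith only [key])
              have r_2 : 1 * T.m u0 + -2 * T.m u2 = 0 := by
                have key := Groth.Agent.Helper6.NT.rowfun7 T u0 u1 u2 u3 u4 u5 u6 hinj u2
                rw [Groth.Agent.Helper6.NT.symm' T u2 u0, taq_0_2, Groth.Agent.Helper6.NT.symm' T u2 u1, z_1_2, (h2 u2).2, z_2_3, z_2_4, z_2_5, z_2_6] at key
                exact mul_left_cancel₀ (T.w_pos u2).ne' (by linarith only [key])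
              have r_3 : 1 * T.m u1 + -2 * T.m u3 + 1 * T.m u4 = 0 := by
                have key := Groth.Agent.Helper6.NT.rowfun7 T u0 u1 u2 u3 u4 u5 u6 hinj u3
                rw [Groth.Agent.Helper6.NT.symm' T u3 u0, z_0_3, Groth.Agent.Helper6.NT.symm' T u3 u1, taq_1_3, Groth.Agent.Helper6.NT.symm' T u3 u2, z_2_3, (h2 u3).2, tap_3_4, z_3_5, z_3_6] at key
                exact mul_left_cancel₀ (T.w_pos u3).ne' (by linarith only [key])
              have r_4 : 1 * T.m u3 + -2 * T.m u4 + 1 * T.m u5 + 1 * T.m u6 = 0 := by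
                have key := Groth.Agent.Helper6.NT.rowfun7 T u0 u1 u2 u3 u4 u5 u6 hinj u4
                rw [Groth.Agent.Helper6.NT.symm' T u4 u0, z_0_4, Groth.Agent.Helper6.NT.symm' T u4 u1, z_1_4, Groth.Agent.Helper6.NT.symm' T u4 u2, z_2_4, Groth.Agent.Helper6.NT.symm' T u4 u3, taq_3_4, (h2 u4).2, tap_4_5, tap_4_6] at key
                exact mul_left_cancel₀ (T.w_pos u4).ne' (by linarith only [key])
              have r_5 : 1 * T.m u4 + -2 * T.m u5 = 0 := by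
                have key := Groth.Agent.Helper6.NT.rowfun7 T u0 u1 u2 u3 u4 u5 u6 hinj u5
                rw [Groth.Agent.Helper6.NT.symm' T u5 u0, z_0_5, Groth.Agent.Helper6.NT.symm' T u5 u1, z_1_5, Groth.Agent.Helper6.NT.symm' T u5 u2, z_2_5, Groth.Agent.Helper6.NT.symm' T u5 u3, z_3_5, Groth.Agent.Helper6.NT.symm' T u5 u4, taq_4_5, (h2 u5).2, z_5_6] at key
                exact mul_left_cancel₀ (T.w_pos u5).ne' (by linarith only [key])
              have r_6 : 1 * T.m u4 + -2 * T.m u6 = 0 := by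
                have key := Groth.Agent.Helper6.NT.rowfun7 T u0 u1 u2 u3 u4 u5 u6 hinj u6
                rw [Groth.Agent.Helper6.NT.symm' T u6 u0, z_0_6, Groth.Agent.Helper6.NT.symm' T u6 u1, z_1_6, Groth.Agent.Helper6.NT.symm' T u6 u2, z_2_6, Groth.Agent.Helper6.NT.symm' T u6 u3, z_3_6, Groth.Agent.Helper6.NT.symm' T u6 u4, taq_4_6, Groth.Agent.Helper6.NT.symm' T u6 u5, z_5_6, (h2 u6).2] at key
                exact mul_left_cancel₀ (T.w_pos u6).ne' (by linarith only [key])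
              exfalso
              linarith only [r_0, r_1, r_2, r_3, r_4, r_5, r_6, T.m_pos u0, T.m_pos u1, T.m_pos u2, T.m_pos u3, T.m_pos u4, T.m_pos u5, T.m_pos u6]
            · -- (5,6) nonzero
              obtain ⟨lbp_5_6, lbq_5_6⟩ := Groth.Agent.Helper6.NT.lb T u5 u6 hn_6_5.symm nz_5_6
              exfalso
              have key := Groth.Agent.Helper6.NT.negfun3 T h2 u4 u5 u6 (by norm_num) 1 1 1 (by norm_num) (by norm_num)
              linarith only [key, tap_4_5, taq_4_5, tap_4_6, taq_4_6, lbp_5_6, lbq_5_6, T.w_pos u4, T.w_pos u5, T.w_pos u6]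
          · -- (4,6) Dp
            exfalso
            have key := Groth.Agent.Helper6.NT.negfun4 T h2 u3 u4 u5 u6 (by norm_num) 1 2 1 1 (by norm_num) (by norm_num)
            linarith only [key, tap_3_4, taq_3_4, z_3_5, z_3_6, tap_4_5, taq_4_5, tap_4_6, taq_4_6, T.offDiag_nonneg u5 u6 hn_6_5.symm, T.w_pos u3, T.w_pos u4, T.w_pos u5, T.w_pos u6]
          · -- (4,6) Dm
            exfalso
            have key := Groth.Agent.Helper6.NT.negfun4 T h2 u3 u4 u5 u6 (by norm_num) 1 2 1 2 (by norm_num) (by norm_num)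
            linarith only [key, tap_3_4, taq_3_4, z_3_5, z_3_6, tap_4_5, taq_4_5, tap_4_6, taq_4_6, T.offDiag_nonneg u5 u6 hn_6_5.symm, T.w_pos u3, T.w_pos u4, T.w_pos u5, T.w_pos u6]
          · -- (4,6) Tp
            exfalso
            have key := Groth.Agent.Helper6.NT.negfun3 T h2 u4 u5 u6 (by norm_num) 2 1 1 (by norm_num) (by norm_num)
            linarith only [key, tap_4_5, taq_4_5, tap_4_6, taq_4_6, T.offDiag_nonneg u5 u6 hn_6_5.symm, T.w_pos u4, T.w_pos u5, T.w_pos u6]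
          · -- (4,6) Tm
            exfalso
            have key := Groth.Agent.Helper6.NT.negfun3 T h2 u4 u5 u6 (by norm_num) 2 1 3 (by norm_num) (by norm_num)
            linarith only [key, tap_4_5, taq_4_5, tap_4_6, taq_4_6, T.offDiag_nonneg u5 u6 hn_6_5.symm, T.w_pos u4, T.w_pos u5, T.w_pos u6]
        · push Not at hx
          have cl_4 := hx
          clear hx
          by_cases hx : ∃ j, (j ≠ u0 ∧ j ≠ u1 ∧ j ≠ u2 ∧ j ≠ u3 ∧ j ≠ u4 ∧ j ≠ u5) ∧ T.a u5 j ≠ 0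
          · obtain ⟨u6, ⟨hn_6_0, hn_6_1, hn_6_2, hn_6_3, hn_6_4, hn_6_5⟩, e_5_6⟩ := hx
            have z_0_6 : T.a u0 u6 = 0 := cl_0 u6 ⟨hn_6_0, hn_6_1, hn_6_2⟩
            have z_1_6 : T.a u1 u6 = 0 := cl_1 u6 ⟨hn_6_0, hn_6_1, hn_6_2, hn_6_3⟩
            have z_2_6 : T.a u2 u6 = 0 := cl_2 u6 ⟨hn_6_0, hn_6_1, hn_6_2, hn_6_3⟩
            have z_3_6 : T.a u3 u6 = 0 := cl_3 u6 ⟨hn_6_0, hn_6_1, hn_6_2, hn_6_3, hn_6_4⟩
            have z_4_6 : T.a u4 u6 = 0 := cl_4 u6 ⟨hn_6_0, hn_6_1, hn_6_2, hn_6_3, hn_6_4, hn_6_5⟩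
            rcases Groth.Agent.Helper6.NT.edge5 T h2 (by norm_num) u5 u6 hn_6_5.symm e_5_6 with ⟨tw_5_6, tap_5_6, taq_5_6⟩ | ⟨tw_5_6, tap_5_6, taq_5_6⟩ | ⟨tw_5_6, tap_5_6, taq_5_6⟩ | ⟨tw_5_6, tap_5_6, taq_5_6⟩ | ⟨tw_5_6, tap_5_6, taq_5_6⟩
            · -- (5,6) S
              have hinj := Groth.Agent.Helper6.NT.inj7 u0 u1 u2 u3 u4 u5 u6 hn_1_0 hn_2_0 hn_2_1 hn_3_0 hn_3_1 hn_3_2 hn_4_0 hn_4_1 hn_4_2 hn_4_3 hn_5_0 hn_5_1 hn_5_2 hn_5_3 hn_5_4 hn_6_0 hn_6_1 hn_6_2 hn_6_3 hn_6_4 hn_6_5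
              have r_0 : -2 * T.m u0 + 1 * T.m u1 + 1 * T.m u2 = 0 := by
                have key := Groth.Agent.Helper6.NT.rowfun7 T u0 u1 u2 u3 u4 u5 u6 hinj u0
                rw [(h2 u0).2, tap_0_1, tap_0_2, z_0_3, z_0_4, z_0_5, z_0_6] at key
                exact mul_left_cancel₀ (T.w_pos u0).ne' (by linarith only [key])
              have r_1 : 1 * T.m u0 + -2 * T.m u1 + 1 * T.m u3 = 0 := by
                have key := Groth.Agent.Helper6.NT.rowfun7 T u0 u1 u2 u3 u4 u5 u6 hinj u1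
                rw [Groth.Agent.Helper6.NT.symm' T u1 u0, taq_0_1, (h2 u1).2, z_1_2, tap_1_3, z_1_4, z_1_5, z_1_6] at key
                exact mul_left_cancel₀ (T.w_pos u1).ne' (by linarith only [key])
              have r_2 : 1 * T.m u0 + -2 * T.m u2 = 0 := by
                have key := Groth.Agent.Helper6.NT.rowfun7 T u0 u1 u2 u3 u4 u5 u6 hinj u2
                rw [Groth.Agent.Helper6.NT.symm' T u2 u0, taq_0_2, Groth.Agent.Helper6.NT.symm' T u2 u1, z_1_2, (h2 u2).2, z_2_3, z_2_4, z_2_5, z_2_6] at key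
                exact mul_left_cancel₀ (T.w_pos u2).ne' (by linarith only [key])
              have r_3 : 1 * T.m u1 + -2 * T.m u3 + 1 * T.m u4 = 0 := by
                have key := Groth.Agent.Helper6.NT.rowfun7 T u0 u1 u2 u3 u4 u5 u6 hinj u3
                rw [Groth.Agent.Helper6.NT.symm' T u3 u0, z_0_3, Groth.Agent.Helper6.NT.symm' T u3 u1, taq_1_3, Groth.Agent.Helper6.NT.symm' T u3 u2, z_2_3, (h2 u3).2, tap_3_4, z_3_5, z_3_6] at key
                exact mul_left_cancel₀ (T.w_pos u3).ne' (by linarith only [key])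
              have r_4 : 1 * T.m u3 + -2 * T.m u4 + 1 * T.m u5 = 0 := by
                have key := Groth.Agent.Helper6.NT.rowfun7 T u0 u1 u2 u3 u4 u5 u6 hinj u4
                rw [Groth.Agent.Helper6.NT.symm' T u4 u0, z_0_4, Groth.Agent.Helper6.NT.symm' T u4 u1, z_1_4, Groth.Agent.Helper6.NT.symm' T u4 u2, z_2_4, Groth.Agent.Helper6.NT.symm' T u4 u3, taq_3_4, (h2 u4).2, tap_4_5, z_4_6] at key
                exact mul_left_cancel₀ (T.w_pos u4).ne' (by linarith only [key])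
              have r_5 : 1 * T.m u4 + -2 * T.m u5 + 1 * T.m u6 = 0 := by
                have key := Groth.Agent.Helper6.NT.rowfun7 T u0 u1 u2 u3 u4 u5 u6 hinj u5
                rw [Groth.Agent.Helper6.NT.symm' T u5 u0, z_0_5, Groth.Agent.Helper6.NT.symm' T u5 u1, z_1_5, Groth.Agent.Helper6.NT.symm' T u5 u2, z_2_5, Groth.Agent.Helper6.NT.symm' T u5 u3, z_3_5, Groth.Agent.Helper6.NT.symm' T u5 u4, taq_4_5, (h2 u5).2, tap_5_6] at key
                exact mul_left_cancel₀ (T.w_pos u5).ne' (by linarith only [key])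
              have r_6 : 1 * T.m u5 + -2 * T.m u6 = 0 := by
                have key := Groth.Agent.Helper6.NT.rowfun7 T u0 u1 u2 u3 u4 u5 u6 hinj u6
                rw [Groth.Agent.Helper6.NT.symm' T u6 u0, z_0_6, Groth.Agent.Helper6.NT.symm' T u6 u1, z_1_6, Groth.Agent.Helper6.NT.symm' T u6 u2, z_2_6, Groth.Agent.Helper6.NT.symm' T u6 u3, z_3_6, Groth.Agent.Helper6.NT.symm' T u6 u4, z_4_6, Groth.Agent.Helper6.NT.symm' T u6 u5, taq_5_6, (h2 u6).2] at key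
                exact mul_left_cancel₀ (T.w_pos u6).ne' (by linarith only [key])
              exfalso
              linarith only [r_0, r_1, r_2, r_3, r_4, r_5, r_6, T.m_pos u0, T.m_pos u1, T.m_pos u2, T.m_pos u3, T.m_pos u4, T.m_pos u5, T.m_pos u6]
            · -- (5,6) Dp
              have hinj := Groth.Agent.Helper6.NT.inj7 u0 u1 u2 u3 u4 u5 u6 hn_1_0 hn_2_0 hn_2_1 hn_3_0 hn_3_1 hn_3_2 hn_4_0 hn_4_1 hn_4_2 hn_4_3 hn_5_0 hn_5_1 hn_5_2 hn_5_3 hn_5_4 hn_6_0 hn_6_1 hn_6_2 hn_6_3 hn_6_4 hn_6_5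
              have r_0 : -2 * T.m u0 + 1 * T.m u1 + 1 * T.m u2 = 0 := by
                have key := Groth.Agent.Helper6.NT.rowfun7 T u0 u1 u2 u3 u4 u5 u6 hinj u0
                rw [(h2 u0).2, tap_0_1, tap_0_2, z_0_3, z_0_4, z_0_5, z_0_6] at key
                exact mul_left_cancel₀ (T.w_pos u0).ne' (by linarith only [key])
              have r_1 : 1 * T.m u0 + -2 * T.m u1 + 1 * T.m u3 = 0 := by
                have key := Groth.Agent.Helper6.NT.rowfun7 T u0 u1 u2 u3 u4 u5 u6 hinj u1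
                rw [Groth.Agent.Helper6.NT.symm' T u1 u0, taq_0_1, (h2 u1).2, z_1_2, tap_1_3, z_1_4, z_1_5, z_1_6] at key
                exact mul_left_cancel₀ (T.w_pos u1).ne' (by linarith only [key])
              have r_2 : 1 * T.m u0 + -2 * T.m u2 = 0 := by
                have key := Groth.Agent.Helper6.NT.rowfun7 T u0 u1 u2 u3 u4 u5 u6 hinj u2
                rw [Groth.Agent.Helper6.NT.symm' T u2 u0, taq_0_2, Groth.Agent.Helper6.NT.symm' T u2 u1, z_1_2, (h2 u2).2, z_2_3, z_2_4, z_2_5, z_2_6] at key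
                exact mul_left_cancel₀ (T.w_pos u2).ne' (by linarith only [key])
              have r_3 : 1 * T.m u1 + -2 * T.m u3 + 1 * T.m u4 = 0 := by
                have key := Groth.Agent.Helper6.NT.rowfun7 T u0 u1 u2 u3 u4 u5 u6 hinj u3
                rw [Groth.Agent.Helper6.NT.symm' T u3 u0, z_0_3, Groth.Agent.Helper6.NT.symm' T u3 u1, taq_1_3, Groth.Agent.Helper6.NT.symm' T u3 u2, z_2_3, (h2 u3).2, tap_3_4, z_3_5, z_3_6] at key
                exact mul_left_cancel₀ (T.w_pos u3).ne' (by linarith only [key])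
              have r_4 : 1 * T.m u3 + -2 * T.m u4 + 1 * T.m u5 = 0 := by
                have key := Groth.Agent.Helper6.NT.rowfun7 T u0 u1 u2 u3 u4 u5 u6 hinj u4
                rw [Groth.Agent.Helper6.NT.symm' T u4 u0, z_0_4, Groth.Agent.Helper6.NT.symm' T u4 u1, z_1_4, Groth.Agent.Helper6.NT.symm' T u4 u2, z_2_4, Groth.Agent.Helper6.NT.symm' T u4 u3, taq_3_4, (h2 u4).2, tap_4_5, z_4_6] at key
                exact mul_left_cancel₀ (T.w_pos u4).ne' (by linarith only [key])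
              have r_5 : 1 * T.m u4 + -2 * T.m u5 + 2 * T.m u6 = 0 := by
                have key := Groth.Agent.Helper6.NT.rowfun7 T u0 u1 u2 u3 u4 u5 u6 hinj u5
                rw [Groth.Agent.Helper6.NT.symm' T u5 u0, z_0_5, Groth.Agent.Helper6.NT.symm' T u5 u1, z_1_5, Groth.Agent.Helper6.NT.symm' T u5 u2, z_2_5, Groth.Agent.Helper6.NT.symm' T u5 u3, z_3_5, Groth.Agent.Helper6.NT.symm' T u5 u4, taq_4_5, (h2 u5).2, tap_5_6] at key
                exact mul_left_cancel₀ (T.w_pos u5).ne' (by linarith only [key])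
              have r_6 : 1 * T.m u5 + -2 * T.m u6 = 0 := by
                have key := Groth.Agent.Helper6.NT.rowfun7 T u0 u1 u2 u3 u4 u5 u6 hinj u6
                rw [Groth.Agent.Helper6.NT.symm' T u6 u0, z_0_6, Groth.Agent.Helper6.NT.symm' T u6 u1, z_1_6, Groth.Agent.Helper6.NT.symm' T u6 u2, z_2_6, Groth.Agent.Helper6.NT.symm' T u6 u3, z_3_6, Groth.Agent.Helper6.NT.symm' T u6 u4, z_4_6, Groth.Agent.Helper6.NT.symm' T u6 u5, taq_5_6, (h2 u6).2] at key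
                exact mul_left_cancel₀ (T.w_pos u6).ne' (by linarith only [key])
              exfalso
              linarith only [r_0, r_1, r_2, r_3, r_4, r_5, r_6, T.m_pos u0, T.m_pos u1, T.m_pos u2, T.m_pos u3, T.m_pos u4, T.m_pos u5, T.m_pos u6]
            · -- (5,6) Dm
              have hinj := Groth.Agent.Helper6.NT.inj7 u0 u1 u2 u3 u4 u5 u6 hn_1_0 hn_2_0 hn_2_1 hn_3_0 hn_3_1 hn_3_2 hn_4_0 hn_4_1 hn_4_2 hn_4_3 hn_5_0 hn_5_1 hn_5_2 hn_5_3 hn_5_4 hn_6_0 hn_6_1 hn_6_2 hn_6_3 hn_6_4 hn_6_5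
              have r_0 : -2 * T.m u0 + 1 * T.m u1 + 1 * T.m u2 = 0 := by
                have key := Groth.Agent.Helper6.NT.rowfun7 T u0 u1 u2 u3 u4 u5 u6 hinj u0
                rw [(h2 u0).2, tap_0_1, tap_0_2, z_0_3, z_0_4, z_0_5, z_0_6] at key
                exact mul_left_cancel₀ (T.w_pos u0).ne' (by linarith only [key])
              have r_1 : 1 * T.m u0 + -2 * T.m u1 + 1 * T.m u3 = 0 := by
                have key := Groth.Agent.Helper6.NT.rowfun7 T u0 u1 u2 u3 u4 u5 u6 hinj u1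
                rw [Groth.Agent.Helper6.NT.symm' T u1 u0, taq_0_1, (h2 u1).2, z_1_2, tap_1_3, z_1_4, z_1_5, z_1_6] at key
                exact mul_left_cancel₀ (T.w_pos u1).ne' (by linarith only [key])
              have r_2 : 1 * T.m u0 + -2 * T.m u2 = 0 := by
                have key := Groth.Agent.Helper6.NT.rowfun7 T u0 u1 u2 u3 u4 u5 u6 hinj u2
                rw [Groth.Agent.Helper6.NT.symm' T u2 u0, taq_0_2, Groth.Agent.Helper6.NT.symm' T u2 u1, z_1_2, (h2 u2).2, z_2_3, z_2_4, z_2_5, z_2_6] at key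
                exact mul_left_cancel₀ (T.w_pos u2).ne' (by linarith only [key])
              have r_3 : 1 * T.m u1 + -2 * T.m u3 + 1 * T.m u4 = 0 := by
                have key := Groth.Agent.Helper6.NT.rowfun7 T u0 u1 u2 u3 u4 u5 u6 hinj u3
                rw [Groth.Agent.Helper6.NT.symm' T u3 u0, z_0_3, Groth.Agent.Helper6.NT.symm' T u3 u1, taq_1_3, Groth.Agent.Helper6.NT.symm' T u3 u2, z_2_3, (h2 u3).2, tap_3_4, z_3_5, z_3_6] at key
                exact mul_left_cancel₀ (T.w_pos u3).ne' (by linarith only [key])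
              have r_4 : 1 * T.m u3 + -2 * T.m u4 + 1 * T.m u5 = 0 := by
                have key := Groth.Agent.Helper6.NT.rowfun7 T u0 u1 u2 u3 u4 u5 u6 hinj u4
                rw [Groth.Agent.Helper6.NT.symm' T u4 u0, z_0_4, Groth.Agent.Helper6.NT.symm' T u4 u1, z_1_4, Groth.Agent.Helper6.NT.symm' T u4 u2, z_2_4, Groth.Agent.Helper6.NT.symm' T u4 u3, taq_3_4, (h2 u4).2, tap_4_5, z_4_6] at key
                exact mul_left_cancel₀ (T.w_pos u4).ne' (by linarith only [key])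
              have r_5 : 1 * T.m u4 + -2 * T.m u5 + 1 * T.m u6 = 0 := by
                have key := Groth.Agent.Helper6.NT.rowfun7 T u0 u1 u2 u3 u4 u5 u6 hinj u5
                rw [Groth.Agent.Helper6.NT.symm' T u5 u0, z_0_5, Groth.Agent.Helper6.NT.symm' T u5 u1, z_1_5, Groth.Agent.Helper6.NT.symm' T u5 u2, z_2_5, Groth.Agent.Helper6.NT.symm' T u5 u3, z_3_5, Groth.Agent.Helper6.NT.symm' T u5 u4, taq_4_5, (h2 u5).2, tap_5_6] at key
                exact mul_left_cancel₀ (T.w_pos u5).ne' (by linarith only [key])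
              have r_6 : 2 * T.m u5 + -2 * T.m u6 = 0 := by
                have key := Groth.Agent.Helper6.NT.rowfun7 T u0 u1 u2 u3 u4 u5 u6 hinj u6
                rw [Groth.Agent.Helper6.NT.symm' T u6 u0, z_0_6, Groth.Agent.Helper6.NT.symm' T u6 u1, z_1_6, Groth.Agent.Helper6.NT.symm' T u6 u2, z_2_6, Groth.Agent.Helper6.NT.symm' T u6 u3, z_3_6, Groth.Agent.Helper6.NT.symm' T u6 u4, z_4_6, Groth.Agent.Helper6.NT.symm' T u6 u5, taq_5_6, (h2 u6).2] at key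
                exact mul_left_cancel₀ (T.w_pos u6).ne' (by linarith only [key])
              exfalso
              linarith only [r_0, r_1, r_2, r_3, r_4, r_5, r_6, T.m_pos u0, T.m_pos u1, T.m_pos u2, T.m_pos u3, T.m_pos u4, T.m_pos u5, T.m_pos u6]
            · -- (5,6) Tp
              exfalso
              have key := Groth.Agent.Helper6.NT.negfun3 T h2 u4 u5 u6 (by norm_num) 1 2 1 (by norm_num) (by norm_num)
              linarith only [key, tap_4_5, taq_4_5, z_4_6, tap_5_6, taq_5_6, T.w_pos u4, T.w_pos u5, T.w_pos u6]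
            · -- (5,6) Tm
              exfalso
              have key := Groth.Agent.Helper6.NT.negfun3 T h2 u4 u5 u6 (by norm_num) 1 2 3 (by norm_num) (by norm_num)
              linarith only [key, tap_4_5, taq_4_5, z_4_6, tap_5_6, taq_5_6, T.w_pos u4, T.w_pos u5, T.w_pos u6]
          · push Not at hx
            have cl_5 := hx
            clear hx
            exfalso
            refine Groth.Agent.Helper6.NT.closed_contra T [u0, u1, u2, u3, u4, u5] (by simp) (by simp) ?_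
            intro i hi j hj
            simp only [List.mem_cons, List.not_mem_nil, or_false, not_or] at hi hj
            rcases hi with rfl | rfl | rfl | rfl | rfl | rfl
            · exact cl_0 j ⟨hj.1, hj.2.1, hj.2.2.1⟩
            · exact cl_1 j ⟨hj.1, hj.2.1, hj.2.2.1, hj.2.2.2.1⟩
            · exact cl_2 j ⟨hj.1, hj.2.1, hj.2.2.1, hj.2.2.2.1⟩
            · exact cl_3 j ⟨hj.1, hj.2.1, hj.2.2.1, hj.2.2.2.1, hj.2.2.2.2.1⟩
            · exact cl_4 j ⟨hj.1, hj.2.1, hj.2.2.1, hj.2.2.2.1, hj.2.2.2.2.1, hj.2.2.2.2.2⟩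
            · exact cl_5 j ⟨hj.1, hj.2.1, hj.2.2.1, hj.2.2.2.1, hj.2.2.2.2.1, hj.2.2.2.2.2⟩
      · -- (4,5) Dp
        by_cases hx : ∃ j, (j ≠ u0 ∧ j ≠ u1 ∧ j ≠ u2 ∧ j ≠ u3 ∧ j ≠ u4 ∧ j ≠ u5) ∧ T.a u4 j ≠ 0
        · obtain ⟨u6, ⟨hn_6_0, hn_6_1, hn_6_2, hn_6_3, hn_6_4, hn_6_5⟩, e_4_6⟩ := hx
          have z_0_6 : T.a u0 u6 = 0 := cl_0 u6 ⟨hn_6_0, hn_6_1, hn_6_2⟩
          have z_1_6 : T.a u1 u6 = 0 := cl_1 u6 ⟨hn_6_0, hn_6_1, hn_6_2, hn_6_3⟩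
          have z_2_6 : T.a u2 u6 = 0 := cl_2 u6 ⟨hn_6_0, hn_6_1, hn_6_2, hn_6_3⟩
          have z_3_6 : T.a u3 u6 = 0 := cl_3 u6 ⟨hn_6_0, hn_6_1, hn_6_2, hn_6_3, hn_6_4⟩
          rcases Groth.Agent.Helper6.NT.edge5 T h2 (by norm_num) u4 u6 hn_6_4.symm e_4_6 with ⟨tw_4_6, tap_4_6, taq_4_6⟩ | ⟨tw_4_6, tap_4_6, taq_4_6⟩ | ⟨tw_4_6, tap_4_6, taq_4_6⟩ | ⟨tw_4_6, tap_4_6, taq_4_6⟩ | ⟨tw_4_6, tap_4_6, taq_4_6⟩
          · -- (4,6) S
            exfalso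
            have key := Groth.Agent.Helper6.NT.negfun4 T h2 u3 u4 u5 u6 (by norm_num) 1 2 1 1 (by norm_num) (by norm_num)
            linarith only [key, tap_3_4, taq_3_4, z_3_5, z_3_6, tap_4_5, taq_4_5, tap_4_6, taq_4_6, T.offDiag_nonneg u5 u6 hn_6_5.symm, T.w_pos u3, T.w_pos u4, T.w_pos u5, T.w_pos u6]
          · -- (4,6) Dp
            exfalso
            have key := Groth.Agent.Helper6.NT.negfun3 T h2 u4 u5 u6 (by norm_num) 2 1 1 (by norm_num) (by norm_num)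
            linarith only [key, tap_4_5, taq_4_5, tap_4_6, taq_4_6, T.offDiag_nonneg u5 u6 hn_6_5.symm, T.w_pos u4, T.w_pos u5, T.w_pos u6]
          · -- (4,6) Dm
            exfalso
            have key := Groth.Agent.Helper6.NT.negfun3 T h2 u4 u5 u6 (by norm_num) 2 1 2 (by norm_num) (by norm_num)
            linarith only [key, tap_4_5, taq_4_5, tap_4_6, taq_4_6, T.offDiag_nonneg u5 u6 hn_6_5.symm, T.w_pos u4, T.w_pos u5, T.w_pos u6]
          · -- (4,6) Tp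
            exfalso
            have key := Groth.Agent.Helper6.NT.negfun3 T h2 u4 u5 u6 (by norm_num) 2 1 1 (by norm_num) (by norm_num)
            linarith only [key, tap_4_5, taq_4_5, tap_4_6, taq_4_6, T.offDiag_nonneg u5 u6 hn_6_5.symm, T.w_pos u4, T.w_pos u5, T.w_pos u6]
          · -- (4,6) Tm
            exfalso
            have key := Groth.Agent.Helper6.NT.negfun3 T h2 u4 u5 u6 (by norm_num) 2 1 3 (by norm_num) (by norm_num)
            linarith only [key, tap_4_5, taq_4_5, tap_4_6, taq_4_6, T.offDiag_nonneg u5 u6 hn_6_5.symm, T.w_pos u4, T.w_pos u5, T.w_pos u6]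
        · push Not at hx
          have cl_4 := hx
          clear hx
          by_cases hx : ∃ j, (j ≠ u0 ∧ j ≠ u1 ∧ j ≠ u2 ∧ j ≠ u3 ∧ j ≠ u4 ∧ j ≠ u5) ∧ T.a u5 j ≠ 0
          · obtain ⟨u6, ⟨hn_6_0, hn_6_1, hn_6_2, hn_6_3, hn_6_4, hn_6_5⟩, e_5_6⟩ := hx
            have z_0_6 : T.a u0 u6 = 0 := cl_0 u6 ⟨hn_6_0, hn_6_1, hn_6_2⟩
            have z_1_6 : T.a u1 u6 = 0 := cl_1 u6 ⟨hn_6_0, hn_6_1, hn_6_2, hn_6_3⟩
            have z_2_6 : T.a u2 u6 = 0 := cl_2 u6 ⟨hn_6_0, hn_6_1, hn_6_2, hn_6_3⟩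
            have z_3_6 : T.a u3 u6 = 0 := cl_3 u6 ⟨hn_6_0, hn_6_1, hn_6_2, hn_6_3, hn_6_4⟩
            have z_4_6 : T.a u4 u6 = 0 := cl_4 u6 ⟨hn_6_0, hn_6_1, hn_6_2, hn_6_3, hn_6_4, hn_6_5⟩
            rcases Groth.Agent.Helper6.NT.edge5 T h2 (by norm_num) u5 u6 hn_6_5.symm e_5_6 with ⟨tw_5_6, tap_5_6, taq_5_6⟩ | ⟨tw_5_6, tap_5_6, taq_5_6⟩ | ⟨tw_5_6, tap_5_6, taq_5_6⟩ | ⟨tw_5_6, tap_5_6, taq_5_6⟩ | ⟨tw_5_6, tap_5_6, taq_5_6⟩
            · -- (5,6) S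
              exfalso
              have key := Groth.Agent.Helper6.NT.negfun5 T h2 u1 u3 u4 u5 u6 (by norm_num) 1 2 3 2 1 (by norm_num) (by norm_num)
              linarith only [key, tap_1_3, taq_1_3, z_1_4, z_1_5, z_1_6, tap_3_4, taq_3_4, z_3_5, z_3_6, tap_4_5, taq_4_5, z_4_6, tap_5_6, taq_5_6, T.w_pos u1, T.w_pos u3, T.w_pos u4, T.w_pos u5, T.w_pos u6]
            · -- (5,6) Dp
              exfalso
              have key := Groth.Agent.Helper6.NT.negfun3 T h2 u4 u5 u6 (by norm_num) 2 2 1 (by norm_num) (by norm_num)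
              linarith only [key, tap_4_5, taq_4_5, z_4_6, tap_5_6, taq_5_6, T.w_pos u4, T.w_pos u5, T.w_pos u6]
            · -- (5,6) Dm
              exfalso
              have key := Groth.Agent.Helper6.NT.negfun3 T h2 u4 u5 u6 (by norm_num) 1 1 1 (by norm_num) (by norm_num)
              linarith only [key, tap_4_5, taq_4_5, z_4_6, tap_5_6, taq_5_6, T.w_pos u4, T.w_pos u5, T.w_pos u6]
            · -- (5,6) Tp
              exfalso
              have key := Groth.Agent.Helper6.NT.negfun3 T h2 u4 u5 u6 (by norm_num) 2 2 1 (by norm_num) (by norm_num)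
              linarith only [key, tap_4_5, taq_4_5, z_4_6, tap_5_6, taq_5_6, T.w_pos u4, T.w_pos u5, T.w_pos u6]
            · -- (5,6) Tm
              exfalso
              have key := Groth.Agent.Helper6.NT.negfun3 T h2 u4 u5 u6 (by norm_num) 2 2 3 (by norm_num) (by norm_num)
              linarith only [key, tap_4_5, taq_4_5, z_4_6, tap_5_6, taq_5_6, T.w_pos u4, T.w_pos u5, T.w_pos u6]
          · push Not at hx
            have cl_5 := hx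
            clear hx
            exfalso
            refine Groth.Agent.Helper6.NT.closed_contra T [u0, u1, u2, u3, u4, u5] (by simp) (by simp) ?_
            intro i hi j hj
            simp only [List.mem_cons, List.not_mem_nil, or_false, not_or] at hi hj
            rcases hi with rfl | rfl | rfl | rfl | rfl | rfl
            · exact cl_0 j ⟨hj.1, hj.2.1, hj.2.2.1⟩
            · exact cl_1 j ⟨hj.1, hj.2.1, hj.2.2.1, hj.2.2.2.1⟩
            · exact cl_2 j ⟨hj.1, hj.2.1, hj.2.2.1, hj.2.2.2.1⟩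
            · exact cl_3 j ⟨hj.1, hj.2.1, hj.2.2.1, hj.2.2.2.1, hj.2.2.2.2.1⟩
            · exact cl_4 j ⟨hj.1, hj.2.1, hj.2.2.1, hj.2.2.2.1, hj.2.2.2.2.1, hj.2.2.2.2.2⟩
            · exact cl_5 j ⟨hj.1, hj.2.1, hj.2.2.1, hj.2.2.2.1, hj.2.2.2.2.1, hj.2.2.2.2.2⟩
      · -- (4,5) Dm
        by_cases hx : ∃ j, (j ≠ u0 ∧ j ≠ u1 ∧ j ≠ u2 ∧ j ≠ u3 ∧ j ≠ u4 ∧ j ≠ u5) ∧ T.a u4 j ≠ 0
        · obtain ⟨u6, ⟨hn_6_0, hn_6_1, hn_6_2, hn_6_3, hn_6_4, hn_6_5⟩, e_4_6⟩ := hx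
          have z_0_6 : T.a u0 u6 = 0 := cl_0 u6 ⟨hn_6_0, hn_6_1, hn_6_2⟩
          have z_1_6 : T.a u1 u6 = 0 := cl_1 u6 ⟨hn_6_0, hn_6_1, hn_6_2, hn_6_3⟩
          have z_2_6 : T.a u2 u6 = 0 := cl_2 u6 ⟨hn_6_0, hn_6_1, hn_6_2, hn_6_3⟩
          have z_3_6 : T.a u3 u6 = 0 := cl_3 u6 ⟨hn_6_0, hn_6_1, hn_6_2, hn_6_3, hn_6_4⟩
          rcases Groth.Agent.Helper6.NT.edge5 T h2 (by norm_num) u4 u6 hn_6_4.symm e_4_6 with ⟨tw_4_6, tap_4_6, taq_4_6⟩ | ⟨tw_4_6, tap_4_6, taq_4_6⟩ | ⟨tw_4_6, tap_4_6, taq_4_6⟩ | ⟨tw_4_6, tap_4_6, taq_4_6⟩ | ⟨tw_4_6, tap_4_6, taq_4_6⟩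
          · -- (4,6) S
            exfalso
            have key := Groth.Agent.Helper6.NT.negfun4 T h2 u3 u4 u5 u6 (by norm_num) 1 2 2 1 (by norm_num) (by norm_num)
            linarith only [key, tap_3_4, taq_3_4, z_3_5, z_3_6, tap_4_5, taq_4_5, tap_4_6, taq_4_6, T.offDiag_nonneg u5 u6 hn_6_5.symm, T.w_pos u3, T.w_pos u4, T.w_pos u5, T.w_pos u6]
          · -- (4,6) Dp
            exfalso
            have key := Groth.Agent.Helper6.NT.negfun3 T h2 u4 u5 u6 (by norm_num) 2 2 1 (by norm_num) (by norm_num)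
            linarith only [key, tap_4_5, taq_4_5, tap_4_6, taq_4_6, T.offDiag_nonneg u5 u6 hn_6_5.symm, T.w_pos u4, T.w_pos u5, T.w_pos u6]
          · -- (4,6) Dm
            exfalso
            have key := Groth.Agent.Helper6.NT.negfun3 T h2 u4 u5 u6 (by norm_num) 1 1 1 (by norm_num) (by norm_num)
            linarith only [key, tap_4_5, taq_4_5, tap_4_6, taq_4_6, T.offDiag_nonneg u5 u6 hn_6_5.symm, T.w_pos u4, T.w_pos u5, T.w_pos u6]
          · -- (4,6) Tp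
            exfalso
            have key := Groth.Agent.Helper6.NT.negfun3 T h2 u4 u5 u6 (by norm_num) 2 2 1 (by norm_num) (by norm_num)
            linarith only [key, tap_4_5, taq_4_5, tap_4_6, taq_4_6, T.offDiag_nonneg u5 u6 hn_6_5.symm, T.w_pos u4, T.w_pos u5, T.w_pos u6]
          · -- (4,6) Tm
            exfalso
            have key := Groth.Agent.Helper6.NT.negfun3 T h2 u4 u5 u6 (by norm_num) 2 2 3 (by norm_num) (by norm_num)
            linarith only [key, tap_4_5, taq_4_5, tap_4_6, taq_4_6, T.offDiag_nonneg u5 u6 hn_6_5.symm, T.w_pos u4, T.w_pos u5, T.w_pos u6]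
        · push Not at hx
          have cl_4 := hx
          clear hx
          by_cases hx : ∃ j, (j ≠ u0 ∧ j ≠ u1 ∧ j ≠ u2 ∧ j ≠ u3 ∧ j ≠ u4 ∧ j ≠ u5) ∧ T.a u5 j ≠ 0
          · obtain ⟨u6, ⟨hn_6_0, hn_6_1, hn_6_2, hn_6_3, hn_6_4, hn_6_5⟩, e_5_6⟩ := hx
            have z_0_6 : T.a u0 u6 = 0 := cl_0 u6 ⟨hn_6_0, hn_6_1, hn_6_2⟩
            have z_1_6 : T.a u1 u6 = 0 := cl_1 u6 ⟨hn_6_0, hn_6_1, hn_6_2, hn_6_3⟩
            have z_2_6 : T.a u2 u6 = 0 := cl_2 u6 ⟨hn_6_0, hn_6_1, hn_6_2, hn_6_3⟩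
            have z_3_6 : T.a u3 u6 = 0 := cl_3 u6 ⟨hn_6_0, hn_6_1, hn_6_2, hn_6_3, hn_6_4⟩
            have z_4_6 : T.a u4 u6 = 0 := cl_4 u6 ⟨hn_6_0, hn_6_1, hn_6_2, hn_6_3, hn_6_4, hn_6_5⟩
            rcases Groth.Agent.Helper6.NT.edge5 T h2 (by norm_num) u5 u6 hn_6_5.symm e_5_6 with ⟨tw_5_6, tap_5_6, taq_5_6⟩ | ⟨tw_5_6, tap_5_6, taq_5_6⟩ | ⟨tw_5_6, tap_5_6, taq_5_6⟩ | ⟨tw_5_6, tap_5_6, taq_5_6⟩ | ⟨tw_5_6, tap_5_6, taq_5_6⟩
            · -- (5,6) S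
              exfalso
              have key := Groth.Agent.Helper6.NT.negfun5 T h2 u1 u3 u4 u5 u6 (by norm_num) 1 2 3 4 2 (by norm_num) (by norm_num)
              linarith only [key, tap_1_3, taq_1_3, z_1_4, z_1_5, z_1_6, tap_3_4, taq_3_4, z_3_5, z_3_6, tap_4_5, taq_4_5, z_4_6, tap_5_6, taq_5_6, T.w_pos u1, T.w_pos u3, T.w_pos u4, T.w_pos u5, T.w_pos u6]
            · -- (5,6) Dp
              exfalso
              have key := Groth.Agent.Helper6.NT.negfun3 T h2 u4 u5 u6 (by norm_num) 1 2 1 (by norm_num) (by norm_num)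
              linarith only [key, tap_4_5, taq_4_5, z_4_6, tap_5_6, taq_5_6, T.w_pos u4, T.w_pos u5, T.w_pos u6]
            · -- (5,6) Dm
              exfalso
              have key := Groth.Agent.Helper6.NT.negfun3 T h2 u4 u5 u6 (by norm_num) 1 2 2 (by norm_num) (by norm_num)
              linarith only [key, tap_4_5, taq_4_5, z_4_6, tap_5_6, taq_5_6, T.w_pos u4, T.w_pos u5, T.w_pos u6]
            · -- (5,6) Tp
              exfalso
              have key := Groth.Agent.Helper6.NT.negfun3 T h2 u4 u5 u6 (by norm_num) 1 2 1 (by norm_num) (by norm_num)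
              linarith only [key, tap_4_5, taq_4_5, z_4_6, tap_5_6, taq_5_6, T.w_pos u4, T.w_pos u5, T.w_pos u6]
            · -- (5,6) Tm
              exfalso
              have key := Groth.Agent.Helper6.NT.negfun3 T h2 u4 u5 u6 (by norm_num) 1 2 3 (by norm_num) (by norm_num)
              linarith only [key, tap_4_5, taq_4_5, z_4_6, tap_5_6, taq_5_6, T.w_pos u4, T.w_pos u5, T.w_pos u6]
          · push Not at hx
            have cl_5 := hx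
            clear hx
            exfalso
            refine Groth.Agent.Helper6.NT.closed_contra T [u0, u1, u2, u3, u4, u5] (by simp) (by simp) ?_
            intro i hi j hj
            simp only [List.mem_cons, List.not_mem_nil, or_false, not_or] at hi hj
            rcases hi with rfl | rfl | rfl | rfl | rfl | rfl
            · exact cl_0 j ⟨hj.1, hj.2.1, hj.2.2.1⟩
            · exact cl_1 j ⟨hj.1, hj.2.1, hj.2.2.1, hj.2.2.2.1⟩
            · exact cl_2 j ⟨hj.1, hj.2.1, hj.2.2.1, hj.2.2.2.1⟩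
            · exact cl_3 j ⟨hj.1, hj.2.1, hj.2.2.1, hj.2.2.2.1, hj.2.2.2.2.1⟩
            · exact cl_4 j ⟨hj.1, hj.2.1, hj.2.2.1, hj.2.2.2.1, hj.2.2.2.2.1, hj.2.2.2.2.2⟩
            · exact cl_5 j ⟨hj.1, hj.2.1, hj.2.2.1, hj.2.2.2.1, hj.2.2.2.2.1, hj.2.2.2.2.2⟩
      · -- (4,5) Tp
        exfalso
        have key := Groth.Agent.Helper6.NT.negfun3 T h2 u3 u4 u5 (by norm_num) 1 2 1 (by norm_num) (by norm_num)
        linarith only [key, tap_3_4, taq_3_4, z_3_5, tap_4_5, taq_4_5, T.w_pos u3, T.w_pos u4, T.w_pos u5]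
      · -- (4,5) Tm
        exfalso
        have key := Groth.Agent.Helper6.NT.negfun3 T h2 u3 u4 u5 (by norm_num) 1 2 3 (by norm_num) (by norm_num)
        linarith only [key, tap_3_4, taq_3_4, z_3_5, tap_4_5, taq_4_5, T.w_pos u3, T.w_pos u4, T.w_pos u5]
    · push Not at hx
      have cl_4 := hx
      clear hx
      exfalso
      refine Groth.Agent.Helper6.NT.closed_contra T [u0, u1, u2, u3, u4] (by simp) (by simp) ?_
      intro i hi j hj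
      simp only [List.mem_cons, List.not_mem_nil, or_false, not_or] at hi hj
      rcases hi with rfl | rfl | rfl | rfl | rfl
      · exact cl_0 j ⟨hj.1, hj.2.1, hj.2.2.1⟩
      · exact cl_1 j ⟨hj.1, hj.2.1, hj.2.2.1, hj.2.2.2.1⟩
      · exact cl_2 j ⟨hj.1, hj.2.1, hj.2.2.1, hj.2.2.2.1⟩
      · exact cl_3 j ⟨hj.1, hj.2.1, hj.2.2.1, hj.2.2.2.1, hj.2.2.2.2⟩
      · exact cl_4 j ⟨hj.1, hj.2.1, hj.2.2.1, hj.2.2.2.1, hj.2.2.2.2⟩

theorem cut7_10 (T : Models.NumericalType 7) (h2 : ∀ i, T.IsMinusTwo i) (u0 u1 u2 u3 u4 : Fin 7)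
    (hn_1_0 : u1 ≠ u0)
    (e_0_1 : T.a u0 u1 ≠ 0)
    (tw_0_1 : T.w u1 = T.w u0)
    (tap_0_1 : T.a u0 u1 = T.w u0)
    (taq_0_1 : T.a u0 u1 = T.w u1)
    (hn_2_0 : u2 ≠ u0)
    (hn_2_1 : u2 ≠ u1)
    (e_0_2 : T.a u0 u2 ≠ 0)
    (tw_0_2 : T.w u2 = T.w u0)
    (tap_0_2 : T.a u0 u2 = T.w u0)
    (taq_0_2 : T.a u0 u2 = T.w u2)
    (z_1_2 : T.a u1 u2 = 0)
    (cl_0 : ∀ j : Fin 7, (j ≠ u0 ∧ j ≠ u1 ∧ j ≠ u2) → T.a u0 j = 0)
    (hn_3_0 : u3 ≠ u0)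
    (hn_3_1 : u3 ≠ u1)
    (hn_3_2 : u3 ≠ u2)
    (e_1_3 : T.a u1 u3 ≠ 0)
    (z_0_3 : T.a u0 u3 = 0)
    (tw_1_3 : T.w u3 = T.w u1)
    (tap_1_3 : T.a u1 u3 = T.w u1)
    (taq_1_3 : T.a u1 u3 = T.w u3)
    (z_2_3 : T.a u2 u3 = 0)
    (cl_1 : ∀ j : Fin 7, (j ≠ u0 ∧ j ≠ u1 ∧ j ≠ u2 ∧ j ≠ u3) → T.a u1 j = 0)
    (cl_2 : ∀ j : Fin 7, (j ≠ u0 ∧ j ≠ u1 ∧ j ≠ u2 ∧ j ≠ u3) → T.a u2 j = 0)
    (hn_4_0 : u4 ≠ u0)
    (hn_4_1 : u4 ≠ u1)
    (hn_4_2 : u4 ≠ u2)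
    (hn_4_3 : u4 ≠ u3)
    (e_3_4 : T.a u3 u4 ≠ 0)
    (z_0_4 : T.a u0 u4 = 0)
    (z_1_4 : T.a u1 u4 = 0)
    (z_2_4 : T.a u2 u4 = 0)
    (tw_3_4 : T.w u4 = 2 * T.w u3)
    (tap_3_4 : T.a u3 u4 = 2 * T.w u3)
    (taq_3_4 : T.a u3 u4 = T.w u4) :
    ∃ (σ : Equiv.Perm (Fin 7)) (m w : ℤ), ((T.m (σ 0) = m ∧ T.m (σ 1) = m ∧ T.m (σ 2) = m ∧ T.m (σ 3) = m ∧ T.m (σ 4) = m ∧ T.m (σ 5) = m ∧ T.m (σ 6) = m ∧ T.w (σ 0) = w ∧ T.w (σ 1) = w ∧ T.w (σ 2) = w ∧ T.w (σ 3) = w ∧ T.w (σ 4) = w ∧ T.w (σ 5) = w ∧ T.w (σ 6) = w ∧ T.a (σ 0) (σ 0) = -2 * w ∧ T.a (σ 0) (σ 1) = w ∧ T.a (σ 0) (σ 2) = 0 ∧ T.a (σ 0) (σ 3) = 0 ∧ T.a (σ 0) (σ 4) = 0 ∧ T.a (σ 0) (σ 5) = 0 ∧ T.a (σ 0) (σ 6) = w ∧ T.a (σ 1) (σ 1) = -2 * w ∧ T.a (σ 1) (σ 2) = w ∧ T.a (σ 1) (σ 3) = 0 ∧ T.a (σ 1) (σ 4) = 0 ∧ T.a (σ 1) (σ 5) = 0 ∧ T.a (σ 1) (σ 6) = 0 ∧ T.a (σ 2) (σ 2) = -2 * w ∧ T.a (σ 2) (σ 3) = w ∧ T.a (σ 2) (σ 4) = 0 ∧ T.a (σ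 2) (σ 5) = 0 ∧ T.a (σ 2) (σ 6) = 0 ∧ T.a (σ 3) (σ 3) = -2 * w ∧ T.a (σ 3) (σ 4) = w ∧ T.a (σ 3) (σ 5) = 0 ∧ T.a (σ 3) (σ 6) = 0 ∧ T.a (σ 4) (σ 4) = -2 * w ∧ T.a (σ 4) (σ 5) = w ∧ T.a (σ 4) (σ 6) = 0 ∧ T.a (σ 5) (σ 5) = -2 * w ∧ T.a (σ 5) (σ 6) = w ∧ T.a (σ 6) (σ 6) = -2 * w) ∨ (T.m (σ 0) = 2 * m ∧ T.m (σ 1) = 2 * m ∧ T.m (σ 2) = 2 * m ∧ T.m (σ 3) = 2 * m ∧ T.m (σ 4) = 2 * m ∧ T.m (σ 5) = 2 * m ∧ T.m (σ 6) = m ∧ T.w (σ 0) = w ∧ T.w (σ 1) = 2 * w ∧ T.w (σ 2) = 2 * w ∧ T.w (σ 3) = 2 * w ∧ T.w (σ 4) = 2 * w ∧ T.w (σ 5) = 2 * w ∧ T.w (σ 6) = 4 * w ∧ T.a (σ 0) (σ 0) = -2 * w ∧ T.a (σ 0) (σ 1) = 2 * w ∧ T.a (σ 0) (σ 2) = 0 ∧ T.a (σ 0) (σ 3) = 0 ∧ T.a (σ 0) (σ 4) = 0 ∧ T.a (σ 0) (σ 5) = 0 ∧ T.a (σ 0) (σ 6) = 0 ∧ T.a (σ 1) (σ 1) = -4 * w ∧ T.a (σ 1) (σ 2) = 2 * w ∧ T.a (σ 1) (σ 3) = 0 ∧ T.a (σ 1) (σ 4) = 0 ∧ T.a (σ 1) (σ 5) = 0 ∧ T.a (σ 1) (σ 6) = 0 ∧ T.a (σ 2) (σ 2) = -4 * w ∧ T.a (σ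 2) (σ 3) = 2 * w ∧ T.a (σ 2) (σ 4) = 0 ∧ T.a (σ 2) (σ 5) = 0 ∧ T.a (σ 2) (σ 6) = 0 ∧ T.a (σ 3) (σ 3) = -4 * w ∧ T.a (σ 3) (σ 4) = 2 * w ∧ T.a (σ 3) (σ 5) = 0 ∧ T.a (σ 3) (σ 6) = 0 ∧ T.a (σ 4) (σ 4) = -4 * w ∧ T.a (σ 4) (σ 5) = 2 * w ∧ T.a (σ 4) (σ 6) = 0 ∧ T.a (σ 5) (σ 5) = -4 * w ∧ T.a (σ 5) (σ 6) = 4 * w ∧ T.a (σ 6) (σ 6) = -8 * w) ∨ (T.m (σ 0) = m ∧ T.m (σ 1) = m ∧ T.m (σ 2) = m ∧ T.m (σ 3) = m ∧ T.m (σ 4) = m ∧ T.m (σ 5) = m ∧ T.m (σ 6) = m ∧ T.w (σ 0) = w ∧ T.w (σ 1) = 2 * w ∧ T.w (σ 2) = 2 * w ∧ T.w (σ 3) = 2 * w ∧ T.w (σ 4) = 2 * w ∧ T.w (σ 5) = 2 * w ∧ T.w (σ 6) = w ∧ T.a (σ 0) (σ 0) = -2 * w ∧ T.a (σ 0) (σ 1) = 2 * w ∧ T.a (σ 0) (σ 2) = 0 ∧ T.a (σ 0) (σ 3) = 0 ∧ T.a (σ 0) (σ 4) = 0 ∧ T.a (σ 0) (σ 5) = 0 ∧ T.a (σ 0) (σ 6) = 0 ∧ T.a (σ 1) (σ 1) = -4 * w ∧ T.a (σ 1) (σ 2) = 2 * w ∧ T.a (σ 1) (σ 3) = 0 ∧ T.a (σ 1) (σ 4) = 0 ∧ T.a (σ 1) (σ 5) = 0 ∧ T.a (σ 1) (σ 6) = 0 ∧ T.a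 (σ 2) (σ 2) = -4 * w ∧ T.a (σ 2) (σ 3) = 2 * w ∧ T.a (σ 2) (σ 4) = 0 ∧ T.a (σ 2) (σ 5) = 0 ∧ T.a (σ 2) (σ 6) = 0 ∧ T.a (σ 3) (σ 3) = -4 * w ∧ T.a (σ 3) (σ 4) = 2 * w ∧ T.a (σ 3) (σ 5) = 0 ∧ T.a (σ 3) (σ 6) = 0 ∧ T.a (σ 4) (σ 4) = -4 * w ∧ T.a (σ 4) (σ 5) = 2 * w ∧ T.a (σ 4) (σ 6) = 0 ∧ T.a (σ 5) (σ 5) = -4 * w ∧ T.a (σ 5) (σ 6) = 2 * w ∧ T.a (σ 6) (σ 6) = -2 * w) ∨ (T.m (σ 0) = m ∧ T.m (σ 1) = 2 * m ∧ T.m (σ 2) = 2 * m ∧ T.m (σ 3) = 2 * m ∧ T.m (σ 4) = 2 * m ∧ T.m (σ 5) = 2 * m ∧ T.m (σ 6) = m ∧ T.w (σ 0) = 2 * w ∧ T.w (σ 1) = w ∧ T.w (σ 2) = w ∧ T.w (σ 3) = w ∧ T.w (σ 4) = w ∧ T.w (σ 5) = w ∧ T.w (σ 6) = 2 * w ∧ T.a (σ 0) (σ 0) = -4 * w ∧ T.a (σ 0) (σ 1) = 2 * w ∧ T.a (σ 0) (σ 2) = 0 ∧ T.a (σ 0) (σ 3) = 0 ∧ T.a (σ 0) (σ 4) = 0 ∧ T.a (σ 0) (σ 5) = 0 ∧ T.a (σ 0) (σ 6) = 0 ∧ T.a (σ 1) (σ 1) = -2 * w ∧ T.a (σ 1) (σ 2) = w ∧ T.a (σ 1) (σ 3) = 0 ∧ T.a (σ 1) (σ 4) = 0 ∧ T.a (σ 1) (σ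 5) = 0 ∧ T.a (σ 1) (σ 6) = 0 ∧ T.a (σ 2) (σ 2) = -2 * w ∧ T.a (σ 2) (σ 3) = w ∧ T.a (σ 2) (σ 4) = 0 ∧ T.a (σ 2) (σ 5) = 0 ∧ T.a (σ 2) (σ 6) = 0 ∧ T.a (σ 3) (σ 3) = -2 * w ∧ T.a (σ 3) (σ 4) = w ∧ T.a (σ 3) (σ 5) = 0 ∧ T.a (σ 3) (σ 6) = 0 ∧ T.a (σ 4) (σ 4) = -2 * w ∧ T.a (σ 4) (σ 5) = w ∧ T.a (σ 4) (σ 6) = 0 ∧ T.a (σ 5) (σ 5) = -2 * w ∧ T.a (σ 5) (σ 6) = 2 * w ∧ T.a (σ 6) (σ 6) = -4 * w) ∨ (T.m (σ 0) = m ∧ T.m (σ 1) = 2 * m ∧ T.m (σ 2) = 2 * m ∧ T.m (σ 3) = 2 * m ∧ T.m (σ 4) = 2 * m ∧ T.m (σ 5) = m ∧ T.m (σ 6) = m ∧ T.w (σ 0) = 2 * w ∧ T.w (σ 1) = w ∧ T.w (σ 2) = w ∧ T.w (σ 3) = w ∧ T.w (σ 4) = w ∧ T.w (σ 5) = w ∧ T.w (σ 6) = w ∧ T.a (σ 0) (σ 0) = -4 * w ∧ T.a (σ 0) (σ 1) = 2 * w ∧ T.a (σ 0) (σ 2) = 0 ∧ T.a (σ 0) (σ 3) = 0 ∧ T.a (σ 0) (σ 4) = 0 ∧ T.a (σ 0) (σ 5) = 0 ∧ T.a (σ 0) (σ 6) = 0 ∧ T.a (σ 1) (σ 1) = -2 * w ∧ T.a (σ 1) (σ 2) = w ∧ T.a (σ 1) (σ 3) = 0 ∧ T.a (σ 1) (σ 4) =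 0 ∧ T.a (σ 1) (σ 5) = 0 ∧ T.a (σ 1) (σ 6) = 0 ∧ T.a (σ 2) (σ 2) = -2 * w ∧ T.a (σ 2) (σ 3) = w ∧ T.a (σ 2) (σ 4) = 0 ∧ T.a (σ 2) (σ 5) = 0 ∧ T.a (σ 2) (σ 6) = 0 ∧ T.a (σ 3) (σ 3) = -2 * w ∧ T.a (σ 3) (σ 4) = w ∧ T.a (σ 3) (σ 5) = 0 ∧ T.a (σ 3) (σ 6) = 0 ∧ T.a (σ 4) (σ 4) = -2 * w ∧ T.a (σ 4) (σ 5) = w ∧ T.a (σ 4) (σ 6) = w ∧ T.a (σ 5) (σ 5) = -2 * w ∧ T.a (σ 5) (σ 6) = 0 ∧ T.a (σ 6) (σ 6) = -2 * w) ∨ (T.m (σ 0) = 2 * m ∧ T.m (σ 1) = 2 * m ∧ T.m (σ 2) = 2 * m ∧ T.m (σ 3) = 2 * m ∧ T.m (σ 4) = 2 * m ∧ T.m (σ 5) = m ∧ T.m (σ 6) = m ∧ T.w (σ 0) = w ∧ T.w (σ 1) = 2 * w ∧ T.w (σ 2) = 2 * w ∧ T.w (σ 3) = 2 * w ∧ T.w (σ 4) = 2 * w ∧ T.w (σ 5) = 2 * w ∧ T.w (σ 6) = 2 * w ∧ T.a (σ 0) (σ 0) = -2 * w ∧ T.a (σ 0) (σ 1) = 2 * w ∧ T.a (σ 0) (σ 2) = 0 ∧ T.a (σ 0) (σ 3) = 0 ∧ T.a (σ 0) (σ 4) = 0 ∧ T.a (σ 0) (σ 5) = 0 ∧ T.a (σ 0) (σ 6) = 0 ∧ T.a (σ 1) (σ 1) = -4 * w ∧ T.a (σ 1) (σ 2) = 2 * w ∧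 T.a (σ 1) (σ 3) = 0 ∧ T.a (σ 1) (σ 4) = 0 ∧ T.a (σ 1) (σ 5) = 0 ∧ T.a (σ 1) (σ 6) = 0 ∧ T.a (σ 2) (σ 2) = -4 * w ∧ T.a (σ 2) (σ 3) = 2 * w ∧ T.a (σ 2) (σ 4) = 0 ∧ T.a (σ 2) (σ 5) = 0 ∧ T.a (σ 2) (σ 6) = 0 ∧ T.a (σ 3) (σ 3) = -4 * w ∧ T.a (σ 3) (σ 4) = 2 * w ∧ T.a (σ 3) (σ 5) = 0 ∧ T.a (σ 3) (σ 6) = 0 ∧ T.a (σ 4) (σ 4) = -4 * w ∧ T.a (σ 4) (σ 5) = 2 * w ∧ T.a (σ 4) (σ 6) = 2 * w ∧ T.a (σ 5) (σ 5) = -4 * w ∧ T.a (σ 5) (σ 6) = 0 ∧ T.a (σ 6) (σ 6) = -4 * w) ∨ (T.m (σ 0) = m ∧ T.m (σ 1) = m ∧ T.m (σ 2) = 2 * m ∧ T.m (σ 3) = 2 * m ∧ T.m (σ 4) = 2 * m ∧ T.m (σ 5) = m ∧ T.m (σ 6) = m ∧ T.w (σ 0) = w ∧ T.w (σ 1) = w ∧ T.w (σ 2) = w ∧ T.w (σ 3) = w ∧ T.w (σ 4) = w ∧ T.w (σ 5) = w ∧ T.w (σ 6) = w ∧ T.a (σ 0) (σ 0) = -2 * w ∧ T.a (σ 0) (σ 1) = 0 ∧ T.a (σ 0) (σ 2) = w ∧ T.a (σ 0) (σ 3) = 0 ∧ T.a (σ 0) (σ 4) = 0 ∧ T.a (σ 0) (σ 5) = 0 ∧ T.a (σ 0) (σ 6) = 0 ∧ T.a (σ 1) (σ 1) = -2 * w ∧ T.a (σ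 1) (σ 2) = w ∧ T.a (σ 1) (σ 3) = 0 ∧ T.a (σ 1) (σ 4) = 0 ∧ T.a (σ 1) (σ 5) = 0 ∧ T.a (σ 1) (σ 6) = 0 ∧ T.a (σ 2) (σ 2) = -2 * w ∧ T.a (σ 2) (σ 3) = w ∧ T.a (σ 2) (σ 4) = 0 ∧ T.a (σ 2) (σ 5) = 0 ∧ T.a (σ 2) (σ 6) = 0 ∧ T.a (σ 3) (σ 3) = -2 * w ∧ T.a (σ 3) (σ 4) = w ∧ T.a (σ 3) (σ 5) = 0 ∧ T.a (σ 3) (σ 6) = 0 ∧ T.a (σ 4) (σ 4) = -2 * w ∧ T.a (σ 4) (σ 5) = w ∧ T.a (σ 4) (σ 6) = w ∧ T.a (σ 5) (σ 5) = -2 * w ∧ T.a (σ 5) (σ 6) = 0 ∧ T.a (σ 6) (σ 6) = -2 * w) ∨ (T.m (σ 0) = m ∧ T.m (σ 1) = 2 * m ∧ T.m (σ 2) = 3 * m ∧ T.m (σ 3) = m ∧ T.m (σ 4) = 2 * m ∧ T.m (σ 5) = m ∧ T.m (σ 6) = 2 * m ∧ T.w (σ 0) = w ∧ T.w (σ 1) = w ∧ T.w (σ 2) = w ∧ T.w (σ 3) = w ∧ T.w (σ 4) = w ∧ T.w (σ 5) = w ∧ T.w (σ 6) = w ∧ T.a (σ 0) (σ 0) = -2 * w ∧ T.a (σ 0) (σ 1) = w ∧ T.a (σ 0) (σ 2) = 0 ∧ T.a (σ 0) (σ 3) = 0 ∧ T.a (σ 0) (σ 4) = 0 ∧ T.a (σ 0) (σ 5) = 0 ∧ T.a (σ 0) (σ 6) = 0 ∧ T.a (σ 1) (σ 1) = -2 * w ∧ T.a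 (σ 1) (σ 2) = w ∧ T.a (σ 1) (σ 3) = 0 ∧ T.a (σ 1) (σ 4) = 0 ∧ T.a (σ 1) (σ 5) = 0 ∧ T.a (σ 1) (σ 6) = 0 ∧ T.a (σ 2) (σ 2) = -2 * w ∧ T.a (σ 2) (σ 3) = 0 ∧ T.a (σ 2) (σ 4) = w ∧ T.a (σ 2) (σ 5) = 0 ∧ T.a (σ 2) (σ 6) = w ∧ T.a (σ 3) (σ 3) = -2 * w ∧ T.a (σ 3) (σ 4) = w ∧ T.a (σ 3) (σ 5) = 0 ∧ T.a (σ 3) (σ 6) = 0 ∧ T.a (σ 4) (σ 4) = -2 * w ∧ T.a (σ 4) (σ 5) = 0 ∧ T.a (σ 4) (σ 6) = 0 ∧ T.a (σ 5) (σ 5) = -2 * w ∧ T.a (σ 5) (σ 6) = w ∧ T.a (σ 6) (σ 6) = -2 * w)) := by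
  by_cases hx : ∃ j, (j ≠ u0 ∧ j ≠ u1 ∧ j ≠ u2 ∧ j ≠ u3 ∧ j ≠ u4) ∧ T.a u3 j ≠ 0
  · obtain ⟨u5, ⟨hn_5_0, hn_5_1, hn_5_2, hn_5_3, hn_5_4⟩, e_3_5⟩ := hx
    have z_0_5 : T.a u0 u5 = 0 := cl_0 u5 ⟨hn_5_0, hn_5_1, hn_5_2⟩
    have z_1_5 : T.a u1 u5 = 0 := cl_1 u5 ⟨hn_5_0, hn_5_1, hn_5_2, hn_5_3⟩
    have z_2_5 : T.a u2 u5 = 0 := cl_2 u5 ⟨hn_5_0, hn_5_1, hn_5_2, hn_5_3⟩
    rcases Groth.Agent.Helper6.NT.edge5 T h2 (by norm_num) u3 u5 hn_5_3.symm e_3_5 with ⟨tw_3_5, tap_3_5, taq_3_5⟩ | ⟨tw_3_5, tap_3_5, taq_3_5⟩ | ⟨tw_3_5, tap_3_5, taq_3_5⟩ | ⟨tw_3_5, tap_3_5, taq_3_5⟩ | ⟨tw_3_5, tap_3_5, taq_3_5⟩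
    · -- (3,5) S
      exfalso
      have key := Groth.Agent.Helper6.NT.negfun4 T h2 u1 u3 u4 u5 (by norm_num) 1 2 1 1 (by norm_num) (by norm_num)
      linarith only [key, tap_1_3, taq_1_3, z_1_4, z_1_5, tap_3_4, taq_3_4, tap_3_5, taq_3_5, T.offDiag_nonneg u4 u5 hn_5_4.symm, T.w_pos u1, T.w_pos u3, T.w_pos u4, T.w_pos u5]
    · -- (3,5) Dp
      exfalso
      have key := Groth.Agent.Helper6.NT.negfun3 T h2 u3 u4 u5 (by norm_num) 2 1 1 (by norm_num) (by norm_num)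
      linarith only [key, tap_3_4, taq_3_4, tap_3_5, taq_3_5, T.offDiag_nonneg u4 u5 hn_5_4.symm, T.w_pos u3, T.w_pos u4, T.w_pos u5]
    · -- (3,5) Dm
      exfalso
      have key := Groth.Agent.Helper6.NT.negfun3 T h2 u3 u4 u5 (by norm_num) 2 1 2 (by norm_num) (by norm_num)
      linarith only [key, tap_3_4, taq_3_4, tap_3_5, taq_3_5, T.offDiag_nonneg u4 u5 hn_5_4.symm, T.w_pos u3, T.w_pos u4, T.w_pos u5]
    · -- (3,5) Tp
      exfalso
      have key := Groth.Agent.Helper6.NT.negfun3 T h2 u3 u4 u5 (by norm_num) 2 1 1 (by norm_num) (by norm_num)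
      linarith only [key, tap_3_4, taq_3_4, tap_3_5, taq_3_5, T.offDiag_nonneg u4 u5 hn_5_4.symm, T.w_pos u3, T.w_pos u4, T.w_pos u5]
    · -- (3,5) Tm
      exfalso
      have key := Groth.Agent.Helper6.NT.negfun3 T h2 u3 u4 u5 (by norm_num) 2 1 3 (by norm_num) (by norm_num)
      linarith only [key, tap_3_4, taq_3_4, tap_3_5, taq_3_5, T.offDiag_nonneg u4 u5 hn_5_4.symm, T.w_pos u3, T.w_pos u4, T.w_pos u5]
  · push Not at hx
    have cl_3 := hx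
    clear hx
    by_cases hx : ∃ j, (j ≠ u0 ∧ j ≠ u1 ∧ j ≠ u2 ∧ j ≠ u3 ∧ j ≠ u4) ∧ T.a u4 j ≠ 0
    · obtain ⟨u5, ⟨hn_5_0, hn_5_1, hn_5_2, hn_5_3, hn_5_4⟩, e_4_5⟩ := hx
      have z_0_5 : T.a u0 u5 = 0 := cl_0 u5 ⟨hn_5_0, hn_5_1, hn_5_2⟩
      have z_1_5 : T.a u1 u5 = 0 := cl_1 u5 ⟨hn_5_0, hn_5_1, hn_5_2, hn_5_3⟩
      have z_2_5 : T.a u2 u5 = 0 := cl_2 u5 ⟨hn_5_0, hn_5_1, hn_5_2, hn_5_3⟩
      have z_3_5 : T.a u3 u5 = 0 := cl_3 u5 ⟨hn_5_0, hn_5_1, hn_5_2, hn_5_3, hn_5_4⟩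
      rcases Groth.Agent.Helper6.NT.edge5 T h2 (by norm_num) u4 u5 hn_5_4.symm e_4_5 with ⟨tw_4_5, tap_4_5, taq_4_5⟩ | ⟨tw_4_5, tap_4_5, taq_4_5⟩ | ⟨tw_4_5, tap_4_5, taq_4_5⟩ | ⟨tw_4_5, tap_4_5, taq_4_5⟩ | ⟨tw_4_5, tap_4_5, taq_4_5⟩
      · -- (4,5) S
        exfalso
        have key := Groth.Agent.Helper6.NT.negfun5 T h2 u0 u1 u3 u4 u5 (by norm_num) 1 2 3 2 1 (by norm_num) (by norm_num)
        linarith only [key, tap_0_1, taq_0_1, z_0_3, z_0_4, z_0_5, tap_1_3, taq_1_3, z_1_4, z_1_5, tap_3_4, taq_3_4, z_3_5, tap_4_5, taq_4_5, T.w_pos u0, T.w_pos u1, T.w_pos u3, T.w_pos u4, T.w_pos u5]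
      · -- (4,5) Dp
        exfalso
        have key := Groth.Agent.Helper6.NT.negfun3 T h2 u3 u4 u5 (by norm_num) 2 2 1 (by norm_num) (by norm_num)
        linarith only [key, tap_3_4, taq_3_4, z_3_5, tap_4_5, taq_4_5, T.w_pos u3, T.w_pos u4, T.w_pos u5]
      · -- (4,5) Dm
        exfalso
        have key := Groth.Agent.Helper6.NT.negfun3 T h2 u3 u4 u5 (by norm_num) 1 1 1 (by norm_num) (by norm_num)
        linarith only [key, tap_3_4, taq_3_4, z_3_5, tap_4_5, taq_4_5, T.w_pos u3, T.w_pos u4, T.w_pos u5]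
      · -- (4,5) Tp
        exfalso
        have key := Groth.Agent.Helper6.NT.negfun3 T h2 u3 u4 u5 (by norm_num) 2 2 1 (by norm_num) (by norm_num)
        linarith only [key, tap_3_4, taq_3_4, z_3_5, tap_4_5, taq_4_5, T.w_pos u3, T.w_pos u4, T.w_pos u5]
      · -- (4,5) Tm
        exfalso
        have key := Groth.Agent.Helper6.NT.negfun3 T h2 u3 u4 u5 (by norm_num) 2 2 3 (by norm_num) (by norm_num)
        linarith only [key, tap_3_4, taq_3_4, z_3_5, tap_4_5, taq_4_5, T.w_pos u3, T.w_pos u4, T.w_pos u5]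
    · push Not at hx
      have cl_4 := hx
      clear hx
      exfalso
      refine Groth.Agent.Helper6.NT.closed_contra T [u0, u1, u2, u3, u4] (by simp) (by simp) ?_
      intro i hi j hj
      simp only [List.mem_cons, List.not_mem_nil, or_false, not_or] at hi hj
      rcases hi with rfl | rfl | rfl | rfl | rfl
      · exact cl_0 j ⟨hj.1, hj.2.1, hj.2.2.1⟩
      · exact cl_1 j ⟨hj.1, hj.2.1, hj.2.2.1, hj.2.2.2.1⟩
      · exact cl_2 j ⟨hj.1, hj.2.1, hj.2.2.1, hj.2.2.2.1⟩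
      · exact cl_3 j ⟨hj.1, hj.2.1, hj.2.2.1, hj.2.2.2.1, hj.2.2.2.2⟩
      · exact cl_4 j ⟨hj.1, hj.2.1, hj.2.2.1, hj.2.2.2.1, hj.2.2.2.2⟩

theorem cut7_11 (T : Models.NumericalType 7) (h2 : ∀ i, T.IsMinusTwo i) (u0 u1 u2 u3 u4 : Fin 7)
    (hn_1_0 : u1 ≠ u0)
    (e_0_1 : T.a u0 u1 ≠ 0)
    (tw_0_1 : T.w u1 = T.w u0)
    (tap_0_1 : T.a u0 u1 = T.w u0)
    (taq_0_1 : T.a u0 u1 = T.w u1)
    (hn_2_0 : u2 ≠ u0)
    (hn_2_1 : u2 ≠ u1)
    (e_0_2 : T.a u0 u2 ≠ 0)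
    (tw_0_2 : T.w u2 = T.w u0)
    (tap_0_2 : T.a u0 u2 = T.w u0)
    (taq_0_2 : T.a u0 u2 = T.w u2)
    (z_1_2 : T.a u1 u2 = 0)
    (cl_0 : ∀ j : Fin 7, (j ≠ u0 ∧ j ≠ u1 ∧ j ≠ u2) → T.a u0 j = 0)
    (hn_3_0 : u3 ≠ u0)
    (hn_3_1 : u3 ≠ u1)
    (hn_3_2 : u3 ≠ u2)
    (e_1_3 : T.a u1 u3 ≠ 0)
    (z_0_3 : T.a u0 u3 = 0)
    (tw_1_3 : T.w u3 = T.w u1)
    (tap_1_3 : T.a u1 u3 = T.w u1)
    (taq_1_3 : T.a u1 u3 = T.w u3)
    (z_2_3 : T.a u2 u3 = 0)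
    (cl_1 : ∀ j : Fin 7, (j ≠ u0 ∧ j ≠ u1 ∧ j ≠ u2 ∧ j ≠ u3) → T.a u1 j = 0)
    (cl_2 : ∀ j : Fin 7, (j ≠ u0 ∧ j ≠ u1 ∧ j ≠ u2 ∧ j ≠ u3) → T.a u2 j = 0)
    (hn_4_0 : u4 ≠ u0)
    (hn_4_1 : u4 ≠ u1)
    (hn_4_2 : u4 ≠ u2)
    (hn_4_3 : u4 ≠ u3)
    (e_3_4 : T.a u3 u4 ≠ 0)
    (z_0_4 : T.a u0 u4 = 0)
    (z_1_4 : T.a u1 u4 = 0)
    (z_2_4 : T.a u2 u4 = 0)
    (tw_3_4 : T.w u3 = 2 * T.w u4)
    (tap_3_4 : T.a u3 u4 = T.w u3)
    (taq_3_4 : T.a u3 u4 = 2 * T.w u4) :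
    ∃ (σ : Equiv.Perm (Fin 7)) (m w : ℤ), ((T.m (σ 0) = m ∧ T.m (σ 1) = m ∧ T.m (σ 2) = m ∧ T.m (σ 3) = m ∧ T.m (σ 4) = m ∧ T.m (σ 5) = m ∧ T.m (σ 6) = m ∧ T.w (σ 0) = w ∧ T.w (σ 1) = w ∧ T.w (σ 2) = w ∧ T.w (σ 3) = w ∧ T.w (σ 4) = w ∧ T.w (σ 5) = w ∧ T.w (σ 6) = w ∧ T.a (σ 0) (σ 0) = -2 * w ∧ T.a (σ 0) (σ 1) = w ∧ T.a (σ 0) (σ 2) = 0 ∧ T.a (σ 0) (σ 3) = 0 ∧ T.a (σ 0) (σ 4) = 0 ∧ T.a (σ 0) (σ 5) = 0 ∧ T.a (σ 0) (σ 6) = w ∧ T.a (σ 1) (σ 1) = -2 * w ∧ T.a (σ 1) (σ 2) = w ∧ T.a (σ 1) (σ 3) = 0 ∧ T.a (σ 1) (σ 4) = 0 ∧ T.a (σ 1) (σ 5) = 0 ∧ T.a (σ 1) (σ 6) = 0 ∧ T.a (σ 2) (σ 2) = -2 * w ∧ T.a (σ 2) (σ 3) = w ∧ T.a (σ 2) (σ 4) = 0 ∧ T.a (σ 2) (σ 5) = 0 ∧ T.a (σ 2) (σ 6) = 0 ∧ T.a (σ 3) (σ 3) = -2 * w ∧ T.a (σ 3) (σ 4) = w ∧ T.a (σ 3) (σ 5) = 0 ∧ T.a (σ 3) (σ 6) = 0 ∧ T.a (σ 4) (σ 4) = -2 * w ∧ T.a (σ 4) (σ 5) = w ∧ T.a (σ 4) (σ 6) = 0 ∧ T.a (σ 5) (σ 5) = -2 * w ∧ T.a (σ 5) (σ 6) =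 w ∧ T.a (σ 6) (σ 6) = -2 * w) ∨ (T.m (σ 0) = 2 * m ∧ T.m (σ 1) = 2 * m ∧ T.m (σ 2) = 2 * m ∧ T.m (σ 3) = 2 * m ∧ T.m (σ 4) = 2 * m ∧ T.m (σ 5) = 2 * m ∧ T.m (σ 6) = m ∧ T.w (σ 0) = w ∧ T.w (σ 1) = 2 * w ∧ T.w (σ 2) = 2 * w ∧ T.w (σ 3) = 2 * w ∧ T.w (σ 4) = 2 * w ∧ T.w (σ 5) = 2 * w ∧ T.w (σ 6) = 4 * w ∧ T.a (σ 0) (σ 0) = -2 * w ∧ T.a (σ 0) (σ 1) = 2 * w ∧ T.a (σ 0) (σ 2) = 0 ∧ T.a (σ 0) (σ 3) = 0 ∧ T.a (σ 0) (σ 4) = 0 ∧ T.a (σ 0) (σ 5) = 0 ∧ T.a (σ 0) (σ 6) = 0 ∧ T.a (σ 1) (σ 1) = -4 * w ∧ T.a (σ 1) (σ 2) = 2 * w ∧ T.a (σ 1) (σ 3) = 0 ∧ T.a (σ 1) (σ 4) = 0 ∧ T.a (σ 1) (σ 5) = 0 ∧ T.a (σ 1) (σ 6) = 0 ∧ T.a (σ 2) (σ 2) = -4 * w ∧ T.a (σ 2) (σ 3) = 2 * w ∧ T.a (σ 2) (σ 4) = 0 ∧ T.a (σ 2) (σ 5) = 0 ∧ T.a (σ 2) (σ 6) = 0 ∧ T.a (σ 3) (σ 3) = -4 * w ∧ T.a (σ 3) (σ 4) = 2 * w ∧ T.a (σ 3) (σ 5) = 0 ∧ T.a (σ 3) (σ 6) = 0 ∧ T.a (σ 4) (σ 4) = -4 * w ∧ T.a (σ 4) (σ 5) = 2 * w ∧ T.a (σ 4)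 (σ 6) = 0 ∧ T.a (σ 5) (σ 5) = -4 * w ∧ T.a (σ 5) (σ 6) = 4 * w ∧ T.a (σ 6) (σ 6) = -8 * w) ∨ (T.m (σ 0) = m ∧ T.m (σ 1) = m ∧ T.m (σ 2) = m ∧ T.m (σ 3) = m ∧ T.m (σ 4) = m ∧ T.m (σ 5) = m ∧ T.m (σ 6) = m ∧ T.w (σ 0) = w ∧ T.w (σ 1) = 2 * w ∧ T.w (σ 2) = 2 * w ∧ T.w (σ 3) = 2 * w ∧ T.w (σ 4) = 2 * w ∧ T.w (σ 5) = 2 * w ∧ T.w (σ 6) = w ∧ T.a (σ 0) (σ 0) = -2 * w ∧ T.a (σ 0) (σ 1) = 2 * w ∧ T.a (σ 0) (σ 2) = 0 ∧ T.a (σ 0) (σ 3) = 0 ∧ T.a (σ 0) (σ 4) = 0 ∧ T.a (σ 0) (σ 5) = 0 ∧ T.a (σ 0) (σ 6) = 0 ∧ T.a (σ 1) (σ 1) = -4 * w ∧ T.a (σ 1) (σ 2) = 2 * w ∧ T.a (σ 1) (σ 3) = 0 ∧ T.a (σ 1) (σ 4) = 0 ∧ T.a (σ 1) (σ 5) = 0 ∧ T.a (σ 1) (σ 6) = 0 ∧ T.a (σ 2) (σ 2) = -4 * w ∧ T.a (σ 2) (σ 3) = 2 * w ∧ T.a (σ 2) (σ 4) = 0 ∧ T.a (σ 2) (σ 5) = 0 ∧ T.a (σ 2) (σ 6) = 0 ∧ T.a (σ 3) (σ 3) = -4 * w ∧ T.a (σ 3) (σ 4) = 2 * w ∧ T.a (σ 3) (σ 5) = 0 ∧ T.a (σ 3) (σ 6) = 0 ∧ T.a (σ 4) (σ 4) = -4 * w ∧ T.a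 (σ 4) (σ 5) = 2 * w ∧ T.a (σ 4) (σ 6) = 0 ∧ T.a (σ 5) (σ 5) = -4 * w ∧ T.a (σ 5) (σ 6) = 2 * w ∧ T.a (σ 6) (σ 6) = -2 * w) ∨ (T.m (σ 0) = m ∧ T.m (σ 1) = 2 * m ∧ T.m (σ 2) = 2 * m ∧ T.m (σ 3) = 2 * m ∧ T.m (σ 4) = 2 * m ∧ T.m (σ 5) = 2 * m ∧ T.m (σ 6) = m ∧ T.w (σ 0) = 2 * w ∧ T.w (σ 1) = w ∧ T.w (σ 2) = w ∧ T.w (σ 3) = w ∧ T.w (σ 4) = w ∧ T.w (σ 5) = w ∧ T.w (σ 6) = 2 * w ∧ T.a (σ 0) (σ 0) = -4 * w ∧ T.a (σ 0) (σ 1) = 2 * w ∧ T.a (σ 0) (σ 2) = 0 ∧ T.a (σ 0) (σ 3) = 0 ∧ T.a (σ 0) (σ 4) = 0 ∧ T.a (σ 0) (σ 5) = 0 ∧ T.a (σ 0) (σ 6) = 0 ∧ T.a (σ 1) (σ 1) = -2 * w ∧ T.a (σ 1) (σ 2) = w ∧ T.a (σ 1) (σ 3) = 0 ∧ T.a (σ 1) (σ 4) = 0 ∧ T.a (σ 1) (σ 5) = 0 ∧ T.a (σ 1) (σ 6) = 0 ∧ T.a (σ 2) (σ 2) = -2 * w ∧ T.a (σ 2) (σ 3) = w ∧ T.a (σ 2) (σ 4) = 0 ∧ T.a (σ 2) (σ 5) = 0 ∧ T.a (σ 2) (σ 6) = 0 ∧ T.a (σ 3) (σ 3) = -2 * w ∧ T.a (σ 3) (σ 4) = w ∧ T.a (σ 3) (σ 5) = 0 ∧ T.a (σ 3) (σ 6) = 0 ∧ T.a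 (σ 4) (σ 4) = -2 * w ∧ T.a (σ 4) (σ 5) = w ∧ T.a (σ 4) (σ 6) = 0 ∧ T.a (σ 5) (σ 5) = -2 * w ∧ T.a (σ 5) (σ 6) = 2 * w ∧ T.a (σ 6) (σ 6) = -4 * w) ∨ (T.m (σ 0) = m ∧ T.m (σ 1) = 2 * m ∧ T.m (σ 2) = 2 * m ∧ T.m (σ 3) = 2 * m ∧ T.m (σ 4) = 2 * m ∧ T.m (σ 5) = m ∧ T.m (σ 6) = m ∧ T.w (σ 0) = 2 * w ∧ T.w (σ 1) = w ∧ T.w (σ 2) = w ∧ T.w (σ 3) = w ∧ T.w (σ 4) = w ∧ T.w (σ 5) = w ∧ T.w (σ 6) = w ∧ T.a (σ 0) (σ 0) = -4 * w ∧ T.a (σ 0) (σ 1) = 2 * w ∧ T.a (σ 0) (σ 2) = 0 ∧ T.a (σ 0) (σ 3) = 0 ∧ T.a (σ 0) (σ 4) = 0 ∧ T.a (σ 0) (σ 5) = 0 ∧ T.a (σ 0) (σ 6) = 0 ∧ T.a (σ 1) (σ 1) = -2 * w ∧ T.a (σ 1) (σ 2) = w ∧ T.a (σ 1) (σ 3) = 0 ∧ T.a (σ 1) (σ 4) = 0 ∧ T.a (σ 1) (σ 5) = 0 ∧ T.a (σ 1) (σ 6) = 0 ∧ T.a (σ 2) (σ 2) = -2 * w ∧ T.a (σ 2) (σ 3) = w ∧ T.a (σ 2) (σ 4) = 0 ∧ T.a (σ 2) (σ 5) = 0 ∧ T.a (σ 2) (σ 6) = 0 ∧ T.a (σ 3) (σ 3) = -2 * w ∧ T.a (σ 3) (σ 4) = w ∧ T.a (σ 3) (σ 5) = 0 ∧ T.a (σ 3)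 (σ 6) = 0 ∧ T.a (σ 4) (σ 4) = -2 * w ∧ T.a (σ 4) (σ 5) = w ∧ T.a (σ 4) (σ 6) = w ∧ T.a (σ 5) (σ 5) = -2 * w ∧ T.a (σ 5) (σ 6) = 0 ∧ T.a (σ 6) (σ 6) = -2 * w) ∨ (T.m (σ 0) = 2 * m ∧ T.m (σ 1) = 2 * m ∧ T.m (σ 2) = 2 * m ∧ T.m (σ 3) = 2 * m ∧ T.m (σ 4) = 2 * m ∧ T.m (σ 5) = m ∧ T.m (σ 6) = m ∧ T.w (σ 0) = w ∧ T.w (σ 1) = 2 * w ∧ T.w (σ 2) = 2 * w ∧ T.w (σ 3) = 2 * w ∧ T.w (σ 4) = 2 * w ∧ T.w (σ 5) = 2 * w ∧ T.w (σ 6) = 2 * w ∧ T.a (σ 0) (σ 0) = -2 * w ∧ T.a (σ 0) (σ 1) = 2 * w ∧ T.a (σ 0) (σ 2) = 0 ∧ T.a (σ 0) (σ 3) = 0 ∧ T.a (σ 0) (σ 4) = 0 ∧ T.a (σ 0) (σ 5) = 0 ∧ T.a (σ 0) (σ 6) = 0 ∧ T.a (σ 1) (σ 1) = -4 * w ∧ T.a (σ 1) (σ 2) = 2 * w ∧ T.a (σ 1) (σ 3) = 0 ∧ T.a (σ 1) (σ 4) = 0 ∧ T.a (σ 1) (σ 5) = 0 ∧ T.a (σ 1) (σ 6) = 0 ∧ T.a (σ 2) (σ 2) = -4 * w ∧ T.a (σ 2) (σ 3) = 2 * w ∧ T.a (σ 2) (σ 4) = 0 ∧ T.a (σ 2) (σ 5) = 0 ∧ T.a (σ 2) (σ 6) = 0 ∧ T.a (σ 3) (σ 3) = -4 * w ∧ T.a (σ 3)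 (σ 4) = 2 * w ∧ T.a (σ 3) (σ 5) = 0 ∧ T.a (σ 3) (σ 6) = 0 ∧ T.a (σ 4) (σ 4) = -4 * w ∧ T.a (σ 4) (σ 5) = 2 * w ∧ T.a (σ 4) (σ 6) = 2 * w ∧ T.a (σ 5) (σ 5) = -4 * w ∧ T.a (σ 5) (σ 6) = 0 ∧ T.a (σ 6) (σ 6) = -4 * w) ∨ (T.m (σ 0) = m ∧ T.m (σ 1) = m ∧ T.m (σ 2) = 2 * m ∧ T.m (σ 3) = 2 * m ∧ T.m (σ 4) = 2 * m ∧ T.m (σ 5) = m ∧ T.m (σ 6) = m ∧ T.w (σ 0) = w ∧ T.w (σ 1) = w ∧ T.w (σ 2) = w ∧ T.w (σ 3) = w ∧ T.w (σ 4) = w ∧ T.w (σ 5) = w ∧ T.w (σ 6) = w ∧ T.a (σ 0) (σ 0) = -2 * w ∧ T.a (σ 0) (σ 1) = 0 ∧ T.a (σ 0) (σ 2) = w ∧ T.a (σ 0) (σ 3) = 0 ∧ T.a (σ 0) (σ 4) = 0 ∧ T.a (σ 0) (σ 5) = 0 ∧ T.a (σ 0) (σ 6) = 0 ∧ T.a (σ 1) (σ 1) = -2 * w ∧ T.a (σ 1) (σ 2) = w ∧ T.a (σ 1) (σ 3) = 0 ∧ T.a (σ 1) (σ 4) = 0 ∧ T.a (σ 1) (σ 5) = 0 ∧ T.a (σ 1) (σ 6) = 0 ∧ T.a (σ 2) (σ 2) = -2 * w ∧ T.a (σ 2) (σ 3) = w ∧ T.a (σ 2) (σ 4) = 0 ∧ T.a (σ 2) (σ 5) = 0 ∧ T.a (σ 2) (σ 6) = 0 ∧ T.a (σ 3) (σ 3) = -2 * w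 ∧ T.a (σ 3) (σ 4) = w ∧ T.a (σ 3) (σ 5) = 0 ∧ T.a (σ 3) (σ 6) = 0 ∧ T.a (σ 4) (σ 4) = -2 * w ∧ T.a (σ 4) (σ 5) = w ∧ T.a (σ 4) (σ 6) = w ∧ T.a (σ 5) (σ 5) = -2 * w ∧ T.a (σ 5) (σ 6) = 0 ∧ T.a (σ 6) (σ 6) = -2 * w) ∨ (T.m (σ 0) = m ∧ T.m (σ 1) = 2 * m ∧ T.m (σ 2) = 3 * m ∧ T.m (σ 3) = m ∧ T.m (σ 4) = 2 * m ∧ T.m (σ 5) = m ∧ T.m (σ 6) = 2 * m ∧ T.w (σ 0) = w ∧ T.w (σ 1) = w ∧ T.w (σ 2) = w ∧ T.w (σ 3) = w ∧ T.w (σ 4) = w ∧ T.w (σ 5) = w ∧ T.w (σ 6) = w ∧ T.a (σ 0) (σ 0) = -2 * w ∧ T.a (σ 0) (σ 1) = w ∧ T.a (σ 0) (σ 2) = 0 ∧ T.a (σ 0) (σ 3) = 0 ∧ T.a (σ 0) (σ 4) = 0 ∧ T.a (σ 0) (σ 5) = 0 ∧ T.a (σ 0) (σ 6) = 0 ∧ T.a (σ 1) (σ 1) = -2 * w ∧ T.a (σ 1) (σ 2) = w ∧ T.a (σ 1) (σ 3) = 0 ∧ T.a (σ 1) (σ 4) = 0 ∧ T.a (σ 1) (σ 5) = 0 ∧ T.a (σ 1) (σ 6) = 0 ∧ T.a (σ 2) (σ 2) = -2 * w ∧ T.a (σ 2) (σ 3) = 0 ∧ T.a (σ 2) (σ 4) = w ∧ T.a (σ 2) (σ 5) = 0 ∧ T.a (σ 2) (σ 6) = w ∧ T.a (σ 3) (σ 3) = -2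 * w ∧ T.a (σ 3) (σ 4) = w ∧ T.a (σ 3) (σ 5) = 0 ∧ T.a (σ 3) (σ 6) = 0 ∧ T.a (σ 4) (σ 4) = -2 * w ∧ T.a (σ 4) (σ 5) = 0 ∧ T.a (σ 4) (σ 6) = 0 ∧ T.a (σ 5) (σ 5) = -2 * w ∧ T.a (σ 5) (σ 6) = w ∧ T.a (σ 6) (σ 6) = -2 * w)) := by
  by_cases hx : ∃ j, (j ≠ u0 ∧ j ≠ u1 ∧ j ≠ u2 ∧ j ≠ u3 ∧ j ≠ u4) ∧ T.a u3 j ≠ 0
  · obtain ⟨u5, ⟨hn_5_0, hn_5_1, hn_5_2, hn_5_3, hn_5_4⟩, e_3_5⟩ := hx
    have z_0_5 : T.a u0 u5 = 0 := cl_0 u5 ⟨hn_5_0, hn_5_1, hn_5_2⟩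
    have z_1_5 : T.a u1 u5 = 0 := cl_1 u5 ⟨hn_5_0, hn_5_1, hn_5_2, hn_5_3⟩
    have z_2_5 : T.a u2 u5 = 0 := cl_2 u5 ⟨hn_5_0, hn_5_1, hn_5_2, hn_5_3⟩
    rcases Groth.Agent.Helper6.NT.edge5 T h2 (by norm_num) u3 u5 hn_5_3.symm e_3_5 with ⟨tw_3_5, tap_3_5, taq_3_5⟩ | ⟨tw_3_5, tap_3_5, taq_3_5⟩ | ⟨tw_3_5, tap_3_5, taq_3_5⟩ | ⟨tw_3_5, tap_3_5, taq_3_5⟩ | ⟨tw_3_5, tap_3_5, taq_3_5⟩
    · -- (3,5) S
      exfalso
      have key := Groth.Agent.Helper6.NT.negfun4 T h2 u1 u3 u4 u5 (by norm_num) 1 2 2 1 (by norm_num) (by norm_num)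
      linarith only [key, tap_1_3, taq_1_3, z_1_4, z_1_5, tap_3_4, taq_3_4, tap_3_5, taq_3_5, T.offDiag_nonneg u4 u5 hn_5_4.symm, T.w_pos u1, T.w_pos u3, T.w_pos u4, T.w_pos u5]
    · -- (3,5) Dp
      exfalso
      have key := Groth.Agent.Helper6.NT.negfun3 T h2 u3 u4 u5 (by norm_num) 2 2 1 (by norm_num) (by norm_num)
      linarith only [key, tap_3_4, taq_3_4, tap_3_5, taq_3_5, T.offDiag_nonneg u4 u5 hn_5_4.symm, T.w_pos u3, T.w_pos u4, T.w_pos u5]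
    · -- (3,5) Dm
      exfalso
      have key := Groth.Agent.Helper6.NT.negfun3 T h2 u3 u4 u5 (by norm_num) 1 1 1 (by norm_num) (by norm_num)
      linarith only [key, tap_3_4, taq_3_4, tap_3_5, taq_3_5, T.offDiag_nonneg u4 u5 hn_5_4.symm, T.w_pos u3, T.w_pos u4, T.w_pos u5]
    · -- (3,5) Tp
      exfalso
      have key := Groth.Agent.Helper6.NT.negfun3 T h2 u3 u4 u5 (by norm_num) 2 2 1 (by norm_num) (by norm_num)
      linarith only [key, tap_3_4, taq_3_4, tap_3_5, taq_3_5, T.offDiag_nonneg u4 u5 hn_5_4.symm, T.w_pos u3, T.w_pos u4, T.w_pos u5]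
    · -- (3,5) Tm
      exfalso
      have key := Groth.Agent.Helper6.NT.negfun3 T h2 u3 u4 u5 (by norm_num) 2 2 3 (by norm_num) (by norm_num)
      linarith only [key, tap_3_4, taq_3_4, tap_3_5, taq_3_5, T.offDiag_nonneg u4 u5 hn_5_4.symm, T.w_pos u3, T.w_pos u4, T.w_pos u5]
  · push Not at hx
    have cl_3 := hx
    clear hx
    by_cases hx : ∃ j, (j ≠ u0 ∧ j ≠ u1 ∧ j ≠ u2 ∧ j ≠ u3 ∧ j ≠ u4) ∧ T.a u4 j ≠ 0
    · obtain ⟨u5, ⟨hn_5_0, hn_5_1, hn_5_2, hn_5_3, hn_5_4⟩, e_4_5⟩ := hx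
      have z_0_5 : T.a u0 u5 = 0 := cl_0 u5 ⟨hn_5_0, hn_5_1, hn_5_2⟩
      have z_1_5 : T.a u1 u5 = 0 := cl_1 u5 ⟨hn_5_0, hn_5_1, hn_5_2, hn_5_3⟩
      have z_2_5 : T.a u2 u5 = 0 := cl_2 u5 ⟨hn_5_0, hn_5_1, hn_5_2, hn_5_3⟩
      have z_3_5 : T.a u3 u5 = 0 := cl_3 u5 ⟨hn_5_0, hn_5_1, hn_5_2, hn_5_3, hn_5_4⟩
      rcases Groth.Agent.Helper6.NT.edge5 T h2 (by norm_num) u4 u5 hn_5_4.symm e_4_5 with ⟨tw_4_5, tap_4_5, taq_4_5⟩ | ⟨tw_4_5, tap_4_5, taq_4_5⟩ | ⟨tw_4_5, tap_4_5, taq_4_5⟩ | ⟨tw_4_5, tap_4_5, taq_4_5⟩ | ⟨tw_4_5, tap_4_5, taq_4_5⟩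
      · -- (4,5) S
        exfalso
        have key := Groth.Agent.Helper6.NT.negfun5 T h2 u0 u1 u3 u4 u5 (by norm_num) 1 2 3 4 2 (by norm_num) (by norm_num)
        linarith only [key, tap_0_1, taq_0_1, z_0_3, z_0_4, z_0_5, tap_1_3, taq_1_3, z_1_4, z_1_5, tap_3_4, taq_3_4, z_3_5, tap_4_5, taq_4_5, T.w_pos u0, T.w_pos u1, T.w_pos u3, T.w_pos u4, T.w_pos u5]
      · -- (4,5) Dp
        exfalso
        have key := Groth.Agent.Helper6.NT.negfun3 T h2 u3 u4 u5 (by norm_num) 1 2 1 (by norm_num) (by norm_num)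
        linarith only [key, tap_3_4, taq_3_4, z_3_5, tap_4_5, taq_4_5, T.w_pos u3, T.w_pos u4, T.w_pos u5]
      · -- (4,5) Dm
        exfalso
        have key := Groth.Agent.Helper6.NT.negfun3 T h2 u3 u4 u5 (by norm_num) 1 2 2 (by norm_num) (by norm_num)
        linarith only [key, tap_3_4, taq_3_4, z_3_5, tap_4_5, taq_4_5, T.w_pos u3, T.w_pos u4, T.w_pos u5]
      · -- (4,5) Tp
        exfalso
        have key := Groth.Agent.Helper6.NT.negfun3 T h2 u3 u4 u5 (by norm_num) 1 2 1 (by norm_num) (by norm_num)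
        linarith only [key, tap_3_4, taq_3_4, z_3_5, tap_4_5, taq_4_5, T.w_pos u3, T.w_pos u4, T.w_pos u5]
      · -- (4,5) Tm
        exfalso
        have key := Groth.Agent.Helper6.NT.negfun3 T h2 u3 u4 u5 (by norm_num) 1 2 3 (by norm_num) (by norm_num)
        linarith only [key, tap_3_4, taq_3_4, z_3_5, tap_4_5, taq_4_5, T.w_pos u3, T.w_pos u4, T.w_pos u5]
    · push Not at hx
      have cl_4 := hx
      clear hx
      exfalso
      refine Groth.Agent.Helper6.NT.closed_contra T [u0, u1, u2, u3, u4] (by simp) (by simp) ?_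
      intro i hi j hj
      simp only [List.mem_cons, List.not_mem_nil, or_false, not_or] at hi hj
      rcases hi with rfl | rfl | rfl | rfl | rfl
      · exact cl_0 j ⟨hj.1, hj.2.1, hj.2.2.1⟩
      · exact cl_1 j ⟨hj.1, hj.2.1, hj.2.2.1, hj.2.2.2.1⟩
      · exact cl_2 j ⟨hj.1, hj.2.1, hj.2.2.1, hj.2.2.2.1⟩
      · exact cl_3 j ⟨hj.1, hj.2.1, hj.2.2.1, hj.2.2.2.1, hj.2.2.2.2⟩
      · exact cl_4 j ⟨hj.1, hj.2.1, hj.2.2.1, hj.2.2.2.1, hj.2.2.2.2⟩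

end Groth.Agent.Helper6.G1
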