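import Groth.Agent.Lib.Helper6.NumType16

/-! Generated case analysis for the genus one classification, n = 8, part 3. -/

set_option linter.unusedVariables false

namespace Groth.Agent.Helper6.G1

theorem cut8_7 (T : Models.NumericalType 8) (h2 : ∀ i, T.IsMinusTwo i) (u0 u1 u2 u3 u4 : Fin 8)
    (hn_1_0 : u1 ≠ u0)
    (e_0_1 : T.a u0 u1 ≠ 0)
    (tw_0_1 : T.w u1 = T.w u0)
    (tap_0_1 : T.a u0 u1 = T.w u0)
    (taq_0_1 : T.a u0 u1 = T.w u1)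
    (hn_2_0 : u2 ≠ u0)
    (hn_2_1 : u2 ≠ u1)
    (e_0_2 : T.a u0 u2 ≠ 0)
    (tw_0_2 : T.w u2 = T.w u0)
    (tap_0_2 : T.a u0 u2 = T.w u0)
    (taq_0_2 : T.a u0 u2 = T.w u2)
    (z_1_2 : T.a u1 u2 = 0)
    (cl_0 : ∀ j : Fin 8, (j ≠ u0 ∧ j ≠ u1 ∧ j ≠ u2) → T.a u0 j = 0)
    (hn_3_0 : u3 ≠ u0)
    (hn_3_1 : u3 ≠ u1)
    (hn_3_2 : u3 ≠ u2)
    (e_1_3 : T.a u1 u3 ≠ 0)
    (z_0_3 : T.a u0 u3 = 0)
    (tw_1_3 : T.w u3 = T.w u1)
    (tap_1_3 : T.a u1 u3 = T.w u1)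
    (taq_1_3 : T.a u1 u3 = T.w u3)
    (z_2_3 : T.a u2 u3 = 0)
    (cl_1 : ∀ j : Fin 8, (j ≠ u0 ∧ j ≠ u1 ∧ j ≠ u2 ∧ j ≠ u3) → T.a u1 j = 0)
    (hn_4_0 : u4 ≠ u0)
    (hn_4_1 : u4 ≠ u1)
    (hn_4_2 : u4 ≠ u2)
    (hn_4_3 : u4 ≠ u3)
    (e_2_4 : T.a u2 u4 ≠ 0)
    (z_0_4 : T.a u0 u4 = 0)
    (z_1_4 : T.a u1 u4 = 0)
    (tw_2_4 : T.w u4 = 2 * T.w u2)
    (tap_2_4 : T.a u2 u4 = 2 * T.w u2)
    (taq_2_4 : T.a u2 u4 = T.w u4)
    (z_3_4 : T.a u3 u4 = 0) :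
    ∃ (σ : Equiv.Perm (Fin 8)) (m w : ℤ), ((T.m (σ 0) = m ∧ T.m (σ 1) = m ∧ T.m (σ 2) = m ∧ T.m (σ 3) = m ∧ T.m (σ 4) = m ∧ T.m (σ 5) = m ∧ T.m (σ 6) = m ∧ T.m (σ 7) = m ∧ T.w (σ 0) = w ∧ T.w (σ 1) = w ∧ T.w (σ 2) = w ∧ T.w (σ 3) = w ∧ T.w (σ 4) = w ∧ T.w (σ 5) = w ∧ T.w (σ 6) = w ∧ T.w (σ 7) = w ∧ T.a (σ 0) (σ 0) = -2 * w ∧ T.a (σ 0) (σ 1) = w ∧ T.a (σ 0) (σ 2) = 0 ∧ T.a (σ 0) (σ 3) = 0 ∧ T.a (σ 0) (σ 4) = 0 ∧ T.a (σ 0) (σ 5) = 0 ∧ T.a (σ 0) (σ 6) = 0 ∧ T.a (σ 0) (σ 7) = w ∧ T.a (σ 1) (σ 1) = -2 * w ∧ T.a (σ 1) (σ 2) = w ∧ T.a (σ 1) (σ 3) = 0 ∧ T.a (σ 1) (σ 4) = 0 ∧ T.a (σ 1) (σ 5) = 0 ∧ T.a (σ 1) (σ 6) = 0 ∧ T.a (σ 1) (σ 7) = 0 ∧ T.a (σ 2) (σ 2) = -2 * w ∧ T.a (σ 2) (σ 3) = w ∧ T.a (σ 2) (σ 4) = 0 ∧ T.a (σ 2) (σ 5) = 0 ∧ T.a (σ 2) (σ 6) = 0 ∧ T.a (σ 2) (σ 7) = 0 ∧ T.a (σ 3) (σ 3) = -2 * w ∧ T.a (σ 3) (σ 4) = w ∧ T.a (σ 3) (σ 5) = 0 ∧ T.a (σ 3) (σ 6) = 0 ∧ T.a (σ 3)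 (σ 7) = 0 ∧ T.a (σ 4) (σ 4) = -2 * w ∧ T.a (σ 4) (σ 5) = w ∧ T.a (σ 4) (σ 6) = 0 ∧ T.a (σ 4) (σ 7) = 0 ∧ T.a (σ 5) (σ 5) = -2 * w ∧ T.a (σ 5) (σ 6) = w ∧ T.a (σ 5) (σ 7) = 0 ∧ T.a (σ 6) (σ 6) = -2 * w ∧ T.a (σ 6) (σ 7) = w ∧ T.a (σ 7) (σ 7) = -2 * w) ∨ (T.m (σ 0) = 2 * m ∧ T.m (σ 1) = 2 * m ∧ T.m (σ 2) = 2 * m ∧ T.m (σ 3) = 2 * m ∧ T.m (σ 4) = 2 * m ∧ T.m (σ 5) = 2 * m ∧ T.m (σ 6) = 2 * m ∧ T.m (σ 7) = m ∧ T.w (σ 0) = w ∧ T.w (σ 1) = 2 * w ∧ T.w (σ 2) = 2 * w ∧ T.w (σ 3) = 2 * w ∧ T.w (σ 4) = 2 * w ∧ T.w (σ 5) = 2 * w ∧ T.w (σ 6) = 2 * w ∧ T.w (σ 7) = 4 * w ∧ T.a (σ 0) (σ 0) = -2 * w ∧ T.a (σ 0) (σ 1) = 2 * w ∧ T.a (σ 0) (σ 2) = 0 ∧ T.a (σ 0) (σ 3) = 0 ∧ T.a (σ 0) (σ 4) = 0 ∧ T.a (σ 0) (σ 5) = 0 ∧ T.a (σ 0) (σ 6) = 0 ∧ T.a (σ 0) (σ 7) = 0 ∧ T.a (σ 1) (σ 1) = -4 * w ∧ T.a (σ 1) (σ 2) = 2 * w ∧ T.a (σ 1) (σ 3) = 0 ∧ T.a (σ 1) (σ 4) = 0 ∧ T.a (σ 1) (σ 5) = 0 ∧ T.a (σ 1)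 (σ 6) = 0 ∧ T.a (σ 1) (σ 7) = 0 ∧ T.a (σ 2) (σ 2) = -4 * w ∧ T.a (σ 2) (σ 3) = 2 * w ∧ T.a (σ 2) (σ 4) = 0 ∧ T.a (σ 2) (σ 5) = 0 ∧ T.a (σ 2) (σ 6) = 0 ∧ T.a (σ 2) (σ 7) = 0 ∧ T.a (σ 3) (σ 3) = -4 * w ∧ T.a (σ 3) (σ 4) = 2 * w ∧ T.a (σ 3) (σ 5) = 0 ∧ T.a (σ 3) (σ 6) = 0 ∧ T.a (σ 3) (σ 7) = 0 ∧ T.a (σ 4) (σ 4) = -4 * w ∧ T.a (σ 4) (σ 5) = 2 * w ∧ T.a (σ 4) (σ 6) = 0 ∧ T.a (σ 4) (σ 7) = 0 ∧ T.a (σ 5) (σ 5) = -4 * w ∧ T.a (σ 5) (σ 6) = 2 * w ∧ T.a (σ 5) (σ 7) = 0 ∧ T.a (σ 6) (σ 6) = -4 * w ∧ T.a (σ 6) (σ 7) = 4 * w ∧ T.a (σ 7) (σ 7) = -8 * w) ∨ (T.m (σ 0) = m ∧ T.m (σ 1) = m ∧ T.m (σ 2) = m ∧ T.m (σ 3) = m ∧ T.m (σ 4) = m ∧ T.m (σ 5) = m ∧ T.m (σ 6) = m ∧ T.m (σ 7) = m ∧ T.w (σ 0) = w ∧ T.w (σ 1) = 2 * w ∧ T.w (σ 2) = 2 * w ∧ T.w (σ 3) = 2 * w ∧ T.w (σ 4) = 2 * w ∧ T.w (σ 5) = 2 * w ∧ T.w (σ 6) = 2 * w ∧ T.w (σ 7) = w ∧ T.a (σ 0) (σ 0) = -2 * w ∧ T.a (σ 0) (σ 1) = 2 * w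 ∧ T.a (σ 0) (σ 2) = 0 ∧ T.a (σ 0) (σ 3) = 0 ∧ T.a (σ 0) (σ 4) = 0 ∧ T.a (σ 0) (σ 5) = 0 ∧ T.a (σ 0) (σ 6) = 0 ∧ T.a (σ 0) (σ 7) = 0 ∧ T.a (σ 1) (σ 1) = -4 * w ∧ T.a (σ 1) (σ 2) = 2 * w ∧ T.a (σ 1) (σ 3) = 0 ∧ T.a (σ 1) (σ 4) = 0 ∧ T.a (σ 1) (σ 5) = 0 ∧ T.a (σ 1) (σ 6) = 0 ∧ T.a (σ 1) (σ 7) = 0 ∧ T.a (σ 2) (σ 2) = -4 * w ∧ T.a (σ 2) (σ 3) = 2 * w ∧ T.a (σ 2) (σ 4) = 0 ∧ T.a (σ 2) (σ 5) = 0 ∧ T.a (σ 2) (σ 6) = 0 ∧ T.a (σ 2) (σ 7) = 0 ∧ T.a (σ 3) (σ 3) = -4 * w ∧ T.a (σ 3) (σ 4) = 2 * w ∧ T.a (σ 3) (σ 5) = 0 ∧ T.a (σ 3) (σ 6) = 0 ∧ T.a (σ 3) (σ 7) = 0 ∧ T.a (σ 4) (σ 4) = -4 * w ∧ T.a (σ 4) (σ 5) = 2 * w ∧ T.a (σ 4) (σ 6) = 0 ∧ T.a (σ 4) (σ 7) = 0 ∧ T.a (σ 5) (σ 5) = -4 * w ∧ T.a (σ 5) (σ 6) = 2 * w ∧ T.a (σ 5) (σ 7) = 0 ∧ T.a (σ 6) (σ 6) = -4 * w ∧ T.a (σ 6) (σ 7) = 2 * w ∧ T.a (σ 7) (σ 7) = -2 * w) ∨ (T.m (σ 0) = m ∧ T.m (σ 1) = 2 * m ∧ T.m (σ 2) = 2 * m ∧ T.m (σ 3) =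 2 * m ∧ T.m (σ 4) = 2 * m ∧ T.m (σ 5) = 2 * m ∧ T.m (σ 6) = 2 * m ∧ T.m (σ 7) = m ∧ T.w (σ 0) = 2 * w ∧ T.w (σ 1) = w ∧ T.w (σ 2) = w ∧ T.w (σ 3) = w ∧ T.w (σ 4) = w ∧ T.w (σ 5) = w ∧ T.w (σ 6) = w ∧ T.w (σ 7) = 2 * w ∧ T.a (σ 0) (σ 0) = -4 * w ∧ T.a (σ 0) (σ 1) = 2 * w ∧ T.a (σ 0) (σ 2) = 0 ∧ T.a (σ 0) (σ 3) = 0 ∧ T.a (σ 0) (σ 4) = 0 ∧ T.a (σ 0) (σ 5) = 0 ∧ T.a (σ 0) (σ 6) = 0 ∧ T.a (σ 0) (σ 7) = 0 ∧ T.a (σ 1) (σ 1) = -2 * w ∧ T.a (σ 1) (σ 2) = w ∧ T.a (σ 1) (σ 3) = 0 ∧ T.a (σ 1) (σ 4) = 0 ∧ T.a (σ 1) (σ 5) = 0 ∧ T.a (σ 1) (σ 6) = 0 ∧ T.a (σ 1) (σ 7) = 0 ∧ T.a (σ 2) (σ 2) = -2 * w ∧ T.a (σ 2) (σ 3) = w ∧ T.a (σ 2) (σ 4) = 0 ∧ T.a (σ 2) (σ 5) = 0 ∧ T.a (σ 2) (σ 6) = 0 ∧ T.a (σ 2) (σ 7) = 0 ∧ T.a (σ 3) (σ 3) = -2 * w ∧ T.a (σ 3) (σ 4) = w ∧ T.a (σ 3) (σ 5) = 0 ∧ T.a (σ 3) (σ 6) = 0 ∧ T.a (σ 3) (σ 7) = 0 ∧ T.a (σ 4) (σ 4) = -2 * w ∧ T.a (σ 4) (σ 5) = w ∧ T.a (σ 4) (σ 6)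 = 0 ∧ T.a (σ 4) (σ 7) = 0 ∧ T.a (σ 5) (σ 5) = -2 * w ∧ T.a (σ 5) (σ 6) = w ∧ T.a (σ 5) (σ 7) = 0 ∧ T.a (σ 6) (σ 6) = -2 * w ∧ T.a (σ 6) (σ 7) = 2 * w ∧ T.a (σ 7) (σ 7) = -4 * w) ∨ (T.m (σ 0) = m ∧ T.m (σ 1) = 2 * m ∧ T.m (σ 2) = 2 * m ∧ T.m (σ 3) = 2 * m ∧ T.m (σ 4) = 2 * m ∧ T.m (σ 5) = 2 * m ∧ T.m (σ 6) = m ∧ T.m (σ 7) = m ∧ T.w (σ 0) = 2 * w ∧ T.w (σ 1) = w ∧ T.w (σ 2) = w ∧ T.w (σ 3) = w ∧ T.w (σ 4) = w ∧ T.w (σ 5) = w ∧ T.w (σ 6) = w ∧ T.w (σ 7) = w ∧ T.a (σ 0) (σ 0) = -4 * w ∧ T.a (σ 0) (σ 1) = 2 * w ∧ T.a (σ 0) (σ 2) = 0 ∧ T.a (σ 0) (σ 3) = 0 ∧ T.a (σ 0) (σ 4) = 0 ∧ T.a (σ 0) (σ 5) = 0 ∧ T.a (σ 0) (σ 6) = 0 ∧ T.a (σ 0) (σ 7) = 0 ∧ T.a (σ 1) (σ 1) = -2 * w ∧ T.a (σ 1) (σ 2) = w ∧ T.a (σ 1) (σ 3) = 0 ∧ T.a (σ 1) (σ 4) = 0 ∧ T.a (σ 1) (σ 5) = 0 ∧ T.a (σ 1) (σ 6) = 0 ∧ T.a (σ 1) (σ 7) = 0 ∧ T.a (σ 2) (σ 2) = -2 * w ∧ T.a (σ 2) (σ 3) = w ∧ T.a (σ 2) (σ 4) = 0 ∧ T.a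 (σ 2) (σ 5) = 0 ∧ T.a (σ 2) (σ 6) = 0 ∧ T.a (σ 2) (σ 7) = 0 ∧ T.a (σ 3) (σ 3) = -2 * w ∧ T.a (σ 3) (σ 4) = w ∧ T.a (σ 3) (σ 5) = 0 ∧ T.a (σ 3) (σ 6) = 0 ∧ T.a (σ 3) (σ 7) = 0 ∧ T.a (σ 4) (σ 4) = -2 * w ∧ T.a (σ 4) (σ 5) = w ∧ T.a (σ 4) (σ 6) = 0 ∧ T.a (σ 4) (σ 7) = 0 ∧ T.a (σ 5) (σ 5) = -2 * w ∧ T.a (σ 5) (σ 6) = w ∧ T.a (σ 5) (σ 7) = w ∧ T.a (σ 6) (σ 6) = -2 * w ∧ T.a (σ 6) (σ 7) = 0 ∧ T.a (σ 7) (σ 7) = -2 * w) ∨ (T.m (σ 0) = 2 * m ∧ T.m (σ 1) = 2 * m ∧ T.m (σ 2) = 2 * m ∧ T.m (σ 3) = 2 * m ∧ T.m (σ 4) = 2 * m ∧ T.m (σ 5) = 2 * m ∧ T.m (σ 6) = m ∧ T.m (σ 7) = m ∧ T.w (σ 0) = w ∧ T.w (σ 1) = 2 * w ∧ T.w (σ 2) = 2 * w ∧ T.w (σ 3) = 2 * w ∧ T.w (σ 4) = 2 * w ∧ T.w (σ 5) = 2 * w ∧ T.w (σ 6) = 2 * w ∧ T.w (σ 7) = 2 * w ∧ T.a (σ 0) (σ 0) = -2 * w ∧ T.a (σ 0) (σ 1) = 2 * w ∧ T.a (σ 0) (σ 2) = 0 ∧ T.a (σ 0) (σ 3) = 0 ∧ T.a (σ 0) (σ 4) = 0 ∧ T.a (σ 0) (σ 5) = 0 ∧ T.a (σ 0) (σ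 6) = 0 ∧ T.a (σ 0) (σ 7) = 0 ∧ T.a (σ 1) (σ 1) = -4 * w ∧ T.a (σ 1) (σ 2) = 2 * w ∧ T.a (σ 1) (σ 3) = 0 ∧ T.a (σ 1) (σ 4) = 0 ∧ T.a (σ 1) (σ 5) = 0 ∧ T.a (σ 1) (σ 6) = 0 ∧ T.a (σ 1) (σ 7) = 0 ∧ T.a (σ 2) (σ 2) = -4 * w ∧ T.a (σ 2) (σ 3) = 2 * w ∧ T.a (σ 2) (σ 4) = 0 ∧ T.a (σ 2) (σ 5) = 0 ∧ T.a (σ 2) (σ 6) = 0 ∧ T.a (σ 2) (σ 7) = 0 ∧ T.a (σ 3) (σ 3) = -4 * w ∧ T.a (σ 3) (σ 4) = 2 * w ∧ T.a (σ 3) (σ 5) = 0 ∧ T.a (σ 3) (σ 6) = 0 ∧ T.a (σ 3) (σ 7) = 0 ∧ T.a (σ 4) (σ 4) = -4 * w ∧ T.a (σ 4) (σ 5) = 2 * w ∧ T.a (σ 4) (σ 6) = 0 ∧ T.a (σ 4) (σ 7) = 0 ∧ T.a (σ 5) (σ 5) = -4 * w ∧ T.a (σ 5) (σ 6) = 2 * w ∧ T.a (σ 5) (σ 7) = 2 * w ∧ T.a (σ 6) (σ 6) = -4 * w ∧ T.a (σ 6) (σ 7) = 0 ∧ T.a (σ 7) (σ 7) = -4 * w) ∨ (T.m (σ 0) = m ∧ T.m (σ 1) = m ∧ T.m (σ 2) = 2 * m ∧ T.m (σ 3) = 2 * m ∧ T.m (σ 4) = 2 * m ∧ T.m (σ 5) = 2 * m ∧ T.m (σ 6) = m ∧ T.m (σ 7) = m ∧ T.w (σ 0) = w ∧ T.w (σ 1) =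 w ∧ T.w (σ 2) = w ∧ T.w (σ 3) = w ∧ T.w (σ 4) = w ∧ T.w (σ 5) = w ∧ T.w (σ 6) = w ∧ T.w (σ 7) = w ∧ T.a (σ 0) (σ 0) = -2 * w ∧ T.a (σ 0) (σ 1) = 0 ∧ T.a (σ 0) (σ 2) = w ∧ T.a (σ 0) (σ 3) = 0 ∧ T.a (σ 0) (σ 4) = 0 ∧ T.a (σ 0) (σ 5) = 0 ∧ T.a (σ 0) (σ 6) = 0 ∧ T.a (σ 0) (σ 7) = 0 ∧ T.a (σ 1) (σ 1) = -2 * w ∧ T.a (σ 1) (σ 2) = w ∧ T.a (σ 1) (σ 3) = 0 ∧ T.a (σ 1) (σ 4) = 0 ∧ T.a (σ 1) (σ 5) = 0 ∧ T.a (σ 1) (σ 6) = 0 ∧ T.a (σ 1) (σ 7) = 0 ∧ T.a (σ 2) (σ 2) = -2 * w ∧ T.a (σ 2) (σ 3) = w ∧ T.a (σ 2) (σ 4) = 0 ∧ T.a (σ 2) (σ 5) = 0 ∧ T.a (σ 2) (σ 6) = 0 ∧ T.a (σ 2) (σ 7) = 0 ∧ T.a (σ 3) (σ 3) = -2 * w ∧ T.a (σ 3) (σ 4) = w ∧ T.a (σ 3) (σ 5) = 0 ∧ T.a (σ 3) (σ 6) = 0 ∧ T.a (σ 3) (σ 7) = 0 ∧ T.a (σ 4) (σ 4) = -2 * w ∧ T.a (σ 4) (σ 5) = w ∧ T.a (σ 4) (σ 6) = 0 ∧ T.a (σ 4) (σ 7) = 0 ∧ T.a (σ 5) (σ 5) = -2 * w ∧ T.a (σ 5) (σ 6) = w ∧ T.a (σ 5) (σ 7) = w ∧ T.a (σ 6) (σ 6) = -2 *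 w ∧ T.a (σ 6) (σ 7) = 0 ∧ T.a (σ 7) (σ 7) = -2 * w) ∨ (T.m (σ 0) = m ∧ T.m (σ 1) = 2 * m ∧ T.m (σ 2) = 3 * m ∧ T.m (σ 3) = 4 * m ∧ T.m (σ 4) = 3 * m ∧ T.m (σ 5) = 2 * m ∧ T.m (σ 6) = m ∧ T.m (σ 7) = 2 * m ∧ T.w (σ 0) = w ∧ T.w (σ 1) = w ∧ T.w (σ 2) = w ∧ T.w (σ 3) = w ∧ T.w (σ 4) = w ∧ T.w (σ 5) = w ∧ T.w (σ 6) = w ∧ T.w (σ 7) = w ∧ T.a (σ 0) (σ 0) = -2 * w ∧ T.a (σ 0) (σ 1) = w ∧ T.a (σ 0) (σ 2) = 0 ∧ T.a (σ 0) (σ 3) = 0 ∧ T.a (σ 0) (σ 4) = 0 ∧ T.a (σ 0) (σ 5) = 0 ∧ T.a (σ 0) (σ 6) = 0 ∧ T.a (σ 0) (σ 7) = 0 ∧ T.a (σ 1) (σ 1) = -2 * w ∧ T.a (σ 1) (σ 2) = w ∧ T.a (σ 1) (σ 3) = 0 ∧ T.a (σ 1) (σ 4) = 0 ∧ T.a (σ 1) (σ 5) = 0 ∧ T.a (σ 1) (σ 6) = 0 ∧ T.a (σ 1) (σ 7) = 0 ∧ T.a (σ 2) (σ 2) = -2 * w ∧ T.a (σ 2) (σ 3) = w ∧ T.a (σ 2) (σ 4) = 0 ∧ T.a (σ 2) (σ 5) = 0 ∧ T.a (σ 2) (σ 6) = 0 ∧ T.a (σ 2) (σ 7) = 0 ∧ T.a (σ 3) (σ 3) = -2 * w ∧ T.a (σ 3) (σ 4) = w ∧ T.a (σ 3) (σ 5) =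 0 ∧ T.a (σ 3) (σ 6) = 0 ∧ T.a (σ 3) (σ 7) = w ∧ T.a (σ 4) (σ 4) = -2 * w ∧ T.a (σ 4) (σ 5) = w ∧ T.a (σ 4) (σ 6) = 0 ∧ T.a (σ 4) (σ 7) = 0 ∧ T.a (σ 5) (σ 5) = -2 * w ∧ T.a (σ 5) (σ 6) = w ∧ T.a (σ 5) (σ 7) = 0 ∧ T.a (σ 6) (σ 6) = -2 * w ∧ T.a (σ 6) (σ 7) = 0 ∧ T.a (σ 7) (σ 7) = -2 * w)) := by
  by_cases hx : ∃ j, (j ≠ u0 ∧ j ≠ u1 ∧ j ≠ u2 ∧ j ≠ u3 ∧ j ≠ u4) ∧ T.a u2 j ≠ 0
  · obtain ⟨u5, ⟨hn_5_0, hn_5_1, hn_5_2, hn_5_3, hn_5_4⟩, e_2_5⟩ := hx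
    have z_0_5 : T.a u0 u5 = 0 := cl_0 u5 ⟨hn_5_0, hn_5_1, hn_5_2⟩
    have z_1_5 : T.a u1 u5 = 0 := cl_1 u5 ⟨hn_5_0, hn_5_1, hn_5_2, hn_5_3⟩
    rcases Groth.Agent.Helper6.NT.edge5 T h2 (by norm_num) u2 u5 hn_5_2.symm e_2_5 with ⟨tw_2_5, tap_2_5, taq_2_5⟩ | ⟨tw_2_5, tap_2_5, taq_2_5⟩ | ⟨tw_2_5, tap_2_5, taq_2_5⟩ | ⟨tw_2_5, tap_2_5, taq_2_5⟩ | ⟨tw_2_5, tap_2_5, taq_2_5⟩
    · -- (2,5) S
      exfalso
      have key := Groth.Agent.Helper6.NT.negfun4 T h2 u0 u2 u4 u5 (by norm_num) 1 2 1 1 (by norm_num) (by norm_num)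
      linarith only [key, tap_0_2, taq_0_2, z_0_4, z_0_5, tap_2_4, taq_2_4, tap_2_5, taq_2_5, T.offDiag_nonneg u4 u5 hn_5_4.symm, T.w_pos u0, T.w_pos u2, T.w_pos u4, T.w_pos u5]
    · -- (2,5) Dp
      exfalso
      have key := Groth.Agent.Helper6.NT.negfun3 T h2 u2 u4 u5 (by norm_num) 2 1 1 (by norm_num) (by norm_num)
      linarith only [key, tap_2_4, taq_2_4, tap_2_5, taq_2_5, T.offDiag_nonneg u4 u5 hn_5_4.symm, T.w_pos u2, T.w_pos u4, T.w_pos u5]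
    · -- (2,5) Dm
      exfalso
      have key := Groth.Agent.Helper6.NT.negfun3 T h2 u2 u4 u5 (by norm_num) 2 1 2 (by norm_num) (by norm_num)
      linarith only [key, tap_2_4, taq_2_4, tap_2_5, taq_2_5, T.offDiag_nonneg u4 u5 hn_5_4.symm, T.w_pos u2, T.w_pos u4, T.w_pos u5]
    · -- (2,5) Tp
      exfalso
      have key := Groth.Agent.Helper6.NT.negfun3 T h2 u2 u4 u5 (by norm_num) 2 1 1 (by norm_num) (by norm_num)
      linarith only [key, tap_2_4, taq_2_4, tap_2_5, taq_2_5, T.offDiag_nonneg u4 u5 hn_5_4.symm, T.w_pos u2, T.w_pos u4, T.w_pos u5]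
    · -- (2,5) Tm
      exfalso
      have key := Groth.Agent.Helper6.NT.negfun3 T h2 u2 u4 u5 (by norm_num) 2 1 3 (by norm_num) (by norm_num)
      linarith only [key, tap_2_4, taq_2_4, tap_2_5, taq_2_5, T.offDiag_nonneg u4 u5 hn_5_4.symm, T.w_pos u2, T.w_pos u4, T.w_pos u5]
  · push Not at hx
    have cl_2 := hx
    clear hx
    by_cases hx : ∃ j, (j ≠ u0 ∧ j ≠ u1 ∧ j ≠ u2 ∧ j ≠ u3 ∧ j ≠ u4) ∧ T.a u3 j ≠ 0
    · obtain ⟨u5, ⟨hn_5_0, hn_5_1, hn_5_2, hn_5_3, hn_5_4⟩, e_3_5⟩ := hx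
      have z_0_5 : T.a u0 u5 = 0 := cl_0 u5 ⟨hn_5_0, hn_5_1, hn_5_2⟩
      have z_1_5 : T.a u1 u5 = 0 := cl_1 u5 ⟨hn_5_0, hn_5_1, hn_5_2, hn_5_3⟩
      have z_2_5 : T.a u2 u5 = 0 := cl_2 u5 ⟨hn_5_0, hn_5_1, hn_5_2, hn_5_3, hn_5_4⟩
      rcases Groth.Agent.Helper6.NT.edge5 T h2 (by norm_num) u3 u5 hn_5_3.symm e_3_5 with ⟨tw_3_5, tap_3_5, taq_3_5⟩ | ⟨tw_3_5, tap_3_5, taq_3_5⟩ | ⟨tw_3_5, tap_3_5, taq_3_5⟩ | ⟨tw_3_5, tap_3_5, taq_3_5⟩ | ⟨tw_3_5, tap_3_5, taq_3_5⟩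
      · -- (3,5) S
        rcases eq_or_ne (T.a u4 u5) 0 with z_4_5 | nz_4_5
        · -- (4,5) zero
          by_cases hx : ∃ j, (j ≠ u0 ∧ j ≠ u1 ∧ j ≠ u2 ∧ j ≠ u3 ∧ j ≠ u4 ∧ j ≠ u5) ∧ T.a u3 j ≠ 0
          · obtain ⟨u6, ⟨hn_6_0, hn_6_1, hn_6_2, hn_6_3, hn_6_4, hn_6_5⟩, e_3_6⟩ := hx
            have z_0_6 : T.a u0 u6 = 0 := cl_0 u6 ⟨hn_6_0, hn_6_1, hn_6_2⟩
            have z_1_6 : T.a u1 u6 = 0 := cl_1 u6 ⟨hn_6_0, hn_6_1, hn_6_2, hn_6_3⟩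
            have z_2_6 : T.a u2 u6 = 0 := cl_2 u6 ⟨hn_6_0, hn_6_1, hn_6_2, hn_6_3, hn_6_4⟩
            rcases Groth.Agent.Helper6.NT.edge5 T h2 (by norm_num) u3 u6 hn_6_3.symm e_3_6 with ⟨tw_3_6, tap_3_6, taq_3_6⟩ | ⟨tw_3_6, tap_3_6, taq_3_6⟩ | ⟨tw_3_6, tap_3_6, taq_3_6⟩ | ⟨tw_3_6, tap_3_6, taq_3_6⟩ | ⟨tw_3_6, tap_3_6, taq_3_6⟩
            · -- (3,6) S
              exfalso
              have key := Groth.Agent.Helper6.NT.negfun7 T h2 u0 u1 u2 u3 u4 u5 u6 (by norm_num) 2 2 2 2 1 1 1 (by norm_num) (by norm_num)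
              linarith only [key, tap_0_1, taq_0_1, tap_0_2, taq_0_2, z_0_3, z_0_4, z_0_5, z_0_6, z_1_2, tap_1_3, taq_1_3, z_1_4, z_1_5, z_1_6, z_2_3, tap_2_4, taq_2_4, z_2_5, z_2_6, z_3_4, tap_3_5, taq_3_5, tap_3_6, taq_3_6, z_4_5, T.offDiag_nonneg u4 u6 hn_6_4.symm, T.offDiag_nonneg u5 u6 hn_6_5.symm, T.w_pos u0, T.w_pos u1, T.w_pos u2, T.w_pos u3, T.w_pos u4, T.w_pos u5, T.w_pos u6]
            · -- (3,6) Dp
              exfalso
              have key := Groth.Agent.Helper6.NT.negfun4 T h2 u1 u3 u5 u6 (by norm_num) 1 2 1 1 (by norm_num) (by norm_num)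
              linarith only [key, tap_1_3, taq_1_3, z_1_5, z_1_6, tap_3_5, taq_3_5, tap_3_6, taq_3_6, T.offDiag_nonneg u5 u6 hn_6_5.symm, T.w_pos u1, T.w_pos u3, T.w_pos u5, T.w_pos u6]
            · -- (3,6) Dm
              exfalso
              have key := Groth.Agent.Helper6.NT.negfun4 T h2 u1 u3 u5 u6 (by norm_num) 1 2 1 2 (by norm_num) (by norm_num)
              linarith only [key, tap_1_3, taq_1_3, z_1_5, z_1_6, tap_3_5, taq_3_5, tap_3_6, taq_3_6, T.offDiag_nonneg u5 u6 hn_6_5.symm, T.w_pos u1, T.w_pos u3, T.w_pos u5, T.w_pos u6]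
            · -- (3,6) Tp
              exfalso
              have key := Groth.Agent.Helper6.NT.negfun3 T h2 u3 u5 u6 (by norm_num) 2 1 1 (by norm_num) (by norm_num)
              linarith only [key, tap_3_5, taq_3_5, tap_3_6, taq_3_6, T.offDiag_nonneg u5 u6 hn_6_5.symm, T.w_pos u3, T.w_pos u5, T.w_pos u6]
            · -- (3,6) Tm
              exfalso
              have key := Groth.Agent.Helper6.NT.negfun3 T h2 u3 u5 u6 (by norm_num) 2 1 3 (by norm_num) (by norm_num)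
              linarith only [key, tap_3_5, taq_3_5, tap_3_6, taq_3_6, T.offDiag_nonneg u5 u6 hn_6_5.symm, T.w_pos u3, T.w_pos u5, T.w_pos u6]
          · push Not at hx
            have cl_3 := hx
            clear hx
            by_cases hx : ∃ j, (j ≠ u0 ∧ j ≠ u1 ∧ j ≠ u2 ∧ j ≠ u3 ∧ j ≠ u4 ∧ j ≠ u5) ∧ T.a u4 j ≠ 0
            · obtain ⟨u6, ⟨hn_6_0, hn_6_1, hn_6_2, hn_6_3, hn_6_4, hn_6_5⟩, e_4_6⟩ := hx
              have z_0_6 : T.a u0 u6 = 0 := cl_0 u6 ⟨hn_6_0, hn_6_1, hn_6_2⟩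
              have z_1_6 : T.a u1 u6 = 0 := cl_1 u6 ⟨hn_6_0, hn_6_1, hn_6_2, hn_6_3⟩
              have z_2_6 : T.a u2 u6 = 0 := cl_2 u6 ⟨hn_6_0, hn_6_1, hn_6_2, hn_6_3, hn_6_4⟩
              have z_3_6 : T.a u3 u6 = 0 := cl_3 u6 ⟨hn_6_0, hn_6_1, hn_6_2, hn_6_3, hn_6_4, hn_6_5⟩
              rcases Groth.Agent.Helper6.NT.edge5 T h2 (by norm_num) u4 u6 hn_6_4.symm e_4_6 with ⟨tw_4_6, tap_4_6, taq_4_6⟩ | ⟨tw_4_6, tap_4_6, taq_4_6⟩ | ⟨tw_4_6, tap_4_6, taq_4_6⟩ | ⟨tw_4_6, tap_4_6, taq_4_6⟩ | ⟨tw_4_6, tap_4_6, taq_4_6⟩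
              · -- (4,6) S
                exfalso
                have key := Groth.Agent.Helper6.NT.negfun5 T h2 u0 u1 u2 u4 u6 (by norm_num) 2 1 3 2 1 (by norm_num) (by norm_num)
                linarith only [key, tap_0_1, taq_0_1, tap_0_2, taq_0_2, z_0_4, z_0_6, z_1_2, z_1_4, z_1_6, tap_2_4, taq_2_4, z_2_6, tap_4_6, taq_4_6, T.w_pos u0, T.w_pos u1, T.w_pos u2, T.w_pos u4, T.w_pos u6]
              · -- (4,6) Dp
                exfalso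
                have key := Groth.Agent.Helper6.NT.negfun3 T h2 u2 u4 u6 (by norm_num) 2 2 1 (by norm_num) (by norm_num)
                linarith only [key, tap_2_4, taq_2_4, z_2_6, tap_4_6, taq_4_6, T.w_pos u2, T.w_pos u4, T.w_pos u6]
              · -- (4,6) Dm
                exfalso
                have key := Groth.Agent.Helper6.NT.negfun3 T h2 u2 u4 u6 (by norm_num) 1 1 1 (by norm_num) (by norm_num)
                linarith only [key, tap_2_4, taq_2_4, z_2_6, tap_4_6, taq_4_6, T.w_pos u2, T.w_pos u4, T.w_pos u6]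
              · -- (4,6) Tp
                exfalso
                have key := Groth.Agent.Helper6.NT.negfun3 T h2 u2 u4 u6 (by norm_num) 2 2 1 (by norm_num) (by norm_num)
                linarith only [key, tap_2_4, taq_2_4, z_2_6, tap_4_6, taq_4_6, T.w_pos u2, T.w_pos u4, T.w_pos u6]
              · -- (4,6) Tm
                exfalso
                have key := Groth.Agent.Helper6.NT.negfun3 T h2 u2 u4 u6 (by norm_num) 2 2 3 (by norm_num) (by norm_num)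
                linarith only [key, tap_2_4, taq_2_4, z_2_6, tap_4_6, taq_4_6, T.w_pos u2, T.w_pos u4, T.w_pos u6]
            · push Not at hx
              have cl_4 := hx
              clear hx
              by_cases hx : ∃ j, (j ≠ u0 ∧ j ≠ u1 ∧ j ≠ u2 ∧ j ≠ u3 ∧ j ≠ u4 ∧ j ≠ u5) ∧ T.a u5 j ≠ 0
              · obtain ⟨u6, ⟨hn_6_0, hn_6_1, hn_6_2, hn_6_3, hn_6_4, hn_6_5⟩, e_5_6⟩ := hx
                have z_0_6 : T.a u0 u6 = 0 := cl_0 u6 ⟨hn_6_0, hn_6_1, hn_6_2⟩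
                have z_1_6 : T.a u1 u6 = 0 := cl_1 u6 ⟨hn_6_0, hn_6_1, hn_6_2, hn_6_3⟩
                have z_2_6 : T.a u2 u6 = 0 := cl_2 u6 ⟨hn_6_0, hn_6_1, hn_6_2, hn_6_3, hn_6_4⟩
                have z_3_6 : T.a u3 u6 = 0 := cl_3 u6 ⟨hn_6_0, hn_6_1, hn_6_2, hn_6_3, hn_6_4, hn_6_5⟩
                have z_4_6 : T.a u4 u6 = 0 := cl_4 u6 ⟨hn_6_0, hn_6_1, hn_6_2, hn_6_3, hn_6_4, hn_6_5⟩
                rcases Groth.Agent.Helper6.NT.edge5 T h2 (by norm_num) u5 u6 hn_6_5.symm e_5_6 with ⟨tw_5_6, tap_5_6, taq_5_6⟩ | ⟨tw_5_6, tap_5_6, taq_5_6⟩ | ⟨tw_5_6, tap_5_6, taq_5_6⟩ | ⟨tw_5_6, tap_5_6, taq_5_6⟩ | ⟨tw_5_6, tap_5_6, taq_5_6⟩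
                · -- (5,6) S
                  by_cases hx : ∃ j, (j ≠ u0 ∧ j ≠ u1 ∧ j ≠ u2 ∧ j ≠ u3 ∧ j ≠ u4 ∧ j ≠ u5 ∧ j ≠ u6) ∧ T.a u5 j ≠ 0
                  · obtain ⟨u7, ⟨hn_7_0, hn_7_1, hn_7_2, hn_7_3, hn_7_4, hn_7_5, hn_7_6⟩, e_5_7⟩ := hx
                    have z_0_7 : T.a u0 u7 = 0 := cl_0 u7 ⟨hn_7_0, hn_7_1, hn_7_2⟩
                    have z_1_7 : T.a u1 u7 = 0 := cl_1 u7 ⟨hn_7_0, hn_7_1, hn_7_2, hn_7_3⟩
                    have z_2_7 : T.a u2 u7 = 0 := cl_2 u7 ⟨hn_7_0, hn_7_1, hn_7_2, hn_7_3, hn_7_4⟩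
                    have z_3_7 : T.a u3 u7 = 0 := cl_3 u7 ⟨hn_7_0, hn_7_1, hn_7_2, hn_7_3, hn_7_4, hn_7_5⟩
                    have z_4_7 : T.a u4 u7 = 0 := cl_4 u7 ⟨hn_7_0, hn_7_1, hn_7_2, hn_7_3, hn_7_4, hn_7_5⟩
                    rcases Groth.Agent.Helper6.NT.edge5 T h2 (by norm_num) u5 u7 hn_7_5.symm e_5_7 with ⟨tw_5_7, tap_5_7, taq_5_7⟩ | ⟨tw_5_7, tap_5_7, taq_5_7⟩ | ⟨tw_5_7, tap_5_7, taq_5_7⟩ | ⟨tw_5_7, tap_5_7, taq_5_7⟩ | ⟨tw_5_7, tap_5_7, taq_5_7⟩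
                    · -- (5,7) S
                      rcases eq_or_ne (T.a u6 u7) 0 with z_6_7 | nz_6_7
                      · -- (6,7) zero
                        have hinj := Groth.Agent.Helper6.NT.inj8 u0 u1 u2 u3 u4 u5 u6 u7 hn_1_0 hn_2_0 hn_2_1 hn_3_0 hn_3_1 hn_3_2 hn_4_0 hn_4_1 hn_4_2 hn_4_3 hn_5_0 hn_5_1 hn_5_2 hn_5_3 hn_5_4 hn_6_0 hn_6_1 hn_6_2 hn_6_3 hn_6_4 hn_6_5 hn_7_0 hn_7_1 hn_7_2 hn_7_3 hn_7_4 hn_7_5 hn_7_6
                        have r_0 : -2 * T.m u0 + 1 * T.m u1 + 1 * T.m u2 = 0 := by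
                          have key := Groth.Agent.Helper6.NT.rowfun8 T u0 u1 u2 u3 u4 u5 u6 u7 hinj u0
                          rw [(h2 u0).2, tap_0_1, tap_0_2, z_0_3, z_0_4, z_0_5, z_0_6, z_0_7] at key
                          exact mul_left_cancel₀ (T.w_pos u0).ne' (by linarith only [key])
                        have r_1 : 1 * T.m u0 + -2 * T.m u1 + 1 * T.m u3 = 0 := by
                          have key := Groth.Agent.Helper6.NT.rowfun8 T u0 u1 u2 u3 u4 u5 u6 u7 hinj u1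
                          rw [Groth.Agent.Helper6.NT.symm' T u1 u0, taq_0_1, (h2 u1).2, z_1_2, tap_1_3, z_1_4, z_1_5, z_1_6, z_1_7] at key
                          exact mul_left_cancel₀ (T.w_pos u1).ne' (by linarith only [key])
                        have r_2 : 1 * T.m u0 + -2 * T.m u2 + 2 * T.m u4 = 0 := by
                          have key := Groth.Agent.Helper6.NT.rowfun8 T u0 u1 u2 u3 u4 u5 u6 u7 hinj u2
                          rw [Groth.Agent.Helper6.NT.symm' T u2 u0, taq_0_2, Groth.Agent.Helper6.NT.symm' T u2 u1, z_1_2, (h2 u2).2, z_2_3, tap_2_4, z_2_5, z_2_6, z_2_7] at key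
                          exact mul_left_cancel₀ (T.w_pos u2).ne' (by linarith only [key])
                        have r_3 : 1 * T.m u1 + -2 * T.m u3 + 1 * T.m u5 = 0 := by
                          have key := Groth.Agent.Helper6.NT.rowfun8 T u0 u1 u2 u3 u4 u5 u6 u7 hinj u3
                          rw [Groth.Agent.Helper6.NT.symm' T u3 u0, z_0_3, Groth.Agent.Helper6.NT.symm' T u3 u1, taq_1_3, Groth.Agent.Helper6.NT.symm' T u3 u2, z_2_3, (h2 u3).2, z_3_4, tap_3_5, z_3_6, z_3_7] at key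
                          exact mul_left_cancel₀ (T.w_pos u3).ne' (by linarith only [key])
                        have r_4 : 1 * T.m u2 + -2 * T.m u4 = 0 := by
                          have key := Groth.Agent.Helper6.NT.rowfun8 T u0 u1 u2 u3 u4 u5 u6 u7 hinj u4
                          rw [Groth.Agent.Helper6.NT.symm' T u4 u0, z_0_4, Groth.Agent.Helper6.NT.symm' T u4 u1, z_1_4, Groth.Agent.Helper6.NT.symm' T u4 u2, taq_2_4, Groth.Agent.Helper6.NT.symm' T u4 u3, z_3_4, (h2 u4).2, z_4_5, z_4_6, z_4_7] at key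
                          exact mul_left_cancel₀ (T.w_pos u4).ne' (by linarith only [key])
                        have r_5 : 1 * T.m u3 + -2 * T.m u5 + 1 * T.m u6 + 1 * T.m u7 = 0 := by
                          have key := Groth.Agent.Helper6.NT.rowfun8 T u0 u1 u2 u3 u4 u5 u6 u7 hinj u5
                          rw [Groth.Agent.Helper6.NT.symm' T u5 u0, z_0_5, Groth.Agent.Helper6.NT.symm' T u5 u1, z_1_5, Groth.Agent.Helper6.NT.symm' T u5 u2, z_2_5, Groth.Agent.Helper6.NT.symm' T u5 u3, taq_3_5, Groth.Agent.Helper6.NT.symm' T u5 u4, z_4_5, (h2 u5).2, tap_5_6, tap_5_7] at key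
                          exact mul_left_cancel₀ (T.w_pos u5).ne' (by linarith only [key])
                        have r_6 : 1 * T.m u5 + -2 * T.m u6 = 0 := by
                          have key := Groth.Agent.Helper6.NT.rowfun8 T u0 u1 u2 u3 u4 u5 u6 u7 hinj u6
                          rw [Groth.Agent.Helper6.NT.symm' T u6 u0, z_0_6, Groth.Agent.Helper6.NT.symm' T u6 u1, z_1_6, Groth.Agent.Helper6.NT.symm' T u6 u2, z_2_6, Groth.Agent.Helper6.NT.symm' T u6 u3, z_3_6, Groth.Agent.Helper6.NT.symm' T u6 u4, z_4_6, Groth.Agent.Helper6.NT.symm' T u6 u5, taq_5_6, (h2 u6).2, z_6_7] at key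
                          exact mul_left_cancel₀ (T.w_pos u6).ne' (by linarith only [key])
                        have r_7 : 1 * T.m u5 + -2 * T.m u7 = 0 := by
                          have key := Groth.Agent.Helper6.NT.rowfun8 T u0 u1 u2 u3 u4 u5 u6 u7 hinj u7
                          rw [Groth.Agent.Helper6.NT.symm' T u7 u0, z_0_7, Groth.Agent.Helper6.NT.symm' T u7 u1, z_1_7, Groth.Agent.Helper6.NT.symm' T u7 u2, z_2_7, Groth.Agent.Helper6.NT.symm' T u7 u3, z_3_7, Groth.Agent.Helper6.NT.symm' T u7 u4, z_4_7, Groth.Agent.Helper6.NT.symm' T u7 u5, taq_5_7, Groth.Agent.Helper6.NT.symm' T u7 u6, z_6_7, (h2 u7).2] at key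
                          exact mul_left_cancel₀ (T.w_pos u7).ne' (by linarith only [key])
                        have f0 : T.m u4 = T.m u4 := rfl
                        have f1 : T.m u2 = 2 * T.m u4 := by linarith only [r_0, r_1, r_2, r_3, r_4, r_5, r_6, r_7]
                        have f2 : T.m u0 = 2 * T.m u4 := by linarith only [r_0, r_1, r_2, r_3, r_4, r_5, r_6, r_7]
                        have f3 : T.m u1 = 2 * T.m u4 := by linarith only [r_0, r_1, r_2, r_3, r_4, r_5, r_6, r_7]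
                        have f4 : T.m u3 = 2 * T.m u4 := by linarith only [r_0, r_1, r_2, r_3, r_4, r_5, r_6, r_7]
                        have f5 : T.m u5 = 2 * T.m u4 := by linarith only [r_0, r_1, r_2, r_3, r_4, r_5, r_6, r_7]
                        have f6 : T.m u6 = T.m u4 := by linarith only [r_0, r_1, r_2, r_3, r_4, r_5, r_6, r_7]
                        have f7 : T.m u7 = T.m u4 := by linarith only [r_0, r_1, r_2, r_3, r_4, r_5, r_6, r_7]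
                        have f8 : T.w u4 = 2 * T.w u2 := by linarith only [tw_0_1, tw_0_2, tw_1_3, tw_2_4, tw_3_5, tw_5_6, tw_5_7]
                        have f9 : T.w u2 = T.w u2 := rfl
                        have f10 : T.w u0 = T.w u2 := by linarith only [tw_0_1, tw_0_2, tw_1_3, tw_2_4, tw_3_5, tw_5_6, tw_5_7]
                        have f11 : T.w u1 = T.w u2 := by linarith only [tw_0_1, tw_0_2, tw_1_3, tw_2_4, tw_3_5, tw_5_6, tw_5_7]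
                        have f12 : T.w u3 = T.w u2 := by linarith only [tw_0_1, tw_0_2, tw_1_3, tw_2_4, tw_3_5, tw_5_6, tw_5_7]
                        have f13 : T.w u5 = T.w u2 := by linarith only [tw_0_1, tw_0_2, tw_1_3, tw_2_4, tw_3_5, tw_5_6, tw_5_7]
                        have f14 : T.w u6 = T.w u2 := by linarith only [tw_0_1, tw_0_2, tw_1_3, tw_2_4, tw_3_5, tw_5_6, tw_5_7]
                        have f15 : T.w u7 = T.w u2 := by linarith only [tw_0_1, tw_0_2, tw_1_3, tw_2_4, tw_3_5, tw_5_6, tw_5_7]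
                        have f16 : T.a u4 u4 = -4 * T.w u2 := by have := (h2 u4).2; linarith only [this, tw_0_1, tw_0_2, tw_1_3, tw_2_4, tw_3_5, tw_5_6, tw_5_7]
                        have f17 : T.a u4 u2 = 2 * T.w u2 := by rw [Groth.Agent.Helper6.NT.symm' T u4 u2]; linarith only [tap_2_4, tw_0_1, tw_0_2, tw_1_3, tw_2_4, tw_3_5, tw_5_6, tw_5_7]
                        have f18 : T.a u4 u0 = 0 := by rw [Groth.Agent.Helper6.NT.symm' T u4 u0]; exact z_0_4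
                        have f19 : T.a u4 u1 = 0 := by rw [Groth.Agent.Helper6.NT.symm' T u4 u1]; exact z_1_4
                        have f20 : T.a u4 u3 = 0 := by rw [Groth.Agent.Helper6.NT.symm' T u4 u3]; exact z_3_4
                        have f21 : T.a u4 u5 = 0 := by exact z_4_5
                        have f22 : T.a u4 u6 = 0 := by exact z_4_6
                        have f23 : T.a u4 u7 = 0 := by exact z_4_7
                        have f24 : T.a u2 u2 = -2 * T.w u2 := by have := (h2 u2).2; linarith only [this, tw_0_1, tw_0_2, tw_1_3, tw_2_4, tw_3_5, tw_5_6, tw_5_7]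
                        have f25 : T.a u2 u0 = T.w u2 := by rw [Groth.Agent.Helper6.NT.symm' T u2 u0]; linarith only [tap_0_2, tw_0_1, tw_0_2, tw_1_3, tw_2_4, tw_3_5, tw_5_6, tw_5_7]
                        have f26 : T.a u2 u1 = 0 := by rw [Groth.Agent.Helper6.NT.symm' T u2 u1]; exact z_1_2
                        have f27 : T.a u2 u3 = 0 := by exact z_2_3
                        have f28 : T.a u2 u5 = 0 := by exact z_2_5
                        have f29 : T.a u2 u6 = 0 := by exact z_2_6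
                        have f30 : T.a u2 u7 = 0 := by exact z_2_7
                        have f31 : T.a u0 u0 = -2 * T.w u2 := by have := (h2 u0).2; linarith only [this, tw_0_1, tw_0_2, tw_1_3, tw_2_4, tw_3_5, tw_5_6, tw_5_7]
                        have f32 : T.a u0 u1 = T.w u2 := by linarith only [tap_0_1, tw_0_1, tw_0_2, tw_1_3, tw_2_4, tw_3_5, tw_5_6, tw_5_7]
                        have f33 : T.a u0 u3 = 0 := by exact z_0_3
                        have f34 : T.a u0 u5 = 0 := by exact z_0_5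
                        have f35 : T.a u0 u6 = 0 := by exact z_0_6
                        have f36 : T.a u0 u7 = 0 := by exact z_0_7
                        have f37 : T.a u1 u1 = -2 * T.w u2 := by have := (h2 u1).2; linarith only [this, tw_0_1, tw_0_2, tw_1_3, tw_2_4, tw_3_5, tw_5_6, tw_5_7]
                        have f38 : T.a u1 u3 = T.w u2 := by linarith only [tap_1_3, tw_0_1, tw_0_2, tw_1_3, tw_2_4, tw_3_5, tw_5_6, tw_5_7]
                        have f39 : T.a u1 u5 = 0 := by exact z_1_5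
                        have f40 : T.a u1 u6 = 0 := by exact z_1_6
                        have f41 : T.a u1 u7 = 0 := by exact z_1_7
                        have f42 : T.a u3 u3 = -2 * T.w u2 := by have := (h2 u3).2; linarith only [this, tw_0_1, tw_0_2, tw_1_3, tw_2_4, tw_3_5, tw_5_6, tw_5_7]
                        have f43 : T.a u3 u5 = T.w u2 := by linarith only [tap_3_5, tw_0_1, tw_0_2, tw_1_3, tw_2_4, tw_3_5, tw_5_6, tw_5_7]
                        have f44 : T.a u3 u6 = 0 := by exact z_3_6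
                        have f45 : T.a u3 u7 = 0 := by exact z_3_7
                        have f46 : T.a u5 u5 = -2 * T.w u2 := by have := (h2 u5).2; linarith only [this, tw_0_1, tw_0_2, tw_1_3, tw_2_4, tw_3_5, tw_5_6, tw_5_7]
                        have f47 : T.a u5 u6 = T.w u2 := by linarith only [tap_5_6, tw_0_1, tw_0_2, tw_1_3, tw_2_4, tw_3_5, tw_5_6, tw_5_7]
                        have f48 : T.a u5 u7 = T.w u2 := by linarith only [tap_5_7, tw_0_1, tw_0_2, tw_1_3, tw_2_4, tw_3_5, tw_5_6, tw_5_7]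
                        have f49 : T.a u6 u6 = -2 * T.w u2 := by have := (h2 u6).2; linarith only [this, tw_0_1, tw_0_2, tw_1_3, tw_2_4, tw_3_5, tw_5_6, tw_5_7]
                        have f50 : T.a u6 u7 = 0 := by exact z_6_7
                        have f51 : T.a u7 u7 = -2 * T.w u2 := by have := (h2 u7).2; linarith only [this, tw_0_1, tw_0_2, tw_1_3, tw_2_4, tw_3_5, tw_5_6, tw_5_7]
                        have hsig := Groth.Agent.Helper6.NT.inj8 u4 u2 u0 u1 u3 u5 u6 u7 hn_4_2.symm hn_4_0.symm hn_2_0.symm hn_4_1.symm hn_2_1.symm hn_1_0 hn_4_3.symm hn_3_2 hn_3_0 hn_3_1 hn_5_4 hn_5_2 hn_5_0 hn_5_1 hn_5_3 hn_6_4 hn_6_2 hn_6_0 hn_6_1 hn_6_3 hn_6_5 hn_7_4 hn_7_2 hn_7_0 hn_7_1 hn_7_3 hn_7_5 hn_7_6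
                        exact ⟨Equiv.ofBijective _ (Finite.injective_iff_bijective.1 hsig), T.m u4, T.w u2, Or.inr (Or.inr (Or.inr (Or.inr (Or.inl ⟨f0, f1, f2, f3, f4, f5, f6, f7, f8, f9, f10, f11, f12, f13, f14, f15, f16, f17, f18, f19, f20, f21, f22, f23, f24, f25, f26, f27, f28, f29, f30, f31, f32, f33, f34, f35, f36, f37, f38, f39, f40, f41, f42, f43, f44, f45, f46, f47, f48, f49, f50, f51⟩))))⟩
                      · -- (6,7) nonzero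
                        obtain ⟨lbp_6_7, lbq_6_7⟩ := Groth.Agent.Helper6.NT.lb T u6 u7 hn_7_6.symm nz_6_7
                        exfalso
                        have key := Groth.Agent.Helper6.NT.negfun3 T h2 u5 u6 u7 (by norm_num) 1 1 1 (by norm_num) (by norm_num)
                        linarith only [key, tap_5_6, taq_5_6, tap_5_7, taq_5_7, lbp_6_7, lbq_6_7, T.w_pos u5, T.w_pos u6, T.w_pos u7]
                    · -- (5,7) Dp
                      exfalso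
                      have key := Groth.Agent.Helper6.NT.negfun4 T h2 u3 u5 u6 u7 (by norm_num) 1 2 1 1 (by norm_num) (by norm_num)
                      linarith only [key, tap_3_5, taq_3_5, z_3_6, z_3_7, tap_5_6, taq_5_6, tap_5_7, taq_5_7, T.offDiag_nonneg u6 u7 hn_7_6.symm, T.w_pos u3, T.w_pos u5, T.w_pos u6, T.w_pos u7]
                    · -- (5,7) Dm
                      exfalso
                      have key := Groth.Agent.Helper6.NT.negfun4 T h2 u3 u5 u6 u7 (by norm_num) 1 2 1 2 (by norm_num) (by norm_num)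
                      linarith only [key, tap_3_5, taq_3_5, z_3_6, z_3_7, tap_5_6, taq_5_6, tap_5_7, taq_5_7, T.offDiag_nonneg u6 u7 hn_7_6.symm, T.w_pos u3, T.w_pos u5, T.w_pos u6, T.w_pos u7]
                    · -- (5,7) Tp
                      exfalso
                      have key := Groth.Agent.Helper6.NT.negfun3 T h2 u5 u6 u7 (by norm_num) 2 1 1 (by norm_num) (by norm_num)
                      linarith only [key, tap_5_6, taq_5_6, tap_5_7, taq_5_7, T.offDiag_nonneg u6 u7 hn_7_6.symm, T.w_pos u5, T.w_pos u6, T.w_pos u7]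
                    · -- (5,7) Tm
                      exfalso
                      have key := Groth.Agent.Helper6.NT.negfun3 T h2 u5 u6 u7 (by norm_num) 2 1 3 (by norm_num) (by norm_num)
                      linarith only [key, tap_5_6, taq_5_6, tap_5_7, taq_5_7, T.offDiag_nonneg u6 u7 hn_7_6.symm, T.w_pos u5, T.w_pos u6, T.w_pos u7]
                  · push Not at hx
                    have cl_5 := hx
                    clear hx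
                    by_cases hx : ∃ j, (j ≠ u0 ∧ j ≠ u1 ∧ j ≠ u2 ∧ j ≠ u3 ∧ j ≠ u4 ∧ j ≠ u5 ∧ j ≠ u6) ∧ T.a u6 j ≠ 0
                    · obtain ⟨u7, ⟨hn_7_0, hn_7_1, hn_7_2, hn_7_3, hn_7_4, hn_7_5, hn_7_6⟩, e_6_7⟩ := hx
                      have z_0_7 : T.a u0 u7 = 0 := cl_0 u7 ⟨hn_7_0, hn_7_1, hn_7_2⟩
                      have z_1_7 : T.a u1 u7 = 0 := cl_1 u7 ⟨hn_7_0, hn_7_1, hn_7_2, hn_7_3⟩
                      have z_2_7 : T.a u2 u7 = 0 := cl_2 u7 ⟨hn_7_0, hn_7_1, hn_7_2, hn_7_3, hn_7_4⟩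
                      have z_3_7 : T.a u3 u7 = 0 := cl_3 u7 ⟨hn_7_0, hn_7_1, hn_7_2, hn_7_3, hn_7_4, hn_7_5⟩
                      have z_4_7 : T.a u4 u7 = 0 := cl_4 u7 ⟨hn_7_0, hn_7_1, hn_7_2, hn_7_3, hn_7_4, hn_7_5⟩
                      have z_5_7 : T.a u5 u7 = 0 := cl_5 u7 ⟨hn_7_0, hn_7_1, hn_7_2, hn_7_3, hn_7_4, hn_7_5, hn_7_6⟩
                      rcases Groth.Agent.Helper6.NT.edge5 T h2 (by norm_num) u6 u7 hn_7_6.symm e_6_7 with ⟨tw_6_7, tap_6_7, taq_6_7⟩ | ⟨tw_6_7, tap_6_7, taq_6_7⟩ | ⟨tw_6_7, tap_6_7, taq_6_7⟩ | ⟨tw_6_7, tap_6_7, taq_6_7⟩ | ⟨tw_6_7, tap_6_7, taq_6_7⟩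
                      · -- (6,7) S
                        have hinj := Groth.Agent.Helper6.NT.inj8 u0 u1 u2 u3 u4 u5 u6 u7 hn_1_0 hn_2_0 hn_2_1 hn_3_0 hn_3_1 hn_3_2 hn_4_0 hn_4_1 hn_4_2 hn_4_3 hn_5_0 hn_5_1 hn_5_2 hn_5_3 hn_5_4 hn_6_0 hn_6_1 hn_6_2 hn_6_3 hn_6_4 hn_6_5 hn_7_0 hn_7_1 hn_7_2 hn_7_3 hn_7_4 hn_7_5 hn_7_6
                        have r_0 : -2 * T.m u0 + 1 * T.m u1 + 1 * T.m u2 = 0 := by
                          have key := Groth.Agent.Helper6.NT.rowfun8 T u0 u1 u2 u3 u4 u5 u6 u7 hinj u0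
                          rw [(h2 u0).2, tap_0_1, tap_0_2, z_0_3, z_0_4, z_0_5, z_0_6, z_0_7] at key
                          exact mul_left_cancel₀ (T.w_pos u0).ne' (by linarith only [key])
                        have r_1 : 1 * T.m u0 + -2 * T.m u1 + 1 * T.m u3 = 0 := by
                          have key := Groth.Agent.Helper6.NT.rowfun8 T u0 u1 u2 u3 u4 u5 u6 u7 hinj u1
                          rw [Groth.Agent.Helper6.NT.symm' T u1 u0, taq_0_1, (h2 u1).2, z_1_2, tap_1_3, z_1_4, z_1_5, z_1_6, z_1_7] at key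
                          exact mul_left_cancel₀ (T.w_pos u1).ne' (by linarith only [key])
                        have r_2 : 1 * T.m u0 + -2 * T.m u2 + 2 * T.m u4 = 0 := by
                          have key := Groth.Agent.Helper6.NT.rowfun8 T u0 u1 u2 u3 u4 u5 u6 u7 hinj u2
                          rw [Groth.Agent.Helper6.NT.symm' T u2 u0, taq_0_2, Groth.Agent.Helper6.NT.symm' T u2 u1, z_1_2, (h2 u2).2, z_2_3, tap_2_4, z_2_5, z_2_6, z_2_7] at key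
                          exact mul_left_cancel₀ (T.w_pos u2).ne' (by linarith only [key])
                        have r_3 : 1 * T.m u1 + -2 * T.m u3 + 1 * T.m u5 = 0 := by
                          have key := Groth.Agent.Helper6.NT.rowfun8 T u0 u1 u2 u3 u4 u5 u6 u7 hinj u3
                          rw [Groth.Agent.Helper6.NT.symm' T u3 u0, z_0_3, Groth.Agent.Helper6.NT.symm' T u3 u1, taq_1_3, Groth.Agent.Helper6.NT.symm' T u3 u2, z_2_3, (h2 u3).2, z_3_4, tap_3_5, z_3_6, z_3_7] at key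
                          exact mul_left_cancel₀ (T.w_pos u3).ne' (by linarith only [key])
                        have r_4 : 1 * T.m u2 + -2 * T.m u4 = 0 := by
                          have key := Groth.Agent.Helper6.NT.rowfun8 T u0 u1 u2 u3 u4 u5 u6 u7 hinj u4
                          rw [Groth.Agent.Helper6.NT.symm' T u4 u0, z_0_4, Groth.Agent.Helper6.NT.symm' T u4 u1, z_1_4, Groth.Agent.Helper6.NT.symm' T u4 u2, taq_2_4, Groth.Agent.Helper6.NT.symm' T u4 u3, z_3_4, (h2 u4).2, z_4_5, z_4_6, z_4_7] at key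
                          exact mul_left_cancel₀ (T.w_pos u4).ne' (by linarith only [key])
                        have r_5 : 1 * T.m u3 + -2 * T.m u5 + 1 * T.m u6 = 0 := by
                          have key := Groth.Agent.Helper6.NT.rowfun8 T u0 u1 u2 u3 u4 u5 u6 u7 hinj u5
                          rw [Groth.Agent.Helper6.NT.symm' T u5 u0, z_0_5, Groth.Agent.Helper6.NT.symm' T u5 u1, z_1_5, Groth.Agent.Helper6.NT.symm' T u5 u2, z_2_5, Groth.Agent.Helper6.NT.symm' T u5 u3, taq_3_5, Groth.Agent.Helper6.NT.symm' T u5 u4, z_4_5, (h2 u5).2, tap_5_6, z_5_7] at key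
                          exact mul_left_cancel₀ (T.w_pos u5).ne' (by linarith only [key])
                        have r_6 : 1 * T.m u5 + -2 * T.m u6 + 1 * T.m u7 = 0 := by
                          have key := Groth.Agent.Helper6.NT.rowfun8 T u0 u1 u2 u3 u4 u5 u6 u7 hinj u6
                          rw [Groth.Agent.Helper6.NT.symm' T u6 u0, z_0_6, Groth.Agent.Helper6.NT.symm' T u6 u1, z_1_6, Groth.Agent.Helper6.NT.symm' T u6 u2, z_2_6, Groth.Agent.Helper6.NT.symm' T u6 u3, z_3_6, Groth.Agent.Helper6.NT.symm' T u6 u4, z_4_6, Groth.Agent.Helper6.NT.symm' T u6 u5, taq_5_6, (h2 u6).2, tap_6_7] at key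
                          exact mul_left_cancel₀ (T.w_pos u6).ne' (by linarith only [key])
                        have r_7 : 1 * T.m u6 + -2 * T.m u7 = 0 := by
                          have key := Groth.Agent.Helper6.NT.rowfun8 T u0 u1 u2 u3 u4 u5 u6 u7 hinj u7
                          rw [Groth.Agent.Helper6.NT.symm' T u7 u0, z_0_7, Groth.Agent.Helper6.NT.symm' T u7 u1, z_1_7, Groth.Agent.Helper6.NT.symm' T u7 u2, z_2_7, Groth.Agent.Helper6.NT.symm' T u7 u3, z_3_7, Groth.Agent.Helper6.NT.symm' T u7 u4, z_4_7, Groth.Agent.Helper6.NT.symm' T u7 u5, z_5_7, Groth.Agent.Helper6.NT.symm' T u7 u6, taq_6_7, (h2 u7).2] at key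
                          exact mul_left_cancel₀ (T.w_pos u7).ne' (by linarith only [key])
                        exfalso
                        linarith only [r_0, r_1, r_2, r_3, r_4, r_5, r_6, r_7, T.m_pos u0, T.m_pos u1, T.m_pos u2, T.m_pos u3, T.m_pos u4, T.m_pos u5, T.m_pos u6, T.m_pos u7]
                      · -- (6,7) Dp
                        have hinj := Groth.Agent.Helper6.NT.inj8 u0 u1 u2 u3 u4 u5 u6 u7 hn_1_0 hn_2_0 hn_2_1 hn_3_0 hn_3_1 hn_3_2 hn_4_0 hn_4_1 hn_4_2 hn_4_3 hn_5_0 hn_5_1 hn_5_2 hn_5_3 hn_5_4 hn_6_0 hn_6_1 hn_6_2 hn_6_3 hn_6_4 hn_6_5 hn_7_0 hn_7_1 hn_7_2 hn_7_3 hn_7_4 hn_7_5 hn_7_6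
                        have r_0 : -2 * T.m u0 + 1 * T.m u1 + 1 * T.m u2 = 0 := by
                          have key := Groth.Agent.Helper6.NT.rowfun8 T u0 u1 u2 u3 u4 u5 u6 u7 hinj u0
                          rw [(h2 u0).2, tap_0_1, tap_0_2, z_0_3, z_0_4, z_0_5, z_0_6, z_0_7] at key
                          exact mul_left_cancel₀ (T.w_pos u0).ne' (by linarith only [key])
                        have r_1 : 1 * T.m u0 + -2 * T.m u1 + 1 * T.m u3 = 0 := by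
                          have key := Groth.Agent.Helper6.NT.rowfun8 T u0 u1 u2 u3 u4 u5 u6 u7 hinj u1
                          rw [Groth.Agent.Helper6.NT.symm' T u1 u0, taq_0_1, (h2 u1).2, z_1_2, tap_1_3, z_1_4, z_1_5, z_1_6, z_1_7] at key
                          exact mul_left_cancel₀ (T.w_pos u1).ne' (by linarith only [key])
                        have r_2 : 1 * T.m u0 + -2 * T.m u2 + 2 * T.m u4 = 0 := by
                          have key := Groth.Agent.Helper6.NT.rowfun8 T u0 u1 u2 u3 u4 u5 u6 u7 hinj u2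
                          rw [Groth.Agent.Helper6.NT.symm' T u2 u0, taq_0_2, Groth.Agent.Helper6.NT.symm' T u2 u1, z_1_2, (h2 u2).2, z_2_3, tap_2_4, z_2_5, z_2_6, z_2_7] at key
                          exact mul_left_cancel₀ (T.w_pos u2).ne' (by linarith only [key])
                        have r_3 : 1 * T.m u1 + -2 * T.m u3 + 1 * T.m u5 = 0 := by
                          have key := Groth.Agent.Helper6.NT.rowfun8 T u0 u1 u2 u3 u4 u5 u6 u7 hinj u3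
                          rw [Groth.Agent.Helper6.NT.symm' T u3 u0, z_0_3, Groth.Agent.Helper6.NT.symm' T u3 u1, taq_1_3, Groth.Agent.Helper6.NT.symm' T u3 u2, z_2_3, (h2 u3).2, z_3_4, tap_3_5, z_3_6, z_3_7] at key
                          exact mul_left_cancel₀ (T.w_pos u3).ne' (by linarith only [key])
                        have r_4 : 1 * T.m u2 + -2 * T.m u4 = 0 := by
                          have key := Groth.Agent.Helper6.NT.rowfun8 T u0 u1 u2 u3 u4 u5 u6 u7 hinj u4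
                          rw [Groth.Agent.Helper6.NT.symm' T u4 u0, z_0_4, Groth.Agent.Helper6.NT.symm' T u4 u1, z_1_4, Groth.Agent.Helper6.NT.symm' T u4 u2, taq_2_4, Groth.Agent.Helper6.NT.symm' T u4 u3, z_3_4, (h2 u4).2, z_4_5, z_4_6, z_4_7] at key
                          exact mul_left_cancel₀ (T.w_pos u4).ne' (by linarith only [key])
                        have r_5 : 1 * T.m u3 + -2 * T.m u5 + 1 * T.m u6 = 0 := by
                          have key := Groth.Agent.Helper6.NT.rowfun8 T u0 u1 u2 u3 u4 u5 u6 u7 hinj u5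
                          rw [Groth.Agent.Helper6.NT.symm' T u5 u0, z_0_5, Groth.Agent.Helper6.NT.symm' T u5 u1, z_1_5, Groth.Agent.Helper6.NT.symm' T u5 u2, z_2_5, Groth.Agent.Helper6.NT.symm' T u5 u3, taq_3_5, Groth.Agent.Helper6.NT.symm' T u5 u4, z_4_5, (h2 u5).2, tap_5_6, z_5_7] at key
                          exact mul_left_cancel₀ (T.w_pos u5).ne' (by linarith only [key])
                        have r_6 : 1 * T.m u5 + -2 * T.m u6 + 2 * T.m u7 = 0 := by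
                          have key := Groth.Agent.Helper6.NT.rowfun8 T u0 u1 u2 u3 u4 u5 u6 u7 hinj u6
                          rw [Groth.Agent.Helper6.NT.symm' T u6 u0, z_0_6, Groth.Agent.Helper6.NT.symm' T u6 u1, z_1_6, Groth.Agent.Helper6.NT.symm' T u6 u2, z_2_6, Groth.Agent.Helper6.NT.symm' T u6 u3, z_3_6, Groth.Agent.Helper6.NT.symm' T u6 u4, z_4_6, Groth.Agent.Helper6.NT.symm' T u6 u5, taq_5_6, (h2 u6).2, tap_6_7] at key
                          exact mul_left_cancel₀ (T.w_pos u6).ne' (by linarith only [key])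
                        have r_7 : 1 * T.m u6 + -2 * T.m u7 = 0 := by
                          have key := Groth.Agent.Helper6.NT.rowfun8 T u0 u1 u2 u3 u4 u5 u6 u7 hinj u7
                          rw [Groth.Agent.Helper6.NT.symm' T u7 u0, z_0_7, Groth.Agent.Helper6.NT.symm' T u7 u1, z_1_7, Groth.Agent.Helper6.NT.symm' T u7 u2, z_2_7, Groth.Agent.Helper6.NT.symm' T u7 u3, z_3_7, Groth.Agent.Helper6.NT.symm' T u7 u4, z_4_7, Groth.Agent.Helper6.NT.symm' T u7 u5, z_5_7, Groth.Agent.Helper6.NT.symm' T u7 u6, taq_6_7, (h2 u7).2] at key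
                          exact mul_left_cancel₀ (T.w_pos u7).ne' (by linarith only [key])
                        have f0 : T.m u4 = T.m u4 := rfl
                        have f1 : T.m u2 = 2 * T.m u4 := by linarith only [r_0, r_1, r_2, r_3, r_4, r_5, r_6, r_7]
                        have f2 : T.m u0 = 2 * T.m u4 := by linarith only [r_0, r_1, r_2, r_3, r_4, r_5, r_6, r_7]
                        have f3 : T.m u1 = 2 * T.m u4 := by linarith only [r_0, r_1, r_2, r_3, r_4, r_5, r_6, r_7]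
                        have f4 : T.m u3 = 2 * T.m u4 := by linarith only [r_0, r_1, r_2, r_3, r_4, r_5, r_6, r_7]
                        have f5 : T.m u5 = 2 * T.m u4 := by linarith only [r_0, r_1, r_2, r_3, r_4, r_5, r_6, r_7]
                        have f6 : T.m u6 = 2 * T.m u4 := by linarith only [r_0, r_1, r_2, r_3, r_4, r_5, r_6, r_7]
                        have f7 : T.m u7 = T.m u4 := by linarith only [r_0, r_1, r_2, r_3, r_4, r_5, r_6, r_7]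
                        have f8 : T.w u4 = 2 * T.w u2 := by linarith only [tw_0_1, tw_0_2, tw_1_3, tw_2_4, tw_3_5, tw_5_6, tw_6_7]
                        have f9 : T.w u2 = T.w u2 := rfl
                        have f10 : T.w u0 = T.w u2 := by linarith only [tw_0_1, tw_0_2, tw_1_3, tw_2_4, tw_3_5, tw_5_6, tw_6_7]
                        have f11 : T.w u1 = T.w u2 := by linarith only [tw_0_1, tw_0_2, tw_1_3, tw_2_4, tw_3_5, tw_5_6, tw_6_7]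
                        have f12 : T.w u3 = T.w u2 := by linarith only [tw_0_1, tw_0_2, tw_1_3, tw_2_4, tw_3_5, tw_5_6, tw_6_7]
                        have f13 : T.w u5 = T.w u2 := by linarith only [tw_0_1, tw_0_2, tw_1_3, tw_2_4, tw_3_5, tw_5_6, tw_6_7]
                        have f14 : T.w u6 = T.w u2 := by linarith only [tw_0_1, tw_0_2, tw_1_3, tw_2_4, tw_3_5, tw_5_6, tw_6_7]
                        have f15 : T.w u7 = 2 * T.w u2 := by linarith only [tw_0_1, tw_0_2, tw_1_3, tw_2_4, tw_3_5, tw_5_6, tw_6_7]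
                        have f16 : T.a u4 u4 = -4 * T.w u2 := by have := (h2 u4).2; linarith only [this, tw_0_1, tw_0_2, tw_1_3, tw_2_4, tw_3_5, tw_5_6, tw_6_7]
                        have f17 : T.a u4 u2 = 2 * T.w u2 := by rw [Groth.Agent.Helper6.NT.symm' T u4 u2]; linarith only [tap_2_4, tw_0_1, tw_0_2, tw_1_3, tw_2_4, tw_3_5, tw_5_6, tw_6_7]
                        have f18 : T.a u4 u0 = 0 := by rw [Groth.Agent.Helper6.NT.symm' T u4 u0]; exact z_0_4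
                        have f19 : T.a u4 u1 = 0 := by rw [Groth.Agent.Helper6.NT.symm' T u4 u1]; exact z_1_4
                        have f20 : T.a u4 u3 = 0 := by rw [Groth.Agent.Helper6.NT.symm' T u4 u3]; exact z_3_4
                        have f21 : T.a u4 u5 = 0 := by exact z_4_5
                        have f22 : T.a u4 u6 = 0 := by exact z_4_6
                        have f23 : T.a u4 u7 = 0 := by exact z_4_7
                        have f24 : T.a u2 u2 = -2 * T.w u2 := by have := (h2 u2).2; linarith only [this, tw_0_1, tw_0_2, tw_1_3, tw_2_4, tw_3_5, tw_5_6, tw_6_7]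
                        have f25 : T.a u2 u0 = T.w u2 := by rw [Groth.Agent.Helper6.NT.symm' T u2 u0]; linarith only [tap_0_2, tw_0_1, tw_0_2, tw_1_3, tw_2_4, tw_3_5, tw_5_6, tw_6_7]
                        have f26 : T.a u2 u1 = 0 := by rw [Groth.Agent.Helper6.NT.symm' T u2 u1]; exact z_1_2
                        have f27 : T.a u2 u3 = 0 := by exact z_2_3
                        have f28 : T.a u2 u5 = 0 := by exact z_2_5
                        have f29 : T.a u2 u6 = 0 := by exact z_2_6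
                        have f30 : T.a u2 u7 = 0 := by exact z_2_7
                        have f31 : T.a u0 u0 = -2 * T.w u2 := by have := (h2 u0).2; linarith only [this, tw_0_1, tw_0_2, tw_1_3, tw_2_4, tw_3_5, tw_5_6, tw_6_7]
                        have f32 : T.a u0 u1 = T.w u2 := by linarith only [tap_0_1, tw_0_1, tw_0_2, tw_1_3, tw_2_4, tw_3_5, tw_5_6, tw_6_7]
                        have f33 : T.a u0 u3 = 0 := by exact z_0_3
                        have f34 : T.a u0 u5 = 0 := by exact z_0_5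
                        have f35 : T.a u0 u6 = 0 := by exact z_0_6
                        have f36 : T.a u0 u7 = 0 := by exact z_0_7
                        have f37 : T.a u1 u1 = -2 * T.w u2 := by have := (h2 u1).2; linarith only [this, tw_0_1, tw_0_2, tw_1_3, tw_2_4, tw_3_5, tw_5_6, tw_6_7]
                        have f38 : T.a u1 u3 = T.w u2 := by linarith only [tap_1_3, tw_0_1, tw_0_2, tw_1_3, tw_2_4, tw_3_5, tw_5_6, tw_6_7]
                        have f39 : T.a u1 u5 = 0 := by exact z_1_5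
                        have f40 : T.a u1 u6 = 0 := by exact z_1_6
                        have f41 : T.a u1 u7 = 0 := by exact z_1_7
                        have f42 : T.a u3 u3 = -2 * T.w u2 := by have := (h2 u3).2; linarith only [this, tw_0_1, tw_0_2, tw_1_3, tw_2_4, tw_3_5, tw_5_6, tw_6_7]
                        have f43 : T.a u3 u5 = T.w u2 := by linarith only [tap_3_5, tw_0_1, tw_0_2, tw_1_3, tw_2_4, tw_3_5, tw_5_6, tw_6_7]
                        have f44 : T.a u3 u6 = 0 := by exact z_3_6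
                        have f45 : T.a u3 u7 = 0 := by exact z_3_7
                        have f46 : T.a u5 u5 = -2 * T.w u2 := by have := (h2 u5).2; linarith only [this, tw_0_1, tw_0_2, tw_1_3, tw_2_4, tw_3_5, tw_5_6, tw_6_7]
                        have f47 : T.a u5 u6 = T.w u2 := by linarith only [tap_5_6, tw_0_1, tw_0_2, tw_1_3, tw_2_4, tw_3_5, tw_5_6, tw_6_7]
                        have f48 : T.a u5 u7 = 0 := by exact z_5_7
                        have f49 : T.a u6 u6 = -2 * T.w u2 := by have := (h2 u6).2; linarith only [this, tw_0_1, tw_0_2, tw_1_3, tw_2_4, tw_3_5, tw_5_6, tw_6_7]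
                        have f50 : T.a u6 u7 = 2 * T.w u2 := by linarith only [tap_6_7, tw_0_1, tw_0_2, tw_1_3, tw_2_4, tw_3_5, tw_5_6, tw_6_7]
                        have f51 : T.a u7 u7 = -4 * T.w u2 := by have := (h2 u7).2; linarith only [this, tw_0_1, tw_0_2, tw_1_3, tw_2_4, tw_3_5, tw_5_6, tw_6_7]
                        have hsig := Groth.Agent.Helper6.NT.inj8 u4 u2 u0 u1 u3 u5 u6 u7 hn_4_2.symm hn_4_0.symm hn_2_0.symm hn_4_1.symm hn_2_1.symm hn_1_0 hn_4_3.symm hn_3_2 hn_3_0 hn_3_1 hn_5_4 hn_5_2 hn_5_0 hn_5_1 hn_5_3 hn_6_4 hn_6_2 hn_6_0 hn_6_1 hn_6_3 hn_6_5 hn_7_4 hn_7_2 hn_7_0 hn_7_1 hn_7_3 hn_7_5 hn_7_6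
                        exact ⟨Equiv.ofBijective _ (Finite.injective_iff_bijective.1 hsig), T.m u4, T.w u2, Or.inr (Or.inr (Or.inr (Or.inl ⟨f0, f1, f2, f3, f4, f5, f6, f7, f8, f9, f10, f11, f12, f13, f14, f15, f16, f17, f18, f19, f20, f21, f22, f23, f24, f25, f26, f27, f28, f29, f30, f31, f32, f33, f34, f35, f36, f37, f38, f39, f40, f41, f42, f43, f44, f45, f46, f47, f48, f49, f50, f51⟩)))⟩
                      · -- (6,7) Dm
                        have hinj := Groth.Agent.Helper6.NT.inj8 u0 u1 u2 u3 u4 u5 u6 u7 hn_1_0 hn_2_0 hn_2_1 hn_3_0 hn_3_1 hn_3_2 hn_4_0 hn_4_1 hn_4_2 hn_4_3 hn_5_0 hn_5_1 hn_5_2 hn_5_3 hn_5_4 hn_6_0 hn_6_1 hn_6_2 hn_6_3 hn_6_4 hn_6_5 hn_7_0 hn_7_1 hn_7_2 hn_7_3 hn_7_4 hn_7_5 hn_7_6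
                        have r_0 : -2 * T.m u0 + 1 * T.m u1 + 1 * T.m u2 = 0 := by
                          have key := Groth.Agent.Helper6.NT.rowfun8 T u0 u1 u2 u3 u4 u5 u6 u7 hinj u0
                          rw [(h2 u0).2, tap_0_1, tap_0_2, z_0_3, z_0_4, z_0_5, z_0_6, z_0_7] at key
                          exact mul_left_cancel₀ (T.w_pos u0).ne' (by linarith only [key])
                        have r_1 : 1 * T.m u0 + -2 * T.m u1 + 1 * T.m u3 = 0 := by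
                          have key := Groth.Agent.Helper6.NT.rowfun8 T u0 u1 u2 u3 u4 u5 u6 u7 hinj u1
                          rw [Groth.Agent.Helper6.NT.symm' T u1 u0, taq_0_1, (h2 u1).2, z_1_2, tap_1_3, z_1_4, z_1_5, z_1_6, z_1_7] at key
                          exact mul_left_cancel₀ (T.w_pos u1).ne' (by linarith only [key])
                        have r_2 : 1 * T.m u0 + -2 * T.m u2 + 2 * T.m u4 = 0 := by
                          have key := Groth.Agent.Helper6.NT.rowfun8 T u0 u1 u2 u3 u4 u5 u6 u7 hinj u2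
                          rw [Groth.Agent.Helper6.NT.symm' T u2 u0, taq_0_2, Groth.Agent.Helper6.NT.symm' T u2 u1, z_1_2, (h2 u2).2, z_2_3, tap_2_4, z_2_5, z_2_6, z_2_7] at key
                          exact mul_left_cancel₀ (T.w_pos u2).ne' (by linarith only [key])
                        have r_3 : 1 * T.m u1 + -2 * T.m u3 + 1 * T.m u5 = 0 := by
                          have key := Groth.Agent.Helper6.NT.rowfun8 T u0 u1 u2 u3 u4 u5 u6 u7 hinj u3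
                          rw [Groth.Agent.Helper6.NT.symm' T u3 u0, z_0_3, Groth.Agent.Helper6.NT.symm' T u3 u1, taq_1_3, Groth.Agent.Helper6.NT.symm' T u3 u2, z_2_3, (h2 u3).2, z_3_4, tap_3_5, z_3_6, z_3_7] at key
                          exact mul_left_cancel₀ (T.w_pos u3).ne' (by linarith only [key])
                        have r_4 : 1 * T.m u2 + -2 * T.m u4 = 0 := by
                          have key := Groth.Agent.Helper6.NT.rowfun8 T u0 u1 u2 u3 u4 u5 u6 u7 hinj u4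
                          rw [Groth.Agent.Helper6.NT.symm' T u4 u0, z_0_4, Groth.Agent.Helper6.NT.symm' T u4 u1, z_1_4, Groth.Agent.Helper6.NT.symm' T u4 u2, taq_2_4, Groth.Agent.Helper6.NT.symm' T u4 u3, z_3_4, (h2 u4).2, z_4_5, z_4_6, z_4_7] at key
                          exact mul_left_cancel₀ (T.w_pos u4).ne' (by linarith only [key])
                        have r_5 : 1 * T.m u3 + -2 * T.m u5 + 1 * T.m u6 = 0 := by
                          have key := Groth.Agent.Helper6.NT.rowfun8 T u0 u1 u2 u3 u4 u5 u6 u7 hinj u5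
                          rw [Groth.Agent.Helper6.NT.symm' T u5 u0, z_0_5, Groth.Agent.Helper6.NT.symm' T u5 u1, z_1_5, Groth.Agent.Helper6.NT.symm' T u5 u2, z_2_5, Groth.Agent.Helper6.NT.symm' T u5 u3, taq_3_5, Groth.Agent.Helper6.NT.symm' T u5 u4, z_4_5, (h2 u5).2, tap_5_6, z_5_7] at key
                          exact mul_left_cancel₀ (T.w_pos u5).ne' (by linarith only [key])
                        have r_6 : 1 * T.m u5 + -2 * T.m u6 + 1 * T.m u7 = 0 := by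
                          have key := Groth.Agent.Helper6.NT.rowfun8 T u0 u1 u2 u3 u4 u5 u6 u7 hinj u6
                          rw [Groth.Agent.Helper6.NT.symm' T u6 u0, z_0_6, Groth.Agent.Helper6.NT.symm' T u6 u1, z_1_6, Groth.Agent.Helper6.NT.symm' T u6 u2, z_2_6, Groth.Agent.Helper6.NT.symm' T u6 u3, z_3_6, Groth.Agent.Helper6.NT.symm' T u6 u4, z_4_6, Groth.Agent.Helper6.NT.symm' T u6 u5, taq_5_6, (h2 u6).2, tap_6_7] at key
                          exact mul_left_cancel₀ (T.w_pos u6).ne' (by linarith only [key])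
                        have r_7 : 2 * T.m u6 + -2 * T.m u7 = 0 := by
                          have key := Groth.Agent.Helper6.NT.rowfun8 T u0 u1 u2 u3 u4 u5 u6 u7 hinj u7
                          rw [Groth.Agent.Helper6.NT.symm' T u7 u0, z_0_7, Groth.Agent.Helper6.NT.symm' T u7 u1, z_1_7, Groth.Agent.Helper6.NT.symm' T u7 u2, z_2_7, Groth.Agent.Helper6.NT.symm' T u7 u3, z_3_7, Groth.Agent.Helper6.NT.symm' T u7 u4, z_4_7, Groth.Agent.Helper6.NT.symm' T u7 u5, z_5_7, Groth.Agent.Helper6.NT.symm' T u7 u6, taq_6_7, (h2 u7).2] at key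
                          exact mul_left_cancel₀ (T.w_pos u7).ne' (by linarith only [key])
                        have f0 : T.m u7 = 2 * T.m u4 := by linarith only [r_0, r_1, r_2, r_3, r_4, r_5, r_6, r_7]
                        have f1 : T.m u6 = 2 * T.m u4 := by linarith only [r_0, r_1, r_2, r_3, r_4, r_5, r_6, r_7]
                        have f2 : T.m u5 = 2 * T.m u4 := by linarith only [r_0, r_1, r_2, r_3, r_4, r_5, r_6, r_7]
                        have f3 : T.m u3 = 2 * T.m u4 := by linarith only [r_0, r_1, r_2, r_3, r_4, r_5, r_6, r_7]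
                        have f4 : T.m u1 = 2 * T.m u4 := by linarith only [r_0, r_1, r_2, r_3, r_4, r_5, r_6, r_7]
                        have f5 : T.m u0 = 2 * T.m u4 := by linarith only [r_0, r_1, r_2, r_3, r_4, r_5, r_6, r_7]
                        have f6 : T.m u2 = 2 * T.m u4 := by linarith only [r_0, r_1, r_2, r_3, r_4, r_5, r_6, r_7]
                        have f7 : T.m u4 = T.m u4 := rfl
                        have f8 : T.w u7 = T.w u7 := rfl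
                        have f9 : T.w u6 = 2 * T.w u7 := by linarith only [tw_0_1, tw_0_2, tw_1_3, tw_2_4, tw_3_5, tw_5_6, tw_6_7]
                        have f10 : T.w u5 = 2 * T.w u7 := by linarith only [tw_0_1, tw_0_2, tw_1_3, tw_2_4, tw_3_5, tw_5_6, tw_6_7]
                        have f11 : T.w u3 = 2 * T.w u7 := by linarith only [tw_0_1, tw_0_2, tw_1_3, tw_2_4, tw_3_5, tw_5_6, tw_6_7]
                        have f12 : T.w u1 = 2 * T.w u7 := by linarith only [tw_0_1, tw_0_2, tw_1_3, tw_2_4, tw_3_5, tw_5_6, tw_6_7]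
                        have f13 : T.w u0 = 2 * T.w u7 := by linarith only [tw_0_1, tw_0_2, tw_1_3, tw_2_4, tw_3_5, tw_5_6, tw_6_7]
                        have f14 : T.w u2 = 2 * T.w u7 := by linarith only [tw_0_1, tw_0_2, tw_1_3, tw_2_4, tw_3_5, tw_5_6, tw_6_7]
                        have f15 : T.w u4 = 4 * T.w u7 := by linarith only [tw_0_1, tw_0_2, tw_1_3, tw_2_4, tw_3_5, tw_5_6, tw_6_7]
                        have f16 : T.a u7 u7 = -2 * T.w u7 := by have := (h2 u7).2; linarith only [this, tw_0_1, tw_0_2, tw_1_3, tw_2_4, tw_3_5, tw_5_6, tw_6_7]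
                        have f17 : T.a u7 u6 = 2 * T.w u7 := by rw [Groth.Agent.Helper6.NT.symm' T u7 u6]; linarith only [tap_6_7, tw_0_1, tw_0_2, tw_1_3, tw_2_4, tw_3_5, tw_5_6, tw_6_7]
                        have f18 : T.a u7 u5 = 0 := by rw [Groth.Agent.Helper6.NT.symm' T u7 u5]; exact z_5_7
                        have f19 : T.a u7 u3 = 0 := by rw [Groth.Agent.Helper6.NT.symm' T u7 u3]; exact z_3_7
                        have f20 : T.a u7 u1 = 0 := by rw [Groth.Agent.Helper6.NT.symm' T u7 u1]; exact z_1_7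
                        have f21 : T.a u7 u0 = 0 := by rw [Groth.Agent.Helper6.NT.symm' T u7 u0]; exact z_0_7
                        have f22 : T.a u7 u2 = 0 := by rw [Groth.Agent.Helper6.NT.symm' T u7 u2]; exact z_2_7
                        have f23 : T.a u7 u4 = 0 := by rw [Groth.Agent.Helper6.NT.symm' T u7 u4]; exact z_4_7
                        have f24 : T.a u6 u6 = -4 * T.w u7 := by have := (h2 u6).2; linarith only [this, tw_0_1, tw_0_2, tw_1_3, tw_2_4, tw_3_5, tw_5_6, tw_6_7]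
                        have f25 : T.a u6 u5 = 2 * T.w u7 := by rw [Groth.Agent.Helper6.NT.symm' T u6 u5]; linarith only [tap_5_6, tw_0_1, tw_0_2, tw_1_3, tw_2_4, tw_3_5, tw_5_6, tw_6_7]
                        have f26 : T.a u6 u3 = 0 := by rw [Groth.Agent.Helper6.NT.symm' T u6 u3]; exact z_3_6
                        have f27 : T.a u6 u1 = 0 := by rw [Groth.Agent.Helper6.NT.symm' T u6 u1]; exact z_1_6
                        have f28 : T.a u6 u0 = 0 := by rw [Groth.Agent.Helper6.NT.symm' T u6 u0]; exact z_0_6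
                        have f29 : T.a u6 u2 = 0 := by rw [Groth.Agent.Helper6.NT.symm' T u6 u2]; exact z_2_6
                        have f30 : T.a u6 u4 = 0 := by rw [Groth.Agent.Helper6.NT.symm' T u6 u4]; exact z_4_6
                        have f31 : T.a u5 u5 = -4 * T.w u7 := by have := (h2 u5).2; linarith only [this, tw_0_1, tw_0_2, tw_1_3, tw_2_4, tw_3_5, tw_5_6, tw_6_7]
                        have f32 : T.a u5 u3 = 2 * T.w u7 := by rw [Groth.Agent.Helper6.NT.symm' T u5 u3]; linarith only [tap_3_5, tw_0_1, tw_0_2, tw_1_3, tw_2_4, tw_3_5, tw_5_6, tw_6_7]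
                        have f33 : T.a u5 u1 = 0 := by rw [Groth.Agent.Helper6.NT.symm' T u5 u1]; exact z_1_5
                        have f34 : T.a u5 u0 = 0 := by rw [Groth.Agent.Helper6.NT.symm' T u5 u0]; exact z_0_5
                        have f35 : T.a u5 u2 = 0 := by rw [Groth.Agent.Helper6.NT.symm' T u5 u2]; exact z_2_5
                        have f36 : T.a u5 u4 = 0 := by rw [Groth.Agent.Helper6.NT.symm' T u5 u4]; exact z_4_5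
                        have f37 : T.a u3 u3 = -4 * T.w u7 := by have := (h2 u3).2; linarith only [this, tw_0_1, tw_0_2, tw_1_3, tw_2_4, tw_3_5, tw_5_6, tw_6_7]
                        have f38 : T.a u3 u1 = 2 * T.w u7 := by rw [Groth.Agent.Helper6.NT.symm' T u3 u1]; linarith only [tap_1_3, tw_0_1, tw_0_2, tw_1_3, tw_2_4, tw_3_5, tw_5_6, tw_6_7]
                        have f39 : T.a u3 u0 = 0 := by rw [Groth.Agent.Helper6.NT.symm' T u3 u0]; exact z_0_3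
                        have f40 : T.a u3 u2 = 0 := by rw [Groth.Agent.Helper6.NT.symm' T u3 u2]; exact z_2_3
                        have f41 : T.a u3 u4 = 0 := by exact z_3_4
                        have f42 : T.a u1 u1 = -4 * T.w u7 := by have := (h2 u1).2; linarith only [this, tw_0_1, tw_0_2, tw_1_3, tw_2_4, tw_3_5, tw_5_6, tw_6_7]
                        have f43 : T.a u1 u0 = 2 * T.w u7 := by rw [Groth.Agent.Helper6.NT.symm' T u1 u0]; linarith only [tap_0_1, tw_0_1, tw_0_2, tw_1_3, tw_2_4, tw_3_5, tw_5_6, tw_6_7]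
                        have f44 : T.a u1 u2 = 0 := by exact z_1_2
                        have f45 : T.a u1 u4 = 0 := by exact z_1_4
                        have f46 : T.a u0 u0 = -4 * T.w u7 := by have := (h2 u0).2; linarith only [this, tw_0_1, tw_0_2, tw_1_3, tw_2_4, tw_3_5, tw_5_6, tw_6_7]
                        have f47 : T.a u0 u2 = 2 * T.w u7 := by linarith only [tap_0_2, tw_0_1, tw_0_2, tw_1_3, tw_2_4, tw_3_5, tw_5_6, tw_6_7]
                        have f48 : T.a u0 u4 = 0 := by exact z_0_4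
                        have f49 : T.a u2 u2 = -4 * T.w u7 := by have := (h2 u2).2; linarith only [this, tw_0_1, tw_0_2, tw_1_3, tw_2_4, tw_3_5, tw_5_6, tw_6_7]
                        have f50 : T.a u2 u4 = 4 * T.w u7 := by linarith only [tap_2_4, tw_0_1, tw_0_2, tw_1_3, tw_2_4, tw_3_5, tw_5_6, tw_6_7]
                        have f51 : T.a u4 u4 = -8 * T.w u7 := by have := (h2 u4).2; linarith only [this, tw_0_1, tw_0_2, tw_1_3, tw_2_4, tw_3_5, tw_5_6, tw_6_7]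
                        have hsig := Groth.Agent.Helper6.NT.inj8 u7 u6 u5 u3 u1 u0 u2 u4 hn_7_6.symm hn_7_5.symm hn_6_5.symm hn_7_3.symm hn_6_3.symm hn_5_3.symm hn_7_1.symm hn_6_1.symm hn_5_1.symm hn_3_1.symm hn_7_0.symm hn_6_0.symm hn_5_0.symm hn_3_0.symm hn_1_0.symm hn_7_2.symm hn_6_2.symm hn_5_2.symm hn_3_2.symm hn_2_1 hn_2_0 hn_7_4.symm hn_6_4.symm hn_5_4.symm hn_4_3 hn_4_1 hn_4_0 hn_4_2
                        exact ⟨Equiv.ofBijective _ (Finite.injective_iff_bijective.1 hsig), T.m u4, T.w u7, Or.inr (Or.inl ⟨f0, f1, f2, f3, f4, f5, f6, f7, f8, f9, f10, f11, f12, f13, f14, f15, f16, f17, f18, f19, f20, f21, f22, f23, f24, f25, f26, f27, f28, f29, f30, f31, f32, f33, f34, f35, f36, f37, f38, f39, f40, f41, f42, f43, f44, f45, f46, f47, f48, f49, f50, f51⟩)⟩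
                      · -- (6,7) Tp
                        exfalso
                        have key := Groth.Agent.Helper6.NT.negfun3 T h2 u5 u6 u7 (by norm_num) 1 2 1 (by norm_num) (by norm_num)
                        linarith only [key, tap_5_6, taq_5_6, z_5_7, tap_6_7, taq_6_7, T.w_pos u5, T.w_pos u6, T.w_pos u7]
                      · -- (6,7) Tm
                        exfalso
                        have key := Groth.Agent.Helper6.NT.negfun3 T h2 u5 u6 u7 (by norm_num) 1 2 3 (by norm_num) (by norm_num)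
                        linarith only [key, tap_5_6, taq_5_6, z_5_7, tap_6_7, taq_6_7, T.w_pos u5, T.w_pos u6, T.w_pos u7]
                    · push Not at hx
                      have cl_6 := hx
                      clear hx
                      exfalso
                      refine Groth.Agent.Helper6.NT.closed_contra T [u0, u1, u2, u3, u4, u5, u6] (by simp) (by simp) ?_
                      intro i hi j hj
                      simp only [List.mem_cons, List.not_mem_nil, or_false, not_or] at hi hj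
                      rcases hi with rfl | rfl | rfl | rfl | rfl | rfl | rfl
                      · exact cl_0 j ⟨hj.1, hj.2.1, hj.2.2.1⟩
                      · exact cl_1 j ⟨hj.1, hj.2.1, hj.2.2.1, hj.2.2.2.1⟩
                      · exact cl_2 j ⟨hj.1, hj.2.1, hj.2.2.1, hj.2.2.2.1, hj.2.2.2.2.1⟩
                      · exact cl_3 j ⟨hj.1, hj.2.1, hj.2.2.1, hj.2.2.2.1, hj.2.2.2.2.1, hj.2.2.2.2.2.1⟩
                      · exact cl_4 j ⟨hj.1, hj.2.1, hj.2.2.1, hj.2.2.2.1, hj.2.2.2.2.1, hj.2.2.2.2.2.1⟩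
                      · exact cl_5 j ⟨hj.1, hj.2.1, hj.2.2.1, hj.2.2.2.1, hj.2.2.2.2.1, hj.2.2.2.2.2.1, hj.2.2.2.2.2.2⟩
                      · exact cl_6 j ⟨hj.1, hj.2.1, hj.2.2.1, hj.2.2.2.1, hj.2.2.2.2.1, hj.2.2.2.2.2.1, hj.2.2.2.2.2.2⟩
                · -- (5,6) Dp
                  exfalso
                  have key := Groth.Agent.Helper6.NT.negfun7 T h2 u0 u1 u2 u3 u4 u5 u6 (by norm_num) 2 2 2 2 1 2 1 (by norm_num) (by norm_num)
                  linarith only [key, tap_0_1, taq_0_1, tap_0_2, taq_0_2, z_0_3, z_0_4, z_0_5, z_0_6, z_1_2, tap_1_3, taq_1_3, z_1_4, z_1_5, z_1_6, z_2_3, tap_2_4, taq_2_4, z_2_5, z_2_6, z_3_4, tap_3_5, taq_3_5, z_3_6, z_4_5, z_4_6, tap_5_6, taq_5_6, T.w_pos u0, T.w_pos u1, T.w_pos u2, T.w_pos u3, T.w_pos u4, T.w_pos u5, T.w_pos u6]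
                · -- (5,6) Dm
                  exfalso
                  have key := Groth.Agent.Helper6.NT.negfun7 T h2 u0 u1 u2 u3 u4 u5 u6 (by norm_num) 2 2 2 2 1 2 2 (by norm_num) (by norm_num)
                  linarith only [key, tap_0_1, taq_0_1, tap_0_2, taq_0_2, z_0_3, z_0_4, z_0_5, z_0_6, z_1_2, tap_1_3, taq_1_3, z_1_4, z_1_5, z_1_6, z_2_3, tap_2_4, taq_2_4, z_2_5, z_2_6, z_3_4, tap_3_5, taq_3_5, z_3_6, z_4_5, z_4_6, tap_5_6, taq_5_6, T.w_pos u0, T.w_pos u1, T.w_pos u2, T.w_pos u3, T.w_pos u4, T.w_pos u5, T.w_pos u6]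
                · -- (5,6) Tp
                  exfalso
                  have key := Groth.Agent.Helper6.NT.negfun3 T h2 u3 u5 u6 (by norm_num) 1 2 1 (by norm_num) (by norm_num)
                  linarith only [key, tap_3_5, taq_3_5, z_3_6, tap_5_6, taq_5_6, T.w_pos u3, T.w_pos u5, T.w_pos u6]
                · -- (5,6) Tm
                  exfalso
                  have key := Groth.Agent.Helper6.NT.negfun3 T h2 u3 u5 u6 (by norm_num) 1 2 3 (by norm_num) (by norm_num)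
                  linarith only [key, tap_3_5, taq_3_5, z_3_6, tap_5_6, taq_5_6, T.w_pos u3, T.w_pos u5, T.w_pos u6]
              · push Not at hx
                have cl_5 := hx
                clear hx
                exfalso
                refine Groth.Agent.Helper6.NT.closed_contra T [u0, u1, u2, u3, u4, u5] (by simp) (by simp) ?_
                intro i hi j hj
                simp only [List.mem_cons, List.not_mem_nil, or_false, not_or] at hi hj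
                rcases hi with rfl | rfl | rfl | rfl | rfl | rfl
                · exact cl_0 j ⟨hj.1, hj.2.1, hj.2.2.1⟩
                · exact cl_1 j ⟨hj.1, hj.2.1, hj.2.2.1, hj.2.2.2.1⟩
                · exact cl_2 j ⟨hj.1, hj.2.1, hj.2.2.1, hj.2.2.2.1, hj.2.2.2.2.1⟩
                · exact cl_3 j ⟨hj.1, hj.2.1, hj.2.2.1, hj.2.2.2.1, hj.2.2.2.2.1, hj.2.2.2.2.2⟩
                · exact cl_4 j ⟨hj.1, hj.2.1, hj.2.2.1, hj.2.2.2.1, hj.2.2.2.2.1, hj.2.2.2.2.2⟩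
                · exact cl_5 j ⟨hj.1, hj.2.1, hj.2.2.1, hj.2.2.2.1, hj.2.2.2.2.1, hj.2.2.2.2.2⟩
        · -- (4,5) nonzero
          obtain ⟨lbp_4_5, lbq_4_5⟩ := Groth.Agent.Helper6.NT.lb T u4 u5 hn_5_4.symm nz_4_5
          exfalso
          have key := Groth.Agent.Helper6.NT.negfun5 T h2 u0 u2 u3 u4 u5 (by norm_num) 2 4 1 3 2 (by norm_num) (by norm_num)
          linarith only [key, tap_0_2, taq_0_2, z_0_3, z_0_4, z_0_5, z_2_3, tap_2_4, taq_2_4, z_2_5, z_3_4, tap_3_5, taq_3_5, lbp_4_5, lbq_4_5, T.w_pos u0, T.w_pos u2, T.w_pos u3, T.w_pos u4, T.w_pos u5]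
      · -- (3,5) Dp
        exfalso
        have key := Groth.Agent.Helper6.NT.negfun6 T h2 u0 u1 u2 u3 u4 u5 (by norm_num) 2 2 2 2 1 1 (by norm_num) (by norm_num)
        linarith only [key, tap_0_1, taq_0_1, tap_0_2, taq_0_2, z_0_3, z_0_4, z_0_5, z_1_2, tap_1_3, taq_1_3, z_1_4, z_1_5, z_2_3, tap_2_4, taq_2_4, z_2_5, z_3_4, tap_3_5, taq_3_5, T.offDiag_nonneg u4 u5 hn_5_4.symm, T.w_pos u0, T.w_pos u1, T.w_pos u2, T.w_pos u3, T.w_pos u4, T.w_pos u5]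
      · -- (3,5) Dm
        exfalso
        have key := Groth.Agent.Helper6.NT.negfun6 T h2 u0 u1 u2 u3 u4 u5 (by norm_num) 2 2 2 2 1 2 (by norm_num) (by norm_num)
        linarith only [key, tap_0_1, taq_0_1, tap_0_2, taq_0_2, z_0_3, z_0_4, z_0_5, z_1_2, tap_1_3, taq_1_3, z_1_4, z_1_5, z_2_3, tap_2_4, taq_2_4, z_2_5, z_3_4, tap_3_5, taq_3_5, T.offDiag_nonneg u4 u5 hn_5_4.symm, T.w_pos u0, T.w_pos u1, T.w_pos u2, T.w_pos u3, T.w_pos u4, T.w_pos u5]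
      · -- (3,5) Tp
        exfalso
        have key := Groth.Agent.Helper6.NT.negfun3 T h2 u1 u3 u5 (by norm_num) 1 2 1 (by norm_num) (by norm_num)
        linarith only [key, tap_1_3, taq_1_3, z_1_5, tap_3_5, taq_3_5, T.w_pos u1, T.w_pos u3, T.w_pos u5]
      · -- (3,5) Tm
        exfalso
        have key := Groth.Agent.Helper6.NT.negfun3 T h2 u1 u3 u5 (by norm_num) 1 2 3 (by norm_num) (by norm_num)
        linarith only [key, tap_1_3, taq_1_3, z_1_5, tap_3_5, taq_3_5, T.w_pos u1, T.w_pos u3, T.w_pos u5]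
    · push Not at hx
      have cl_3 := hx
      clear hx
      by_cases hx : ∃ j, (j ≠ u0 ∧ j ≠ u1 ∧ j ≠ u2 ∧ j ≠ u3 ∧ j ≠ u4) ∧ T.a u4 j ≠ 0
      · obtain ⟨u5, ⟨hn_5_0, hn_5_1, hn_5_2, hn_5_3, hn_5_4⟩, e_4_5⟩ := hx
        have z_0_5 : T.a u0 u5 = 0 := cl_0 u5 ⟨hn_5_0, hn_5_1, hn_5_2⟩
        have z_1_5 : T.a u1 u5 = 0 := cl_1 u5 ⟨hn_5_0, hn_5_1, hn_5_2, hn_5_3⟩
        have z_2_5 : T.a u2 u5 = 0 := cl_2 u5 ⟨hn_5_0, hn_5_1, hn_5_2, hn_5_3, hn_5_4⟩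
        have z_3_5 : T.a u3 u5 = 0 := cl_3 u5 ⟨hn_5_0, hn_5_1, hn_5_2, hn_5_3, hn_5_4⟩
        rcases Groth.Agent.Helper6.NT.edge5 T h2 (by norm_num) u4 u5 hn_5_4.symm e_4_5 with ⟨tw_4_5, tap_4_5, taq_4_5⟩ | ⟨tw_4_5, tap_4_5, taq_4_5⟩ | ⟨tw_4_5, tap_4_5, taq_4_5⟩ | ⟨tw_4_5, tap_4_5, taq_4_5⟩ | ⟨tw_4_5, tap_4_5, taq_4_5⟩
        · -- (4,5) S
          exfalso
          have key := Groth.Agent.Helper6.NT.negfun5 T h2 u0 u1 u2 u4 u5 (by norm_num) 2 1 3 2 1 (by norm_num) (by norm_num)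
          linarith only [key, tap_0_1, taq_0_1, tap_0_2, taq_0_2, z_0_4, z_0_5, z_1_2, z_1_4, z_1_5, tap_2_4, taq_2_4, z_2_5, tap_4_5, taq_4_5, T.w_pos u0, T.w_pos u1, T.w_pos u2, T.w_pos u4, T.w_pos u5]
        · -- (4,5) Dp
          exfalso
          have key := Groth.Agent.Helper6.NT.negfun3 T h2 u2 u4 u5 (by norm_num) 2 2 1 (by norm_num) (by norm_num)
          linarith only [key, tap_2_4, taq_2_4, z_2_5, tap_4_5, taq_4_5, T.w_pos u2, T.w_pos u4, T.w_pos u5]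
        · -- (4,5) Dm
          exfalso
          have key := Groth.Agent.Helper6.NT.negfun3 T h2 u2 u4 u5 (by norm_num) 1 1 1 (by norm_num) (by norm_num)
          linarith only [key, tap_2_4, taq_2_4, z_2_5, tap_4_5, taq_4_5, T.w_pos u2, T.w_pos u4, T.w_pos u5]
        · -- (4,5) Tp
          exfalso
          have key := Groth.Agent.Helper6.NT.negfun3 T h2 u2 u4 u5 (by norm_num) 2 2 1 (by norm_num) (by norm_num)
          linarith only [key, tap_2_4, taq_2_4, z_2_5, tap_4_5, taq_4_5, T.w_pos u2, T.w_pos u4, T.w_pos u5]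
        · -- (4,5) Tm
          exfalso
          have key := Groth.Agent.Helper6.NT.negfun3 T h2 u2 u4 u5 (by norm_num) 2 2 3 (by norm_num) (by norm_num)
          linarith only [key, tap_2_4, taq_2_4, z_2_5, tap_4_5, taq_4_5, T.w_pos u2, T.w_pos u4, T.w_pos u5]
      · push Not at hx
        have cl_4 := hx
        clear hx
        exfalso
        refine Groth.Agent.Helper6.NT.closed_contra T [u0, u1, u2, u3, u4] (by simp) (by simp) ?_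
        intro i hi j hj
        simp only [List.mem_cons, List.not_mem_nil, or_false, not_or] at hi hj
        rcases hi with rfl | rfl | rfl | rfl | rfl
        · exact cl_0 j ⟨hj.1, hj.2.1, hj.2.2.1⟩
        · exact cl_1 j ⟨hj.1, hj.2.1, hj.2.2.1, hj.2.2.2.1⟩
        · exact cl_2 j ⟨hj.1, hj.2.1, hj.2.2.1, hj.2.2.2.1, hj.2.2.2.2⟩
        · exact cl_3 j ⟨hj.1, hj.2.1, hj.2.2.1, hj.2.2.2.1, hj.2.2.2.2⟩
        · exact cl_4 j ⟨hj.1, hj.2.1, hj.2.2.1, hj.2.2.2.1, hj.2.2.2.2⟩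

theorem cut8_8 (T : Models.NumericalType 8) (h2 : ∀ i, T.IsMinusTwo i) (u0 u1 u2 u3 u4 : Fin 8)
    (hn_1_0 : u1 ≠ u0)
    (e_0_1 : T.a u0 u1 ≠ 0)
    (tw_0_1 : T.w u1 = T.w u0)
    (tap_0_1 : T.a u0 u1 = T.w u0)
    (taq_0_1 : T.a u0 u1 = T.w u1)
    (hn_2_0 : u2 ≠ u0)
    (hn_2_1 : u2 ≠ u1)
    (e_0_2 : T.a u0 u2 ≠ 0)
    (tw_0_2 : T.w u2 = T.w u0)
    (tap_0_2 : T.a u0 u2 = T.w u0)
    (taq_0_2 : T.a u0 u2 = T.w u2)
    (z_1_2 : T.a u1 u2 = 0)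
    (cl_0 : ∀ j : Fin 8, (j ≠ u0 ∧ j ≠ u1 ∧ j ≠ u2) → T.a u0 j = 0)
    (hn_3_0 : u3 ≠ u0)
    (hn_3_1 : u3 ≠ u1)
    (hn_3_2 : u3 ≠ u2)
    (e_1_3 : T.a u1 u3 ≠ 0)
    (z_0_3 : T.a u0 u3 = 0)
    (tw_1_3 : T.w u3 = T.w u1)
    (tap_1_3 : T.a u1 u3 = T.w u1)
    (taq_1_3 : T.a u1 u3 = T.w u3)
    (z_2_3 : T.a u2 u3 = 0)
    (cl_1 : ∀ j : Fin 8, (j ≠ u0 ∧ j ≠ u1 ∧ j ≠ u2 ∧ j ≠ u3) → T.a u1 j = 0)
    (hn_4_0 : u4 ≠ u0)
    (hn_4_1 : u4 ≠ u1)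
    (hn_4_2 : u4 ≠ u2)
    (hn_4_3 : u4 ≠ u3)
    (e_2_4 : T.a u2 u4 ≠ 0)
    (z_0_4 : T.a u0 u4 = 0)
    (z_1_4 : T.a u1 u4 = 0)
    (tw_2_4 : T.w u2 = 2 * T.w u4)
    (tap_2_4 : T.a u2 u4 = T.w u2)
    (taq_2_4 : T.a u2 u4 = 2 * T.w u4)
    (z_3_4 : T.a u3 u4 = 0) :
    ∃ (σ : Equiv.Perm (Fin 8)) (m w : ℤ), ((T.m (σ 0) = m ∧ T.m (σ 1) = m ∧ T.m (σ 2) = m ∧ T.m (σ 3) = m ∧ T.m (σ 4) = m ∧ T.m (σ 5) = m ∧ T.m (σ 6) = m ∧ T.m (σ 7) = m ∧ T.w (σ 0) = w ∧ T.w (σ 1) = w ∧ T.w (σ 2) = w ∧ T.w (σ 3) = w ∧ T.w (σ 4) = w ∧ T.w (σ 5) = w ∧ T.w (σ 6) = w ∧ T.w (σ 7) = w ∧ T.a (σ 0) (σ 0) = -2 * w ∧ T.a (σ 0) (σ 1) = w ∧ T.a (σ 0) (σ 2) = 0 ∧ T.a (σ 0) (σ 3) = 0 ∧ T.a (σ 0) (σ 4) = 0 ∧ T.a (σ 0) (σ 5) = 0 ∧ T.a (σ 0) (σ 6) = 0 ∧ T.a (σ 0) (σ 7) = w ∧ T.a (σ 1) (σ 1) = -2 * w ∧ T.a (σ 1) (σ 2) = w ∧ T.a (σ 1) (σ 3) = 0 ∧ T.a (σ 1) (σ 4) = 0 ∧ T.a (σ 1) (σ 5) = 0 ∧ T.a (σ 1) (σ 6)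 = 0 ∧ T.a (σ 1) (σ 7) = 0 ∧ T.a (σ 2) (σ 2) = -2 * w ∧ T.a (σ 2) (σ 3) = w ∧ T.a (σ 2) (σ 4) = 0 ∧ T.a (σ 2) (σ 5) = 0 ∧ T.a (σ 2) (σ 6) = 0 ∧ T.a (σ 2) (σ 7) = 0 ∧ T.a (σ 3) (σ 3) = -2 * w ∧ T.a (σ 3) (σ 4) = w ∧ T.a (σ 3) (σ 5) = 0 ∧ T.a (σ 3) (σ 6) = 0 ∧ T.a (σ 3) (σ 7) = 0 ∧ T.a (σ 4) (σ 4) = -2 * w ∧ T.a (σ 4) (σ 5) = w ∧ T.a (σ 4) (σ 6) = 0 ∧ T.a (σ 4) (σ 7) = 0 ∧ T.a (σ 5) (σ 5) = -2 * w ∧ T.a (σ 5) (σ 6) = w ∧ T.a (σ 5) (σ 7) = 0 ∧ T.a (σ 6) (σ 6) = -2 * w ∧ T.a (σ 6) (σ 7) = w ∧ T.a (σ 7) (σ 7) = -2 * w) ∨ (T.m (σ 0) = 2 * m ∧ T.m (σ 1) = 2 * m ∧ T.m (σ 2) = 2 * m ∧ T.m (σ 3) = 2 * m ∧ T.m (σ 4) = 2 * m ∧ T.m (σ 5) = 2 * m ∧ T.m (σ 6) = 2 * m ∧ T.m (σ 7) = m ∧ T.w (σ 0) = w ∧ T.w (σ 1) = 2 * w ∧ T.w (σ 2) = 2 * w ∧ T.w (σ 3) = 2 * w ∧ T.w (σ 4) = 2 * w ∧ T.w (σ 5) = 2 * w ∧ T.w (σ 6) = 2 * w ∧ T.w (σ 7) = 4 * w ∧ T.a (σ 0) (σ 0) = -2 * w ∧ T.a (σ 0) (σ 1) =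 2 * w ∧ T.a (σ 0) (σ 2) = 0 ∧ T.a (σ 0) (σ 3) = 0 ∧ T.a (σ 0) (σ 4) = 0 ∧ T.a (σ 0) (σ 5) = 0 ∧ T.a (σ 0) (σ 6) = 0 ∧ T.a (σ 0) (σ 7) = 0 ∧ T.a (σ 1) (σ 1) = -4 * w ∧ T.a (σ 1) (σ 2) = 2 * w ∧ T.a (σ 1) (σ 3) = 0 ∧ T.a (σ 1) (σ 4) = 0 ∧ T.a (σ 1) (σ 5) = 0 ∧ T.a (σ 1) (σ 6) = 0 ∧ T.a (σ 1) (σ 7) = 0 ∧ T.a (σ 2) (σ 2) = -4 * w ∧ T.a (σ 2) (σ 3) = 2 * w ∧ T.a (σ 2) (σ 4) = 0 ∧ T.a (σ 2) (σ 5) = 0 ∧ T.a (σ 2) (σ 6) = 0 ∧ T.a (σ 2) (σ 7) = 0 ∧ T.a (σ 3) (σ 3) = -4 * w ∧ T.a (σ 3) (σ 4) = 2 * w ∧ T.a (σ 3) (σ 5) = 0 ∧ T.a (σ 3) (σ 6) = 0 ∧ T.a (σ 3) (σ 7) = 0 ∧ T.a (σ 4) (σ 4) = -4 * w ∧ T.a (σ 4) (σ 5) = 2 * w ∧ T.a (σ 4) (σ 6) = 0 ∧ T.a (σ 4) (σ 7) = 0 ∧ T.a (σ 5) (σ 5) = -4 * w ∧ T.a (σ 5) (σ 6) = 2 * w ∧ T.a (σ 5) (σ 7) = 0 ∧ T.a (σ 6) (σ 6) = -4 * w ∧ T.a (σ 6) (σ 7) = 4 * w ∧ T.a (σ 7) (σ 7) = -8 * w) ∨ (T.m (σ 0) = m ∧ T.m (σ 1) = m ∧ T.m (σ 2) = m ∧ T.m (σ 3) = m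 ∧ T.m (σ 4) = m ∧ T.m (σ 5) = m ∧ T.m (σ 6) = m ∧ T.m (σ 7) = m ∧ T.w (σ 0) = w ∧ T.w (σ 1) = 2 * w ∧ T.w (σ 2) = 2 * w ∧ T.w (σ 3) = 2 * w ∧ T.w (σ 4) = 2 * w ∧ T.w (σ 5) = 2 * w ∧ T.w (σ 6) = 2 * w ∧ T.w (σ 7) = w ∧ T.a (σ 0) (σ 0) = -2 * w ∧ T.a (σ 0) (σ 1) = 2 * w ∧ T.a (σ 0) (σ 2) = 0 ∧ T.a (σ 0) (σ 3) = 0 ∧ T.a (σ 0) (σ 4) = 0 ∧ T.a (σ 0) (σ 5) = 0 ∧ T.a (σ 0) (σ 6) = 0 ∧ T.a (σ 0) (σ 7) = 0 ∧ T.a (σ 1) (σ 1) = -4 * w ∧ T.a (σ 1) (σ 2) = 2 * w ∧ T.a (σ 1) (σ 3) = 0 ∧ T.a (σ 1) (σ 4) = 0 ∧ T.a (σ 1) (σ 5) = 0 ∧ T.a (σ 1) (σ 6) = 0 ∧ T.a (σ 1) (σ 7) = 0 ∧ T.a (σ 2) (σ 2) = -4 * w ∧ T.a (σ 2) (σ 3) = 2 * w ∧ T.a (σ 2) (σ 4) = 0 ∧ T.a (σ 2) (σ 5) = 0 ∧ T.a (σ 2) (σ 6) = 0 ∧ T.a (σ 2) (σ 7) = 0 ∧ T.a (σ 3) (σ 3) = -4 * w ∧ T.a (σ 3) (σ 4) = 2 * w ∧ T.a (σ 3) (σ 5) = 0 ∧ T.a (σ 3) (σ 6) = 0 ∧ T.a (σ 3) (σ 7) = 0 ∧ T.a (σ 4) (σ 4) = -4 * w ∧ T.a (σ 4) (σ 5) = 2 * w ∧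 T.a (σ 4) (σ 6) = 0 ∧ T.a (σ 4) (σ 7) = 0 ∧ T.a (σ 5) (σ 5) = -4 * w ∧ T.a (σ 5) (σ 6) = 2 * w ∧ T.a (σ 5) (σ 7) = 0 ∧ T.a (σ 6) (σ 6) = -4 * w ∧ T.a (σ 6) (σ 7) = 2 * w ∧ T.a (σ 7) (σ 7) = -2 * w) ∨ (T.m (σ 0) = m ∧ T.m (σ 1) = 2 * m ∧ T.m (σ 2) = 2 * m ∧ T.m (σ 3) = 2 * m ∧ T.m (σ 4) = 2 * m ∧ T.m (σ 5) = 2 * m ∧ T.m (σ 6) = 2 * m ∧ T.m (σ 7) = m ∧ T.w (σ 0) = 2 * w ∧ T.w (σ 1) = w ∧ T.w (σ 2) = w ∧ T.w (σ 3) = w ∧ T.w (σ 4) = w ∧ T.w (σ 5) = w ∧ T.w (σ 6) = w ∧ T.w (σ 7) = 2 * w ∧ T.a (σ 0) (σ 0) = -4 * w ∧ T.a (σ 0) (σ 1) = 2 * w ∧ T.a (σ 0) (σ 2) = 0 ∧ T.a (σ 0) (σ 3) = 0 ∧ T.a (σ 0) (σ 4) = 0 ∧ T.a (σ 0) (σ 5) = 0 ∧ T.a (σ 0) (σ 6) = 0 ∧ T.a (σ 0) (σ 7) = 0 ∧ T.a (σ 1) (σ 1) = -2 * w ∧ T.a (σ 1) (σ 2) = w ∧ T.a (σ 1) (σ 3) = 0 ∧ T.a (σ 1) (σ 4) = 0 ∧ T.a (σ 1) (σ 5) = 0 ∧ T.a (σ 1) (σ 6) = 0 ∧ T.a (σ 1) (σ 7) = 0 ∧ T.a (σ 2) (σ 2) = -2 * w ∧ T.a (σ 2) (σ 3) = w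 ∧ T.a (σ 2) (σ 4) = 0 ∧ T.a (σ 2) (σ 5) = 0 ∧ T.a (σ 2) (σ 6) = 0 ∧ T.a (σ 2) (σ 7) = 0 ∧ T.a (σ 3) (σ 3) = -2 * w ∧ T.a (σ 3) (σ 4) = w ∧ T.a (σ 3) (σ 5) = 0 ∧ T.a (σ 3) (σ 6) = 0 ∧ T.a (σ 3) (σ 7) = 0 ∧ T.a (σ 4) (σ 4) = -2 * w ∧ T.a (σ 4) (σ 5) = w ∧ T.a (σ 4) (σ 6) = 0 ∧ T.a (σ 4) (σ 7) = 0 ∧ T.a (σ 5) (σ 5) = -2 * w ∧ T.a (σ 5) (σ 6) = w ∧ T.a (σ 5) (σ 7) = 0 ∧ T.a (σ 6) (σ 6) = -2 * w ∧ T.a (σ 6) (σ 7) = 2 * w ∧ T.a (σ 7) (σ 7) = -4 * w) ∨ (T.m (σ 0) = m ∧ T.m (σ 1) = 2 * m ∧ T.m (σ 2) = 2 * m ∧ T.m (σ 3) = 2 * m ∧ T.m (σ 4) = 2 * m ∧ T.m (σ 5) = 2 * m ∧ T.m (σ 6) = m ∧ T.m (σ 7) = m ∧ T.w (σ 0) = 2 * w ∧ T.w (σ 1) = w ∧ T.w (σ 2) = w ∧ T.w (σ 3) = w ∧ T.w (σ 4) = w ∧ T.w (σ 5) = w ∧ T.w (σ 6) = w ∧ T.w (σ 7) = w ∧ T.a (σ 0) (σ 0) = -4 * w ∧ T.a (σ 0) (σ 1) = 2 * w ∧ T.a (σ 0) (σ 2) = 0 ∧ T.a (σ 0) (σ 3) = 0 ∧ T.a (σ 0) (σ 4) = 0 ∧ T.a (σ 0) (σ 5) = 0 ∧ T.a (σ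 0) (σ 6) = 0 ∧ T.a (σ 0) (σ 7) = 0 ∧ T.a (σ 1) (σ 1) = -2 * w ∧ T.a (σ 1) (σ 2) = w ∧ T.a (σ 1) (σ 3) = 0 ∧ T.a (σ 1) (σ 4) = 0 ∧ T.a (σ 1) (σ 5) = 0 ∧ T.a (σ 1) (σ 6) = 0 ∧ T.a (σ 1) (σ 7) = 0 ∧ T.a (σ 2) (σ 2) = -2 * w ∧ T.a (σ 2) (σ 3) = w ∧ T.a (σ 2) (σ 4) = 0 ∧ T.a (σ 2) (σ 5) = 0 ∧ T.a (σ 2) (σ 6) = 0 ∧ T.a (σ 2) (σ 7) = 0 ∧ T.a (σ 3) (σ 3) = -2 * w ∧ T.a (σ 3) (σ 4) = w ∧ T.a (σ 3) (σ 5) = 0 ∧ T.a (σ 3) (σ 6) = 0 ∧ T.a (σ 3) (σ 7) = 0 ∧ T.a (σ 4) (σ 4) = -2 * w ∧ T.a (σ 4) (σ 5) = w ∧ T.a (σ 4) (σ 6) = 0 ∧ T.a (σ 4) (σ 7) = 0 ∧ T.a (σ 5) (σ 5) = -2 * w ∧ T.a (σ 5) (σ 6) = w ∧ T.a (σ 5) (σ 7) = w ∧ T.a (σ 6) (σ 6) = -2 * w ∧ T.a (σ 6) (σ 7) = 0 ∧ T.a (σ 7) (σ 7) = -2 * w) ∨ (T.m (σ 0) = 2 * m ∧ T.m (σ 1) = 2 * m ∧ T.m (σ 2) = 2 * m ∧ T.m (σ 3) = 2 * m ∧ T.m (σ 4) = 2 * m ∧ T.m (σ 5) = 2 * m ∧ T.m (σ 6) = m ∧ T.m (σ 7) = m ∧ T.w (σ 0) = w ∧ T.w (σ 1) = 2 * w ∧ T.w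 (σ 2) = 2 * w ∧ T.w (σ 3) = 2 * w ∧ T.w (σ 4) = 2 * w ∧ T.w (σ 5) = 2 * w ∧ T.w (σ 6) = 2 * w ∧ T.w (σ 7) = 2 * w ∧ T.a (σ 0) (σ 0) = -2 * w ∧ T.a (σ 0) (σ 1) = 2 * w ∧ T.a (σ 0) (σ 2) = 0 ∧ T.a (σ 0) (σ 3) = 0 ∧ T.a (σ 0) (σ 4) = 0 ∧ T.a (σ 0) (σ 5) = 0 ∧ T.a (σ 0) (σ 6) = 0 ∧ T.a (σ 0) (σ 7) = 0 ∧ T.a (σ 1) (σ 1) = -4 * w ∧ T.a (σ 1) (σ 2) = 2 * w ∧ T.a (σ 1) (σ 3) = 0 ∧ T.a (σ 1) (σ 4) = 0 ∧ T.a (σ 1) (σ 5) = 0 ∧ T.a (σ 1) (σ 6) = 0 ∧ T.a (σ 1) (σ 7) = 0 ∧ T.a (σ 2) (σ 2) = -4 * w ∧ T.a (σ 2) (σ 3) = 2 * w ∧ T.a (σ 2) (σ 4) = 0 ∧ T.a (σ 2) (σ 5) = 0 ∧ T.a (σ 2) (σ 6) = 0 ∧ T.a (σ 2) (σ 7) = 0 ∧ T.a (σ 3) (σ 3) = -4 * w ∧ T.a (σ 3) (σ 4) = 2 * w ∧ T.a (σ 3) (σ 5) = 0 ∧ T.a (σ 3) (σ 6) = 0 ∧ T.a (σ 3) (σ 7) = 0 ∧ T.a (σ 4) (σ 4) = -4 * w ∧ T.a (σ 4) (σ 5) = 2 * w ∧ T.a (σ 4) (σ 6) = 0 ∧ T.a (σ 4) (σ 7) = 0 ∧ T.a (σ 5) (σ 5) = -4 * w ∧ T.a (σ 5) (σ 6) = 2 * w ∧ T.a (σ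 5) (σ 7) = 2 * w ∧ T.a (σ 6) (σ 6) = -4 * w ∧ T.a (σ 6) (σ 7) = 0 ∧ T.a (σ 7) (σ 7) = -4 * w) ∨ (T.m (σ 0) = m ∧ T.m (σ 1) = m ∧ T.m (σ 2) = 2 * m ∧ T.m (σ 3) = 2 * m ∧ T.m (σ 4) = 2 * m ∧ T.m (σ 5) = 2 * m ∧ T.m (σ 6) = m ∧ T.m (σ 7) = m ∧ T.w (σ 0) = w ∧ T.w (σ 1) = w ∧ T.w (σ 2) = w ∧ T.w (σ 3) = w ∧ T.w (σ 4) = w ∧ T.w (σ 5) = w ∧ T.w (σ 6) = w ∧ T.w (σ 7) = w ∧ T.a (σ 0) (σ 0) = -2 * w ∧ T.a (σ 0) (σ 1) = 0 ∧ T.a (σ 0) (σ 2) = w ∧ T.a (σ 0) (σ 3) = 0 ∧ T.a (σ 0) (σ 4) = 0 ∧ T.a (σ 0) (σ 5) = 0 ∧ T.a (σ 0) (σ 6) = 0 ∧ T.a (σ 0) (σ 7) = 0 ∧ T.a (σ 1) (σ 1) = -2 * w ∧ T.a (σ 1) (σ 2) = w ∧ T.a (σ 1) (σ 3) = 0 ∧ T.a (σ 1) (σ 4) = 0 ∧ T.a (σ 1) (σ 5) = 0 ∧ T.a (σ 1) (σ 6) = 0 ∧ T.a (σ 1) (σ 7) = 0 ∧ T.a (σ 2) (σ 2) = -2 * w ∧ T.a (σ 2) (σ 3) = w ∧ T.a (σ 2) (σ 4) = 0 ∧ T.a (σ 2) (σ 5) = 0 ∧ T.a (σ 2) (σ 6) = 0 ∧ T.a (σ 2) (σ 7) = 0 ∧ T.a (σ 3) (σ 3) = -2 * w ∧ T.a (σ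 3) (σ 4) = w ∧ T.a (σ 3) (σ 5) = 0 ∧ T.a (σ 3) (σ 6) = 0 ∧ T.a (σ 3) (σ 7) = 0 ∧ T.a (σ 4) (σ 4) = -2 * w ∧ T.a (σ 4) (σ 5) = w ∧ T.a (σ 4) (σ 6) = 0 ∧ T.a (σ 4) (σ 7) = 0 ∧ T.a (σ 5) (σ 5) = -2 * w ∧ T.a (σ 5) (σ 6) = w ∧ T.a (σ 5) (σ 7) = w ∧ T.a (σ 6) (σ 6) = -2 * w ∧ T.a (σ 6) (σ 7) = 0 ∧ T.a (σ 7) (σ 7) = -2 * w) ∨ (T.m (σ 0) = m ∧ T.m (σ 1) = 2 * m ∧ T.m (σ 2) = 3 * m ∧ T.m (σ 3) = 4 * m ∧ T.m (σ 4) = 3 * m ∧ T.m (σ 5) = 2 * m ∧ T.m (σ 6) = m ∧ T.m (σ 7) = 2 * m ∧ T.w (σ 0) = w ∧ T.w (σ 1) = w ∧ T.w (σ 2) = w ∧ T.w (σ 3) = w ∧ T.w (σ 4) = w ∧ T.w (σ 5) = w ∧ T.w (σ 6) = w ∧ T.w (σ 7) = w ∧ T.a (σ 0) (σ 0) = -2 * w ∧ T.a (σ 0) (σ 1) = w ∧ T.a (σ 0) (σ 2) = 0 ∧ T.a (σ 0) (σ 3) = 0 ∧ T.a (σ 0) (σ 4) = 0 ∧ T.a (σ 0) (σ 5) = 0 ∧ T.a (σ 0) (σ 6) = 0 ∧ T.a (σ 0) (σ 7) = 0 ∧ T.a (σ 1) (σ 1) = -2 * w ∧ T.a (σ 1) (σ 2) = w ∧ T.a (σ 1) (σ 3) = 0 ∧ T.a (σ 1) (σ 4) = 0 ∧ T.a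 (σ 1) (σ 5) = 0 ∧ T.a (σ 1) (σ 6) = 0 ∧ T.a (σ 1) (σ 7) = 0 ∧ T.a (σ 2) (σ 2) = -2 * w ∧ T.a (σ 2) (σ 3) = w ∧ T.a (σ 2) (σ 4) = 0 ∧ T.a (σ 2) (σ 5) = 0 ∧ T.a (σ 2) (σ 6) = 0 ∧ T.a (σ 2) (σ 7) = 0 ∧ T.a (σ 3) (σ 3) = -2 * w ∧ T.a (σ 3) (σ 4) = w ∧ T.a (σ 3) (σ 5) = 0 ∧ T.a (σ 3) (σ 6) = 0 ∧ T.a (σ 3) (σ 7) = w ∧ T.a (σ 4) (σ 4) = -2 * w ∧ T.a (σ 4) (σ 5) = w ∧ T.a (σ 4) (σ 6) = 0 ∧ T.a (σ 4) (σ 7) = 0 ∧ T.a (σ 5) (σ 5) = -2 * w ∧ T.a (σ 5) (σ 6) = w ∧ T.a (σ 5) (σ 7) = 0 ∧ T.a (σ 6) (σ 6) = -2 * w ∧ T.a (σ 6) (σ 7) = 0 ∧ T.a (σ 7) (σ 7) = -2 * w)) := by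
  by_cases hx : ∃ j, (j ≠ u0 ∧ j ≠ u1 ∧ j ≠ u2 ∧ j ≠ u3 ∧ j ≠ u4) ∧ T.a u2 j ≠ 0
  · obtain ⟨u5, ⟨hn_5_0, hn_5_1, hn_5_2, hn_5_3, hn_5_4⟩, e_2_5⟩ := hx
    have z_0_5 : T.a u0 u5 = 0 := cl_0 u5 ⟨hn_5_0, hn_5_1, hn_5_2⟩
    have z_1_5 : T.a u1 u5 = 0 := cl_1 u5 ⟨hn_5_0, hn_5_1, hn_5_2, hn_5_3⟩
    rcases Groth.Agent.Helper6.NT.edge5 T h2 (by norm_num) u2 u5 hn_5_2.symm e_2_5 with ⟨tw_2_5, tap_2_5, taq_2_5⟩ | ⟨tw_2_5, tap_2_5, taq_2_5⟩ | ⟨tw_2_5, tap_2_5, taq_2_5⟩ | ⟨tw_2_5, tap_2_5, taq_2_5⟩ | ⟨tw_2_5, tap_2_5, taq_2_5⟩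
    · -- (2,5) S
      exfalso
      have key := Groth.Agent.Helper6.NT.negfun4 T h2 u0 u2 u4 u5 (by norm_num) 1 2 2 1 (by norm_num) (by norm_num)
      linarith only [key, tap_0_2, taq_0_2, z_0_4, z_0_5, tap_2_4, taq_2_4, tap_2_5, taq_2_5, T.offDiag_nonneg u4 u5 hn_5_4.symm, T.w_pos u0, T.w_pos u2, T.w_pos u4, T.w_pos u5]
    · -- (2,5) Dp
      exfalso
      have key := Groth.Agent.Helper6.NT.negfun3 T h2 u2 u4 u5 (by norm_num) 2 2 1 (by norm_num) (by norm_num)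
      linarith only [key, tap_2_4, taq_2_4, tap_2_5, taq_2_5, T.offDiag_nonneg u4 u5 hn_5_4.symm, T.w_pos u2, T.w_pos u4, T.w_pos u5]
    · -- (2,5) Dm
      exfalso
      have key := Groth.Agent.Helper6.NT.negfun3 T h2 u2 u4 u5 (by norm_num) 1 1 1 (by norm_num) (by norm_num)
      linarith only [key, tap_2_4, taq_2_4, tap_2_5, taq_2_5, T.offDiag_nonneg u4 u5 hn_5_4.symm, T.w_pos u2, T.w_pos u4, T.w_pos u5]
    · -- (2,5) Tp
      exfalso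
      have key := Groth.Agent.Helper6.NT.negfun3 T h2 u2 u4 u5 (by norm_num) 2 2 1 (by norm_num) (by norm_num)
      linarith only [key, tap_2_4, taq_2_4, tap_2_5, taq_2_5, T.offDiag_nonneg u4 u5 hn_5_4.symm, T.w_pos u2, T.w_pos u4, T.w_pos u5]
    · -- (2,5) Tm
      exfalso
      have key := Groth.Agent.Helper6.NT.negfun3 T h2 u2 u4 u5 (by norm_num) 2 2 3 (by norm_num) (by norm_num)
      linarith only [key, tap_2_4, taq_2_4, tap_2_5, taq_2_5, T.offDiag_nonneg u4 u5 hn_5_4.symm, T.w_pos u2, T.w_pos u4, T.w_pos u5]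
  · push Not at hx
    have cl_2 := hx
    clear hx
    by_cases hx : ∃ j, (j ≠ u0 ∧ j ≠ u1 ∧ j ≠ u2 ∧ j ≠ u3 ∧ j ≠ u4) ∧ T.a u3 j ≠ 0
    · obtain ⟨u5, ⟨hn_5_0, hn_5_1, hn_5_2, hn_5_3, hn_5_4⟩, e_3_5⟩ := hx
      have z_0_5 : T.a u0 u5 = 0 := cl_0 u5 ⟨hn_5_0, hn_5_1, hn_5_2⟩
      have z_1_5 : T.a u1 u5 = 0 := cl_1 u5 ⟨hn_5_0, hn_5_1, hn_5_2, hn_5_3⟩
      have z_2_5 : T.a u2 u5 = 0 := cl_2 u5 ⟨hn_5_0, hn_5_1, hn_5_2, hn_5_3, hn_5_4⟩
      rcases Groth.Agent.Helper6.NT.edge5 T h2 (by norm_num) u3 u5 hn_5_3.symm e_3_5 with ⟨tw_3_5, tap_3_5, taq_3_5⟩ | ⟨tw_3_5, tap_3_5, taq_3_5⟩ | ⟨tw_3_5, tap_3_5, taq_3_5⟩ | ⟨tw_3_5, tap_3_5, taq_3_5⟩ | ⟨tw_3_5, tap_3_5, taq_3_5⟩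
      · -- (3,5) S
        rcases eq_or_ne (T.a u4 u5) 0 with z_4_5 | nz_4_5
        · -- (4,5) zero
          by_cases hx : ∃ j, (j ≠ u0 ∧ j ≠ u1 ∧ j ≠ u2 ∧ j ≠ u3 ∧ j ≠ u4 ∧ j ≠ u5) ∧ T.a u3 j ≠ 0
          · obtain ⟨u6, ⟨hn_6_0, hn_6_1, hn_6_2, hn_6_3, hn_6_4, hn_6_5⟩, e_3_6⟩ := hx
            have z_0_6 : T.a u0 u6 = 0 := cl_0 u6 ⟨hn_6_0, hn_6_1, hn_6_2⟩
            have z_1_6 : T.a u1 u6 = 0 := cl_1 u6 ⟨hn_6_0, hn_6_1, hn_6_2, hn_6_3⟩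
            have z_2_6 : T.a u2 u6 = 0 := cl_2 u6 ⟨hn_6_0, hn_6_1, hn_6_2, hn_6_3, hn_6_4⟩
            rcases Groth.Agent.Helper6.NT.edge5 T h2 (by norm_num) u3 u6 hn_6_3.symm e_3_6 with ⟨tw_3_6, tap_3_6, taq_3_6⟩ | ⟨tw_3_6, tap_3_6, taq_3_6⟩ | ⟨tw_3_6, tap_3_6, taq_3_6⟩ | ⟨tw_3_6, tap_3_6, taq_3_6⟩ | ⟨tw_3_6, tap_3_6, taq_3_6⟩
            · -- (3,6) S
              exfalso
              have key := Groth.Agent.Helper6.NT.negfun7 T h2 u0 u1 u2 u3 u4 u5 u6 (by norm_num) 2 2 2 2 2 1 1 (by norm_num) (by norm_num)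
              linarith only [key, tap_0_1, taq_0_1, tap_0_2, taq_0_2, z_0_3, z_0_4, z_0_5, z_0_6, z_1_2, tap_1_3, taq_1_3, z_1_4, z_1_5, z_1_6, z_2_3, tap_2_4, taq_2_4, z_2_5, z_2_6, z_3_4, tap_3_5, taq_3_5, tap_3_6, taq_3_6, z_4_5, T.offDiag_nonneg u4 u6 hn_6_4.symm, T.offDiag_nonneg u5 u6 hn_6_5.symm, T.w_pos u0, T.w_pos u1, T.w_pos u2, T.w_pos u3, T.w_pos u4, T.w_pos u5, T.w_pos u6]
            · -- (3,6) Dp
              exfalso
              have key := Groth.Agent.Helper6.NT.negfun4 T h2 u1 u3 u5 u6 (by norm_num) 1 2 1 1 (by norm_num) (by norm_num)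
              linarith only [key, tap_1_3, taq_1_3, z_1_5, z_1_6, tap_3_5, taq_3_5, tap_3_6, taq_3_6, T.offDiag_nonneg u5 u6 hn_6_5.symm, T.w_pos u1, T.w_pos u3, T.w_pos u5, T.w_pos u6]
            · -- (3,6) Dm
              exfalso
              have key := Groth.Agent.Helper6.NT.negfun4 T h2 u1 u3 u5 u6 (by norm_num) 1 2 1 2 (by norm_num) (by norm_num)
              linarith only [key, tap_1_3, taq_1_3, z_1_5, z_1_6, tap_3_5, taq_3_5, tap_3_6, taq_3_6, T.offDiag_nonneg u5 u6 hn_6_5.symm, T.w_pos u1, T.w_pos u3, T.w_pos u5, T.w_pos u6]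
            · -- (3,6) Tp
              exfalso
              have key := Groth.Agent.Helper6.NT.negfun3 T h2 u3 u5 u6 (by norm_num) 2 1 1 (by norm_num) (by norm_num)
              linarith only [key, tap_3_5, taq_3_5, tap_3_6, taq_3_6, T.offDiag_nonneg u5 u6 hn_6_5.symm, T.w_pos u3, T.w_pos u5, T.w_pos u6]
            · -- (3,6) Tm
              exfalso
              have key := Groth.Agent.Helper6.NT.negfun3 T h2 u3 u5 u6 (by norm_num) 2 1 3 (by norm_num) (by norm_num)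
              linarith only [key, tap_3_5, taq_3_5, tap_3_6, taq_3_6, T.offDiag_nonneg u5 u6 hn_6_5.symm, T.w_pos u3, T.w_pos u5, T.w_pos u6]
          · push Not at hx
            have cl_3 := hx
            clear hx
            by_cases hx : ∃ j, (j ≠ u0 ∧ j ≠ u1 ∧ j ≠ u2 ∧ j ≠ u3 ∧ j ≠ u4 ∧ j ≠ u5) ∧ T.a u4 j ≠ 0
            · obtain ⟨u6, ⟨hn_6_0, hn_6_1, hn_6_2, hn_6_3, hn_6_4, hn_6_5⟩, e_4_6⟩ := hx
              have z_0_6 : T.a u0 u6 = 0 := cl_0 u6 ⟨hn_6_0, hn_6_1, hn_6_2⟩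
              have z_1_6 : T.a u1 u6 = 0 := cl_1 u6 ⟨hn_6_0, hn_6_1, hn_6_2, hn_6_3⟩
              have z_2_6 : T.a u2 u6 = 0 := cl_2 u6 ⟨hn_6_0, hn_6_1, hn_6_2, hn_6_3, hn_6_4⟩
              have z_3_6 : T.a u3 u6 = 0 := cl_3 u6 ⟨hn_6_0, hn_6_1, hn_6_2, hn_6_3, hn_6_4, hn_6_5⟩
              rcases Groth.Agent.Helper6.NT.edge5 T h2 (by norm_num) u4 u6 hn_6_4.symm e_4_6 with ⟨tw_4_6, tap_4_6, taq_4_6⟩ | ⟨tw_4_6, tap_4_6, taq_4_6⟩ | ⟨tw_4_6, tap_4_6, taq_4_6⟩ | ⟨tw_4_6, tap_4_6, taq_4_6⟩ | ⟨tw_4_6, tap_4_6, taq_4_6⟩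
              · -- (4,6) S
                exfalso
                have key := Groth.Agent.Helper6.NT.negfun5 T h2 u0 u1 u2 u4 u6 (by norm_num) 2 1 3 4 2 (by norm_num) (by norm_num)
                linarith only [key, tap_0_1, taq_0_1, tap_0_2, taq_0_2, z_0_4, z_0_6, z_1_2, z_1_4, z_1_6, tap_2_4, taq_2_4, z_2_6, tap_4_6, taq_4_6, T.w_pos u0, T.w_pos u1, T.w_pos u2, T.w_pos u4, T.w_pos u6]
              · -- (4,6) Dp
                exfalso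
                have key := Groth.Agent.Helper6.NT.negfun3 T h2 u2 u4 u6 (by norm_num) 1 2 1 (by norm_num) (by norm_num)
                linarith only [key, tap_2_4, taq_2_4, z_2_6, tap_4_6, taq_4_6, T.w_pos u2, T.w_pos u4, T.w_pos u6]
              · -- (4,6) Dm
                exfalso
                have key := Groth.Agent.Helper6.NT.negfun3 T h2 u2 u4 u6 (by norm_num) 1 2 2 (by norm_num) (by norm_num)
                linarith only [key, tap_2_4, taq_2_4, z_2_6, tap_4_6, taq_4_6, T.w_pos u2, T.w_pos u4, T.w_pos u6]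
              · -- (4,6) Tp
                exfalso
                have key := Groth.Agent.Helper6.NT.negfun3 T h2 u2 u4 u6 (by norm_num) 1 2 1 (by norm_num) (by norm_num)
                linarith only [key, tap_2_4, taq_2_4, z_2_6, tap_4_6, taq_4_6, T.w_pos u2, T.w_pos u4, T.w_pos u6]
              · -- (4,6) Tm
                exfalso
                have key := Groth.Agent.Helper6.NT.negfun3 T h2 u2 u4 u6 (by norm_num) 1 2 3 (by norm_num) (by norm_num)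
                linarith only [key, tap_2_4, taq_2_4, z_2_6, tap_4_6, taq_4_6, T.w_pos u2, T.w_pos u4, T.w_pos u6]
            · push Not at hx
              have cl_4 := hx
              clear hx
              by_cases hx : ∃ j, (j ≠ u0 ∧ j ≠ u1 ∧ j ≠ u2 ∧ j ≠ u3 ∧ j ≠ u4 ∧ j ≠ u5) ∧ T.a u5 j ≠ 0
              · obtain ⟨u6, ⟨hn_6_0, hn_6_1, hn_6_2, hn_6_3, hn_6_4, hn_6_5⟩, e_5_6⟩ := hx
                have z_0_6 : T.a u0 u6 = 0 := cl_0 u6 ⟨hn_6_0, hn_6_1, hn_6_2⟩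
                have z_1_6 : T.a u1 u6 = 0 := cl_1 u6 ⟨hn_6_0, hn_6_1, hn_6_2, hn_6_3⟩
                have z_2_6 : T.a u2 u6 = 0 := cl_2 u6 ⟨hn_6_0, hn_6_1, hn_6_2, hn_6_3, hn_6_4⟩
                have z_3_6 : T.a u3 u6 = 0 := cl_3 u6 ⟨hn_6_0, hn_6_1, hn_6_2, hn_6_3, hn_6_4, hn_6_5⟩
                have z_4_6 : T.a u4 u6 = 0 := cl_4 u6 ⟨hn_6_0, hn_6_1, hn_6_2, hn_6_3, hn_6_4, hn_6_5⟩
                rcases Groth.Agent.Helper6.NT.edge5 T h2 (by norm_num) u5 u6 hn_6_5.symm e_5_6 with ⟨tw_5_6, tap_5_6, taq_5_6⟩ | ⟨tw_5_6, tap_5_6, taq_5_6⟩ | ⟨tw_5_6, tap_5_6, taq_5_6⟩ | ⟨tw_5_6, tap_5_6, taq_5_6⟩ | ⟨tw_5_6, tap_5_6, taq_5_6⟩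
                · -- (5,6) S
                  by_cases hx : ∃ j, (j ≠ u0 ∧ j ≠ u1 ∧ j ≠ u2 ∧ j ≠ u3 ∧ j ≠ u4 ∧ j ≠ u5 ∧ j ≠ u6) ∧ T.a u5 j ≠ 0
                  · obtain ⟨u7, ⟨hn_7_0, hn_7_1, hn_7_2, hn_7_3, hn_7_4, hn_7_5, hn_7_6⟩, e_5_7⟩ := hx
                    have z_0_7 : T.a u0 u7 = 0 := cl_0 u7 ⟨hn_7_0, hn_7_1, hn_7_2⟩
                    have z_1_7 : T.a u1 u7 = 0 := cl_1 u7 ⟨hn_7_0, hn_7_1, hn_7_2, hn_7_3⟩
                    have z_2_7 : T.a u2 u7 = 0 := cl_2 u7 ⟨hn_7_0, hn_7_1, hn_7_2, hn_7_3, hn_7_4⟩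
                    have z_3_7 : T.a u3 u7 = 0 := cl_3 u7 ⟨hn_7_0, hn_7_1, hn_7_2, hn_7_3, hn_7_4, hn_7_5⟩
                    have z_4_7 : T.a u4 u7 = 0 := cl_4 u7 ⟨hn_7_0, hn_7_1, hn_7_2, hn_7_3, hn_7_4, hn_7_5⟩
                    rcases Groth.Agent.Helper6.NT.edge5 T h2 (by norm_num) u5 u7 hn_7_5.symm e_5_7 with ⟨tw_5_7, tap_5_7, taq_5_7⟩ | ⟨tw_5_7, tap_5_7, taq_5_7⟩ | ⟨tw_5_7, tap_5_7, taq_5_7⟩ | ⟨tw_5_7, tap_5_7, taq_5_7⟩ | ⟨tw_5_7, tap_5_7, taq_5_7⟩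
                    · -- (5,7) S
                      rcases eq_or_ne (T.a u6 u7) 0 with z_6_7 | nz_6_7
                      · -- (6,7) zero
                        have hinj := Groth.Agent.Helper6.NT.inj8 u0 u1 u2 u3 u4 u5 u6 u7 hn_1_0 hn_2_0 hn_2_1 hn_3_0 hn_3_1 hn_3_2 hn_4_0 hn_4_1 hn_4_2 hn_4_3 hn_5_0 hn_5_1 hn_5_2 hn_5_3 hn_5_4 hn_6_0 hn_6_1 hn_6_2 hn_6_3 hn_6_4 hn_6_5 hn_7_0 hn_7_1 hn_7_2 hn_7_3 hn_7_4 hn_7_5 hn_7_6
                        have r_0 : -2 * T.m u0 + 1 * T.m u1 + 1 * T.m u2 = 0 := by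
                          have key := Groth.Agent.Helper6.NT.rowfun8 T u0 u1 u2 u3 u4 u5 u6 u7 hinj u0
                          rw [(h2 u0).2, tap_0_1, tap_0_2, z_0_3, z_0_4, z_0_5, z_0_6, z_0_7] at key
                          exact mul_left_cancel₀ (T.w_pos u0).ne' (by linarith only [key])
                        have r_1 : 1 * T.m u0 + -2 * T.m u1 + 1 * T.m u3 = 0 := by
                          have key := Groth.Agent.Helper6.NT.rowfun8 T u0 u1 u2 u3 u4 u5 u6 u7 hinj u1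
                          rw [Groth.Agent.Helper6.NT.symm' T u1 u0, taq_0_1, (h2 u1).2, z_1_2, tap_1_3, z_1_4, z_1_5, z_1_6, z_1_7] at key
                          exact mul_left_cancel₀ (T.w_pos u1).ne' (by linarith only [key])
                        have r_2 : 1 * T.m u0 + -2 * T.m u2 + 1 * T.m u4 = 0 := by
                          have key := Groth.Agent.Helper6.NT.rowfun8 T u0 u1 u2 u3 u4 u5 u6 u7 hinj u2
                          rw [Groth.Agent.Helper6.NT.symm' T u2 u0, taq_0_2, Groth.Agent.Helper6.NT.symm' T u2 u1, z_1_2, (h2 u2).2, z_2_3, tap_2_4, z_2_5, z_2_6, z_2_7] at key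
                          exact mul_left_cancel₀ (T.w_pos u2).ne' (by linarith only [key])
                        have r_3 : 1 * T.m u1 + -2 * T.m u3 + 1 * T.m u5 = 0 := by
                          have key := Groth.Agent.Helper6.NT.rowfun8 T u0 u1 u2 u3 u4 u5 u6 u7 hinj u3
                          rw [Groth.Agent.Helper6.NT.symm' T u3 u0, z_0_3, Groth.Agent.Helper6.NT.symm' T u3 u1, taq_1_3, Groth.Agent.Helper6.NT.symm' T u3 u2, z_2_3, (h2 u3).2, z_3_4, tap_3_5, z_3_6, z_3_7] at key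
                          exact mul_left_cancel₀ (T.w_pos u3).ne' (by linarith only [key])
                        have r_4 : 2 * T.m u2 + -2 * T.m u4 = 0 := by
                          have key := Groth.Agent.Helper6.NT.rowfun8 T u0 u1 u2 u3 u4 u5 u6 u7 hinj u4
                          rw [Groth.Agent.Helper6.NT.symm' T u4 u0, z_0_4, Groth.Agent.Helper6.NT.symm' T u4 u1, z_1_4, Groth.Agent.Helper6.NT.symm' T u4 u2, taq_2_4, Groth.Agent.Helper6.NT.symm' T u4 u3, z_3_4, (h2 u4).2, z_4_5, z_4_6, z_4_7] at key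
                          exact mul_left_cancel₀ (T.w_pos u4).ne' (by linarith only [key])
                        have r_5 : 1 * T.m u3 + -2 * T.m u5 + 1 * T.m u6 + 1 * T.m u7 = 0 := by
                          have key := Groth.Agent.Helper6.NT.rowfun8 T u0 u1 u2 u3 u4 u5 u6 u7 hinj u5
                          rw [Groth.Agent.Helper6.NT.symm' T u5 u0, z_0_5, Groth.Agent.Helper6.NT.symm' T u5 u1, z_1_5, Groth.Agent.Helper6.NT.symm' T u5 u2, z_2_5, Groth.Agent.Helper6.NT.symm' T u5 u3, taq_3_5, Groth.Agent.Helper6.NT.symm' T u5 u4, z_4_5, (h2 u5).2, tap_5_6, tap_5_7] at key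
                          exact mul_left_cancel₀ (T.w_pos u5).ne' (by linarith only [key])
                        have r_6 : 1 * T.m u5 + -2 * T.m u6 = 0 := by
                          have key := Groth.Agent.Helper6.NT.rowfun8 T u0 u1 u2 u3 u4 u5 u6 u7 hinj u6
                          rw [Groth.Agent.Helper6.NT.symm' T u6 u0, z_0_6, Groth.Agent.Helper6.NT.symm' T u6 u1, z_1_6, Groth.Agent.Helper6.NT.symm' T u6 u2, z_2_6, Groth.Agent.Helper6.NT.symm' T u6 u3, z_3_6, Groth.Agent.Helper6.NT.symm' T u6 u4, z_4_6, Groth.Agent.Helper6.NT.symm' T u6 u5, taq_5_6, (h2 u6).2, z_6_7] at key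
                          exact mul_left_cancel₀ (T.w_pos u6).ne' (by linarith only [key])
                        have r_7 : 1 * T.m u5 + -2 * T.m u7 = 0 := by
                          have key := Groth.Agent.Helper6.NT.rowfun8 T u0 u1 u2 u3 u4 u5 u6 u7 hinj u7
                          rw [Groth.Agent.Helper6.NT.symm' T u7 u0, z_0_7, Groth.Agent.Helper6.NT.symm' T u7 u1, z_1_7, Groth.Agent.Helper6.NT.symm' T u7 u2, z_2_7, Groth.Agent.Helper6.NT.symm' T u7 u3, z_3_7, Groth.Agent.Helper6.NT.symm' T u7 u4, z_4_7, Groth.Agent.Helper6.NT.symm' T u7 u5, taq_5_7, Groth.Agent.Helper6.NT.symm' T u7 u6, z_6_7, (h2 u7).2] at key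
                          exact mul_left_cancel₀ (T.w_pos u7).ne' (by linarith only [key])
                        have f0 : T.m u4 = 2 * T.m u6 := by linarith only [r_0, r_1, r_2, r_3, r_4, r_5, r_6, r_7]
                        have f1 : T.m u2 = 2 * T.m u6 := by linarith only [r_0, r_1, r_2, r_3, r_4, r_5, r_6, r_7]
                        have f2 : T.m u0 = 2 * T.m u6 := by linarith only [r_0, r_1, r_2, r_3, r_4, r_5, r_6, r_7]
                        have f3 : T.m u1 = 2 * T.m u6 := by linarith only [r_0, r_1, r_2, r_3, r_4, r_5, r_6, r_7]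
                        have f4 : T.m u3 = 2 * T.m u6 := by linarith only [r_0, r_1, r_2, r_3, r_4, r_5, r_6, r_7]
                        have f5 : T.m u5 = 2 * T.m u6 := by linarith only [r_0, r_1, r_2, r_3, r_4, r_5, r_6, r_7]
                        have f6 : T.m u6 = T.m u6 := rfl
                        have f7 : T.m u7 = T.m u6 := by linarith only [r_0, r_1, r_2, r_3, r_4, r_5, r_6, r_7]
                        have f8 : T.w u4 = T.w u4 := rfl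
                        have f9 : T.w u2 = 2 * T.w u4 := by linarith only [tw_0_1, tw_0_2, tw_1_3, tw_2_4, tw_3_5, tw_5_6, tw_5_7]
                        have f10 : T.w u0 = 2 * T.w u4 := by linarith only [tw_0_1, tw_0_2, tw_1_3, tw_2_4, tw_3_5, tw_5_6, tw_5_7]
                        have f11 : T.w u1 = 2 * T.w u4 := by linarith only [tw_0_1, tw_0_2, tw_1_3, tw_2_4, tw_3_5, tw_5_6, tw_5_7]
                        have f12 : T.w u3 = 2 * T.w u4 := by linarith only [tw_0_1, tw_0_2, tw_1_3, tw_2_4, tw_3_5, tw_5_6, tw_5_7]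
                        have f13 : T.w u5 = 2 * T.w u4 := by linarith only [tw_0_1, tw_0_2, tw_1_3, tw_2_4, tw_3_5, tw_5_6, tw_5_7]
                        have f14 : T.w u6 = 2 * T.w u4 := by linarith only [tw_0_1, tw_0_2, tw_1_3, tw_2_4, tw_3_5, tw_5_6, tw_5_7]
                        have f15 : T.w u7 = 2 * T.w u4 := by linarith only [tw_0_1, tw_0_2, tw_1_3, tw_2_4, tw_3_5, tw_5_6, tw_5_7]
                        have f16 : T.a u4 u4 = -2 * T.w u4 := by have := (h2 u4).2; linarith only [this, tw_0_1, tw_0_2, tw_1_3, tw_2_4, tw_3_5, tw_5_6, tw_5_7]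
                        have f17 : T.a u4 u2 = 2 * T.w u4 := by rw [Groth.Agent.Helper6.NT.symm' T u4 u2]; linarith only [tap_2_4, tw_0_1, tw_0_2, tw_1_3, tw_2_4, tw_3_5, tw_5_6, tw_5_7]
                        have f18 : T.a u4 u0 = 0 := by rw [Groth.Agent.Helper6.NT.symm' T u4 u0]; exact z_0_4
                        have f19 : T.a u4 u1 = 0 := by rw [Groth.Agent.Helper6.NT.symm' T u4 u1]; exact z_1_4
                        have f20 : T.a u4 u3 = 0 := by rw [Groth.Agent.Helper6.NT.symm' T u4 u3]; exact z_3_4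
                        have f21 : T.a u4 u5 = 0 := by exact z_4_5
                        have f22 : T.a u4 u6 = 0 := by exact z_4_6
                        have f23 : T.a u4 u7 = 0 := by exact z_4_7
                        have f24 : T.a u2 u2 = -4 * T.w u4 := by have := (h2 u2).2; linarith only [this, tw_0_1, tw_0_2, tw_1_3, tw_2_4, tw_3_5, tw_5_6, tw_5_7]
                        have f25 : T.a u2 u0 = 2 * T.w u4 := by rw [Groth.Agent.Helper6.NT.symm' T u2 u0]; linarith only [tap_0_2, tw_0_1, tw_0_2, tw_1_3, tw_2_4, tw_3_5, tw_5_6, tw_5_7]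
                        have f26 : T.a u2 u1 = 0 := by rw [Groth.Agent.Helper6.NT.symm' T u2 u1]; exact z_1_2
                        have f27 : T.a u2 u3 = 0 := by exact z_2_3
                        have f28 : T.a u2 u5 = 0 := by exact z_2_5
                        have f29 : T.a u2 u6 = 0 := by exact z_2_6
                        have f30 : T.a u2 u7 = 0 := by exact z_2_7
                        have f31 : T.a u0 u0 = -4 * T.w u4 := by have := (h2 u0).2; linarith only [this, tw_0_1, tw_0_2, tw_1_3, tw_2_4, tw_3_5, tw_5_6, tw_5_7]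
                        have f32 : T.a u0 u1 = 2 * T.w u4 := by linarith only [tap_0_1, tw_0_1, tw_0_2, tw_1_3, tw_2_4, tw_3_5, tw_5_6, tw_5_7]
                        have f33 : T.a u0 u3 = 0 := by exact z_0_3
                        have f34 : T.a u0 u5 = 0 := by exact z_0_5
                        have f35 : T.a u0 u6 = 0 := by exact z_0_6
                        have f36 : T.a u0 u7 = 0 := by exact z_0_7
                        have f37 : T.a u1 u1 = -4 * T.w u4 := by have := (h2 u1).2; linarith only [this, tw_0_1, tw_0_2, tw_1_3, tw_2_4, tw_3_5, tw_5_6, tw_5_7]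
                        have f38 : T.a u1 u3 = 2 * T.w u4 := by linarith only [tap_1_3, tw_0_1, tw_0_2, tw_1_3, tw_2_4, tw_3_5, tw_5_6, tw_5_7]
                        have f39 : T.a u1 u5 = 0 := by exact z_1_5
                        have f40 : T.a u1 u6 = 0 := by exact z_1_6
                        have f41 : T.a u1 u7 = 0 := by exact z_1_7
                        have f42 : T.a u3 u3 = -4 * T.w u4 := by have := (h2 u3).2; linarith only [this, tw_0_1, tw_0_2, tw_1_3, tw_2_4, tw_3_5, tw_5_6, tw_5_7]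
                        have f43 : T.a u3 u5 = 2 * T.w u4 := by linarith only [tap_3_5, tw_0_1, tw_0_2, tw_1_3, tw_2_4, tw_3_5, tw_5_6, tw_5_7]
                        have f44 : T.a u3 u6 = 0 := by exact z_3_6
                        have f45 : T.a u3 u7 = 0 := by exact z_3_7
                        have f46 : T.a u5 u5 = -4 * T.w u4 := by have := (h2 u5).2; linarith only [this, tw_0_1, tw_0_2, tw_1_3, tw_2_4, tw_3_5, tw_5_6, tw_5_7]
                        have f47 : T.a u5 u6 = 2 * T.w u4 := by linarith only [tap_5_6, tw_0_1, tw_0_2, tw_1_3, tw_2_4, tw_3_5, tw_5_6, tw_5_7]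
                        have f48 : T.a u5 u7 = 2 * T.w u4 := by linarith only [tap_5_7, tw_0_1, tw_0_2, tw_1_3, tw_2_4, tw_3_5, tw_5_6, tw_5_7]
                        have f49 : T.a u6 u6 = -4 * T.w u4 := by have := (h2 u6).2; linarith only [this, tw_0_1, tw_0_2, tw_1_3, tw_2_4, tw_3_5, tw_5_6, tw_5_7]
                        have f50 : T.a u6 u7 = 0 := by exact z_6_7
                        have f51 : T.a u7 u7 = -4 * T.w u4 := by have := (h2 u7).2; linarith only [this, tw_0_1, tw_0_2, tw_1_3, tw_2_4, tw_3_5, tw_5_6, tw_5_7]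
                        have hsig := Groth.Agent.Helper6.NT.inj8 u4 u2 u0 u1 u3 u5 u6 u7 hn_4_2.symm hn_4_0.symm hn_2_0.symm hn_4_1.symm hn_2_1.symm hn_1_0 hn_4_3.symm hn_3_2 hn_3_0 hn_3_1 hn_5_4 hn_5_2 hn_5_0 hn_5_1 hn_5_3 hn_6_4 hn_6_2 hn_6_0 hn_6_1 hn_6_3 hn_6_5 hn_7_4 hn_7_2 hn_7_0 hn_7_1 hn_7_3 hn_7_5 hn_7_6
                        exact ⟨Equiv.ofBijective _ (Finite.injective_iff_bijective.1 hsig), T.m u6, T.w u4, Or.inr (Or.inr (Or.inr (Or.inr (Or.inr (Or.inl ⟨f0, f1, f2, f3, f4, f5, f6, f7, f8, f9, f10, f11, f12, f13, f14, f15, f16, f17, f18, f19, f20, f21, f22, f23, f24, f25, f26, f27, f28, f29, f30, f31, f32, f33, f34, f35, f36, f37, f38, f39, f40, f41, f42, f43, f44, f45, f46, f47, f48, f49, f50, f51⟩)))))⟩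
                      · -- (6,7) nonzero
                        obtain ⟨lbp_6_7, lbq_6_7⟩ := Groth.Agent.Helper6.NT.lb T u6 u7 hn_7_6.symm nz_6_7
                        exfalso
                        have key := Groth.Agent.Helper6.NT.negfun3 T h2 u5 u6 u7 (by norm_num) 1 1 1 (by norm_num) (by norm_num)
                        linarith only [key, tap_5_6, taq_5_6, tap_5_7, taq_5_7, lbp_6_7, lbq_6_7, T.w_pos u5, T.w_pos u6, T.w_pos u7]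
                    · -- (5,7) Dp
                      exfalso
                      have key := Groth.Agent.Helper6.NT.negfun4 T h2 u3 u5 u6 u7 (by norm_num) 1 2 1 1 (by norm_num) (by norm_num)
                      linarith only [key, tap_3_5, taq_3_5, z_3_6, z_3_7, tap_5_6, taq_5_6, tap_5_7, taq_5_7, T.offDiag_nonneg u6 u7 hn_7_6.symm, T.w_pos u3, T.w_pos u5, T.w_pos u6, T.w_pos u7]
                    · -- (5,7) Dm
                      exfalso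
                      have key := Groth.Agent.Helper6.NT.negfun4 T h2 u3 u5 u6 u7 (by norm_num) 1 2 1 2 (by norm_num) (by norm_num)
                      linarith only [key, tap_3_5, taq_3_5, z_3_6, z_3_7, tap_5_6, taq_5_6, tap_5_7, taq_5_7, T.offDiag_nonneg u6 u7 hn_7_6.symm, T.w_pos u3, T.w_pos u5, T.w_pos u6, T.w_pos u7]
                    · -- (5,7) Tp
                      exfalso
                      have key := Groth.Agent.Helper6.NT.negfun3 T h2 u5 u6 u7 (by norm_num) 2 1 1 (by norm_num) (by norm_num)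
                      linarith only [key, tap_5_6, taq_5_6, tap_5_7, taq_5_7, T.offDiag_nonneg u6 u7 hn_7_6.symm, T.w_pos u5, T.w_pos u6, T.w_pos u7]
                    · -- (5,7) Tm
                      exfalso
                      have key := Groth.Agent.Helper6.NT.negfun3 T h2 u5 u6 u7 (by norm_num) 2 1 3 (by norm_num) (by norm_num)
                      linarith only [key, tap_5_6, taq_5_6, tap_5_7, taq_5_7, T.offDiag_nonneg u6 u7 hn_7_6.symm, T.w_pos u5, T.w_pos u6, T.w_pos u7]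
                  · push Not at hx
                    have cl_5 := hx
                    clear hx
                    by_cases hx : ∃ j, (j ≠ u0 ∧ j ≠ u1 ∧ j ≠ u2 ∧ j ≠ u3 ∧ j ≠ u4 ∧ j ≠ u5 ∧ j ≠ u6) ∧ T.a u6 j ≠ 0
                    · obtain ⟨u7, ⟨hn_7_0, hn_7_1, hn_7_2, hn_7_3, hn_7_4, hn_7_5, hn_7_6⟩, e_6_7⟩ := hx
                      have z_0_7 : T.a u0 u7 = 0 := cl_0 u7 ⟨hn_7_0, hn_7_1, hn_7_2⟩
                      have z_1_7 : T.a u1 u7 = 0 := cl_1 u7 ⟨hn_7_0, hn_7_1, hn_7_2, hn_7_3⟩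
                      have z_2_7 : T.a u2 u7 = 0 := cl_2 u7 ⟨hn_7_0, hn_7_1, hn_7_2, hn_7_3, hn_7_4⟩
                      have z_3_7 : T.a u3 u7 = 0 := cl_3 u7 ⟨hn_7_0, hn_7_1, hn_7_2, hn_7_3, hn_7_4, hn_7_5⟩
                      have z_4_7 : T.a u4 u7 = 0 := cl_4 u7 ⟨hn_7_0, hn_7_1, hn_7_2, hn_7_3, hn_7_4, hn_7_5⟩
                      have z_5_7 : T.a u5 u7 = 0 := cl_5 u7 ⟨hn_7_0, hn_7_1, hn_7_2, hn_7_3, hn_7_4, hn_7_5, hn_7_6⟩
                      rcases Groth.Agent.Helper6.NT.edge5 T h2 (by norm_num) u6 u7 hn_7_6.symm e_6_7 with ⟨tw_6_7, tap_6_7, taq_6_7⟩ | ⟨tw_6_7, tap_6_7, taq_6_7⟩ | ⟨tw_6_7, tap_6_7, taq_6_7⟩ | ⟨tw_6_7, tap_6_7, taq_6_7⟩ | ⟨tw_6_7, tap_6_7, taq_6_7⟩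
                      · -- (6,7) S
                        have hinj := Groth.Agent.Helper6.NT.inj8 u0 u1 u2 u3 u4 u5 u6 u7 hn_1_0 hn_2_0 hn_2_1 hn_3_0 hn_3_1 hn_3_2 hn_4_0 hn_4_1 hn_4_2 hn_4_3 hn_5_0 hn_5_1 hn_5_2 hn_5_3 hn_5_4 hn_6_0 hn_6_1 hn_6_2 hn_6_3 hn_6_4 hn_6_5 hn_7_0 hn_7_1 hn_7_2 hn_7_3 hn_7_4 hn_7_5 hn_7_6
                        have r_0 : -2 * T.m u0 + 1 * T.m u1 + 1 * T.m u2 = 0 := by
                          have key := Groth.Agent.Helper6.NT.rowfun8 T u0 u1 u2 u3 u4 u5 u6 u7 hinj u0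
                          rw [(h2 u0).2, tap_0_1, tap_0_2, z_0_3, z_0_4, z_0_5, z_0_6, z_0_7] at key
                          exact mul_left_cancel₀ (T.w_pos u0).ne' (by linarith only [key])
                        have r_1 : 1 * T.m u0 + -2 * T.m u1 + 1 * T.m u3 = 0 := by
                          have key := Groth.Agent.Helper6.NT.rowfun8 T u0 u1 u2 u3 u4 u5 u6 u7 hinj u1
                          rw [Groth.Agent.Helper6.NT.symm' T u1 u0, taq_0_1, (h2 u1).2, z_1_2, tap_1_3, z_1_4, z_1_5, z_1_6, z_1_7] at key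
                          exact mul_left_cancel₀ (T.w_pos u1).ne' (by linarith only [key])
                        have r_2 : 1 * T.m u0 + -2 * T.m u2 + 1 * T.m u4 = 0 := by
                          have key := Groth.Agent.Helper6.NT.rowfun8 T u0 u1 u2 u3 u4 u5 u6 u7 hinj u2
                          rw [Groth.Agent.Helper6.NT.symm' T u2 u0, taq_0_2, Groth.Agent.Helper6.NT.symm' T u2 u1, z_1_2, (h2 u2).2, z_2_3, tap_2_4, z_2_5, z_2_6, z_2_7] at key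
                          exact mul_left_cancel₀ (T.w_pos u2).ne' (by linarith only [key])
                        have r_3 : 1 * T.m u1 + -2 * T.m u3 + 1 * T.m u5 = 0 := by
                          have key := Groth.Agent.Helper6.NT.rowfun8 T u0 u1 u2 u3 u4 u5 u6 u7 hinj u3
                          rw [Groth.Agent.Helper6.NT.symm' T u3 u0, z_0_3, Groth.Agent.Helper6.NT.symm' T u3 u1, taq_1_3, Groth.Agent.Helper6.NT.symm' T u3 u2, z_2_3, (h2 u3).2, z_3_4, tap_3_5, z_3_6, z_3_7] at key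
                          exact mul_left_cancel₀ (T.w_pos u3).ne' (by linarith only [key])
                        have r_4 : 2 * T.m u2 + -2 * T.m u4 = 0 := by
                          have key := Groth.Agent.Helper6.NT.rowfun8 T u0 u1 u2 u3 u4 u5 u6 u7 hinj u4
                          rw [Groth.Agent.Helper6.NT.symm' T u4 u0, z_0_4, Groth.Agent.Helper6.NT.symm' T u4 u1, z_1_4, Groth.Agent.Helper6.NT.symm' T u4 u2, taq_2_4, Groth.Agent.Helper6.NT.symm' T u4 u3, z_3_4, (h2 u4).2, z_4_5, z_4_6, z_4_7] at key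
                          exact mul_left_cancel₀ (T.w_pos u4).ne' (by linarith only [key])
                        have r_5 : 1 * T.m u3 + -2 * T.m u5 + 1 * T.m u6 = 0 := by
                          have key := Groth.Agent.Helper6.NT.rowfun8 T u0 u1 u2 u3 u4 u5 u6 u7 hinj u5
                          rw [Groth.Agent.Helper6.NT.symm' T u5 u0, z_0_5, Groth.Agent.Helper6.NT.symm' T u5 u1, z_1_5, Groth.Agent.Helper6.NT.symm' T u5 u2, z_2_5, Groth.Agent.Helper6.NT.symm' T u5 u3, taq_3_5, Groth.Agent.Helper6.NT.symm' T u5 u4, z_4_5, (h2 u5).2, tap_5_6, z_5_7] at key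
                          exact mul_left_cancel₀ (T.w_pos u5).ne' (by linarith only [key])
                        have r_6 : 1 * T.m u5 + -2 * T.m u6 + 1 * T.m u7 = 0 := by
                          have key := Groth.Agent.Helper6.NT.rowfun8 T u0 u1 u2 u3 u4 u5 u6 u7 hinj u6
                          rw [Groth.Agent.Helper6.NT.symm' T u6 u0, z_0_6, Groth.Agent.Helper6.NT.symm' T u6 u1, z_1_6, Groth.Agent.Helper6.NT.symm' T u6 u2, z_2_6, Groth.Agent.Helper6.NT.symm' T u6 u3, z_3_6, Groth.Agent.Helper6.NT.symm' T u6 u4, z_4_6, Groth.Agent.Helper6.NT.symm' T u6 u5, taq_5_6, (h2 u6).2, tap_6_7] at key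
                          exact mul_left_cancel₀ (T.w_pos u6).ne' (by linarith only [key])
                        have r_7 : 1 * T.m u6 + -2 * T.m u7 = 0 := by
                          have key := Groth.Agent.Helper6.NT.rowfun8 T u0 u1 u2 u3 u4 u5 u6 u7 hinj u7
                          rw [Groth.Agent.Helper6.NT.symm' T u7 u0, z_0_7, Groth.Agent.Helper6.NT.symm' T u7 u1, z_1_7, Groth.Agent.Helper6.NT.symm' T u7 u2, z_2_7, Groth.Agent.Helper6.NT.symm' T u7 u3, z_3_7, Groth.Agent.Helper6.NT.symm' T u7 u4, z_4_7, Groth.Agent.Helper6.NT.symm' T u7 u5, z_5_7, Groth.Agent.Helper6.NT.symm' T u7 u6, taq_6_7, (h2 u7).2] at key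
                          exact mul_left_cancel₀ (T.w_pos u7).ne' (by linarith only [key])
                        exfalso
                        linarith only [r_0, r_1, r_2, r_3, r_4, r_5, r_6, r_7, T.m_pos u0, T.m_pos u1, T.m_pos u2, T.m_pos u3, T.m_pos u4, T.m_pos u5, T.m_pos u6, T.m_pos u7]
                      · -- (6,7) Dp
                        have hinj := Groth.Agent.Helper6.NT.inj8 u0 u1 u2 u3 u4 u5 u6 u7 hn_1_0 hn_2_0 hn_2_1 hn_3_0 hn_3_1 hn_3_2 hn_4_0 hn_4_1 hn_4_2 hn_4_3 hn_5_0 hn_5_1 hn_5_2 hn_5_3 hn_5_4 hn_6_0 hn_6_1 hn_6_2 hn_6_3 hn_6_4 hn_6_5 hn_7_0 hn_7_1 hn_7_2 hn_7_3 hn_7_4 hn_7_5 hn_7_6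
                        have r_0 : -2 * T.m u0 + 1 * T.m u1 + 1 * T.m u2 = 0 := by
                          have key := Groth.Agent.Helper6.NT.rowfun8 T u0 u1 u2 u3 u4 u5 u6 u7 hinj u0
                          rw [(h2 u0).2, tap_0_1, tap_0_2, z_0_3, z_0_4, z_0_5, z_0_6, z_0_7] at key
                          exact mul_left_cancel₀ (T.w_pos u0).ne' (by linarith only [key])
                        have r_1 : 1 * T.m u0 + -2 * T.m u1 + 1 * T.m u3 = 0 := by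
                          have key := Groth.Agent.Helper6.NT.rowfun8 T u0 u1 u2 u3 u4 u5 u6 u7 hinj u1
                          rw [Groth.Agent.Helper6.NT.symm' T u1 u0, taq_0_1, (h2 u1).2, z_1_2, tap_1_3, z_1_4, z_1_5, z_1_6, z_1_7] at key
                          exact mul_left_cancel₀ (T.w_pos u1).ne' (by linarith only [key])
                        have r_2 : 1 * T.m u0 + -2 * T.m u2 + 1 * T.m u4 = 0 := by
                          have key := Groth.Agent.Helper6.NT.rowfun8 T u0 u1 u2 u3 u4 u5 u6 u7 hinj u2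
                          rw [Groth.Agent.Helper6.NT.symm' T u2 u0, taq_0_2, Groth.Agent.Helper6.NT.symm' T u2 u1, z_1_2, (h2 u2).2, z_2_3, tap_2_4, z_2_5, z_2_6, z_2_7] at key
                          exact mul_left_cancel₀ (T.w_pos u2).ne' (by linarith only [key])
                        have r_3 : 1 * T.m u1 + -2 * T.m u3 + 1 * T.m u5 = 0 := by
                          have key := Groth.Agent.Helper6.NT.rowfun8 T u0 u1 u2 u3 u4 u5 u6 u7 hinj u3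
                          rw [Groth.Agent.Helper6.NT.symm' T u3 u0, z_0_3, Groth.Agent.Helper6.NT.symm' T u3 u1, taq_1_3, Groth.Agent.Helper6.NT.symm' T u3 u2, z_2_3, (h2 u3).2, z_3_4, tap_3_5, z_3_6, z_3_7] at key
                          exact mul_left_cancel₀ (T.w_pos u3).ne' (by linarith only [key])
                        have r_4 : 2 * T.m u2 + -2 * T.m u4 = 0 := by
                          have key := Groth.Agent.Helper6.NT.rowfun8 T u0 u1 u2 u3 u4 u5 u6 u7 hinj u4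
                          rw [Groth.Agent.Helper6.NT.symm' T u4 u0, z_0_4, Groth.Agent.Helper6.NT.symm' T u4 u1, z_1_4, Groth.Agent.Helper6.NT.symm' T u4 u2, taq_2_4, Groth.Agent.Helper6.NT.symm' T u4 u3, z_3_4, (h2 u4).2, z_4_5, z_4_6, z_4_7] at key
                          exact mul_left_cancel₀ (T.w_pos u4).ne' (by linarith only [key])
                        have r_5 : 1 * T.m u3 + -2 * T.m u5 + 1 * T.m u6 = 0 := by
                          have key := Groth.Agent.Helper6.NT.rowfun8 T u0 u1 u2 u3 u4 u5 u6 u7 hinj u5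
                          rw [Groth.Agent.Helper6.NT.symm' T u5 u0, z_0_5, Groth.Agent.Helper6.NT.symm' T u5 u1, z_1_5, Groth.Agent.Helper6.NT.symm' T u5 u2, z_2_5, Groth.Agent.Helper6.NT.symm' T u5 u3, taq_3_5, Groth.Agent.Helper6.NT.symm' T u5 u4, z_4_5, (h2 u5).2, tap_5_6, z_5_7] at key
                          exact mul_left_cancel₀ (T.w_pos u5).ne' (by linarith only [key])
                        have r_6 : 1 * T.m u5 + -2 * T.m u6 + 2 * T.m u7 = 0 := by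
                          have key := Groth.Agent.Helper6.NT.rowfun8 T u0 u1 u2 u3 u4 u5 u6 u7 hinj u6
                          rw [Groth.Agent.Helper6.NT.symm' T u6 u0, z_0_6, Groth.Agent.Helper6.NT.symm' T u6 u1, z_1_6, Groth.Agent.Helper6.NT.symm' T u6 u2, z_2_6, Groth.Agent.Helper6.NT.symm' T u6 u3, z_3_6, Groth.Agent.Helper6.NT.symm' T u6 u4, z_4_6, Groth.Agent.Helper6.NT.symm' T u6 u5, taq_5_6, (h2 u6).2, tap_6_7] at key
                          exact mul_left_cancel₀ (T.w_pos u6).ne' (by linarith only [key])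
                        have r_7 : 1 * T.m u6 + -2 * T.m u7 = 0 := by
                          have key := Groth.Agent.Helper6.NT.rowfun8 T u0 u1 u2 u3 u4 u5 u6 u7 hinj u7
                          rw [Groth.Agent.Helper6.NT.symm' T u7 u0, z_0_7, Groth.Agent.Helper6.NT.symm' T u7 u1, z_1_7, Groth.Agent.Helper6.NT.symm' T u7 u2, z_2_7, Groth.Agent.Helper6.NT.symm' T u7 u3, z_3_7, Groth.Agent.Helper6.NT.symm' T u7 u4, z_4_7, Groth.Agent.Helper6.NT.symm' T u7 u5, z_5_7, Groth.Agent.Helper6.NT.symm' T u7 u6, taq_6_7, (h2 u7).2] at key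
                          exact mul_left_cancel₀ (T.w_pos u7).ne' (by linarith only [key])
                        have f0 : T.m u4 = 2 * T.m u7 := by linarith only [r_0, r_1, r_2, r_3, r_4, r_5, r_6, r_7]
                        have f1 : T.m u2 = 2 * T.m u7 := by linarith only [r_0, r_1, r_2, r_3, r_4, r_5, r_6, r_7]
                        have f2 : T.m u0 = 2 * T.m u7 := by linarith only [r_0, r_1, r_2, r_3, r_4, r_5, r_6, r_7]
                        have f3 : T.m u1 = 2 * T.m u7 := by linarith only [r_0, r_1, r_2, r_3, r_4, r_5, r_6, r_7]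
                        have f4 : T.m u3 = 2 * T.m u7 := by linarith only [r_0, r_1, r_2, r_3, r_4, r_5, r_6, r_7]
                        have f5 : T.m u5 = 2 * T.m u7 := by linarith only [r_0, r_1, r_2, r_3, r_4, r_5, r_6, r_7]
                        have f6 : T.m u6 = 2 * T.m u7 := by linarith only [r_0, r_1, r_2, r_3, r_4, r_5, r_6, r_7]
                        have f7 : T.m u7 = T.m u7 := rfl
                        have f8 : T.w u4 = T.w u4 := rfl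
                        have f9 : T.w u2 = 2 * T.w u4 := by linarith only [tw_0_1, tw_0_2, tw_1_3, tw_2_4, tw_3_5, tw_5_6, tw_6_7]
                        have f10 : T.w u0 = 2 * T.w u4 := by linarith only [tw_0_1, tw_0_2, tw_1_3, tw_2_4, tw_3_5, tw_5_6, tw_6_7]
                        have f11 : T.w u1 = 2 * T.w u4 := by linarith only [tw_0_1, tw_0_2, tw_1_3, tw_2_4, tw_3_5, tw_5_6, tw_6_7]
                        have f12 : T.w u3 = 2 * T.w u4 := by linarith only [tw_0_1, tw_0_2, tw_1_3, tw_2_4, tw_3_5, tw_5_6, tw_6_7]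
                        have f13 : T.w u5 = 2 * T.w u4 := by linarith only [tw_0_1, tw_0_2, tw_1_3, tw_2_4, tw_3_5, tw_5_6, tw_6_7]
                        have f14 : T.w u6 = 2 * T.w u4 := by linarith only [tw_0_1, tw_0_2, tw_1_3, tw_2_4, tw_3_5, tw_5_6, tw_6_7]
                        have f15 : T.w u7 = 4 * T.w u4 := by linarith only [tw_0_1, tw_0_2, tw_1_3, tw_2_4, tw_3_5, tw_5_6, tw_6_7]
                        have f16 : T.a u4 u4 = -2 * T.w u4 := by have := (h2 u4).2; linarith only [this, tw_0_1, tw_0_2, tw_1_3, tw_2_4, tw_3_5, tw_5_6, tw_6_7]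
                        have f17 : T.a u4 u2 = 2 * T.w u4 := by rw [Groth.Agent.Helper6.NT.symm' T u4 u2]; linarith only [tap_2_4, tw_0_1, tw_0_2, tw_1_3, tw_2_4, tw_3_5, tw_5_6, tw_6_7]
                        have f18 : T.a u4 u0 = 0 := by rw [Groth.Agent.Helper6.NT.symm' T u4 u0]; exact z_0_4
                        have f19 : T.a u4 u1 = 0 := by rw [Groth.Agent.Helper6.NT.symm' T u4 u1]; exact z_1_4
                        have f20 : T.a u4 u3 = 0 := by rw [Groth.Agent.Helper6.NT.symm' T u4 u3]; exact z_3_4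
                        have f21 : T.a u4 u5 = 0 := by exact z_4_5
                        have f22 : T.a u4 u6 = 0 := by exact z_4_6
                        have f23 : T.a u4 u7 = 0 := by exact z_4_7
                        have f24 : T.a u2 u2 = -4 * T.w u4 := by have := (h2 u2).2; linarith only [this, tw_0_1, tw_0_2, tw_1_3, tw_2_4, tw_3_5, tw_5_6, tw_6_7]
                        have f25 : T.a u2 u0 = 2 * T.w u4 := by rw [Groth.Agent.Helper6.NT.symm' T u2 u0]; linarith only [tap_0_2, tw_0_1, tw_0_2, tw_1_3, tw_2_4, tw_3_5, tw_5_6, tw_6_7]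
                        have f26 : T.a u2 u1 = 0 := by rw [Groth.Agent.Helper6.NT.symm' T u2 u1]; exact z_1_2
                        have f27 : T.a u2 u3 = 0 := by exact z_2_3
                        have f28 : T.a u2 u5 = 0 := by exact z_2_5
                        have f29 : T.a u2 u6 = 0 := by exact z_2_6
                        have f30 : T.a u2 u7 = 0 := by exact z_2_7
                        have f31 : T.a u0 u0 = -4 * T.w u4 := by have := (h2 u0).2; linarith only [this, tw_0_1, tw_0_2, tw_1_3, tw_2_4, tw_3_5, tw_5_6, tw_6_7]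
                        have f32 : T.a u0 u1 = 2 * T.w u4 := by linarith only [tap_0_1, tw_0_1, tw_0_2, tw_1_3, tw_2_4, tw_3_5, tw_5_6, tw_6_7]
                        have f33 : T.a u0 u3 = 0 := by exact z_0_3
                        have f34 : T.a u0 u5 = 0 := by exact z_0_5
                        have f35 : T.a u0 u6 = 0 := by exact z_0_6
                        have f36 : T.a u0 u7 = 0 := by exact z_0_7
                        have f37 : T.a u1 u1 = -4 * T.w u4 := by have := (h2 u1).2; linarith only [this, tw_0_1, tw_0_2, tw_1_3, tw_2_4, tw_3_5, tw_5_6, tw_6_7]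
                        have f38 : T.a u1 u3 = 2 * T.w u4 := by linarith only [tap_1_3, tw_0_1, tw_0_2, tw_1_3, tw_2_4, tw_3_5, tw_5_6, tw_6_7]
                        have f39 : T.a u1 u5 = 0 := by exact z_1_5
                        have f40 : T.a u1 u6 = 0 := by exact z_1_6
                        have f41 : T.a u1 u7 = 0 := by exact z_1_7
                        have f42 : T.a u3 u3 = -4 * T.w u4 := by have := (h2 u3).2; linarith only [this, tw_0_1, tw_0_2, tw_1_3, tw_2_4, tw_3_5, tw_5_6, tw_6_7]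
                        have f43 : T.a u3 u5 = 2 * T.w u4 := by linarith only [tap_3_5, tw_0_1, tw_0_2, tw_1_3, tw_2_4, tw_3_5, tw_5_6, tw_6_7]
                        have f44 : T.a u3 u6 = 0 := by exact z_3_6
                        have f45 : T.a u3 u7 = 0 := by exact z_3_7
                        have f46 : T.a u5 u5 = -4 * T.w u4 := by have := (h2 u5).2; linarith only [this, tw_0_1, tw_0_2, tw_1_3, tw_2_4, tw_3_5, tw_5_6, tw_6_7]
                        have f47 : T.a u5 u6 = 2 * T.w u4 := by linarith only [tap_5_6, tw_0_1, tw_0_2, tw_1_3, tw_2_4, tw_3_5, tw_5_6, tw_6_7]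
                        have f48 : T.a u5 u7 = 0 := by exact z_5_7
                        have f49 : T.a u6 u6 = -4 * T.w u4 := by have := (h2 u6).2; linarith only [this, tw_0_1, tw_0_2, tw_1_3, tw_2_4, tw_3_5, tw_5_6, tw_6_7]
                        have f50 : T.a u6 u7 = 4 * T.w u4 := by linarith only [tap_6_7, tw_0_1, tw_0_2, tw_1_3, tw_2_4, tw_3_5, tw_5_6, tw_6_7]
                        have f51 : T.a u7 u7 = -8 * T.w u4 := by have := (h2 u7).2; linarith only [this, tw_0_1, tw_0_2, tw_1_3, tw_2_4, tw_3_5, tw_5_6, tw_6_7]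
                        have hsig := Groth.Agent.Helper6.NT.inj8 u4 u2 u0 u1 u3 u5 u6 u7 hn_4_2.symm hn_4_0.symm hn_2_0.symm hn_4_1.symm hn_2_1.symm hn_1_0 hn_4_3.symm hn_3_2 hn_3_0 hn_3_1 hn_5_4 hn_5_2 hn_5_0 hn_5_1 hn_5_3 hn_6_4 hn_6_2 hn_6_0 hn_6_1 hn_6_3 hn_6_5 hn_7_4 hn_7_2 hn_7_0 hn_7_1 hn_7_3 hn_7_5 hn_7_6
                        exact ⟨Equiv.ofBijective _ (Finite.injective_iff_bijective.1 hsig), T.m u7, T.w u4, Or.inr (Or.inl ⟨f0, f1, f2, f3, f4, f5, f6, f7, f8, f9, f10, f11, f12, f13, f14, f15, f16, f17, f18, f19, f20, f21, f22, f23, f24, f25, f26, f27, f28, f29, f30, f31, f32, f33, f34, f35, f36, f37, f38, f39, f40, f41, f42, f43, f44, f45, f46, f47, f48, f49, f50, f51⟩)⟩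
                      · -- (6,7) Dm
                        have hinj := Groth.Agent.Helper6.NT.inj8 u0 u1 u2 u3 u4 u5 u6 u7 hn_1_0 hn_2_0 hn_2_1 hn_3_0 hn_3_1 hn_3_2 hn_4_0 hn_4_1 hn_4_2 hn_4_3 hn_5_0 hn_5_1 hn_5_2 hn_5_3 hn_5_4 hn_6_0 hn_6_1 hn_6_2 hn_6_3 hn_6_4 hn_6_5 hn_7_0 hn_7_1 hn_7_2 hn_7_3 hn_7_4 hn_7_5 hn_7_6
                        have r_0 : -2 * T.m u0 + 1 * T.m u1 + 1 * T.m u2 = 0 := by
                          have key := Groth.Agent.Helper6.NT.rowfun8 T u0 u1 u2 u3 u4 u5 u6 u7 hinj u0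
                          rw [(h2 u0).2, tap_0_1, tap_0_2, z_0_3, z_0_4, z_0_5, z_0_6, z_0_7] at key
                          exact mul_left_cancel₀ (T.w_pos u0).ne' (by linarith only [key])
                        have r_1 : 1 * T.m u0 + -2 * T.m u1 + 1 * T.m u3 = 0 := by
                          have key := Groth.Agent.Helper6.NT.rowfun8 T u0 u1 u2 u3 u4 u5 u6 u7 hinj u1
                          rw [Groth.Agent.Helper6.NT.symm' T u1 u0, taq_0_1, (h2 u1).2, z_1_2, tap_1_3, z_1_4, z_1_5, z_1_6, z_1_7] at key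
                          exact mul_left_cancel₀ (T.w_pos u1).ne' (by linarith only [key])
                        have r_2 : 1 * T.m u0 + -2 * T.m u2 + 1 * T.m u4 = 0 := by
                          have key := Groth.Agent.Helper6.NT.rowfun8 T u0 u1 u2 u3 u4 u5 u6 u7 hinj u2
                          rw [Groth.Agent.Helper6.NT.symm' T u2 u0, taq_0_2, Groth.Agent.Helper6.NT.symm' T u2 u1, z_1_2, (h2 u2).2, z_2_3, tap_2_4, z_2_5, z_2_6, z_2_7] at key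
                          exact mul_left_cancel₀ (T.w_pos u2).ne' (by linarith only [key])
                        have r_3 : 1 * T.m u1 + -2 * T.m u3 + 1 * T.m u5 = 0 := by
                          have key := Groth.Agent.Helper6.NT.rowfun8 T u0 u1 u2 u3 u4 u5 u6 u7 hinj u3
                          rw [Groth.Agent.Helper6.NT.symm' T u3 u0, z_0_3, Groth.Agent.Helper6.NT.symm' T u3 u1, taq_1_3, Groth.Agent.Helper6.NT.symm' T u3 u2, z_2_3, (h2 u3).2, z_3_4, tap_3_5, z_3_6, z_3_7] at key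
                          exact mul_left_cancel₀ (T.w_pos u3).ne' (by linarith only [key])
                        have r_4 : 2 * T.m u2 + -2 * T.m u4 = 0 := by
                          have key := Groth.Agent.Helper6.NT.rowfun8 T u0 u1 u2 u3 u4 u5 u6 u7 hinj u4
                          rw [Groth.Agent.Helper6.NT.symm' T u4 u0, z_0_4, Groth.Agent.Helper6.NT.symm' T u4 u1, z_1_4, Groth.Agent.Helper6.NT.symm' T u4 u2, taq_2_4, Groth.Agent.Helper6.NT.symm' T u4 u3, z_3_4, (h2 u4).2, z_4_5, z_4_6, z_4_7] at key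
                          exact mul_left_cancel₀ (T.w_pos u4).ne' (by linarith only [key])
                        have r_5 : 1 * T.m u3 + -2 * T.m u5 + 1 * T.m u6 = 0 := by
                          have key := Groth.Agent.Helper6.NT.rowfun8 T u0 u1 u2 u3 u4 u5 u6 u7 hinj u5
                          rw [Groth.Agent.Helper6.NT.symm' T u5 u0, z_0_5, Groth.Agent.Helper6.NT.symm' T u5 u1, z_1_5, Groth.Agent.Helper6.NT.symm' T u5 u2, z_2_5, Groth.Agent.Helper6.NT.symm' T u5 u3, taq_3_5, Groth.Agent.Helper6.NT.symm' T u5 u4, z_4_5, (h2 u5).2, tap_5_6, z_5_7] at key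
                          exact mul_left_cancel₀ (T.w_pos u5).ne' (by linarith only [key])
                        have r_6 : 1 * T.m u5 + -2 * T.m u6 + 1 * T.m u7 = 0 := by
                          have key := Groth.Agent.Helper6.NT.rowfun8 T u0 u1 u2 u3 u4 u5 u6 u7 hinj u6
                          rw [Groth.Agent.Helper6.NT.symm' T u6 u0, z_0_6, Groth.Agent.Helper6.NT.symm' T u6 u1, z_1_6, Groth.Agent.Helper6.NT.symm' T u6 u2, z_2_6, Groth.Agent.Helper6.NT.symm' T u6 u3, z_3_6, Groth.Agent.Helper6.NT.symm' T u6 u4, z_4_6, Groth.Agent.Helper6.NT.symm' T u6 u5, taq_5_6, (h2 u6).2, tap_6_7] at key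
                          exact mul_left_cancel₀ (T.w_pos u6).ne' (by linarith only [key])
                        have r_7 : 2 * T.m u6 + -2 * T.m u7 = 0 := by
                          have key := Groth.Agent.Helper6.NT.rowfun8 T u0 u1 u2 u3 u4 u5 u6 u7 hinj u7
                          rw [Groth.Agent.Helper6.NT.symm' T u7 u0, z_0_7, Groth.Agent.Helper6.NT.symm' T u7 u1, z_1_7, Groth.Agent.Helper6.NT.symm' T u7 u2, z_2_7, Groth.Agent.Helper6.NT.symm' T u7 u3, z_3_7, Groth.Agent.Helper6.NT.symm' T u7 u4, z_4_7, Groth.Agent.Helper6.NT.symm' T u7 u5, z_5_7, Groth.Agent.Helper6.NT.symm' T u7 u6, taq_6_7, (h2 u7).2] at key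
                          exact mul_left_cancel₀ (T.w_pos u7).ne' (by linarith only [key])
                        have f0 : T.m u4 = T.m u4 := rfl
                        have f1 : T.m u2 = T.m u4 := by linarith only [r_0, r_1, r_2, r_3, r_4, r_5, r_6, r_7]
                        have f2 : T.m u0 = T.m u4 := by linarith only [r_0, r_1, r_2, r_3, r_4, r_5, r_6, r_7]
                        have f3 : T.m u1 = T.m u4 := by linarith only [r_0, r_1, r_2, r_3, r_4, r_5, r_6, r_7]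
                        have f4 : T.m u3 = T.m u4 := by linarith only [r_0, r_1, r_2, r_3, r_4, r_5, r_6, r_7]
                        have f5 : T.m u5 = T.m u4 := by linarith only [r_0, r_1, r_2, r_3, r_4, r_5, r_6, r_7]
                        have f6 : T.m u6 = T.m u4 := by linarith only [r_0, r_1, r_2, r_3, r_4, r_5, r_6, r_7]
                        have f7 : T.m u7 = T.m u4 := by linarith only [r_0, r_1, r_2, r_3, r_4, r_5, r_6, r_7]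
                        have f8 : T.w u4 = T.w u4 := rfl
                        have f9 : T.w u2 = 2 * T.w u4 := by linarith only [tw_0_1, tw_0_2, tw_1_3, tw_2_4, tw_3_5, tw_5_6, tw_6_7]
                        have f10 : T.w u0 = 2 * T.w u4 := by linarith only [tw_0_1, tw_0_2, tw_1_3, tw_2_4, tw_3_5, tw_5_6, tw_6_7]
                        have f11 : T.w u1 = 2 * T.w u4 := by linarith only [tw_0_1, tw_0_2, tw_1_3, tw_2_4, tw_3_5, tw_5_6, tw_6_7]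
                        have f12 : T.w u3 = 2 * T.w u4 := by linarith only [tw_0_1, tw_0_2, tw_1_3, tw_2_4, tw_3_5, tw_5_6, tw_6_7]
                        have f13 : T.w u5 = 2 * T.w u4 := by linarith only [tw_0_1, tw_0_2, tw_1_3, tw_2_4, tw_3_5, tw_5_6, tw_6_7]
                        have f14 : T.w u6 = 2 * T.w u4 := by linarith only [tw_0_1, tw_0_2, tw_1_3, tw_2_4, tw_3_5, tw_5_6, tw_6_7]
                        have f15 : T.w u7 = T.w u4 := by linarith only [tw_0_1, tw_0_2, tw_1_3, tw_2_4, tw_3_5, tw_5_6, tw_6_7]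
                        have f16 : T.a u4 u4 = -2 * T.w u4 := by have := (h2 u4).2; linarith only [this, tw_0_1, tw_0_2, tw_1_3, tw_2_4, tw_3_5, tw_5_6, tw_6_7]
                        have f17 : T.a u4 u2 = 2 * T.w u4 := by rw [Groth.Agent.Helper6.NT.symm' T u4 u2]; linarith only [tap_2_4, tw_0_1, tw_0_2, tw_1_3, tw_2_4, tw_3_5, tw_5_6, tw_6_7]
                        have f18 : T.a u4 u0 = 0 := by rw [Groth.Agent.Helper6.NT.symm' T u4 u0]; exact z_0_4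
                        have f19 : T.a u4 u1 = 0 := by rw [Groth.Agent.Helper6.NT.symm' T u4 u1]; exact z_1_4
                        have f20 : T.a u4 u3 = 0 := by rw [Groth.Agent.Helper6.NT.symm' T u4 u3]; exact z_3_4
                        have f21 : T.a u4 u5 = 0 := by exact z_4_5
                        have f22 : T.a u4 u6 = 0 := by exact z_4_6
                        have f23 : T.a u4 u7 = 0 := by exact z_4_7
                        have f24 : T.a u2 u2 = -4 * T.w u4 := by have := (h2 u2).2; linarith only [this, tw_0_1, tw_0_2, tw_1_3, tw_2_4, tw_3_5, tw_5_6, tw_6_7]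
                        have f25 : T.a u2 u0 = 2 * T.w u4 := by rw [Groth.Agent.Helper6.NT.symm' T u2 u0]; linarith only [tap_0_2, tw_0_1, tw_0_2, tw_1_3, tw_2_4, tw_3_5, tw_5_6, tw_6_7]
                        have f26 : T.a u2 u1 = 0 := by rw [Groth.Agent.Helper6.NT.symm' T u2 u1]; exact z_1_2
                        have f27 : T.a u2 u3 = 0 := by exact z_2_3
                        have f28 : T.a u2 u5 = 0 := by exact z_2_5
                        have f29 : T.a u2 u6 = 0 := by exact z_2_6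
                        have f30 : T.a u2 u7 = 0 := by exact z_2_7
                        have f31 : T.a u0 u0 = -4 * T.w u4 := by have := (h2 u0).2; linarith only [this, tw_0_1, tw_0_2, tw_1_3, tw_2_4, tw_3_5, tw_5_6, tw_6_7]
                        have f32 : T.a u0 u1 = 2 * T.w u4 := by linarith only [tap_0_1, tw_0_1, tw_0_2, tw_1_3, tw_2_4, tw_3_5, tw_5_6, tw_6_7]
                        have f33 : T.a u0 u3 = 0 := by exact z_0_3
                        have f34 : T.a u0 u5 = 0 := by exact z_0_5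
                        have f35 : T.a u0 u6 = 0 := by exact z_0_6
                        have f36 : T.a u0 u7 = 0 := by exact z_0_7
                        have f37 : T.a u1 u1 = -4 * T.w u4 := by have := (h2 u1).2; linarith only [this, tw_0_1, tw_0_2, tw_1_3, tw_2_4, tw_3_5, tw_5_6, tw_6_7]
                        have f38 : T.a u1 u3 = 2 * T.w u4 := by linarith only [tap_1_3, tw_0_1, tw_0_2, tw_1_3, tw_2_4, tw_3_5, tw_5_6, tw_6_7]
                        have f39 : T.a u1 u5 = 0 := by exact z_1_5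
                        have f40 : T.a u1 u6 = 0 := by exact z_1_6
                        have f41 : T.a u1 u7 = 0 := by exact z_1_7
                        have f42 : T.a u3 u3 = -4 * T.w u4 := by have := (h2 u3).2; linarith only [this, tw_0_1, tw_0_2, tw_1_3, tw_2_4, tw_3_5, tw_5_6, tw_6_7]
                        have f43 : T.a u3 u5 = 2 * T.w u4 := by linarith only [tap_3_5, tw_0_1, tw_0_2, tw_1_3, tw_2_4, tw_3_5, tw_5_6, tw_6_7]
                        have f44 : T.a u3 u6 = 0 := by exact z_3_6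
                        have f45 : T.a u3 u7 = 0 := by exact z_3_7
                        have f46 : T.a u5 u5 = -4 * T.w u4 := by have := (h2 u5).2; linarith only [this, tw_0_1, tw_0_2, tw_1_3, tw_2_4, tw_3_5, tw_5_6, tw_6_7]
                        have f47 : T.a u5 u6 = 2 * T.w u4 := by linarith only [tap_5_6, tw_0_1, tw_0_2, tw_1_3, tw_2_4, tw_3_5, tw_5_6, tw_6_7]
                        have f48 : T.a u5 u7 = 0 := by exact z_5_7
                        have f49 : T.a u6 u6 = -4 * T.w u4 := by have := (h2 u6).2; linarith only [this, tw_0_1, tw_0_2, tw_1_3, tw_2_4, tw_3_5, tw_5_6, tw_6_7]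
                        have f50 : T.a u6 u7 = 2 * T.w u4 := by linarith only [tap_6_7, tw_0_1, tw_0_2, tw_1_3, tw_2_4, tw_3_5, tw_5_6, tw_6_7]
                        have f51 : T.a u7 u7 = -2 * T.w u4 := by have := (h2 u7).2; linarith only [this, tw_0_1, tw_0_2, tw_1_3, tw_2_4, tw_3_5, tw_5_6, tw_6_7]
                        have hsig := Groth.Agent.Helper6.NT.inj8 u4 u2 u0 u1 u3 u5 u6 u7 hn_4_2.symm hn_4_0.symm hn_2_0.symm hn_4_1.symm hn_2_1.symm hn_1_0 hn_4_3.symm hn_3_2 hn_3_0 hn_3_1 hn_5_4 hn_5_2 hn_5_0 hn_5_1 hn_5_3 hn_6_4 hn_6_2 hn_6_0 hn_6_1 hn_6_3 hn_6_5 hn_7_4 hn_7_2 hn_7_0 hn_7_1 hn_7_3 hn_7_5 hn_7_6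
                        exact ⟨Equiv.ofBijective _ (Finite.injective_iff_bijective.1 hsig), T.m u4, T.w u4, Or.inr (Or.inr (Or.inl ⟨f0, f1, f2, f3, f4, f5, f6, f7, f8, f9, f10, f11, f12, f13, f14, f15, f16, f17, f18, f19, f20, f21, f22, f23, f24, f25, f26, f27, f28, f29, f30, f31, f32, f33, f34, f35, f36, f37, f38, f39, f40, f41, f42, f43, f44, f45, f46, f47, f48, f49, f50, f51⟩))⟩
                      · -- (6,7) Tp
                        exfalso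
                        have key := Groth.Agent.Helper6.NT.negfun3 T h2 u5 u6 u7 (by norm_num) 1 2 1 (by norm_num) (by norm_num)
                        linarith only [key, tap_5_6, taq_5_6, z_5_7, tap_6_7, taq_6_7, T.w_pos u5, T.w_pos u6, T.w_pos u7]
                      · -- (6,7) Tm
                        exfalso
                        have key := Groth.Agent.Helper6.NT.negfun3 T h2 u5 u6 u7 (by norm_num) 1 2 3 (by norm_num) (by norm_num)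
                        linarith only [key, tap_5_6, taq_5_6, z_5_7, tap_6_7, taq_6_7, T.w_pos u5, T.w_pos u6, T.w_pos u7]
                    · push Not at hx
                      have cl_6 := hx
                      clear hx
                      exfalso
                      refine Groth.Agent.Helper6.NT.closed_contra T [u0, u1, u2, u3, u4, u5, u6] (by simp) (by simp) ?_
                      intro i hi j hj
                      simp only [List.mem_cons, List.not_mem_nil, or_false, not_or] at hi hj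
                      rcases hi with rfl | rfl | rfl | rfl | rfl | rfl | rfl
                      · exact cl_0 j ⟨hj.1, hj.2.1, hj.2.2.1⟩
                      · exact cl_1 j ⟨hj.1, hj.2.1, hj.2.2.1, hj.2.2.2.1⟩
                      · exact cl_2 j ⟨hj.1, hj.2.1, hj.2.2.1, hj.2.2.2.1, hj.2.2.2.2.1⟩
                      · exact cl_3 j ⟨hj.1, hj.2.1, hj.2.2.1, hj.2.2.2.1, hj.2.2.2.2.1, hj.2.2.2.2.2.1⟩
                      · exact cl_4 j ⟨hj.1, hj.2.1, hj.2.2.1, hj.2.2.2.1, hj.2.2.2.2.1, hj.2.2.2.2.2.1⟩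
                      · exact cl_5 j ⟨hj.1, hj.2.1, hj.2.2.1, hj.2.2.2.1, hj.2.2.2.2.1, hj.2.2.2.2.2.1, hj.2.2.2.2.2.2⟩
                      · exact cl_6 j ⟨hj.1, hj.2.1, hj.2.2.1, hj.2.2.2.1, hj.2.2.2.2.1, hj.2.2.2.2.2.1, hj.2.2.2.2.2.2⟩
                · -- (5,6) Dp
                  exfalso
                  have key := Groth.Agent.Helper6.NT.negfun7 T h2 u0 u1 u2 u3 u4 u5 u6 (by norm_num) 2 2 2 2 2 2 1 (by norm_num) (by norm_num)
                  linarith only [key, tap_0_1, taq_0_1, tap_0_2, taq_0_2, z_0_3, z_0_4, z_0_5, z_0_6, z_1_2, tap_1_3, taq_1_3, z_1_4, z_1_5, z_1_6, z_2_3, tap_2_4, taq_2_4, z_2_5, z_2_6, z_3_4, tap_3_5, taq_3_5, z_3_6, z_4_5, z_4_6, tap_5_6, taq_5_6, T.w_pos u0, T.w_pos u1, T.w_pos u2, T.w_pos u3, T.w_pos u4, T.w_pos u5, T.w_pos u6]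
                · -- (5,6) Dm
                  exfalso
                  have key := Groth.Agent.Helper6.NT.negfun7 T h2 u0 u1 u2 u3 u4 u5 u6 (by norm_num) 1 1 1 1 1 1 1 (by norm_num) (by norm_num)
                  linarith only [key, tap_0_1, taq_0_1, tap_0_2, taq_0_2, z_0_3, z_0_4, z_0_5, z_0_6, z_1_2, tap_1_3, taq_1_3, z_1_4, z_1_5, z_1_6, z_2_3, tap_2_4, taq_2_4, z_2_5, z_2_6, z_3_4, tap_3_5, taq_3_5, z_3_6, z_4_5, z_4_6, tap_5_6, taq_5_6, T.w_pos u0, T.w_pos u1, T.w_pos u2, T.w_pos u3, T.w_pos u4, T.w_pos u5, T.w_pos u6]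
                · -- (5,6) Tp
                  exfalso
                  have key := Groth.Agent.Helper6.NT.negfun3 T h2 u3 u5 u6 (by norm_num) 1 2 1 (by norm_num) (by norm_num)
                  linarith only [key, tap_3_5, taq_3_5, z_3_6, tap_5_6, taq_5_6, T.w_pos u3, T.w_pos u5, T.w_pos u6]
                · -- (5,6) Tm
                  exfalso
                  have key := Groth.Agent.Helper6.NT.negfun3 T h2 u3 u5 u6 (by norm_num) 1 2 3 (by norm_num) (by norm_num)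
                  linarith only [key, tap_3_5, taq_3_5, z_3_6, tap_5_6, taq_5_6, T.w_pos u3, T.w_pos u5, T.w_pos u6]
              · push Not at hx
                have cl_5 := hx
                clear hx
                exfalso
                refine Groth.Agent.Helper6.NT.closed_contra T [u0, u1, u2, u3, u4, u5] (by simp) (by simp) ?_
                intro i hi j hj
                simp only [List.mem_cons, List.not_mem_nil, or_false, not_or] at hi hj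
                rcases hi with rfl | rfl | rfl | rfl | rfl | rfl
                · exact cl_0 j ⟨hj.1, hj.2.1, hj.2.2.1⟩
                · exact cl_1 j ⟨hj.1, hj.2.1, hj.2.2.1, hj.2.2.2.1⟩
                · exact cl_2 j ⟨hj.1, hj.2.1, hj.2.2.1, hj.2.2.2.1, hj.2.2.2.2.1⟩
                · exact cl_3 j ⟨hj.1, hj.2.1, hj.2.2.1, hj.2.2.2.1, hj.2.2.2.2.1, hj.2.2.2.2.2⟩
                · exact cl_4 j ⟨hj.1, hj.2.1, hj.2.2.1, hj.2.2.2.1, hj.2.2.2.2.1, hj.2.2.2.2.2⟩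
                · exact cl_5 j ⟨hj.1, hj.2.1, hj.2.2.1, hj.2.2.2.1, hj.2.2.2.2.1, hj.2.2.2.2.2⟩
        · -- (4,5) nonzero
          obtain ⟨lbp_4_5, lbq_4_5⟩ := Groth.Agent.Helper6.NT.lb T u4 u5 hn_5_4.symm nz_4_5
          exfalso
          have key := Groth.Agent.Helper6.NT.negfun5 T h2 u0 u2 u3 u4 u5 (by norm_num) 1 2 1 3 2 (by norm_num) (by norm_num)
          linarith only [key, tap_0_2, taq_0_2, z_0_3, z_0_4, z_0_5, z_2_3, tap_2_4, taq_2_4, z_2_5, z_3_4, tap_3_5, taq_3_5, lbp_4_5, lbq_4_5, T.w_pos u0, T.w_pos u2, T.w_pos u3, T.w_pos u4, T.w_pos u5]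
      · -- (3,5) Dp
        exfalso
        have key := Groth.Agent.Helper6.NT.negfun6 T h2 u0 u1 u2 u3 u4 u5 (by norm_num) 2 2 2 2 2 1 (by norm_num) (by norm_num)
        linarith only [key, tap_0_1, taq_0_1, tap_0_2, taq_0_2, z_0_3, z_0_4, z_0_5, z_1_2, tap_1_3, taq_1_3, z_1_4, z_1_5, z_2_3, tap_2_4, taq_2_4, z_2_5, z_3_4, tap_3_5, taq_3_5, T.offDiag_nonneg u4 u5 hn_5_4.symm, T.w_pos u0, T.w_pos u1, T.w_pos u2, T.w_pos u3, T.w_pos u4, T.w_pos u5]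
      · -- (3,5) Dm
        exfalso
        have key := Groth.Agent.Helper6.NT.negfun6 T h2 u0 u1 u2 u3 u4 u5 (by norm_num) 1 1 1 1 1 1 (by norm_num) (by norm_num)
        linarith only [key, tap_0_1, taq_0_1, tap_0_2, taq_0_2, z_0_3, z_0_4, z_0_5, z_1_2, tap_1_3, taq_1_3, z_1_4, z_1_5, z_2_3, tap_2_4, taq_2_4, z_2_5, z_3_4, tap_3_5, taq_3_5, T.offDiag_nonneg u4 u5 hn_5_4.symm, T.w_pos u0, T.w_pos u1, T.w_pos u2, T.w_pos u3, T.w_pos u4, T.w_pos u5]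
      · -- (3,5) Tp
        exfalso
        have key := Groth.Agent.Helper6.NT.negfun3 T h2 u1 u3 u5 (by norm_num) 1 2 1 (by norm_num) (by norm_num)
        linarith only [key, tap_1_3, taq_1_3, z_1_5, tap_3_5, taq_3_5, T.w_pos u1, T.w_pos u3, T.w_pos u5]
      · -- (3,5) Tm
        exfalso
        have key := Groth.Agent.Helper6.NT.negfun3 T h2 u1 u3 u5 (by norm_num) 1 2 3 (by norm_num) (by norm_num)
        linarith only [key, tap_1_3, taq_1_3, z_1_5, tap_3_5, taq_3_5, T.w_pos u1, T.w_pos u3, T.w_pos u5]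
    · push Not at hx
      have cl_3 := hx
      clear hx
      by_cases hx : ∃ j, (j ≠ u0 ∧ j ≠ u1 ∧ j ≠ u2 ∧ j ≠ u3 ∧ j ≠ u4) ∧ T.a u4 j ≠ 0
      · obtain ⟨u5, ⟨hn_5_0, hn_5_1, hn_5_2, hn_5_3, hn_5_4⟩, e_4_5⟩ := hx
        have z_0_5 : T.a u0 u5 = 0 := cl_0 u5 ⟨hn_5_0, hn_5_1, hn_5_2⟩
        have z_1_5 : T.a u1 u5 = 0 := cl_1 u5 ⟨hn_5_0, hn_5_1, hn_5_2, hn_5_3⟩
        have z_2_5 : T.a u2 u5 = 0 := cl_2 u5 ⟨hn_5_0, hn_5_1, hn_5_2, hn_5_3, hn_5_4⟩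
        have z_3_5 : T.a u3 u5 = 0 := cl_3 u5 ⟨hn_5_0, hn_5_1, hn_5_2, hn_5_3, hn_5_4⟩
        rcases Groth.Agent.Helper6.NT.edge5 T h2 (by norm_num) u4 u5 hn_5_4.symm e_4_5 with ⟨tw_4_5, tap_4_5, taq_4_5⟩ | ⟨tw_4_5, tap_4_5, taq_4_5⟩ | ⟨tw_4_5, tap_4_5, taq_4_5⟩ | ⟨tw_4_5, tap_4_5, taq_4_5⟩ | ⟨tw_4_5, tap_4_5, taq_4_5⟩
        · -- (4,5) S
          exfalso
          have key := Groth.Agent.Helper6.NT.negfun5 T h2 u0 u1 u2 u4 u5 (by norm_num) 2 1 3 4 2 (by norm_num) (by norm_num)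
          linarith only [key, tap_0_1, taq_0_1, tap_0_2, taq_0_2, z_0_4, z_0_5, z_1_2, z_1_4, z_1_5, tap_2_4, taq_2_4, z_2_5, tap_4_5, taq_4_5, T.w_pos u0, T.w_pos u1, T.w_pos u2, T.w_pos u4, T.w_pos u5]
        · -- (4,5) Dp
          exfalso
          have key := Groth.Agent.Helper6.NT.negfun3 T h2 u2 u4 u5 (by norm_num) 1 2 1 (by norm_num) (by norm_num)
          linarith only [key, tap_2_4, taq_2_4, z_2_5, tap_4_5, taq_4_5, T.w_pos u2, T.w_pos u4, T.w_pos u5]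
        · -- (4,5) Dm
          exfalso
          have key := Groth.Agent.Helper6.NT.negfun3 T h2 u2 u4 u5 (by norm_num) 1 2 2 (by norm_num) (by norm_num)
          linarith only [key, tap_2_4, taq_2_4, z_2_5, tap_4_5, taq_4_5, T.w_pos u2, T.w_pos u4, T.w_pos u5]
        · -- (4,5) Tp
          exfalso
          have key := Groth.Agent.Helper6.NT.negfun3 T h2 u2 u4 u5 (by norm_num) 1 2 1 (by norm_num) (by norm_num)
          linarith only [key, tap_2_4, taq_2_4, z_2_5, tap_4_5, taq_4_5, T.w_pos u2, T.w_pos u4, T.w_pos u5]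
        · -- (4,5) Tm
          exfalso
          have key := Groth.Agent.Helper6.NT.negfun3 T h2 u2 u4 u5 (by norm_num) 1 2 3 (by norm_num) (by norm_num)
          linarith only [key, tap_2_4, taq_2_4, z_2_5, tap_4_5, taq_4_5, T.w_pos u2, T.w_pos u4, T.w_pos u5]
      · push Not at hx
        have cl_4 := hx
        clear hx
        exfalso
        refine Groth.Agent.Helper6.NT.closed_contra T [u0, u1, u2, u3, u4] (by simp) (by simp) ?_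
        intro i hi j hj
        simp only [List.mem_cons, List.not_mem_nil, or_false, not_or] at hi hj
        rcases hi with rfl | rfl | rfl | rfl | rfl
        · exact cl_0 j ⟨hj.1, hj.2.1, hj.2.2.1⟩
        · exact cl_1 j ⟨hj.1, hj.2.1, hj.2.2.1, hj.2.2.2.1⟩
        · exact cl_2 j ⟨hj.1, hj.2.1, hj.2.2.1, hj.2.2.2.1, hj.2.2.2.2⟩
        · exact cl_3 j ⟨hj.1, hj.2.1, hj.2.2.1, hj.2.2.2.1, hj.2.2.2.2⟩
        · exact cl_4 j ⟨hj.1, hj.2.1, hj.2.2.1, hj.2.2.2.1, hj.2.2.2.2⟩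

theorem cut8_9 (T : Models.NumericalType 8) (h2 : ∀ i, T.IsMinusTwo i) (u0 u1 u2 u3 u4 : Fin 8)
    (hn_1_0 : u1 ≠ u0)
    (e_0_1 : T.a u0 u1 ≠ 0)
    (tw_0_1 : T.w u1 = T.w u0)
    (tap_0_1 : T.a u0 u1 = T.w u0)
    (taq_0_1 : T.a u0 u1 = T.w u1)
    (hn_2_0 : u2 ≠ u0)
    (hn_2_1 : u2 ≠ u1)
    (e_0_2 : T.a u0 u2 ≠ 0)
    (tw_0_2 : T.w u2 = T.w u0)
    (tap_0_2 : T.a u0 u2 = T.w u0)
    (taq_0_2 : T.a u0 u2 = T.w u2)
    (z_1_2 : T.a u1 u2 = 0)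
    (cl_0 : ∀ j : Fin 8, (j ≠ u0 ∧ j ≠ u1 ∧ j ≠ u2) → T.a u0 j = 0)
    (hn_3_0 : u3 ≠ u0)
    (hn_3_1 : u3 ≠ u1)
    (hn_3_2 : u3 ≠ u2)
    (e_1_3 : T.a u1 u3 ≠ 0)
    (z_0_3 : T.a u0 u3 = 0)
    (tw_1_3 : T.w u3 = T.w u1)
    (tap_1_3 : T.a u1 u3 = T.w u1)
    (taq_1_3 : T.a u1 u3 = T.w u3)
    (z_2_3 : T.a u2 u3 = 0)
    (cl_1 : ∀ j : Fin 8, (j ≠ u0 ∧ j ≠ u1 ∧ j ≠ u2 ∧ j ≠ u3) → T.a u1 j = 0)
    (cl_2 : ∀ j : Fin 8, (j ≠ u0 ∧ j ≠ u1 ∧ j ≠ u2 ∧ j ≠ u3) → T.a u2 j = 0)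
    (hn_4_0 : u4 ≠ u0)
    (hn_4_1 : u4 ≠ u1)
    (hn_4_2 : u4 ≠ u2)
    (hn_4_3 : u4 ≠ u3)
    (e_3_4 : T.a u3 u4 ≠ 0)
    (z_0_4 : T.a u0 u4 = 0)
    (z_1_4 : T.a u1 u4 = 0)
    (z_2_4 : T.a u2 u4 = 0)
    (tw_3_4 : T.w u4 = T.w u3)
    (tap_3_4 : T.a u3 u4 = T.w u3)
    (taq_3_4 : T.a u3 u4 = T.w u4) :
    ∃ (σ : Equiv.Perm (Fin 8)) (m w : ℤ), ((T.m (σ 0) = m ∧ T.m (σ 1) = m ∧ T.m (σ 2) = m ∧ T.m (σ 3) = m ∧ T.m (σ 4) = m ∧ T.m (σ 5) = m ∧ T.m (σ 6) = m ∧ T.m (σ 7) = m ∧ T.w (σ 0) = w ∧ T.w (σ 1) = w ∧ T.w (σ 2) = w ∧ T.w (σ 3) = w ∧ T.w (σ 4) = w ∧ T.w (σ 5) = w ∧ T.w (σ 6) = w ∧ T.w (σ 7) = w ∧ T.a (σ 0) (σ 0) = -2 * w ∧ T.a (σ 0) (σ 1) = w ∧ T.a (σ 0) (σ 2) = 0 ∧ T.a (σ 0) (σ 3) = 0 ∧ T.a (σ 0) (σ 4) = 0 ∧ T.a (σ 0) (σ 5) = 0 ∧ T.a (σ 0) (σ 6) = 0 ∧ T.a (σ 0) (σ 7) = w ∧ T.a (σ 1) (σ 1) = -2 * w ∧ T.a (σ 1) (σ 2) = w ∧ T.a (σ 1) (σ 3) = 0 ∧ T.a (σ 1) (σ 4) = 0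 ∧ T.a (σ 1) (σ 5) = 0 ∧ T.a (σ 1) (σ 6) = 0 ∧ T.a (σ 1) (σ 7) = 0 ∧ T.a (σ 2) (σ 2) = -2 * w ∧ T.a (σ 2) (σ 3) = w ∧ T.a (σ 2) (σ 4) = 0 ∧ T.a (σ 2) (σ 5) = 0 ∧ T.a (σ 2) (σ 6) = 0 ∧ T.a (σ 2) (σ 7) = 0 ∧ T.a (σ 3) (σ 3) = -2 * w ∧ T.a (σ 3) (σ 4) = w ∧ T.a (σ 3) (σ 5) = 0 ∧ T.a (σ 3) (σ 6) = 0 ∧ T.a (σ 3) (σ 7) = 0 ∧ T.a (σ 4) (σ 4) = -2 * w ∧ T.a (σ 4) (σ 5) = w ∧ T.a (σ 4) (σ 6) = 0 ∧ T.a (σ 4) (σ 7) = 0 ∧ T.a (σ 5) (σ 5) = -2 * w ∧ T.a (σ 5) (σ 6) = w ∧ T.a (σ 5) (σ 7) = 0 ∧ T.a (σ 6) (σ 6) = -2 * w ∧ T.a (σ 6) (σ 7) = w ∧ T.a (σ 7) (σ 7) = -2 * w) ∨ (T.m (σ 0) = 2 * m ∧ T.m (σ 1) = 2 * m ∧ T.m (σ 2) = 2 * m ∧ T.m (σ 3) = 2 * m ∧ T.m (σ 4) = 2 * m ∧ T.m (σ 5) = 2 * m ∧ T.m (σ 6) = 2 * m ∧ T.m (σ 7) = m ∧ T.w (σ 0) = w ∧ T.w (σ 1) = 2 * w ∧ T.w (σ 2) = 2 * w ∧ T.w (σ 3) = 2 * w ∧ T.w (σ 4) = 2 * w ∧ T.w (σ 5) = 2 * w ∧ T.w (σ 6) = 2 * w ∧ T.w (σ 7) = 4 * w ∧ T.a (σ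 0) (σ 0) = -2 * w ∧ T.a (σ 0) (σ 1) = 2 * w ∧ T.a (σ 0) (σ 2) = 0 ∧ T.a (σ 0) (σ 3) = 0 ∧ T.a (σ 0) (σ 4) = 0 ∧ T.a (σ 0) (σ 5) = 0 ∧ T.a (σ 0) (σ 6) = 0 ∧ T.a (σ 0) (σ 7) = 0 ∧ T.a (σ 1) (σ 1) = -4 * w ∧ T.a (σ 1) (σ 2) = 2 * w ∧ T.a (σ 1) (σ 3) = 0 ∧ T.a (σ 1) (σ 4) = 0 ∧ T.a (σ 1) (σ 5) = 0 ∧ T.a (σ 1) (σ 6) = 0 ∧ T.a (σ 1) (σ 7) = 0 ∧ T.a (σ 2) (σ 2) = -4 * w ∧ T.a (σ 2) (σ 3) = 2 * w ∧ T.a (σ 2) (σ 4) = 0 ∧ T.a (σ 2) (σ 5) = 0 ∧ T.a (σ 2) (σ 6) = 0 ∧ T.a (σ 2) (σ 7) = 0 ∧ T.a (σ 3) (σ 3) = -4 * w ∧ T.a (σ 3) (σ 4) = 2 * w ∧ T.a (σ 3) (σ 5) = 0 ∧ T.a (σ 3) (σ 6) = 0 ∧ T.a (σ 3) (σ 7) = 0 ∧ T.a (σ 4) (σ 4) = -4 * w ∧ T.a (σ 4) (σ 5) = 2 * w ∧ T.a (σ 4) (σ 6) = 0 ∧ T.a (σ 4) (σ 7) = 0 ∧ T.a (σ 5) (σ 5) = -4 * w ∧ T.a (σ 5) (σ 6) = 2 * w ∧ T.a (σ 5) (σ 7) = 0 ∧ T.a (σ 6) (σ 6) = -4 * w ∧ T.a (σ 6) (σ 7) = 4 * w ∧ T.a (σ 7) (σ 7) = -8 * w) ∨ (T.m (σ 0) = m ∧ T.m (σ 1)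 = m ∧ T.m (σ 2) = m ∧ T.m (σ 3) = m ∧ T.m (σ 4) = m ∧ T.m (σ 5) = m ∧ T.m (σ 6) = m ∧ T.m (σ 7) = m ∧ T.w (σ 0) = w ∧ T.w (σ 1) = 2 * w ∧ T.w (σ 2) = 2 * w ∧ T.w (σ 3) = 2 * w ∧ T.w (σ 4) = 2 * w ∧ T.w (σ 5) = 2 * w ∧ T.w (σ 6) = 2 * w ∧ T.w (σ 7) = w ∧ T.a (σ 0) (σ 0) = -2 * w ∧ T.a (σ 0) (σ 1) = 2 * w ∧ T.a (σ 0) (σ 2) = 0 ∧ T.a (σ 0) (σ 3) = 0 ∧ T.a (σ 0) (σ 4) = 0 ∧ T.a (σ 0) (σ 5) = 0 ∧ T.a (σ 0) (σ 6) = 0 ∧ T.a (σ 0) (σ 7) = 0 ∧ T.a (σ 1) (σ 1) = -4 * w ∧ T.a (σ 1) (σ 2) = 2 * w ∧ T.a (σ 1) (σ 3) = 0 ∧ T.a (σ 1) (σ 4) = 0 ∧ T.a (σ 1) (σ 5) = 0 ∧ T.a (σ 1) (σ 6) = 0 ∧ T.a (σ 1) (σ 7) = 0 ∧ T.a (σ 2) (σ 2) = -4 * w ∧ T.a (σ 2) (σ 3) = 2 * w ∧ T.a (σ 2) (σ 4) = 0 ∧ T.a (σ 2) (σ 5) = 0 ∧ T.a (σ 2) (σ 6) = 0 ∧ T.a (σ 2) (σ 7) = 0 ∧ T.a (σ 3) (σ 3) = -4 * w ∧ T.a (σ 3) (σ 4) = 2 * w ∧ T.a (σ 3) (σ 5) = 0 ∧ T.a (σ 3) (σ 6) = 0 ∧ T.a (σ 3) (σ 7) = 0 ∧ T.a (σ 4) (σ 4) =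 -4 * w ∧ T.a (σ 4) (σ 5) = 2 * w ∧ T.a (σ 4) (σ 6) = 0 ∧ T.a (σ 4) (σ 7) = 0 ∧ T.a (σ 5) (σ 5) = -4 * w ∧ T.a (σ 5) (σ 6) = 2 * w ∧ T.a (σ 5) (σ 7) = 0 ∧ T.a (σ 6) (σ 6) = -4 * w ∧ T.a (σ 6) (σ 7) = 2 * w ∧ T.a (σ 7) (σ 7) = -2 * w) ∨ (T.m (σ 0) = m ∧ T.m (σ 1) = 2 * m ∧ T.m (σ 2) = 2 * m ∧ T.m (σ 3) = 2 * m ∧ T.m (σ 4) = 2 * m ∧ T.m (σ 5) = 2 * m ∧ T.m (σ 6) = 2 * m ∧ T.m (σ 7) = m ∧ T.w (σ 0) = 2 * w ∧ T.w (σ 1) = w ∧ T.w (σ 2) = w ∧ T.w (σ 3) = w ∧ T.w (σ 4) = w ∧ T.w (σ 5) = w ∧ T.w (σ 6) = w ∧ T.w (σ 7) = 2 * w ∧ T.a (σ 0) (σ 0) = -4 * w ∧ T.a (σ 0) (σ 1) = 2 * w ∧ T.a (σ 0) (σ 2) = 0 ∧ T.a (σ 0) (σ 3) = 0 ∧ T.a (σ 0) (σ 4) = 0 ∧ T.a (σ 0) (σ 5) = 0 ∧ T.a (σ 0) (σ 6) = 0 ∧ T.a (σ 0) (σ 7) = 0 ∧ T.a (σ 1) (σ 1) = -2 * w ∧ T.a (σ 1) (σ 2) = w ∧ T.a (σ 1) (σ 3) = 0 ∧ T.a (σ 1) (σ 4) = 0 ∧ T.a (σ 1) (σ 5) = 0 ∧ T.a (σ 1) (σ 6) = 0 ∧ T.a (σ 1) (σ 7) = 0 ∧ T.a (σ 2) (σ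 2) = -2 * w ∧ T.a (σ 2) (σ 3) = w ∧ T.a (σ 2) (σ 4) = 0 ∧ T.a (σ 2) (σ 5) = 0 ∧ T.a (σ 2) (σ 6) = 0 ∧ T.a (σ 2) (σ 7) = 0 ∧ T.a (σ 3) (σ 3) = -2 * w ∧ T.a (σ 3) (σ 4) = w ∧ T.a (σ 3) (σ 5) = 0 ∧ T.a (σ 3) (σ 6) = 0 ∧ T.a (σ 3) (σ 7) = 0 ∧ T.a (σ 4) (σ 4) = -2 * w ∧ T.a (σ 4) (σ 5) = w ∧ T.a (σ 4) (σ 6) = 0 ∧ T.a (σ 4) (σ 7) = 0 ∧ T.a (σ 5) (σ 5) = -2 * w ∧ T.a (σ 5) (σ 6) = w ∧ T.a (σ 5) (σ 7) = 0 ∧ T.a (σ 6) (σ 6) = -2 * w ∧ T.a (σ 6) (σ 7) = 2 * w ∧ T.a (σ 7) (σ 7) = -4 * w) ∨ (T.m (σ 0) = m ∧ T.m (σ 1) = 2 * m ∧ T.m (σ 2) = 2 * m ∧ T.m (σ 3) = 2 * m ∧ T.m (σ 4) = 2 * m ∧ T.m (σ 5) = 2 * m ∧ T.m (σ 6) = m ∧ T.m (σ 7) = m ∧ T.w (σ 0) = 2 * w ∧ T.w (σ 1) = w ∧ T.w (σ 2) = w ∧ T.w (σ 3) = w ∧ T.w (σ 4) = w ∧ T.w (σ 5) = w ∧ T.w (σ 6) = w ∧ T.w (σ 7) = w ∧ T.a (σ 0) (σ 0) = -4 * w ∧ T.a (σ 0) (σ 1) = 2 * w ∧ T.a (σ 0) (σ 2) = 0 ∧ T.a (σ 0) (σ 3) = 0 ∧ T.a (σ 0) (σ 4) =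 0 ∧ T.a (σ 0) (σ 5) = 0 ∧ T.a (σ 0) (σ 6) = 0 ∧ T.a (σ 0) (σ 7) = 0 ∧ T.a (σ 1) (σ 1) = -2 * w ∧ T.a (σ 1) (σ 2) = w ∧ T.a (σ 1) (σ 3) = 0 ∧ T.a (σ 1) (σ 4) = 0 ∧ T.a (σ 1) (σ 5) = 0 ∧ T.a (σ 1) (σ 6) = 0 ∧ T.a (σ 1) (σ 7) = 0 ∧ T.a (σ 2) (σ 2) = -2 * w ∧ T.a (σ 2) (σ 3) = w ∧ T.a (σ 2) (σ 4) = 0 ∧ T.a (σ 2) (σ 5) = 0 ∧ T.a (σ 2) (σ 6) = 0 ∧ T.a (σ 2) (σ 7) = 0 ∧ T.a (σ 3) (σ 3) = -2 * w ∧ T.a (σ 3) (σ 4) = w ∧ T.a (σ 3) (σ 5) = 0 ∧ T.a (σ 3) (σ 6) = 0 ∧ T.a (σ 3) (σ 7) = 0 ∧ T.a (σ 4) (σ 4) = -2 * w ∧ T.a (σ 4) (σ 5) = w ∧ T.a (σ 4) (σ 6) = 0 ∧ T.a (σ 4) (σ 7) = 0 ∧ T.a (σ 5) (σ 5) = -2 * w ∧ T.a (σ 5) (σ 6) = w ∧ T.a (σ 5) (σ 7) = w ∧ T.a (σ 6) (σ 6) = -2 * w ∧ T.a (σ 6) (σ 7) = 0 ∧ T.a (σ 7) (σ 7) = -2 * w) ∨ (T.m (σ 0) = 2 * m ∧ T.m (σ 1) = 2 * m ∧ T.m (σ 2) = 2 * m ∧ T.m (σ 3) = 2 * m ∧ T.m (σ 4) = 2 * m ∧ T.m (σ 5) = 2 * m ∧ T.m (σ 6) = m ∧ T.m (σ 7) = m ∧ T.w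 (σ 0) = w ∧ T.w (σ 1) = 2 * w ∧ T.w (σ 2) = 2 * w ∧ T.w (σ 3) = 2 * w ∧ T.w (σ 4) = 2 * w ∧ T.w (σ 5) = 2 * w ∧ T.w (σ 6) = 2 * w ∧ T.w (σ 7) = 2 * w ∧ T.a (σ 0) (σ 0) = -2 * w ∧ T.a (σ 0) (σ 1) = 2 * w ∧ T.a (σ 0) (σ 2) = 0 ∧ T.a (σ 0) (σ 3) = 0 ∧ T.a (σ 0) (σ 4) = 0 ∧ T.a (σ 0) (σ 5) = 0 ∧ T.a (σ 0) (σ 6) = 0 ∧ T.a (σ 0) (σ 7) = 0 ∧ T.a (σ 1) (σ 1) = -4 * w ∧ T.a (σ 1) (σ 2) = 2 * w ∧ T.a (σ 1) (σ 3) = 0 ∧ T.a (σ 1) (σ 4) = 0 ∧ T.a (σ 1) (σ 5) = 0 ∧ T.a (σ 1) (σ 6) = 0 ∧ T.a (σ 1) (σ 7) = 0 ∧ T.a (σ 2) (σ 2) = -4 * w ∧ T.a (σ 2) (σ 3) = 2 * w ∧ T.a (σ 2) (σ 4) = 0 ∧ T.a (σ 2) (σ 5) = 0 ∧ T.a (σ 2) (σ 6) = 0 ∧ T.a (σ 2) (σ 7) = 0 ∧ T.a (σ 3) (σ 3) = -4 * w ∧ T.a (σ 3) (σ 4) = 2 * w ∧ T.a (σ 3) (σ 5) = 0 ∧ T.a (σ 3) (σ 6) = 0 ∧ T.a (σ 3) (σ 7) = 0 ∧ T.a (σ 4) (σ 4) = -4 * w ∧ T.a (σ 4) (σ 5) = 2 * w ∧ T.a (σ 4) (σ 6) = 0 ∧ T.a (σ 4) (σ 7) = 0 ∧ T.a (σ 5) (σ 5) = -4 *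 w ∧ T.a (σ 5) (σ 6) = 2 * w ∧ T.a (σ 5) (σ 7) = 2 * w ∧ T.a (σ 6) (σ 6) = -4 * w ∧ T.a (σ 6) (σ 7) = 0 ∧ T.a (σ 7) (σ 7) = -4 * w) ∨ (T.m (σ 0) = m ∧ T.m (σ 1) = m ∧ T.m (σ 2) = 2 * m ∧ T.m (σ 3) = 2 * m ∧ T.m (σ 4) = 2 * m ∧ T.m (σ 5) = 2 * m ∧ T.m (σ 6) = m ∧ T.m (σ 7) = m ∧ T.w (σ 0) = w ∧ T.w (σ 1) = w ∧ T.w (σ 2) = w ∧ T.w (σ 3) = w ∧ T.w (σ 4) = w ∧ T.w (σ 5) = w ∧ T.w (σ 6) = w ∧ T.w (σ 7) = w ∧ T.a (σ 0) (σ 0) = -2 * w ∧ T.a (σ 0) (σ 1) = 0 ∧ T.a (σ 0) (σ 2) = w ∧ T.a (σ 0) (σ 3) = 0 ∧ T.a (σ 0) (σ 4) = 0 ∧ T.a (σ 0) (σ 5) = 0 ∧ T.a (σ 0) (σ 6) = 0 ∧ T.a (σ 0) (σ 7) = 0 ∧ T.a (σ 1) (σ 1) = -2 * w ∧ T.a (σ 1) (σ 2) = w ∧ T.a (σ 1) (σ 3) = 0 ∧ T.a (σ 1) (σ 4) = 0 ∧ T.a (σ 1) (σ 5) = 0 ∧ T.a (σ 1) (σ 6) = 0 ∧ T.a (σ 1) (σ 7) = 0 ∧ T.a (σ 2) (σ 2) = -2 * w ∧ T.a (σ 2) (σ 3) = w ∧ T.a (σ 2) (σ 4) = 0 ∧ T.a (σ 2) (σ 5) = 0 ∧ T.a (σ 2) (σ 6) = 0 ∧ T.a (σ 2) (σ 7) =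 0 ∧ T.a (σ 3) (σ 3) = -2 * w ∧ T.a (σ 3) (σ 4) = w ∧ T.a (σ 3) (σ 5) = 0 ∧ T.a (σ 3) (σ 6) = 0 ∧ T.a (σ 3) (σ 7) = 0 ∧ T.a (σ 4) (σ 4) = -2 * w ∧ T.a (σ 4) (σ 5) = w ∧ T.a (σ 4) (σ 6) = 0 ∧ T.a (σ 4) (σ 7) = 0 ∧ T.a (σ 5) (σ 5) = -2 * w ∧ T.a (σ 5) (σ 6) = w ∧ T.a (σ 5) (σ 7) = w ∧ T.a (σ 6) (σ 6) = -2 * w ∧ T.a (σ 6) (σ 7) = 0 ∧ T.a (σ 7) (σ 7) = -2 * w) ∨ (T.m (σ 0) = m ∧ T.m (σ 1) = 2 * m ∧ T.m (σ 2) = 3 * m ∧ T.m (σ 3) = 4 * m ∧ T.m (σ 4) = 3 * m ∧ T.m (σ 5) = 2 * m ∧ T.m (σ 6) = m ∧ T.m (σ 7) = 2 * m ∧ T.w (σ 0) = w ∧ T.w (σ 1) = w ∧ T.w (σ 2) = w ∧ T.w (σ 3) = w ∧ T.w (σ 4) = w ∧ T.w (σ 5) = w ∧ T.w (σ 6) = w ∧ T.w (σ 7) = w ∧ T.a (σ 0) (σ 0) = -2 * w ∧ T.a (σ 0) (σ 1) = w ∧ T.a (σ 0) (σ 2) = 0 ∧ T.a (σ 0) (σ 3) = 0 ∧ T.a (σ 0) (σ 4) = 0 ∧ T.a (σ 0) (σ 5) = 0 ∧ T.a (σ 0) (σ 6) = 0 ∧ T.a (σ 0) (σ 7) = 0 ∧ T.a (σ 1) (σ 1) = -2 * w ∧ T.a (σ 1) (σ 2) = w ∧ T.a (σ 1)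 (σ 3) = 0 ∧ T.a (σ 1) (σ 4) = 0 ∧ T.a (σ 1) (σ 5) = 0 ∧ T.a (σ 1) (σ 6) = 0 ∧ T.a (σ 1) (σ 7) = 0 ∧ T.a (σ 2) (σ 2) = -2 * w ∧ T.a (σ 2) (σ 3) = w ∧ T.a (σ 2) (σ 4) = 0 ∧ T.a (σ 2) (σ 5) = 0 ∧ T.a (σ 2) (σ 6) = 0 ∧ T.a (σ 2) (σ 7) = 0 ∧ T.a (σ 3) (σ 3) = -2 * w ∧ T.a (σ 3) (σ 4) = w ∧ T.a (σ 3) (σ 5) = 0 ∧ T.a (σ 3) (σ 6) = 0 ∧ T.a (σ 3) (σ 7) = w ∧ T.a (σ 4) (σ 4) = -2 * w ∧ T.a (σ 4) (σ 5) = w ∧ T.a (σ 4) (σ 6) = 0 ∧ T.a (σ 4) (σ 7) = 0 ∧ T.a (σ 5) (σ 5) = -2 * w ∧ T.a (σ 5) (σ 6) = w ∧ T.a (σ 5) (σ 7) = 0 ∧ T.a (σ 6) (σ 6) = -2 * w ∧ T.a (σ 6) (σ 7) = 0 ∧ T.a (σ 7) (σ 7) = -2 * w)) := by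
  by_cases hx : ∃ j, (j ≠ u0 ∧ j ≠ u1 ∧ j ≠ u2 ∧ j ≠ u3 ∧ j ≠ u4) ∧ T.a u3 j ≠ 0
  · obtain ⟨u5, ⟨hn_5_0, hn_5_1, hn_5_2, hn_5_3, hn_5_4⟩, e_3_5⟩ := hx
    have z_0_5 : T.a u0 u5 = 0 := cl_0 u5 ⟨hn_5_0, hn_5_1, hn_5_2⟩
    have z_1_5 : T.a u1 u5 = 0 := cl_1 u5 ⟨hn_5_0, hn_5_1, hn_5_2, hn_5_3⟩
    have z_2_5 : T.a u2 u5 = 0 := cl_2 u5 ⟨hn_5_0, hn_5_1, hn_5_2, hn_5_3⟩
    rcases Groth.Agent.Helper6.NT.edge5 T h2 (by norm_num) u3 u5 hn_5_3.symm e_3_5 with ⟨tw_3_5, tap_3_5, taq_3_5⟩ | ⟨tw_3_5, tap_3_5, taq_3_5⟩ | ⟨tw_3_5, tap_3_5, taq_3_5⟩ | ⟨tw_3_5, tap_3_5, taq_3_5⟩ | ⟨tw_3_5, tap_3_5, taq_3_5⟩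
    · -- (3,5) S
      rcases eq_or_ne (T.a u4 u5) 0 with z_4_5 | nz_4_5
      · -- (4,5) zero
        by_cases hx : ∃ j, (j ≠ u0 ∧ j ≠ u1 ∧ j ≠ u2 ∧ j ≠ u3 ∧ j ≠ u4 ∧ j ≠ u5) ∧ T.a u3 j ≠ 0
        · obtain ⟨u6, ⟨hn_6_0, hn_6_1, hn_6_2, hn_6_3, hn_6_4, hn_6_5⟩, e_3_6⟩ := hx
          have z_0_6 : T.a u0 u6 = 0 := cl_0 u6 ⟨hn_6_0, hn_6_1, hn_6_2⟩
          have z_1_6 : T.a u1 u6 = 0 := cl_1 u6 ⟨hn_6_0, hn_6_1, hn_6_2, hn_6_3⟩
          have z_2_6 : T.a u2 u6 = 0 := cl_2 u6 ⟨hn_6_0, hn_6_1, hn_6_2, hn_6_3⟩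
          rcases Groth.Agent.Helper6.NT.edge5 T h2 (by norm_num) u3 u6 hn_6_3.symm e_3_6 with ⟨tw_3_6, tap_3_6, taq_3_6⟩ | ⟨tw_3_6, tap_3_6, taq_3_6⟩ | ⟨tw_3_6, tap_3_6, taq_3_6⟩ | ⟨tw_3_6, tap_3_6, taq_3_6⟩ | ⟨tw_3_6, tap_3_6, taq_3_6⟩
          · -- (3,6) S
            exfalso
            have key := Groth.Agent.Helper6.NT.negfun5 T h2 u1 u3 u4 u5 u6 (by norm_num) 1 2 1 1 1 (by norm_num) (by norm_num)
            linarith only [key, tap_1_3, taq_1_3, z_1_4, z_1_5, z_1_6, tap_3_4, taq_3_4, tap_3_5, taq_3_5, tap_3_6, taq_3_6, z_4_5, T.offDiag_nonneg u4 u6 hn_6_4.symm, T.offDiag_nonneg u5 u6 hn_6_5.symm, T.w_pos u1, T.w_pos u3, T.w_pos u4, T.w_pos u5, T.w_pos u6]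
          · -- (3,6) Dp
            exfalso
            have key := Groth.Agent.Helper6.NT.negfun4 T h2 u3 u4 u5 u6 (by norm_num) 2 1 1 1 (by norm_num) (by norm_num)
            linarith only [key, tap_3_4, taq_3_4, tap_3_5, taq_3_5, tap_3_6, taq_3_6, z_4_5, T.offDiag_nonneg u4 u6 hn_6_4.symm, T.offDiag_nonneg u5 u6 hn_6_5.symm, T.w_pos u3, T.w_pos u4, T.w_pos u5, T.w_pos u6]
          · -- (3,6) Dm
            exfalso
            have key := Groth.Agent.Helper6.NT.negfun4 T h2 u3 u4 u5 u6 (by norm_num) 2 1 1 2 (by norm_num) (by norm_num)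
            linarith only [key, tap_3_4, taq_3_4, tap_3_5, taq_3_5, tap_3_6, taq_3_6, z_4_5, T.offDiag_nonneg u4 u6 hn_6_4.symm, T.offDiag_nonneg u5 u6 hn_6_5.symm, T.w_pos u3, T.w_pos u4, T.w_pos u5, T.w_pos u6]
          · -- (3,6) Tp
            exfalso
            have key := Groth.Agent.Helper6.NT.negfun3 T h2 u3 u5 u6 (by norm_num) 2 1 1 (by norm_num) (by norm_num)
            linarith only [key, tap_3_5, taq_3_5, tap_3_6, taq_3_6, T.offDiag_nonneg u5 u6 hn_6_5.symm, T.w_pos u3, T.w_pos u5, T.w_pos u6]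
          · -- (3,6) Tm
            exfalso
            have key := Groth.Agent.Helper6.NT.negfun3 T h2 u3 u5 u6 (by norm_num) 2 1 3 (by norm_num) (by norm_num)
            linarith only [key, tap_3_5, taq_3_5, tap_3_6, taq_3_6, T.offDiag_nonneg u5 u6 hn_6_5.symm, T.w_pos u3, T.w_pos u5, T.w_pos u6]
        · push Not at hx
          have cl_3 := hx
          clear hx
          by_cases hx : ∃ j, (j ≠ u0 ∧ j ≠ u1 ∧ j ≠ u2 ∧ j ≠ u3 ∧ j ≠ u4 ∧ j ≠ u5) ∧ T.a u4 j ≠ 0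
          · obtain ⟨u6, ⟨hn_6_0, hn_6_1, hn_6_2, hn_6_3, hn_6_4, hn_6_5⟩, e_4_6⟩ := hx
            have z_0_6 : T.a u0 u6 = 0 := cl_0 u6 ⟨hn_6_0, hn_6_1, hn_6_2⟩
            have z_1_6 : T.a u1 u6 = 0 := cl_1 u6 ⟨hn_6_0, hn_6_1, hn_6_2, hn_6_3⟩
            have z_2_6 : T.a u2 u6 = 0 := cl_2 u6 ⟨hn_6_0, hn_6_1, hn_6_2, hn_6_3⟩
            have z_3_6 : T.a u3 u6 = 0 := cl_3 u6 ⟨hn_6_0, hn_6_1, hn_6_2, hn_6_3, hn_6_4, hn_6_5⟩
            rcases Groth.Agent.Helper6.NT.edge5 T h2 (by norm_num) u4 u6 hn_6_4.symm e_4_6 with ⟨tw_4_6, tap_4_6, taq_4_6⟩ | ⟨tw_4_6, tap_4_6, taq_4_6⟩ | ⟨tw_4_6, tap_4_6, taq_4_6⟩ | ⟨tw_4_6, tap_4_6, taq_4_6⟩ | ⟨tw_4_6, tap_4_6, taq_4_6⟩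
            · -- (4,6) S
              rcases eq_or_ne (T.a u5 u6) 0 with z_5_6 | nz_5_6
              · -- (5,6) zero
                by_cases hx : ∃ j, (j ≠ u0 ∧ j ≠ u1 ∧ j ≠ u2 ∧ j ≠ u3 ∧ j ≠ u4 ∧ j ≠ u5 ∧ j ≠ u6) ∧ T.a u4 j ≠ 0
                · obtain ⟨u7, ⟨hn_7_0, hn_7_1, hn_7_2, hn_7_3, hn_7_4, hn_7_5, hn_7_6⟩, e_4_7⟩ := hx
                  have z_0_7 : T.a u0 u7 = 0 := cl_0 u7 ⟨hn_7_0, hn_7_1, hn_7_2⟩
                  have z_1_7 : T.a u1 u7 = 0 := cl_1 u7 ⟨hn_7_0, hn_7_1, hn_7_2, hn_7_3⟩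
                  have z_2_7 : T.a u2 u7 = 0 := cl_2 u7 ⟨hn_7_0, hn_7_1, hn_7_2, hn_7_3⟩
                  have z_3_7 : T.a u3 u7 = 0 := cl_3 u7 ⟨hn_7_0, hn_7_1, hn_7_2, hn_7_3, hn_7_4, hn_7_5⟩
                  rcases Groth.Agent.Helper6.NT.edge5 T h2 (by norm_num) u4 u7 hn_7_4.symm e_4_7 with ⟨tw_4_7, tap_4_7, taq_4_7⟩ | ⟨tw_4_7, tap_4_7, taq_4_7⟩ | ⟨tw_4_7, tap_4_7, taq_4_7⟩ | ⟨tw_4_7, tap_4_7, taq_4_7⟩ | ⟨tw_4_7, tap_4_7, taq_4_7⟩
                  · -- (4,7) S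
                    exfalso
                    have key := Groth.Agent.Helper6.NT.negfun6 T h2 u1 u3 u4 u5 u6 u7 (by norm_num) 1 2 2 1 1 1 (by norm_num) (by norm_num)
                    linarith only [key, tap_1_3, taq_1_3, z_1_4, z_1_5, z_1_6, z_1_7, tap_3_4, taq_3_4, tap_3_5, taq_3_5, z_3_6, z_3_7, z_4_5, tap_4_6, taq_4_6, tap_4_7, taq_4_7, z_5_6, T.offDiag_nonneg u5 u7 hn_7_5.symm, T.offDiag_nonneg u6 u7 hn_7_6.symm, T.w_pos u1, T.w_pos u3, T.w_pos u4, T.w_pos u5, T.w_pos u6, T.w_pos u7]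
                  · -- (4,7) Dp
                    exfalso
                    have key := Groth.Agent.Helper6.NT.negfun4 T h2 u3 u4 u6 u7 (by norm_num) 1 2 1 1 (by norm_num) (by norm_num)
                    linarith only [key, tap_3_4, taq_3_4, z_3_6, z_3_7, tap_4_6, taq_4_6, tap_4_7, taq_4_7, T.offDiag_nonneg u6 u7 hn_7_6.symm, T.w_pos u3, T.w_pos u4, T.w_pos u6, T.w_pos u7]
                  · -- (4,7) Dm
                    exfalso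
                    have key := Groth.Agent.Helper6.NT.negfun4 T h2 u3 u4 u6 u7 (by norm_num) 1 2 1 2 (by norm_num) (by norm_num)
                    linarith only [key, tap_3_4, taq_3_4, z_3_6, z_3_7, tap_4_6, taq_4_6, tap_4_7, taq_4_7, T.offDiag_nonneg u6 u7 hn_7_6.symm, T.w_pos u3, T.w_pos u4, T.w_pos u6, T.w_pos u7]
                  · -- (4,7) Tp
                    exfalso
                    have key := Groth.Agent.Helper6.NT.negfun3 T h2 u4 u6 u7 (by norm_num) 2 1 1 (by norm_num) (by norm_num)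
                    linarith only [key, tap_4_6, taq_4_6, tap_4_7, taq_4_7, T.offDiag_nonneg u6 u7 hn_7_6.symm, T.w_pos u4, T.w_pos u6, T.w_pos u7]
                  · -- (4,7) Tm
                    exfalso
                    have key := Groth.Agent.Helper6.NT.negfun3 T h2 u4 u6 u7 (by norm_num) 2 1 3 (by norm_num) (by norm_num)
                    linarith only [key, tap_4_6, taq_4_6, tap_4_7, taq_4_7, T.offDiag_nonneg u6 u7 hn_7_6.symm, T.w_pos u4, T.w_pos u6, T.w_pos u7]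
                · push Not at hx
                  have cl_4 := hx
                  clear hx
                  by_cases hx : ∃ j, (j ≠ u0 ∧ j ≠ u1 ∧ j ≠ u2 ∧ j ≠ u3 ∧ j ≠ u4 ∧ j ≠ u5 ∧ j ≠ u6) ∧ T.a u5 j ≠ 0
                  · obtain ⟨u7, ⟨hn_7_0, hn_7_1, hn_7_2, hn_7_3, hn_7_4, hn_7_5, hn_7_6⟩, e_5_7⟩ := hx
                    have z_0_7 : T.a u0 u7 = 0 := cl_0 u7 ⟨hn_7_0, hn_7_1, hn_7_2⟩
                    have z_1_7 : T.a u1 u7 = 0 := cl_1 u7 ⟨hn_7_0, hn_7_1, hn_7_2, hn_7_3⟩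
                    have z_2_7 : T.a u2 u7 = 0 := cl_2 u7 ⟨hn_7_0, hn_7_1, hn_7_2, hn_7_3⟩
                    have z_3_7 : T.a u3 u7 = 0 := cl_3 u7 ⟨hn_7_0, hn_7_1, hn_7_2, hn_7_3, hn_7_4, hn_7_5⟩
                    have z_4_7 : T.a u4 u7 = 0 := cl_4 u7 ⟨hn_7_0, hn_7_1, hn_7_2, hn_7_3, hn_7_4, hn_7_5, hn_7_6⟩
                    rcases Groth.Agent.Helper6.NT.edge5 T h2 (by norm_num) u5 u7 hn_7_5.symm e_5_7 with ⟨tw_5_7, tap_5_7, taq_5_7⟩ | ⟨tw_5_7, tap_5_7, taq_5_7⟩ | ⟨tw_5_7, tap_5_7, taq_5_7⟩ | ⟨tw_5_7, tap_5_7, taq_5_7⟩ | ⟨tw_5_7, tap_5_7, taq_5_7⟩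
                    · -- (5,7) S
                      exfalso
                      have key := Groth.Agent.Helper6.NT.negfun7 T h2 u0 u1 u3 u4 u5 u6 u7 (by norm_num) 1 2 3 2 2 1 1 (by norm_num) (by norm_num)
                      linarith only [key, tap_0_1, taq_0_1, z_0_3, z_0_4, z_0_5, z_0_6, z_0_7, tap_1_3, taq_1_3, z_1_4, z_1_5, z_1_6, z_1_7, tap_3_4, taq_3_4, tap_3_5, taq_3_5, z_3_6, z_3_7, z_4_5, tap_4_6, taq_4_6, z_4_7, z_5_6, tap_5_7, taq_5_7, T.offDiag_nonneg u6 u7 hn_7_6.symm, T.w_pos u0, T.w_pos u1, T.w_pos u3, T.w_pos u4, T.w_pos u5, T.w_pos u6, T.w_pos u7]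
                    · -- (5,7) Dp
                      exfalso
                      have key := Groth.Agent.Helper6.NT.negfun5 T h2 u1 u3 u4 u5 u7 (by norm_num) 1 2 1 2 1 (by norm_num) (by norm_num)
                      linarith only [key, tap_1_3, taq_1_3, z_1_4, z_1_5, z_1_7, tap_3_4, taq_3_4, tap_3_5, taq_3_5, z_3_7, z_4_5, z_4_7, tap_5_7, taq_5_7, T.w_pos u1, T.w_pos u3, T.w_pos u4, T.w_pos u5, T.w_pos u7]
                    · -- (5,7) Dm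
                      exfalso
                      have key := Groth.Agent.Helper6.NT.negfun5 T h2 u1 u3 u4 u5 u7 (by norm_num) 1 2 1 2 2 (by norm_num) (by norm_num)
                      linarith only [key, tap_1_3, taq_1_3, z_1_4, z_1_5, z_1_7, tap_3_4, taq_3_4, tap_3_5, taq_3_5, z_3_7, z_4_5, z_4_7, tap_5_7, taq_5_7, T.w_pos u1, T.w_pos u3, T.w_pos u4, T.w_pos u5, T.w_pos u7]
                    · -- (5,7) Tp
                      exfalso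
                      have key := Groth.Agent.Helper6.NT.negfun3 T h2 u3 u5 u7 (by norm_num) 1 2 1 (by norm_num) (by norm_num)
                      linarith only [key, tap_3_5, taq_3_5, z_3_7, tap_5_7, taq_5_7, T.w_pos u3, T.w_pos u5, T.w_pos u7]
                    · -- (5,7) Tm
                      exfalso
                      have key := Groth.Agent.Helper6.NT.negfun3 T h2 u3 u5 u7 (by norm_num) 1 2 3 (by norm_num) (by norm_num)
                      linarith only [key, tap_3_5, taq_3_5, z_3_7, tap_5_7, taq_5_7, T.w_pos u3, T.w_pos u5, T.w_pos u7]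
                  · push Not at hx
                    have cl_5 := hx
                    clear hx
                    by_cases hx : ∃ j, (j ≠ u0 ∧ j ≠ u1 ∧ j ≠ u2 ∧ j ≠ u3 ∧ j ≠ u4 ∧ j ≠ u5 ∧ j ≠ u6) ∧ T.a u6 j ≠ 0
                    · obtain ⟨u7, ⟨hn_7_0, hn_7_1, hn_7_2, hn_7_3, hn_7_4, hn_7_5, hn_7_6⟩, e_6_7⟩ := hx
                      have z_0_7 : T.a u0 u7 = 0 := cl_0 u7 ⟨hn_7_0, hn_7_1, hn_7_2⟩
                      have z_1_7 : T.a u1 u7 = 0 := cl_1 u7 ⟨hn_7_0, hn_7_1, hn_7_2, hn_7_3⟩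
                      have z_2_7 : T.a u2 u7 = 0 := cl_2 u7 ⟨hn_7_0, hn_7_1, hn_7_2, hn_7_3⟩
                      have z_3_7 : T.a u3 u7 = 0 := cl_3 u7 ⟨hn_7_0, hn_7_1, hn_7_2, hn_7_3, hn_7_4, hn_7_5⟩
                      have z_4_7 : T.a u4 u7 = 0 := cl_4 u7 ⟨hn_7_0, hn_7_1, hn_7_2, hn_7_3, hn_7_4, hn_7_5, hn_7_6⟩
                      have z_5_7 : T.a u5 u7 = 0 := cl_5 u7 ⟨hn_7_0, hn_7_1, hn_7_2, hn_7_3, hn_7_4, hn_7_5, hn_7_6⟩
                      rcases Groth.Agent.Helper6.NT.edge5 T h2 (by norm_num) u6 u7 hn_7_6.symm e_6_7 with ⟨tw_6_7, tap_6_7, taq_6_7⟩ | ⟨tw_6_7, tap_6_7, taq_6_7⟩ | ⟨tw_6_7, tap_6_7, taq_6_7⟩ | ⟨tw_6_7, tap_6_7, taq_6_7⟩ | ⟨tw_6_7, tap_6_7, taq_6_7⟩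
                      · -- (6,7) S
                        have hinj := Groth.Agent.Helper6.NT.inj8 u0 u1 u2 u3 u4 u5 u6 u7 hn_1_0 hn_2_0 hn_2_1 hn_3_0 hn_3_1 hn_3_2 hn_4_0 hn_4_1 hn_4_2 hn_4_3 hn_5_0 hn_5_1 hn_5_2 hn_5_3 hn_5_4 hn_6_0 hn_6_1 hn_6_2 hn_6_3 hn_6_4 hn_6_5 hn_7_0 hn_7_1 hn_7_2 hn_7_3 hn_7_4 hn_7_5 hn_7_6
                        have r_0 : -2 * T.m u0 + 1 * T.m u1 + 1 * T.m u2 = 0 := by
                          have key := Groth.Agent.Helper6.NT.rowfun8 T u0 u1 u2 u3 u4 u5 u6 u7 hinj u0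
                          rw [(h2 u0).2, tap_0_1, tap_0_2, z_0_3, z_0_4, z_0_5, z_0_6, z_0_7] at key
                          exact mul_left_cancel₀ (T.w_pos u0).ne' (by linarith only [key])
                        have r_1 : 1 * T.m u0 + -2 * T.m u1 + 1 * T.m u3 = 0 := by
                          have key := Groth.Agent.Helper6.NT.rowfun8 T u0 u1 u2 u3 u4 u5 u6 u7 hinj u1
                          rw [Groth.Agent.Helper6.NT.symm' T u1 u0, taq_0_1, (h2 u1).2, z_1_2, tap_1_3, z_1_4, z_1_5, z_1_6, z_1_7] at key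
                          exact mul_left_cancel₀ (T.w_pos u1).ne' (by linarith only [key])
                        have r_2 : 1 * T.m u0 + -2 * T.m u2 = 0 := by
                          have key := Groth.Agent.Helper6.NT.rowfun8 T u0 u1 u2 u3 u4 u5 u6 u7 hinj u2
                          rw [Groth.Agent.Helper6.NT.symm' T u2 u0, taq_0_2, Groth.Agent.Helper6.NT.symm' T u2 u1, z_1_2, (h2 u2).2, z_2_3, z_2_4, z_2_5, z_2_6, z_2_7] at key
                          exact mul_left_cancel₀ (T.w_pos u2).ne' (by linarith only [key])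
                        have r_3 : 1 * T.m u1 + -2 * T.m u3 + 1 * T.m u4 + 1 * T.m u5 = 0 := by
                          have key := Groth.Agent.Helper6.NT.rowfun8 T u0 u1 u2 u3 u4 u5 u6 u7 hinj u3
                          rw [Groth.Agent.Helper6.NT.symm' T u3 u0, z_0_3, Groth.Agent.Helper6.NT.symm' T u3 u1, taq_1_3, Groth.Agent.Helper6.NT.symm' T u3 u2, z_2_3, (h2 u3).2, tap_3_4, tap_3_5, z_3_6, z_3_7] at key
                          exact mul_left_cancel₀ (T.w_pos u3).ne' (by linarith only [key])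
                        have r_4 : 1 * T.m u3 + -2 * T.m u4 + 1 * T.m u6 = 0 := by
                          have key := Groth.Agent.Helper6.NT.rowfun8 T u0 u1 u2 u3 u4 u5 u6 u7 hinj u4
                          rw [Groth.Agent.Helper6.NT.symm' T u4 u0, z_0_4, Groth.Agent.Helper6.NT.symm' T u4 u1, z_1_4, Groth.Agent.Helper6.NT.symm' T u4 u2, z_2_4, Groth.Agent.Helper6.NT.symm' T u4 u3, taq_3_4, (h2 u4).2, z_4_5, tap_4_6, z_4_7] at key
                          exact mul_left_cancel₀ (T.w_pos u4).ne' (by linarith only [key])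
                        have r_5 : 1 * T.m u3 + -2 * T.m u5 = 0 := by
                          have key := Groth.Agent.Helper6.NT.rowfun8 T u0 u1 u2 u3 u4 u5 u6 u7 hinj u5
                          rw [Groth.Agent.Helper6.NT.symm' T u5 u0, z_0_5, Groth.Agent.Helper6.NT.symm' T u5 u1, z_1_5, Groth.Agent.Helper6.NT.symm' T u5 u2, z_2_5, Groth.Agent.Helper6.NT.symm' T u5 u3, taq_3_5, Groth.Agent.Helper6.NT.symm' T u5 u4, z_4_5, (h2 u5).2, z_5_6, z_5_7] at key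
                          exact mul_left_cancel₀ (T.w_pos u5).ne' (by linarith only [key])
                        have r_6 : 1 * T.m u4 + -2 * T.m u6 + 1 * T.m u7 = 0 := by
                          have key := Groth.Agent.Helper6.NT.rowfun8 T u0 u1 u2 u3 u4 u5 u6 u7 hinj u6
                          rw [Groth.Agent.Helper6.NT.symm' T u6 u0, z_0_6, Groth.Agent.Helper6.NT.symm' T u6 u1, z_1_6, Groth.Agent.Helper6.NT.symm' T u6 u2, z_2_6, Groth.Agent.Helper6.NT.symm' T u6 u3, z_3_6, Groth.Agent.Helper6.NT.symm' T u6 u4, taq_4_6, Groth.Agent.Helper6.NT.symm' T u6 u5, z_5_6, (h2 u6).2, tap_6_7] at key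
                          exact mul_left_cancel₀ (T.w_pos u6).ne' (by linarith only [key])
                        have r_7 : 1 * T.m u6 + -2 * T.m u7 = 0 := by
                          have key := Groth.Agent.Helper6.NT.rowfun8 T u0 u1 u2 u3 u4 u5 u6 u7 hinj u7
                          rw [Groth.Agent.Helper6.NT.symm' T u7 u0, z_0_7, Groth.Agent.Helper6.NT.symm' T u7 u1, z_1_7, Groth.Agent.Helper6.NT.symm' T u7 u2, z_2_7, Groth.Agent.Helper6.NT.symm' T u7 u3, z_3_7, Groth.Agent.Helper6.NT.symm' T u7 u4, z_4_7, Groth.Agent.Helper6.NT.symm' T u7 u5, z_5_7, Groth.Agent.Helper6.NT.symm' T u7 u6, taq_6_7, (h2 u7).2] at key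
                          exact mul_left_cancel₀ (T.w_pos u7).ne' (by linarith only [key])
                        have f0 : T.m u2 = T.m u2 := rfl
                        have f1 : T.m u0 = 2 * T.m u2 := by linarith only [r_0, r_1, r_2, r_3, r_4, r_5, r_6, r_7]
                        have f2 : T.m u1 = 3 * T.m u2 := by linarith only [r_0, r_1, r_2, r_3, r_4, r_5, r_6, r_7]
                        have f3 : T.m u3 = 4 * T.m u2 := by linarith only [r_0, r_1, r_2, r_3, r_4, r_5, r_6, r_7]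
                        have f4 : T.m u4 = 3 * T.m u2 := by linarith only [r_0, r_1, r_2, r_3, r_4, r_5, r_6, r_7]
                        have f5 : T.m u6 = 2 * T.m u2 := by linarith only [r_0, r_1, r_2, r_3, r_4, r_5, r_6, r_7]
                        have f6 : T.m u7 = T.m u2 := by linarith only [r_0, r_1, r_2, r_3, r_4, r_5, r_6, r_7]
                        have f7 : T.m u5 = 2 * T.m u2 := by linarith only [r_0, r_1, r_2, r_3, r_4, r_5, r_6, r_7]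
                        have f8 : T.w u2 = T.w u2 := rfl
                        have f9 : T.w u0 = T.w u2 := by linarith only [tw_0_1, tw_0_2, tw_1_3, tw_3_4, tw_3_5, tw_4_6, tw_6_7]
                        have f10 : T.w u1 = T.w u2 := by linarith only [tw_0_1, tw_0_2, tw_1_3, tw_3_4, tw_3_5, tw_4_6, tw_6_7]
                        have f11 : T.w u3 = T.w u2 := by linarith only [tw_0_1, tw_0_2, tw_1_3, tw_3_4, tw_3_5, tw_4_6, tw_6_7]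
                        have f12 : T.w u4 = T.w u2 := by linarith only [tw_0_1, tw_0_2, tw_1_3, tw_3_4, tw_3_5, tw_4_6, tw_6_7]
                        have f13 : T.w u6 = T.w u2 := by linarith only [tw_0_1, tw_0_2, tw_1_3, tw_3_4, tw_3_5, tw_4_6, tw_6_7]
                        have f14 : T.w u7 = T.w u2 := by linarith only [tw_0_1, tw_0_2, tw_1_3, tw_3_4, tw_3_5, tw_4_6, tw_6_7]
                        have f15 : T.w u5 = T.w u2 := by linarith only [tw_0_1, tw_0_2, tw_1_3, tw_3_4, tw_3_5, tw_4_6, tw_6_7]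
                        have f16 : T.a u2 u2 = -2 * T.w u2 := by have := (h2 u2).2; linarith only [this, tw_0_1, tw_0_2, tw_1_3, tw_3_4, tw_3_5, tw_4_6, tw_6_7]
                        have f17 : T.a u2 u0 = T.w u2 := by rw [Groth.Agent.Helper6.NT.symm' T u2 u0]; linarith only [tap_0_2, tw_0_1, tw_0_2, tw_1_3, tw_3_4, tw_3_5, tw_4_6, tw_6_7]
                        have f18 : T.a u2 u1 = 0 := by rw [Groth.Agent.Helper6.NT.symm' T u2 u1]; exact z_1_2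
                        have f19 : T.a u2 u3 = 0 := by exact z_2_3
                        have f20 : T.a u2 u4 = 0 := by exact z_2_4
                        have f21 : T.a u2 u6 = 0 := by exact z_2_6
                        have f22 : T.a u2 u7 = 0 := by exact z_2_7
                        have f23 : T.a u2 u5 = 0 := by exact z_2_5
                        have f24 : T.a u0 u0 = -2 * T.w u2 := by have := (h2 u0).2; linarith only [this, tw_0_1, tw_0_2, tw_1_3, tw_3_4, tw_3_5, tw_4_6, tw_6_7]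
                        have f25 : T.a u0 u1 = T.w u2 := by linarith only [tap_0_1, tw_0_1, tw_0_2, tw_1_3, tw_3_4, tw_3_5, tw_4_6, tw_6_7]
                        have f26 : T.a u0 u3 = 0 := by exact z_0_3
                        have f27 : T.a u0 u4 = 0 := by exact z_0_4
                        have f28 : T.a u0 u6 = 0 := by exact z_0_6
                        have f29 : T.a u0 u7 = 0 := by exact z_0_7
                        have f30 : T.a u0 u5 = 0 := by exact z_0_5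
                        have f31 : T.a u1 u1 = -2 * T.w u2 := by have := (h2 u1).2; linarith only [this, tw_0_1, tw_0_2, tw_1_3, tw_3_4, tw_3_5, tw_4_6, tw_6_7]
                        have f32 : T.a u1 u3 = T.w u2 := by linarith only [tap_1_3, tw_0_1, tw_0_2, tw_1_3, tw_3_4, tw_3_5, tw_4_6, tw_6_7]
                        have f33 : T.a u1 u4 = 0 := by exact z_1_4
                        have f34 : T.a u1 u6 = 0 := by exact z_1_6
                        have f35 : T.a u1 u7 = 0 := by exact z_1_7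
                        have f36 : T.a u1 u5 = 0 := by exact z_1_5
                        have f37 : T.a u3 u3 = -2 * T.w u2 := by have := (h2 u3).2; linarith only [this, tw_0_1, tw_0_2, tw_1_3, tw_3_4, tw_3_5, tw_4_6, tw_6_7]
                        have f38 : T.a u3 u4 = T.w u2 := by linarith only [tap_3_4, tw_0_1, tw_0_2, tw_1_3, tw_3_4, tw_3_5, tw_4_6, tw_6_7]
                        have f39 : T.a u3 u6 = 0 := by exact z_3_6
                        have f40 : T.a u3 u7 = 0 := by exact z_3_7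
                        have f41 : T.a u3 u5 = T.w u2 := by linarith only [tap_3_5, tw_0_1, tw_0_2, tw_1_3, tw_3_4, tw_3_5, tw_4_6, tw_6_7]
                        have f42 : T.a u4 u4 = -2 * T.w u2 := by have := (h2 u4).2; linarith only [this, tw_0_1, tw_0_2, tw_1_3, tw_3_4, tw_3_5, tw_4_6, tw_6_7]
                        have f43 : T.a u4 u6 = T.w u2 := by linarith only [tap_4_6, tw_0_1, tw_0_2, tw_1_3, tw_3_4, tw_3_5, tw_4_6, tw_6_7]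
                        have f44 : T.a u4 u7 = 0 := by exact z_4_7
                        have f45 : T.a u4 u5 = 0 := by exact z_4_5
                        have f46 : T.a u6 u6 = -2 * T.w u2 := by have := (h2 u6).2; linarith only [this, tw_0_1, tw_0_2, tw_1_3, tw_3_4, tw_3_5, tw_4_6, tw_6_7]
                        have f47 : T.a u6 u7 = T.w u2 := by linarith only [tap_6_7, tw_0_1, tw_0_2, tw_1_3, tw_3_4, tw_3_5, tw_4_6, tw_6_7]
                        have f48 : T.a u6 u5 = 0 := by rw [Groth.Agent.Helper6.NT.symm' T u6 u5]; exact z_5_6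
                        have f49 : T.a u7 u7 = -2 * T.w u2 := by have := (h2 u7).2; linarith only [this, tw_0_1, tw_0_2, tw_1_3, tw_3_4, tw_3_5, tw_4_6, tw_6_7]
                        have f50 : T.a u7 u5 = 0 := by rw [Groth.Agent.Helper6.NT.symm' T u7 u5]; exact z_5_7
                        have f51 : T.a u5 u5 = -2 * T.w u2 := by have := (h2 u5).2; linarith only [this, tw_0_1, tw_0_2, tw_1_3, tw_3_4, tw_3_5, tw_4_6, tw_6_7]
                        have hsig := Groth.Agent.Helper6.NT.inj8 u2 u0 u1 u3 u4 u6 u7 u5 hn_2_0.symm hn_2_1.symm hn_1_0 hn_3_2 hn_3_0 hn_3_1 hn_4_2 hn_4_0 hn_4_1 hn_4_3 hn_6_2 hn_6_0 hn_6_1 hn_6_3 hn_6_4 hn_7_2 hn_7_0 hn_7_1 hn_7_3 hn_7_4 hn_7_6 hn_5_2 hn_5_0 hn_5_1 hn_5_3 hn_5_4 hn_6_5.symm hn_7_5.symm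
                        exact ⟨Equiv.ofBijective _ (Finite.injective_iff_bijective.1 hsig), T.m u2, T.w u2, Or.inr (Or.inr (Or.inr (Or.inr (Or.inr (Or.inr (Or.inr (⟨f0, f1, f2, f3, f4, f5, f6, f7, f8, f9, f10, f11, f12, f13, f14, f15, f16, f17, f18, f19, f20, f21, f22, f23, f24, f25, f26, f27, f28, f29, f30, f31, f32, f33, f34, f35, f36, f37, f38, f39, f40, f41, f42, f43, f44, f45, f46, f47, f48, f49, f50, f51⟩)))))))⟩
                      · -- (6,7) Dp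
                        exfalso
                        have key := Groth.Agent.Helper6.NT.negfun6 T h2 u1 u3 u4 u5 u6 u7 (by norm_num) 1 2 2 1 2 1 (by norm_num) (by norm_num)
                        linarith only [key, tap_1_3, taq_1_3, z_1_4, z_1_5, z_1_6, z_1_7, tap_3_4, taq_3_4, tap_3_5, taq_3_5, z_3_6, z_3_7, z_4_5, tap_4_6, taq_4_6, z_4_7, z_5_6, z_5_7, tap_6_7, taq_6_7, T.w_pos u1, T.w_pos u3, T.w_pos u4, T.w_pos u5, T.w_pos u6, T.w_pos u7]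
                      · -- (6,7) Dm
                        exfalso
                        have key := Groth.Agent.Helper6.NT.negfun6 T h2 u1 u3 u4 u5 u6 u7 (by norm_num) 1 2 2 1 2 2 (by norm_num) (by norm_num)
                        linarith only [key, tap_1_3, taq_1_3, z_1_4, z_1_5, z_1_6, z_1_7, tap_3_4, taq_3_4, tap_3_5, taq_3_5, z_3_6, z_3_7, z_4_5, tap_4_6, taq_4_6, z_4_7, z_5_6, z_5_7, tap_6_7, taq_6_7, T.w_pos u1, T.w_pos u3, T.w_pos u4, T.w_pos u5, T.w_pos u6, T.w_pos u7]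
                      · -- (6,7) Tp
                        exfalso
                        have key := Groth.Agent.Helper6.NT.negfun3 T h2 u4 u6 u7 (by norm_num) 1 2 1 (by norm_num) (by norm_num)
                        linarith only [key, tap_4_6, taq_4_6, z_4_7, tap_6_7, taq_6_7, T.w_pos u4, T.w_pos u6, T.w_pos u7]
                      · -- (6,7) Tm
                        exfalso
                        have key := Groth.Agent.Helper6.NT.negfun3 T h2 u4 u6 u7 (by norm_num) 1 2 3 (by norm_num) (by norm_num)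
                        linarith only [key, tap_4_6, taq_4_6, z_4_7, tap_6_7, taq_6_7, T.w_pos u4, T.w_pos u6, T.w_pos u7]
                    · push Not at hx
                      have cl_6 := hx
                      clear hx
                      exfalso
                      refine Groth.Agent.Helper6.NT.closed_contra T [u0, u1, u2, u3, u4, u5, u6] (by simp) (by simp) ?_
                      intro i hi j hj
                      simp only [List.mem_cons, List.not_mem_nil, or_false, not_or] at hi hj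
                      rcases hi with rfl | rfl | rfl | rfl | rfl | rfl | rfl
                      · exact cl_0 j ⟨hj.1, hj.2.1, hj.2.2.1⟩
                      · exact cl_1 j ⟨hj.1, hj.2.1, hj.2.2.1, hj.2.2.2.1⟩
                      · exact cl_2 j ⟨hj.1, hj.2.1, hj.2.2.1, hj.2.2.2.1⟩
                      · exact cl_3 j ⟨hj.1, hj.2.1, hj.2.2.1, hj.2.2.2.1, hj.2.2.2.2.1, hj.2.2.2.2.2.1⟩
                      · exact cl_4 j ⟨hj.1, hj.2.1, hj.2.2.1, hj.2.2.2.1, hj.2.2.2.2.1, hj.2.2.2.2.2.1, hj.2.2.2.2.2.2⟩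
                      · exact cl_5 j ⟨hj.1, hj.2.1, hj.2.2.1, hj.2.2.2.1, hj.2.2.2.2.1, hj.2.2.2.2.2.1, hj.2.2.2.2.2.2⟩
                      · exact cl_6 j ⟨hj.1, hj.2.1, hj.2.2.1, hj.2.2.2.1, hj.2.2.2.2.1, hj.2.2.2.2.2.1, hj.2.2.2.2.2.2⟩
              · -- (5,6) nonzero
                obtain ⟨lbp_5_6, lbq_5_6⟩ := Groth.Agent.Helper6.NT.lb T u5 u6 hn_6_5.symm nz_5_6
                exfalso
                have key := Groth.Agent.Helper6.NT.negfun4 T h2 u3 u4 u5 u6 (by norm_num) 1 1 1 1 (by norm_num) (by norm_num)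
                linarith only [key, tap_3_4, taq_3_4, tap_3_5, taq_3_5, z_3_6, z_4_5, tap_4_6, taq_4_6, lbp_5_6, lbq_5_6, T.w_pos u3, T.w_pos u4, T.w_pos u5, T.w_pos u6]
            · -- (4,6) Dp
              exfalso
              have key := Groth.Agent.Helper6.NT.negfun5 T h2 u1 u3 u4 u5 u6 (by norm_num) 1 2 2 1 1 (by norm_num) (by norm_num)
              linarith only [key, tap_1_3, taq_1_3, z_1_4, z_1_5, z_1_6, tap_3_4, taq_3_4, tap_3_5, taq_3_5, z_3_6, z_4_5, tap_4_6, taq_4_6, T.offDiag_nonneg u5 u6 hn_6_5.symm, T.w_pos u1, T.w_pos u3, T.w_pos u4, T.w_pos u5, T.w_pos u6]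
            · -- (4,6) Dm
              exfalso
              have key := Groth.Agent.Helper6.NT.negfun5 T h2 u1 u3 u4 u5 u6 (by norm_num) 1 2 2 1 2 (by norm_num) (by norm_num)
              linarith only [key, tap_1_3, taq_1_3, z_1_4, z_1_5, z_1_6, tap_3_4, taq_3_4, tap_3_5, taq_3_5, z_3_6, z_4_5, tap_4_6, taq_4_6, T.offDiag_nonneg u5 u6 hn_6_5.symm, T.w_pos u1, T.w_pos u3, T.w_pos u4, T.w_pos u5, T.w_pos u6]
            · -- (4,6) Tp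
              exfalso
              have key := Groth.Agent.Helper6.NT.negfun3 T h2 u3 u4 u6 (by norm_num) 1 2 1 (by norm_num) (by norm_num)
              linarith only [key, tap_3_4, taq_3_4, z_3_6, tap_4_6, taq_4_6, T.w_pos u3, T.w_pos u4, T.w_pos u6]
            · -- (4,6) Tm
              exfalso
              have key := Groth.Agent.Helper6.NT.negfun3 T h2 u3 u4 u6 (by norm_num) 1 2 3 (by norm_num) (by norm_num)
              linarith only [key, tap_3_4, taq_3_4, z_3_6, tap_4_6, taq_4_6, T.w_pos u3, T.w_pos u4, T.w_pos u6]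
          · push Not at hx
            have cl_4 := hx
            clear hx
            by_cases hx : ∃ j, (j ≠ u0 ∧ j ≠ u1 ∧ j ≠ u2 ∧ j ≠ u3 ∧ j ≠ u4 ∧ j ≠ u5) ∧ T.a u5 j ≠ 0
            · obtain ⟨u6, ⟨hn_6_0, hn_6_1, hn_6_2, hn_6_3, hn_6_4, hn_6_5⟩, e_5_6⟩ := hx
              have z_0_6 : T.a u0 u6 = 0 := cl_0 u6 ⟨hn_6_0, hn_6_1, hn_6_2⟩
              have z_1_6 : T.a u1 u6 = 0 := cl_1 u6 ⟨hn_6_0, hn_6_1, hn_6_2, hn_6_3⟩
              have z_2_6 : T.a u2 u6 = 0 := cl_2 u6 ⟨hn_6_0, hn_6_1, hn_6_2, hn_6_3⟩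
              have z_3_6 : T.a u3 u6 = 0 := cl_3 u6 ⟨hn_6_0, hn_6_1, hn_6_2, hn_6_3, hn_6_4, hn_6_5⟩
              have z_4_6 : T.a u4 u6 = 0 := cl_4 u6 ⟨hn_6_0, hn_6_1, hn_6_2, hn_6_3, hn_6_4, hn_6_5⟩
              rcases Groth.Agent.Helper6.NT.edge5 T h2 (by norm_num) u5 u6 hn_6_5.symm e_5_6 with ⟨tw_5_6, tap_5_6, taq_5_6⟩ | ⟨tw_5_6, tap_5_6, taq_5_6⟩ | ⟨tw_5_6, tap_5_6, taq_5_6⟩ | ⟨tw_5_6, tap_5_6, taq_5_6⟩ | ⟨tw_5_6, tap_5_6, taq_5_6⟩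
              · -- (5,6) S
                by_cases hx : ∃ j, (j ≠ u0 ∧ j ≠ u1 ∧ j ≠ u2 ∧ j ≠ u3 ∧ j ≠ u4 ∧ j ≠ u5 ∧ j ≠ u6) ∧ T.a u5 j ≠ 0
                · obtain ⟨u7, ⟨hn_7_0, hn_7_1, hn_7_2, hn_7_3, hn_7_4, hn_7_5, hn_7_6⟩, e_5_7⟩ := hx
                  have z_0_7 : T.a u0 u7 = 0 := cl_0 u7 ⟨hn_7_0, hn_7_1, hn_7_2⟩
                  have z_1_7 : T.a u1 u7 = 0 := cl_1 u7 ⟨hn_7_0, hn_7_1, hn_7_2, hn_7_3⟩
                  have z_2_7 : T.a u2 u7 = 0 := cl_2 u7 ⟨hn_7_0, hn_7_1, hn_7_2, hn_7_3⟩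
                  have z_3_7 : T.a u3 u7 = 0 := cl_3 u7 ⟨hn_7_0, hn_7_1, hn_7_2, hn_7_3, hn_7_4, hn_7_5⟩
                  have z_4_7 : T.a u4 u7 = 0 := cl_4 u7 ⟨hn_7_0, hn_7_1, hn_7_2, hn_7_3, hn_7_4, hn_7_5⟩
                  rcases Groth.Agent.Helper6.NT.edge5 T h2 (by norm_num) u5 u7 hn_7_5.symm e_5_7 with ⟨tw_5_7, tap_5_7, taq_5_7⟩ | ⟨tw_5_7, tap_5_7, taq_5_7⟩ | ⟨tw_5_7, tap_5_7, taq_5_7⟩ | ⟨tw_5_7, tap_5_7, taq_5_7⟩ | ⟨tw_5_7, tap_5_7, taq_5_7⟩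
                  · -- (5,7) S
                    exfalso
                    have key := Groth.Agent.Helper6.NT.negfun6 T h2 u1 u3 u4 u5 u6 u7 (by norm_num) 1 2 1 2 1 1 (by norm_num) (by norm_num)
                    linarith only [key, tap_1_3, taq_1_3, z_1_4, z_1_5, z_1_6, z_1_7, tap_3_4, taq_3_4, tap_3_5, taq_3_5, z_3_6, z_3_7, z_4_5, z_4_6, z_4_7, tap_5_6, taq_5_6, tap_5_7, taq_5_7, T.offDiag_nonneg u6 u7 hn_7_6.symm, T.w_pos u1, T.w_pos u3, T.w_pos u4, T.w_pos u5, T.w_pos u6, T.w_pos u7]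
                  · -- (5,7) Dp
                    exfalso
                    have key := Groth.Agent.Helper6.NT.negfun4 T h2 u3 u5 u6 u7 (by norm_num) 1 2 1 1 (by norm_num) (by norm_num)
                    linarith only [key, tap_3_5, taq_3_5, z_3_6, z_3_7, tap_5_6, taq_5_6, tap_5_7, taq_5_7, T.offDiag_nonneg u6 u7 hn_7_6.symm, T.w_pos u3, T.w_pos u5, T.w_pos u6, T.w_pos u7]
                  · -- (5,7) Dm
                    exfalso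
                    have key := Groth.Agent.Helper6.NT.negfun4 T h2 u3 u5 u6 u7 (by norm_num) 1 2 1 2 (by norm_num) (by norm_num)
                    linarith only [key, tap_3_5, taq_3_5, z_3_6, z_3_7, tap_5_6, taq_5_6, tap_5_7, taq_5_7, T.offDiag_nonneg u6 u7 hn_7_6.symm, T.w_pos u3, T.w_pos u5, T.w_pos u6, T.w_pos u7]
                  · -- (5,7) Tp
                    exfalso
                    have key := Groth.Agent.Helper6.NT.negfun3 T h2 u5 u6 u7 (by norm_num) 2 1 1 (by norm_num) (by norm_num)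
                    linarith only [key, tap_5_6, taq_5_6, tap_5_7, taq_5_7, T.offDiag_nonneg u6 u7 hn_7_6.symm, T.w_pos u5, T.w_pos u6, T.w_pos u7]
                  · -- (5,7) Tm
                    exfalso
                    have key := Groth.Agent.Helper6.NT.negfun3 T h2 u5 u6 u7 (by norm_num) 2 1 3 (by norm_num) (by norm_num)
                    linarith only [key, tap_5_6, taq_5_6, tap_5_7, taq_5_7, T.offDiag_nonneg u6 u7 hn_7_6.symm, T.w_pos u5, T.w_pos u6, T.w_pos u7]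
                · push Not at hx
                  have cl_5 := hx
                  clear hx
                  by_cases hx : ∃ j, (j ≠ u0 ∧ j ≠ u1 ∧ j ≠ u2 ∧ j ≠ u3 ∧ j ≠ u4 ∧ j ≠ u5 ∧ j ≠ u6) ∧ T.a u6 j ≠ 0
                  · obtain ⟨u7, ⟨hn_7_0, hn_7_1, hn_7_2, hn_7_3, hn_7_4, hn_7_5, hn_7_6⟩, e_6_7⟩ := hx
                    have z_0_7 : T.a u0 u7 = 0 := cl_0 u7 ⟨hn_7_0, hn_7_1, hn_7_2⟩
                    have z_1_7 : T.a u1 u7 = 0 := cl_1 u7 ⟨hn_7_0, hn_7_1, hn_7_2, hn_7_3⟩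
                    have z_2_7 : T.a u2 u7 = 0 := cl_2 u7 ⟨hn_7_0, hn_7_1, hn_7_2, hn_7_3⟩
                    have z_3_7 : T.a u3 u7 = 0 := cl_3 u7 ⟨hn_7_0, hn_7_1, hn_7_2, hn_7_3, hn_7_4, hn_7_5⟩
                    have z_4_7 : T.a u4 u7 = 0 := cl_4 u7 ⟨hn_7_0, hn_7_1, hn_7_2, hn_7_3, hn_7_4, hn_7_5⟩
                    have z_5_7 : T.a u5 u7 = 0 := cl_5 u7 ⟨hn_7_0, hn_7_1, hn_7_2, hn_7_3, hn_7_4, hn_7_5, hn_7_6⟩
                    rcases Groth.Agent.Helper6.NT.edge5 T h2 (by norm_num) u6 u7 hn_7_6.symm e_6_7 with ⟨tw_6_7, tap_6_7, taq_6_7⟩ | ⟨tw_6_7, tap_6_7, taq_6_7⟩ | ⟨tw_6_7, tap_6_7, taq_6_7⟩ | ⟨tw_6_7, tap_6_7, taq_6_7⟩ | ⟨tw_6_7, tap_6_7, taq_6_7⟩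
                    · -- (6,7) S
                      have hinj := Groth.Agent.Helper6.NT.inj8 u0 u1 u2 u3 u4 u5 u6 u7 hn_1_0 hn_2_0 hn_2_1 hn_3_0 hn_3_1 hn_3_2 hn_4_0 hn_4_1 hn_4_2 hn_4_3 hn_5_0 hn_5_1 hn_5_2 hn_5_3 hn_5_4 hn_6_0 hn_6_1 hn_6_2 hn_6_3 hn_6_4 hn_6_5 hn_7_0 hn_7_1 hn_7_2 hn_7_3 hn_7_4 hn_7_5 hn_7_6
                      have r_0 : -2 * T.m u0 + 1 * T.m u1 + 1 * T.m u2 = 0 := by
                        have key := Groth.Agent.Helper6.NT.rowfun8 T u0 u1 u2 u3 u4 u5 u6 u7 hinj u0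
                        rw [(h2 u0).2, tap_0_1, tap_0_2, z_0_3, z_0_4, z_0_5, z_0_6, z_0_7] at key
                        exact mul_left_cancel₀ (T.w_pos u0).ne' (by linarith only [key])
                      have r_1 : 1 * T.m u0 + -2 * T.m u1 + 1 * T.m u3 = 0 := by
                        have key := Groth.Agent.Helper6.NT.rowfun8 T u0 u1 u2 u3 u4 u5 u6 u7 hinj u1
                        rw [Groth.Agent.Helper6.NT.symm' T u1 u0, taq_0_1, (h2 u1).2, z_1_2, tap_1_3, z_1_4, z_1_5, z_1_6, z_1_7] at key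
                        exact mul_left_cancel₀ (T.w_pos u1).ne' (by linarith only [key])
                      have r_2 : 1 * T.m u0 + -2 * T.m u2 = 0 := by
                        have key := Groth.Agent.Helper6.NT.rowfun8 T u0 u1 u2 u3 u4 u5 u6 u7 hinj u2
                        rw [Groth.Agent.Helper6.NT.symm' T u2 u0, taq_0_2, Groth.Agent.Helper6.NT.symm' T u2 u1, z_1_2, (h2 u2).2, z_2_3, z_2_4, z_2_5, z_2_6, z_2_7] at key
                        exact mul_left_cancel₀ (T.w_pos u2).ne' (by linarith only [key])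
                      have r_3 : 1 * T.m u1 + -2 * T.m u3 + 1 * T.m u4 + 1 * T.m u5 = 0 := by
                        have key := Groth.Agent.Helper6.NT.rowfun8 T u0 u1 u2 u3 u4 u5 u6 u7 hinj u3
                        rw [Groth.Agent.Helper6.NT.symm' T u3 u0, z_0_3, Groth.Agent.Helper6.NT.symm' T u3 u1, taq_1_3, Groth.Agent.Helper6.NT.symm' T u3 u2, z_2_3, (h2 u3).2, tap_3_4, tap_3_5, z_3_6, z_3_7] at key
                        exact mul_left_cancel₀ (T.w_pos u3).ne' (by linarith only [key])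
                      have r_4 : 1 * T.m u3 + -2 * T.m u4 = 0 := by
                        have key := Groth.Agent.Helper6.NT.rowfun8 T u0 u1 u2 u3 u4 u5 u6 u7 hinj u4
                        rw [Groth.Agent.Helper6.NT.symm' T u4 u0, z_0_4, Groth.Agent.Helper6.NT.symm' T u4 u1, z_1_4, Groth.Agent.Helper6.NT.symm' T u4 u2, z_2_4, Groth.Agent.Helper6.NT.symm' T u4 u3, taq_3_4, (h2 u4).2, z_4_5, z_4_6, z_4_7] at key
                        exact mul_left_cancel₀ (T.w_pos u4).ne' (by linarith only [key])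
                      have r_5 : 1 * T.m u3 + -2 * T.m u5 + 1 * T.m u6 = 0 := by
                        have key := Groth.Agent.Helper6.NT.rowfun8 T u0 u1 u2 u3 u4 u5 u6 u7 hinj u5
                        rw [Groth.Agent.Helper6.NT.symm' T u5 u0, z_0_5, Groth.Agent.Helper6.NT.symm' T u5 u1, z_1_5, Groth.Agent.Helper6.NT.symm' T u5 u2, z_2_5, Groth.Agent.Helper6.NT.symm' T u5 u3, taq_3_5, Groth.Agent.Helper6.NT.symm' T u5 u4, z_4_5, (h2 u5).2, tap_5_6, z_5_7] at key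
                        exact mul_left_cancel₀ (T.w_pos u5).ne' (by linarith only [key])
                      have r_6 : 1 * T.m u5 + -2 * T.m u6 + 1 * T.m u7 = 0 := by
                        have key := Groth.Agent.Helper6.NT.rowfun8 T u0 u1 u2 u3 u4 u5 u6 u7 hinj u6
                        rw [Groth.Agent.Helper6.NT.symm' T u6 u0, z_0_6, Groth.Agent.Helper6.NT.symm' T u6 u1, z_1_6, Groth.Agent.Helper6.NT.symm' T u6 u2, z_2_6, Groth.Agent.Helper6.NT.symm' T u6 u3, z_3_6, Groth.Agent.Helper6.NT.symm' T u6 u4, z_4_6, Groth.Agent.Helper6.NT.symm' T u6 u5, taq_5_6, (h2 u6).2, tap_6_7] at key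
                        exact mul_left_cancel₀ (T.w_pos u6).ne' (by linarith only [key])
                      have r_7 : 1 * T.m u6 + -2 * T.m u7 = 0 := by
                        have key := Groth.Agent.Helper6.NT.rowfun8 T u0 u1 u2 u3 u4 u5 u6 u7 hinj u7
                        rw [Groth.Agent.Helper6.NT.symm' T u7 u0, z_0_7, Groth.Agent.Helper6.NT.symm' T u7 u1, z_1_7, Groth.Agent.Helper6.NT.symm' T u7 u2, z_2_7, Groth.Agent.Helper6.NT.symm' T u7 u3, z_3_7, Groth.Agent.Helper6.NT.symm' T u7 u4, z_4_7, Groth.Agent.Helper6.NT.symm' T u7 u5, z_5_7, Groth.Agent.Helper6.NT.symm' T u7 u6, taq_6_7, (h2 u7).2] at key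
                        exact mul_left_cancel₀ (T.w_pos u7).ne' (by linarith only [key])
                      have f0 : T.m u2 = T.m u2 := rfl
                      have f1 : T.m u0 = 2 * T.m u2 := by linarith only [r_0, r_1, r_2, r_3, r_4, r_5, r_6, r_7]
                      have f2 : T.m u1 = 3 * T.m u2 := by linarith only [r_0, r_1, r_2, r_3, r_4, r_5, r_6, r_7]
                      have f3 : T.m u3 = 4 * T.m u2 := by linarith only [r_0, r_1, r_2, r_3, r_4, r_5, r_6, r_7]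
                      have f4 : T.m u5 = 3 * T.m u2 := by linarith only [r_0, r_1, r_2, r_3, r_4, r_5, r_6, r_7]
                      have f5 : T.m u6 = 2 * T.m u2 := by linarith only [r_0, r_1, r_2, r_3, r_4, r_5, r_6, r_7]
                      have f6 : T.m u7 = T.m u2 := by linarith only [r_0, r_1, r_2, r_3, r_4, r_5, r_6, r_7]
                      have f7 : T.m u4 = 2 * T.m u2 := by linarith only [r_0, r_1, r_2, r_3, r_4, r_5, r_6, r_7]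
                      have f8 : T.w u2 = T.w u2 := rfl
                      have f9 : T.w u0 = T.w u2 := by linarith only [tw_0_1, tw_0_2, tw_1_3, tw_3_4, tw_3_5, tw_5_6, tw_6_7]
                      have f10 : T.w u1 = T.w u2 := by linarith only [tw_0_1, tw_0_2, tw_1_3, tw_3_4, tw_3_5, tw_5_6, tw_6_7]
                      have f11 : T.w u3 = T.w u2 := by linarith only [tw_0_1, tw_0_2, tw_1_3, tw_3_4, tw_3_5, tw_5_6, tw_6_7]
                      have f12 : T.w u5 = T.w u2 := by linarith only [tw_0_1, tw_0_2, tw_1_3, tw_3_4, tw_3_5, tw_5_6, tw_6_7]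
                      have f13 : T.w u6 = T.w u2 := by linarith only [tw_0_1, tw_0_2, tw_1_3, tw_3_4, tw_3_5, tw_5_6, tw_6_7]
                      have f14 : T.w u7 = T.w u2 := by linarith only [tw_0_1, tw_0_2, tw_1_3, tw_3_4, tw_3_5, tw_5_6, tw_6_7]
                      have f15 : T.w u4 = T.w u2 := by linarith only [tw_0_1, tw_0_2, tw_1_3, tw_3_4, tw_3_5, tw_5_6, tw_6_7]
                      have f16 : T.a u2 u2 = -2 * T.w u2 := by have := (h2 u2).2; linarith only [this, tw_0_1, tw_0_2, tw_1_3, tw_3_4, tw_3_5, tw_5_6, tw_6_7]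
                      have f17 : T.a u2 u0 = T.w u2 := by rw [Groth.Agent.Helper6.NT.symm' T u2 u0]; linarith only [tap_0_2, tw_0_1, tw_0_2, tw_1_3, tw_3_4, tw_3_5, tw_5_6, tw_6_7]
                      have f18 : T.a u2 u1 = 0 := by rw [Groth.Agent.Helper6.NT.symm' T u2 u1]; exact z_1_2
                      have f19 : T.a u2 u3 = 0 := by exact z_2_3
                      have f20 : T.a u2 u5 = 0 := by exact z_2_5
                      have f21 : T.a u2 u6 = 0 := by exact z_2_6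
                      have f22 : T.a u2 u7 = 0 := by exact z_2_7
                      have f23 : T.a u2 u4 = 0 := by exact z_2_4
                      have f24 : T.a u0 u0 = -2 * T.w u2 := by have := (h2 u0).2; linarith only [this, tw_0_1, tw_0_2, tw_1_3, tw_3_4, tw_3_5, tw_5_6, tw_6_7]
                      have f25 : T.a u0 u1 = T.w u2 := by linarith only [tap_0_1, tw_0_1, tw_0_2, tw_1_3, tw_3_4, tw_3_5, tw_5_6, tw_6_7]
                      have f26 : T.a u0 u3 = 0 := by exact z_0_3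
                      have f27 : T.a u0 u5 = 0 := by exact z_0_5
                      have f28 : T.a u0 u6 = 0 := by exact z_0_6
                      have f29 : T.a u0 u7 = 0 := by exact z_0_7
                      have f30 : T.a u0 u4 = 0 := by exact z_0_4
                      have f31 : T.a u1 u1 = -2 * T.w u2 := by have := (h2 u1).2; linarith only [this, tw_0_1, tw_0_2, tw_1_3, tw_3_4, tw_3_5, tw_5_6, tw_6_7]
                      have f32 : T.a u1 u3 = T.w u2 := by linarith only [tap_1_3, tw_0_1, tw_0_2, tw_1_3, tw_3_4, tw_3_5, tw_5_6, tw_6_7]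
                      have f33 : T.a u1 u5 = 0 := by exact z_1_5
                      have f34 : T.a u1 u6 = 0 := by exact z_1_6
                      have f35 : T.a u1 u7 = 0 := by exact z_1_7
                      have f36 : T.a u1 u4 = 0 := by exact z_1_4
                      have f37 : T.a u3 u3 = -2 * T.w u2 := by have := (h2 u3).2; linarith only [this, tw_0_1, tw_0_2, tw_1_3, tw_3_4, tw_3_5, tw_5_6, tw_6_7]
                      have f38 : T.a u3 u5 = T.w u2 := by linarith only [tap_3_5, tw_0_1, tw_0_2, tw_1_3, tw_3_4, tw_3_5, tw_5_6, tw_6_7]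
                      have f39 : T.a u3 u6 = 0 := by exact z_3_6
                      have f40 : T.a u3 u7 = 0 := by exact z_3_7
                      have f41 : T.a u3 u4 = T.w u2 := by linarith only [tap_3_4, tw_0_1, tw_0_2, tw_1_3, tw_3_4, tw_3_5, tw_5_6, tw_6_7]
                      have f42 : T.a u5 u5 = -2 * T.w u2 := by have := (h2 u5).2; linarith only [this, tw_0_1, tw_0_2, tw_1_3, tw_3_4, tw_3_5, tw_5_6, tw_6_7]
                      have f43 : T.a u5 u6 = T.w u2 := by linarith only [tap_5_6, tw_0_1, tw_0_2, tw_1_3, tw_3_4, tw_3_5, tw_5_6, tw_6_7]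
                      have f44 : T.a u5 u7 = 0 := by exact z_5_7
                      have f45 : T.a u5 u4 = 0 := by rw [Groth.Agent.Helper6.NT.symm' T u5 u4]; exact z_4_5
                      have f46 : T.a u6 u6 = -2 * T.w u2 := by have := (h2 u6).2; linarith only [this, tw_0_1, tw_0_2, tw_1_3, tw_3_4, tw_3_5, tw_5_6, tw_6_7]
                      have f47 : T.a u6 u7 = T.w u2 := by linarith only [tap_6_7, tw_0_1, tw_0_2, tw_1_3, tw_3_4, tw_3_5, tw_5_6, tw_6_7]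
                      have f48 : T.a u6 u4 = 0 := by rw [Groth.Agent.Helper6.NT.symm' T u6 u4]; exact z_4_6
                      have f49 : T.a u7 u7 = -2 * T.w u2 := by have := (h2 u7).2; linarith only [this, tw_0_1, tw_0_2, tw_1_3, tw_3_4, tw_3_5, tw_5_6, tw_6_7]
                      have f50 : T.a u7 u4 = 0 := by rw [Groth.Agent.Helper6.NT.symm' T u7 u4]; exact z_4_7
                      have f51 : T.a u4 u4 = -2 * T.w u2 := by have := (h2 u4).2; linarith only [this, tw_0_1, tw_0_2, tw_1_3, tw_3_4, tw_3_5, tw_5_6, tw_6_7]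
                      have hsig := Groth.Agent.Helper6.NT.inj8 u2 u0 u1 u3 u5 u6 u7 u4 hn_2_0.symm hn_2_1.symm hn_1_0 hn_3_2 hn_3_0 hn_3_1 hn_5_2 hn_5_0 hn_5_1 hn_5_3 hn_6_2 hn_6_0 hn_6_1 hn_6_3 hn_6_5 hn_7_2 hn_7_0 hn_7_1 hn_7_3 hn_7_5 hn_7_6 hn_4_2 hn_4_0 hn_4_1 hn_4_3 hn_5_4.symm hn_6_4.symm hn_7_4.symm
                      exact ⟨Equiv.ofBijective _ (Finite.injective_iff_bijective.1 hsig), T.m u2, T.w u2, Or.inr (Or.inr (Or.inr (Or.inr (Or.inr (Or.inr (Or.inr (⟨f0, f1, f2, f3, f4, f5, f6, f7, f8, f9, f10, f11, f12, f13, f14, f15, f16, f17, f18, f19, f20, f21, f22, f23, f24, f25, f26, f27, f28, f29, f30, f31, f32, f33, f34, f35, f36, f37, f38, f39, f40, f41, f42, f43, f44, f45, f46, f47, f48, f49, f50, f51⟩)))))))⟩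
                    · -- (6,7) Dp
                      exfalso
                      have key := Groth.Agent.Helper6.NT.negfun6 T h2 u1 u3 u4 u5 u6 u7 (by norm_num) 1 2 1 2 2 1 (by norm_num) (by norm_num)
                      linarith only [key, tap_1_3, taq_1_3, z_1_4, z_1_5, z_1_6, z_1_7, tap_3_4, taq_3_4, tap_3_5, taq_3_5, z_3_6, z_3_7, z_4_5, z_4_6, z_4_7, tap_5_6, taq_5_6, z_5_7, tap_6_7, taq_6_7, T.w_pos u1, T.w_pos u3, T.w_pos u4, T.w_pos u5, T.w_pos u6, T.w_pos u7]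
                    · -- (6,7) Dm
                      exfalso
                      have key := Groth.Agent.Helper6.NT.negfun6 T h2 u1 u3 u4 u5 u6 u7 (by norm_num) 1 2 1 2 2 2 (by norm_num) (by norm_num)
                      linarith only [key, tap_1_3, taq_1_3, z_1_4, z_1_5, z_1_6, z_1_7, tap_3_4, taq_3_4, tap_3_5, taq_3_5, z_3_6, z_3_7, z_4_5, z_4_6, z_4_7, tap_5_6, taq_5_6, z_5_7, tap_6_7, taq_6_7, T.w_pos u1, T.w_pos u3, T.w_pos u4, T.w_pos u5, T.w_pos u6, T.w_pos u7]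
                    · -- (6,7) Tp
                      exfalso
                      have key := Groth.Agent.Helper6.NT.negfun3 T h2 u5 u6 u7 (by norm_num) 1 2 1 (by norm_num) (by norm_num)
                      linarith only [key, tap_5_6, taq_5_6, z_5_7, tap_6_7, taq_6_7, T.w_pos u5, T.w_pos u6, T.w_pos u7]
                    · -- (6,7) Tm
                      exfalso
                      have key := Groth.Agent.Helper6.NT.negfun3 T h2 u5 u6 u7 (by norm_num) 1 2 3 (by norm_num) (by norm_num)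
                      linarith only [key, tap_5_6, taq_5_6, z_5_7, tap_6_7, taq_6_7, T.w_pos u5, T.w_pos u6, T.w_pos u7]
                  · push Not at hx
                    have cl_6 := hx
                    clear hx
                    exfalso
                    refine Groth.Agent.Helper6.NT.closed_contra T [u0, u1, u2, u3, u4, u5, u6] (by simp) (by simp) ?_
                    intro i hi j hj
                    simp only [List.mem_cons, List.not_mem_nil, or_false, not_or] at hi hj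
                    rcases hi with rfl | rfl | rfl | rfl | rfl | rfl | rfl
                    · exact cl_0 j ⟨hj.1, hj.2.1, hj.2.2.1⟩
                    · exact cl_1 j ⟨hj.1, hj.2.1, hj.2.2.1, hj.2.2.2.1⟩
                    · exact cl_2 j ⟨hj.1, hj.2.1, hj.2.2.1, hj.2.2.2.1⟩
                    · exact cl_3 j ⟨hj.1, hj.2.1, hj.2.2.1, hj.2.2.2.1, hj.2.2.2.2.1, hj.2.2.2.2.2.1⟩
                    · exact cl_4 j ⟨hj.1, hj.2.1, hj.2.2.1, hj.2.2.2.1, hj.2.2.2.2.1, hj.2.2.2.2.2.1⟩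
                    · exact cl_5 j ⟨hj.1, hj.2.1, hj.2.2.1, hj.2.2.2.1, hj.2.2.2.2.1, hj.2.2.2.2.2.1, hj.2.2.2.2.2.2⟩
                    · exact cl_6 j ⟨hj.1, hj.2.1, hj.2.2.1, hj.2.2.2.1, hj.2.2.2.2.1, hj.2.2.2.2.2.1, hj.2.2.2.2.2.2⟩
              · -- (5,6) Dp
                exfalso
                have key := Groth.Agent.Helper6.NT.negfun5 T h2 u1 u3 u4 u5 u6 (by norm_num) 1 2 1 2 1 (by norm_num) (by norm_num)
                linarith only [key, tap_1_3, taq_1_3, z_1_4, z_1_5, z_1_6, tap_3_4, taq_3_4, tap_3_5, taq_3_5, z_3_6, z_4_5, z_4_6, tap_5_6, taq_5_6, T.w_pos u1, T.w_pos u3, T.w_pos u4, T.w_pos u5, T.w_pos u6]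
              · -- (5,6) Dm
                exfalso
                have key := Groth.Agent.Helper6.NT.negfun5 T h2 u1 u3 u4 u5 u6 (by norm_num) 1 2 1 2 2 (by norm_num) (by norm_num)
                linarith only [key, tap_1_3, taq_1_3, z_1_4, z_1_5, z_1_6, tap_3_4, taq_3_4, tap_3_5, taq_3_5, z_3_6, z_4_5, z_4_6, tap_5_6, taq_5_6, T.w_pos u1, T.w_pos u3, T.w_pos u4, T.w_pos u5, T.w_pos u6]
              · -- (5,6) Tp
                exfalso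
                have key := Groth.Agent.Helper6.NT.negfun3 T h2 u3 u5 u6 (by norm_num) 1 2 1 (by norm_num) (by norm_num)
                linarith only [key, tap_3_5, taq_3_5, z_3_6, tap_5_6, taq_5_6, T.w_pos u3, T.w_pos u5, T.w_pos u6]
              · -- (5,6) Tm
                exfalso
                have key := Groth.Agent.Helper6.NT.negfun3 T h2 u3 u5 u6 (by norm_num) 1 2 3 (by norm_num) (by norm_num)
                linarith only [key, tap_3_5, taq_3_5, z_3_6, tap_5_6, taq_5_6, T.w_pos u3, T.w_pos u5, T.w_pos u6]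
            · push Not at hx
              have cl_5 := hx
              clear hx
              exfalso
              refine Groth.Agent.Helper6.NT.closed_contra T [u0, u1, u2, u3, u4, u5] (by simp) (by simp) ?_
              intro i hi j hj
              simp only [List.mem_cons, List.not_mem_nil, or_false, not_or] at hi hj
              rcases hi with rfl | rfl | rfl | rfl | rfl | rfl
              · exact cl_0 j ⟨hj.1, hj.2.1, hj.2.2.1⟩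
              · exact cl_1 j ⟨hj.1, hj.2.1, hj.2.2.1, hj.2.2.2.1⟩
              · exact cl_2 j ⟨hj.1, hj.2.1, hj.2.2.1, hj.2.2.2.1⟩
              · exact cl_3 j ⟨hj.1, hj.2.1, hj.2.2.1, hj.2.2.2.1, hj.2.2.2.2.1, hj.2.2.2.2.2⟩
              · exact cl_4 j ⟨hj.1, hj.2.1, hj.2.2.1, hj.2.2.2.1, hj.2.2.2.2.1, hj.2.2.2.2.2⟩
              · exact cl_5 j ⟨hj.1, hj.2.1, hj.2.2.1, hj.2.2.2.1, hj.2.2.2.2.1, hj.2.2.2.2.2⟩
      · -- (4,5) nonzero
        obtain ⟨lbp_4_5, lbq_4_5⟩ := Groth.Agent.Helper6.NT.lb T u4 u5 hn_5_4.symm nz_4_5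
        exfalso
        have key := Groth.Agent.Helper6.NT.negfun3 T h2 u3 u4 u5 (by norm_num) 1 1 1 (by norm_num) (by norm_num)
        linarith only [key, tap_3_4, taq_3_4, tap_3_5, taq_3_5, lbp_4_5, lbq_4_5, T.w_pos u3, T.w_pos u4, T.w_pos u5]
    · -- (3,5) Dp
      exfalso
      have key := Groth.Agent.Helper6.NT.negfun4 T h2 u1 u3 u4 u5 (by norm_num) 1 2 1 1 (by norm_num) (by norm_num)
      linarith only [key, tap_1_3, taq_1_3, z_1_4, z_1_5, tap_3_4, taq_3_4, tap_3_5, taq_3_5, T.offDiag_nonneg u4 u5 hn_5_4.symm, T.w_pos u1, T.w_pos u3, T.w_pos u4, T.w_pos u5]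
    · -- (3,5) Dm
      exfalso
      have key := Groth.Agent.Helper6.NT.negfun4 T h2 u1 u3 u4 u5 (by norm_num) 1 2 1 2 (by norm_num) (by norm_num)
      linarith only [key, tap_1_3, taq_1_3, z_1_4, z_1_5, tap_3_4, taq_3_4, tap_3_5, taq_3_5, T.offDiag_nonneg u4 u5 hn_5_4.symm, T.w_pos u1, T.w_pos u3, T.w_pos u4, T.w_pos u5]
    · -- (3,5) Tp
      exfalso
      have key := Groth.Agent.Helper6.NT.negfun3 T h2 u3 u4 u5 (by norm_num) 2 1 1 (by norm_num) (by norm_num)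
      linarith only [key, tap_3_4, taq_3_4, tap_3_5, taq_3_5, T.offDiag_nonneg u4 u5 hn_5_4.symm, T.w_pos u3, T.w_pos u4, T.w_pos u5]
    · -- (3,5) Tm
      exfalso
      have key := Groth.Agent.Helper6.NT.negfun3 T h2 u3 u4 u5 (by norm_num) 2 1 3 (by norm_num) (by norm_num)
      linarith only [key, tap_3_4, taq_3_4, tap_3_5, taq_3_5, T.offDiag_nonneg u4 u5 hn_5_4.symm, T.w_pos u3, T.w_pos u4, T.w_pos u5]
  · push Not at hx
    have cl_3 := hx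
    clear hx
    by_cases hx : ∃ j, (j ≠ u0 ∧ j ≠ u1 ∧ j ≠ u2 ∧ j ≠ u3 ∧ j ≠ u4) ∧ T.a u4 j ≠ 0
    · obtain ⟨u5, ⟨hn_5_0, hn_5_1, hn_5_2, hn_5_3, hn_5_4⟩, e_4_5⟩ := hx
      have z_0_5 : T.a u0 u5 = 0 := cl_0 u5 ⟨hn_5_0, hn_5_1, hn_5_2⟩
      have z_1_5 : T.a u1 u5 = 0 := cl_1 u5 ⟨hn_5_0, hn_5_1, hn_5_2, hn_5_3⟩
      have z_2_5 : T.a u2 u5 = 0 := cl_2 u5 ⟨hn_5_0, hn_5_1, hn_5_2, hn_5_3⟩
      have z_3_5 : T.a u3 u5 = 0 := cl_3 u5 ⟨hn_5_0, hn_5_1, hn_5_2, hn_5_3, hn_5_4⟩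
      rcases Groth.Agent.Helper6.NT.edge5 T h2 (by norm_num) u4 u5 hn_5_4.symm e_4_5 with ⟨tw_4_5, tap_4_5, taq_4_5⟩ | ⟨tw_4_5, tap_4_5, taq_4_5⟩ | ⟨tw_4_5, tap_4_5, taq_4_5⟩ | ⟨tw_4_5, tap_4_5, taq_4_5⟩ | ⟨tw_4_5, tap_4_5, taq_4_5⟩
      · -- (4,5) S
        by_cases hx : ∃ j, (j ≠ u0 ∧ j ≠ u1 ∧ j ≠ u2 ∧ j ≠ u3 ∧ j ≠ u4 ∧ j ≠ u5) ∧ T.a u4 j ≠ 0
        · obtain ⟨u6, ⟨hn_6_0, hn_6_1, hn_6_2, hn_6_3, hn_6_4, hn_6_5⟩, e_4_6⟩ := hx
          have z_0_6 : T.a u0 u6 = 0 := cl_0 u6 ⟨hn_6_0, hn_6_1, hn_6_2⟩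
          have z_1_6 : T.a u1 u6 = 0 := cl_1 u6 ⟨hn_6_0, hn_6_1, hn_6_2, hn_6_3⟩
          have z_2_6 : T.a u2 u6 = 0 := cl_2 u6 ⟨hn_6_0, hn_6_1, hn_6_2, hn_6_3⟩
          have z_3_6 : T.a u3 u6 = 0 := cl_3 u6 ⟨hn_6_0, hn_6_1, hn_6_2, hn_6_3, hn_6_4⟩
          rcases Groth.Agent.Helper6.NT.edge5 T h2 (by norm_num) u4 u6 hn_6_4.symm e_4_6 with ⟨tw_4_6, tap_4_6, taq_4_6⟩ | ⟨tw_4_6, tap_4_6, taq_4_6⟩ | ⟨tw_4_6, tap_4_6, taq_4_6⟩ | ⟨tw_4_6, tap_4_6, taq_4_6⟩ | ⟨tw_4_6, tap_4_6, taq_4_6⟩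
          · -- (4,6) S
            rcases eq_or_ne (T.a u5 u6) 0 with z_5_6 | nz_5_6
            · -- (5,6) zero
              by_cases hx : ∃ j, (j ≠ u0 ∧ j ≠ u1 ∧ j ≠ u2 ∧ j ≠ u3 ∧ j ≠ u4 ∧ j ≠ u5 ∧ j ≠ u6) ∧ T.a u4 j ≠ 0
              · obtain ⟨u7, ⟨hn_7_0, hn_7_1, hn_7_2, hn_7_3, hn_7_4, hn_7_5, hn_7_6⟩, e_4_7⟩ := hx
                have z_0_7 : T.a u0 u7 = 0 := cl_0 u7 ⟨hn_7_0, hn_7_1, hn_7_2⟩
                have z_1_7 : T.a u1 u7 = 0 := cl_1 u7 ⟨hn_7_0, hn_7_1, hn_7_2, hn_7_3⟩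
                have z_2_7 : T.a u2 u7 = 0 := cl_2 u7 ⟨hn_7_0, hn_7_1, hn_7_2, hn_7_3⟩
                have z_3_7 : T.a u3 u7 = 0 := cl_3 u7 ⟨hn_7_0, hn_7_1, hn_7_2, hn_7_3, hn_7_4⟩
                rcases Groth.Agent.Helper6.NT.edge5 T h2 (by norm_num) u4 u7 hn_7_4.symm e_4_7 with ⟨tw_4_7, tap_4_7, taq_4_7⟩ | ⟨tw_4_7, tap_4_7, taq_4_7⟩ | ⟨tw_4_7, tap_4_7, taq_4_7⟩ | ⟨tw_4_7, tap_4_7, taq_4_7⟩ | ⟨tw_4_7, tap_4_7, taq_4_7⟩
                · -- (4,7) S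
                  exfalso
                  have key := Groth.Agent.Helper6.NT.negfun5 T h2 u3 u4 u5 u6 u7 (by norm_num) 1 2 1 1 1 (by norm_num) (by norm_num)
                  linarith only [key, tap_3_4, taq_3_4, z_3_5, z_3_6, z_3_7, tap_4_5, taq_4_5, tap_4_6, taq_4_6, tap_4_7, taq_4_7, z_5_6, T.offDiag_nonneg u5 u7 hn_7_5.symm, T.offDiag_nonneg u6 u7 hn_7_6.symm, T.w_pos u3, T.w_pos u4, T.w_pos u5, T.w_pos u6, T.w_pos u7]
                · -- (4,7) Dp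
                  exfalso
                  have key := Groth.Agent.Helper6.NT.negfun4 T h2 u4 u5 u6 u7 (by norm_num) 2 1 1 1 (by norm_num) (by norm_num)
                  linarith only [key, tap_4_5, taq_4_5, tap_4_6, taq_4_6, tap_4_7, taq_4_7, z_5_6, T.offDiag_nonneg u5 u7 hn_7_5.symm, T.offDiag_nonneg u6 u7 hn_7_6.symm, T.w_pos u4, T.w_pos u5, T.w_pos u6, T.w_pos u7]
                · -- (4,7) Dm
                  exfalso
                  have key := Groth.Agent.Helper6.NT.negfun4 T h2 u4 u5 u6 u7 (by norm_num) 2 1 1 2 (by norm_num) (by norm_num)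
                  linarith only [key, tap_4_5, taq_4_5, tap_4_6, taq_4_6, tap_4_7, taq_4_7, z_5_6, T.offDiag_nonneg u5 u7 hn_7_5.symm, T.offDiag_nonneg u6 u7 hn_7_6.symm, T.w_pos u4, T.w_pos u5, T.w_pos u6, T.w_pos u7]
                · -- (4,7) Tp
                  exfalso
                  have key := Groth.Agent.Helper6.NT.negfun3 T h2 u4 u6 u7 (by norm_num) 2 1 1 (by norm_num) (by norm_num)
                  linarith only [key, tap_4_6, taq_4_6, tap_4_7, taq_4_7, T.offDiag_nonneg u6 u7 hn_7_6.symm, T.w_pos u4, T.w_pos u6, T.w_pos u7]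
                · -- (4,7) Tm
                  exfalso
                  have key := Groth.Agent.Helper6.NT.negfun3 T h2 u4 u6 u7 (by norm_num) 2 1 3 (by norm_num) (by norm_num)
                  linarith only [key, tap_4_6, taq_4_6, tap_4_7, taq_4_7, T.offDiag_nonneg u6 u7 hn_7_6.symm, T.w_pos u4, T.w_pos u6, T.w_pos u7]
              · push Not at hx
                have cl_4 := hx
                clear hx
                by_cases hx : ∃ j, (j ≠ u0 ∧ j ≠ u1 ∧ j ≠ u2 ∧ j ≠ u3 ∧ j ≠ u4 ∧ j ≠ u5 ∧ j ≠ u6) ∧ T.a u5 j ≠ 0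
                · obtain ⟨u7, ⟨hn_7_0, hn_7_1, hn_7_2, hn_7_3, hn_7_4, hn_7_5, hn_7_6⟩, e_5_7⟩ := hx
                  have z_0_7 : T.a u0 u7 = 0 := cl_0 u7 ⟨hn_7_0, hn_7_1, hn_7_2⟩
                  have z_1_7 : T.a u1 u7 = 0 := cl_1 u7 ⟨hn_7_0, hn_7_1, hn_7_2, hn_7_3⟩
                  have z_2_7 : T.a u2 u7 = 0 := cl_2 u7 ⟨hn_7_0, hn_7_1, hn_7_2, hn_7_3⟩
                  have z_3_7 : T.a u3 u7 = 0 := cl_3 u7 ⟨hn_7_0, hn_7_1, hn_7_2, hn_7_3, hn_7_4⟩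
                  have z_4_7 : T.a u4 u7 = 0 := cl_4 u7 ⟨hn_7_0, hn_7_1, hn_7_2, hn_7_3, hn_7_4, hn_7_5, hn_7_6⟩
                  rcases Groth.Agent.Helper6.NT.edge5 T h2 (by norm_num) u5 u7 hn_7_5.symm e_5_7 with ⟨tw_5_7, tap_5_7, taq_5_7⟩ | ⟨tw_5_7, tap_5_7, taq_5_7⟩ | ⟨tw_5_7, tap_5_7, taq_5_7⟩ | ⟨tw_5_7, tap_5_7, taq_5_7⟩ | ⟨tw_5_7, tap_5_7, taq_5_7⟩
                  · -- (5,7) S
                    rcases eq_or_ne (T.a u6 u7) 0 with z_6_7 | nz_6_7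
                    · -- (6,7) zero
                      have hinj := Groth.Agent.Helper6.NT.inj8 u0 u1 u2 u3 u4 u5 u6 u7 hn_1_0 hn_2_0 hn_2_1 hn_3_0 hn_3_1 hn_3_2 hn_4_0 hn_4_1 hn_4_2 hn_4_3 hn_5_0 hn_5_1 hn_5_2 hn_5_3 hn_5_4 hn_6_0 hn_6_1 hn_6_2 hn_6_3 hn_6_4 hn_6_5 hn_7_0 hn_7_1 hn_7_2 hn_7_3 hn_7_4 hn_7_5 hn_7_6
                      have r_0 : -2 * T.m u0 + 1 * T.m u1 + 1 * T.m u2 = 0 := by
                        have key := Groth.Agent.Helper6.NT.rowfun8 T u0 u1 u2 u3 u4 u5 u6 u7 hinj u0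
                        rw [(h2 u0).2, tap_0_1, tap_0_2, z_0_3, z_0_4, z_0_5, z_0_6, z_0_7] at key
                        exact mul_left_cancel₀ (T.w_pos u0).ne' (by linarith only [key])
                      have r_1 : 1 * T.m u0 + -2 * T.m u1 + 1 * T.m u3 = 0 := by
                        have key := Groth.Agent.Helper6.NT.rowfun8 T u0 u1 u2 u3 u4 u5 u6 u7 hinj u1
                        rw [Groth.Agent.Helper6.NT.symm' T u1 u0, taq_0_1, (h2 u1).2, z_1_2, tap_1_3, z_1_4, z_1_5, z_1_6, z_1_7] at key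
                        exact mul_left_cancel₀ (T.w_pos u1).ne' (by linarith only [key])
                      have r_2 : 1 * T.m u0 + -2 * T.m u2 = 0 := by
                        have key := Groth.Agent.Helper6.NT.rowfun8 T u0 u1 u2 u3 u4 u5 u6 u7 hinj u2
                        rw [Groth.Agent.Helper6.NT.symm' T u2 u0, taq_0_2, Groth.Agent.Helper6.NT.symm' T u2 u1, z_1_2, (h2 u2).2, z_2_3, z_2_4, z_2_5, z_2_6, z_2_7] at key
                        exact mul_left_cancel₀ (T.w_pos u2).ne' (by linarith only [key])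
                      have r_3 : 1 * T.m u1 + -2 * T.m u3 + 1 * T.m u4 = 0 := by
                        have key := Groth.Agent.Helper6.NT.rowfun8 T u0 u1 u2 u3 u4 u5 u6 u7 hinj u3
                        rw [Groth.Agent.Helper6.NT.symm' T u3 u0, z_0_3, Groth.Agent.Helper6.NT.symm' T u3 u1, taq_1_3, Groth.Agent.Helper6.NT.symm' T u3 u2, z_2_3, (h2 u3).2, tap_3_4, z_3_5, z_3_6, z_3_7] at key
                        exact mul_left_cancel₀ (T.w_pos u3).ne' (by linarith only [key])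
                      have r_4 : 1 * T.m u3 + -2 * T.m u4 + 1 * T.m u5 + 1 * T.m u6 = 0 := by
                        have key := Groth.Agent.Helper6.NT.rowfun8 T u0 u1 u2 u3 u4 u5 u6 u7 hinj u4
                        rw [Groth.Agent.Helper6.NT.symm' T u4 u0, z_0_4, Groth.Agent.Helper6.NT.symm' T u4 u1, z_1_4, Groth.Agent.Helper6.NT.symm' T u4 u2, z_2_4, Groth.Agent.Helper6.NT.symm' T u4 u3, taq_3_4, (h2 u4).2, tap_4_5, tap_4_6, z_4_7] at key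
                        exact mul_left_cancel₀ (T.w_pos u4).ne' (by linarith only [key])
                      have r_5 : 1 * T.m u4 + -2 * T.m u5 + 1 * T.m u7 = 0 := by
                        have key := Groth.Agent.Helper6.NT.rowfun8 T u0 u1 u2 u3 u4 u5 u6 u7 hinj u5
                        rw [Groth.Agent.Helper6.NT.symm' T u5 u0, z_0_5, Groth.Agent.Helper6.NT.symm' T u5 u1, z_1_5, Groth.Agent.Helper6.NT.symm' T u5 u2, z_2_5, Groth.Agent.Helper6.NT.symm' T u5 u3, z_3_5, Groth.Agent.Helper6.NT.symm' T u5 u4, taq_4_5, (h2 u5).2, z_5_6, tap_5_7] at key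
                        exact mul_left_cancel₀ (T.w_pos u5).ne' (by linarith only [key])
                      have r_6 : 1 * T.m u4 + -2 * T.m u6 = 0 := by
                        have key := Groth.Agent.Helper6.NT.rowfun8 T u0 u1 u2 u3 u4 u5 u6 u7 hinj u6
                        rw [Groth.Agent.Helper6.NT.symm' T u6 u0, z_0_6, Groth.Agent.Helper6.NT.symm' T u6 u1, z_1_6, Groth.Agent.Helper6.NT.symm' T u6 u2, z_2_6, Groth.Agent.Helper6.NT.symm' T u6 u3, z_3_6, Groth.Agent.Helper6.NT.symm' T u6 u4, taq_4_6, Groth.Agent.Helper6.NT.symm' T u6 u5, z_5_6, (h2 u6).2, z_6_7] at key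
                        exact mul_left_cancel₀ (T.w_pos u6).ne' (by linarith only [key])
                      have r_7 : 1 * T.m u5 + -2 * T.m u7 = 0 := by
                        have key := Groth.Agent.Helper6.NT.rowfun8 T u0 u1 u2 u3 u4 u5 u6 u7 hinj u7
                        rw [Groth.Agent.Helper6.NT.symm' T u7 u0, z_0_7, Groth.Agent.Helper6.NT.symm' T u7 u1, z_1_7, Groth.Agent.Helper6.NT.symm' T u7 u2, z_2_7, Groth.Agent.Helper6.NT.symm' T u7 u3, z_3_7, Groth.Agent.Helper6.NT.symm' T u7 u4, z_4_7, Groth.Agent.Helper6.NT.symm' T u7 u5, taq_5_7, Groth.Agent.Helper6.NT.symm' T u7 u6, z_6_7, (h2 u7).2] at key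
                        exact mul_left_cancel₀ (T.w_pos u7).ne' (by linarith only [key])
                      exfalso
                      linarith only [r_0, r_1, r_2, r_3, r_4, r_5, r_6, r_7, T.m_pos u0, T.m_pos u1, T.m_pos u2, T.m_pos u3, T.m_pos u4, T.m_pos u5, T.m_pos u6, T.m_pos u7]
                    · -- (6,7) nonzero
                      obtain ⟨lbp_6_7, lbq_6_7⟩ := Groth.Agent.Helper6.NT.lb T u6 u7 hn_7_6.symm nz_6_7
                      exfalso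
                      have key := Groth.Agent.Helper6.NT.negfun4 T h2 u4 u5 u6 u7 (by norm_num) 1 1 1 1 (by norm_num) (by norm_num)
                      linarith only [key, tap_4_5, taq_4_5, tap_4_6, taq_4_6, z_4_7, z_5_6, tap_5_7, taq_5_7, lbp_6_7, lbq_6_7, T.w_pos u4, T.w_pos u5, T.w_pos u6, T.w_pos u7]
                  · -- (5,7) Dp
                    exfalso
                    have key := Groth.Agent.Helper6.NT.negfun5 T h2 u3 u4 u5 u6 u7 (by norm_num) 1 2 2 1 1 (by norm_num) (by norm_num)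
                    linarith only [key, tap_3_4, taq_3_4, z_3_5, z_3_6, z_3_7, tap_4_5, taq_4_5, tap_4_6, taq_4_6, z_4_7, z_5_6, tap_5_7, taq_5_7, T.offDiag_nonneg u6 u7 hn_7_6.symm, T.w_pos u3, T.w_pos u4, T.w_pos u5, T.w_pos u6, T.w_pos u7]
                  · -- (5,7) Dm
                    exfalso
                    have key := Groth.Agent.Helper6.NT.negfun5 T h2 u3 u4 u5 u6 u7 (by norm_num) 1 2 2 1 2 (by norm_num) (by norm_num)
                    linarith only [key, tap_3_4, taq_3_4, z_3_5, z_3_6, z_3_7, tap_4_5, taq_4_5, tap_4_6, taq_4_6, z_4_7, z_5_6, tap_5_7, taq_5_7, T.offDiag_nonneg u6 u7 hn_7_6.symm, T.w_pos u3, T.w_pos u4, T.w_pos u5, T.w_pos u6, T.w_pos u7]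
                  · -- (5,7) Tp
                    exfalso
                    have key := Groth.Agent.Helper6.NT.negfun3 T h2 u4 u5 u7 (by norm_num) 1 2 1 (by norm_num) (by norm_num)
                    linarith only [key, tap_4_5, taq_4_5, z_4_7, tap_5_7, taq_5_7, T.w_pos u4, T.w_pos u5, T.w_pos u7]
                  · -- (5,7) Tm
                    exfalso
                    have key := Groth.Agent.Helper6.NT.negfun3 T h2 u4 u5 u7 (by norm_num) 1 2 3 (by norm_num) (by norm_num)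
                    linarith only [key, tap_4_5, taq_4_5, z_4_7, tap_5_7, taq_5_7, T.w_pos u4, T.w_pos u5, T.w_pos u7]
                · push Not at hx
                  have cl_5 := hx
                  clear hx
                  by_cases hx : ∃ j, (j ≠ u0 ∧ j ≠ u1 ∧ j ≠ u2 ∧ j ≠ u3 ∧ j ≠ u4 ∧ j ≠ u5 ∧ j ≠ u6) ∧ T.a u6 j ≠ 0
                  · obtain ⟨u7, ⟨hn_7_0, hn_7_1, hn_7_2, hn_7_3, hn_7_4, hn_7_5, hn_7_6⟩, e_6_7⟩ := hx
                    have z_0_7 : T.a u0 u7 = 0 := cl_0 u7 ⟨hn_7_0, hn_7_1, hn_7_2⟩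
                    have z_1_7 : T.a u1 u7 = 0 := cl_1 u7 ⟨hn_7_0, hn_7_1, hn_7_2, hn_7_3⟩
                    have z_2_7 : T.a u2 u7 = 0 := cl_2 u7 ⟨hn_7_0, hn_7_1, hn_7_2, hn_7_3⟩
                    have z_3_7 : T.a u3 u7 = 0 := cl_3 u7 ⟨hn_7_0, hn_7_1, hn_7_2, hn_7_3, hn_7_4⟩
                    have z_4_7 : T.a u4 u7 = 0 := cl_4 u7 ⟨hn_7_0, hn_7_1, hn_7_2, hn_7_3, hn_7_4, hn_7_5, hn_7_6⟩
                    have z_5_7 : T.a u5 u7 = 0 := cl_5 u7 ⟨hn_7_0, hn_7_1, hn_7_2, hn_7_3, hn_7_4, hn_7_5, hn_7_6⟩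
                    rcases Groth.Agent.Helper6.NT.edge5 T h2 (by norm_num) u6 u7 hn_7_6.symm e_6_7 with ⟨tw_6_7, tap_6_7, taq_6_7⟩ | ⟨tw_6_7, tap_6_7, taq_6_7⟩ | ⟨tw_6_7, tap_6_7, taq_6_7⟩ | ⟨tw_6_7, tap_6_7, taq_6_7⟩ | ⟨tw_6_7, tap_6_7, taq_6_7⟩
                    · -- (6,7) S
                      have hinj := Groth.Agent.Helper6.NT.inj8 u0 u1 u2 u3 u4 u5 u6 u7 hn_1_0 hn_2_0 hn_2_1 hn_3_0 hn_3_1 hn_3_2 hn_4_0 hn_4_1 hn_4_2 hn_4_3 hn_5_0 hn_5_1 hn_5_2 hn_5_3 hn_5_4 hn_6_0 hn_6_1 hn_6_2 hn_6_3 hn_6_4 hn_6_5 hn_7_0 hn_7_1 hn_7_2 hn_7_3 hn_7_4 hn_7_5 hn_7_6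
                      have r_0 : -2 * T.m u0 + 1 * T.m u1 + 1 * T.m u2 = 0 := by
                        have key := Groth.Agent.Helper6.NT.rowfun8 T u0 u1 u2 u3 u4 u5 u6 u7 hinj u0
                        rw [(h2 u0).2, tap_0_1, tap_0_2, z_0_3, z_0_4, z_0_5, z_0_6, z_0_7] at key
                        exact mul_left_cancel₀ (T.w_pos u0).ne' (by linarith only [key])
                      have r_1 : 1 * T.m u0 + -2 * T.m u1 + 1 * T.m u3 = 0 := by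
                        have key := Groth.Agent.Helper6.NT.rowfun8 T u0 u1 u2 u3 u4 u5 u6 u7 hinj u1
                        rw [Groth.Agent.Helper6.NT.symm' T u1 u0, taq_0_1, (h2 u1).2, z_1_2, tap_1_3, z_1_4, z_1_5, z_1_6, z_1_7] at key
                        exact mul_left_cancel₀ (T.w_pos u1).ne' (by linarith only [key])
                      have r_2 : 1 * T.m u0 + -2 * T.m u2 = 0 := by
                        have key := Groth.Agent.Helper6.NT.rowfun8 T u0 u1 u2 u3 u4 u5 u6 u7 hinj u2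
                        rw [Groth.Agent.Helper6.NT.symm' T u2 u0, taq_0_2, Groth.Agent.Helper6.NT.symm' T u2 u1, z_1_2, (h2 u2).2, z_2_3, z_2_4, z_2_5, z_2_6, z_2_7] at key
                        exact mul_left_cancel₀ (T.w_pos u2).ne' (by linarith only [key])
                      have r_3 : 1 * T.m u1 + -2 * T.m u3 + 1 * T.m u4 = 0 := by
                        have key := Groth.Agent.Helper6.NT.rowfun8 T u0 u1 u2 u3 u4 u5 u6 u7 hinj u3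
                        rw [Groth.Agent.Helper6.NT.symm' T u3 u0, z_0_3, Groth.Agent.Helper6.NT.symm' T u3 u1, taq_1_3, Groth.Agent.Helper6.NT.symm' T u3 u2, z_2_3, (h2 u3).2, tap_3_4, z_3_5, z_3_6, z_3_7] at key
                        exact mul_left_cancel₀ (T.w_pos u3).ne' (by linarith only [key])
                      have r_4 : 1 * T.m u3 + -2 * T.m u4 + 1 * T.m u5 + 1 * T.m u6 = 0 := by
                        have key := Groth.Agent.Helper6.NT.rowfun8 T u0 u1 u2 u3 u4 u5 u6 u7 hinj u4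
                        rw [Groth.Agent.Helper6.NT.symm' T u4 u0, z_0_4, Groth.Agent.Helper6.NT.symm' T u4 u1, z_1_4, Groth.Agent.Helper6.NT.symm' T u4 u2, z_2_4, Groth.Agent.Helper6.NT.symm' T u4 u3, taq_3_4, (h2 u4).2, tap_4_5, tap_4_6, z_4_7] at key
                        exact mul_left_cancel₀ (T.w_pos u4).ne' (by linarith only [key])
                      have r_5 : 1 * T.m u4 + -2 * T.m u5 = 0 := by
                        have key := Groth.Agent.Helper6.NT.rowfun8 T u0 u1 u2 u3 u4 u5 u6 u7 hinj u5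
                        rw [Groth.Agent.Helper6.NT.symm' T u5 u0, z_0_5, Groth.Agent.Helper6.NT.symm' T u5 u1, z_1_5, Groth.Agent.Helper6.NT.symm' T u5 u2, z_2_5, Groth.Agent.Helper6.NT.symm' T u5 u3, z_3_5, Groth.Agent.Helper6.NT.symm' T u5 u4, taq_4_5, (h2 u5).2, z_5_6, z_5_7] at key
                        exact mul_left_cancel₀ (T.w_pos u5).ne' (by linarith only [key])
                      have r_6 : 1 * T.m u4 + -2 * T.m u6 + 1 * T.m u7 = 0 := by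
                        have key := Groth.Agent.Helper6.NT.rowfun8 T u0 u1 u2 u3 u4 u5 u6 u7 hinj u6
                        rw [Groth.Agent.Helper6.NT.symm' T u6 u0, z_0_6, Groth.Agent.Helper6.NT.symm' T u6 u1, z_1_6, Groth.Agent.Helper6.NT.symm' T u6 u2, z_2_6, Groth.Agent.Helper6.NT.symm' T u6 u3, z_3_6, Groth.Agent.Helper6.NT.symm' T u6 u4, taq_4_6, Groth.Agent.Helper6.NT.symm' T u6 u5, z_5_6, (h2 u6).2, tap_6_7] at key
                        exact mul_left_cancel₀ (T.w_pos u6).ne' (by linarith only [key])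
                      have r_7 : 1 * T.m u6 + -2 * T.m u7 = 0 := by
                        have key := Groth.Agent.Helper6.NT.rowfun8 T u0 u1 u2 u3 u4 u5 u6 u7 hinj u7
                        rw [Groth.Agent.Helper6.NT.symm' T u7 u0, z_0_7, Groth.Agent.Helper6.NT.symm' T u7 u1, z_1_7, Groth.Agent.Helper6.NT.symm' T u7 u2, z_2_7, Groth.Agent.Helper6.NT.symm' T u7 u3, z_3_7, Groth.Agent.Helper6.NT.symm' T u7 u4, z_4_7, Groth.Agent.Helper6.NT.symm' T u7 u5, z_5_7, Groth.Agent.Helper6.NT.symm' T u7 u6, taq_6_7, (h2 u7).2] at key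
                        exact mul_left_cancel₀ (T.w_pos u7).ne' (by linarith only [key])
                      exfalso
                      linarith only [r_0, r_1, r_2, r_3, r_4, r_5, r_6, r_7, T.m_pos u0, T.m_pos u1, T.m_pos u2, T.m_pos u3, T.m_pos u4, T.m_pos u5, T.m_pos u6, T.m_pos u7]
                    · -- (6,7) Dp
                      exfalso
                      have key := Groth.Agent.Helper6.NT.negfun5 T h2 u3 u4 u5 u6 u7 (by norm_num) 1 2 1 2 1 (by norm_num) (by norm_num)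
                      linarith only [key, tap_3_4, taq_3_4, z_3_5, z_3_6, z_3_7, tap_4_5, taq_4_5, tap_4_6, taq_4_6, z_4_7, z_5_6, z_5_7, tap_6_7, taq_6_7, T.w_pos u3, T.w_pos u4, T.w_pos u5, T.w_pos u6, T.w_pos u7]
                    · -- (6,7) Dm
                      exfalso
                      have key := Groth.Agent.Helper6.NT.negfun5 T h2 u3 u4 u5 u6 u7 (by norm_num) 1 2 1 2 2 (by norm_num) (by norm_num)
                      linarith only [key, tap_3_4, taq_3_4, z_3_5, z_3_6, z_3_7, tap_4_5, taq_4_5, tap_4_6, taq_4_6, z_4_7, z_5_6, z_5_7, tap_6_7, taq_6_7, T.w_pos u3, T.w_pos u4, T.w_pos u5, T.w_pos u6, T.w_pos u7]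
                    · -- (6,7) Tp
                      exfalso
                      have key := Groth.Agent.Helper6.NT.negfun3 T h2 u4 u6 u7 (by norm_num) 1 2 1 (by norm_num) (by norm_num)
                      linarith only [key, tap_4_6, taq_4_6, z_4_7, tap_6_7, taq_6_7, T.w_pos u4, T.w_pos u6, T.w_pos u7]
                    · -- (6,7) Tm
                      exfalso
                      have key := Groth.Agent.Helper6.NT.negfun3 T h2 u4 u6 u7 (by norm_num) 1 2 3 (by norm_num) (by norm_num)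
                      linarith only [key, tap_4_6, taq_4_6, z_4_7, tap_6_7, taq_6_7, T.w_pos u4, T.w_pos u6, T.w_pos u7]
                  · push Not at hx
                    have cl_6 := hx
                    clear hx
                    exfalso
                    refine Groth.Agent.Helper6.NT.closed_contra T [u0, u1, u2, u3, u4, u5, u6] (by simp) (by simp) ?_
                    intro i hi j hj
                    simp only [List.mem_cons, List.not_mem_nil, or_false, not_or] at hi hj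
                    rcases hi with rfl | rfl | rfl | rfl | rfl | rfl | rfl
                    · exact cl_0 j ⟨hj.1, hj.2.1, hj.2.2.1⟩
                    · exact cl_1 j ⟨hj.1, hj.2.1, hj.2.2.1, hj.2.2.2.1⟩
                    · exact cl_2 j ⟨hj.1, hj.2.1, hj.2.2.1, hj.2.2.2.1⟩
                    · exact cl_3 j ⟨hj.1, hj.2.1, hj.2.2.1, hj.2.2.2.1, hj.2.2.2.2.1⟩
                    · exact cl_4 j ⟨hj.1, hj.2.1, hj.2.2.1, hj.2.2.2.1, hj.2.2.2.2.1, hj.2.2.2.2.2.1, hj.2.2.2.2.2.2⟩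
                    · exact cl_5 j ⟨hj.1, hj.2.1, hj.2.2.1, hj.2.2.2.1, hj.2.2.2.2.1, hj.2.2.2.2.2.1, hj.2.2.2.2.2.2⟩
                    · exact cl_6 j ⟨hj.1, hj.2.1, hj.2.2.1, hj.2.2.2.1, hj.2.2.2.2.1, hj.2.2.2.2.2.1, hj.2.2.2.2.2.2⟩
            · -- (5,6) nonzero
              obtain ⟨lbp_5_6, lbq_5_6⟩ := Groth.Agent.Helper6.NT.lb T u5 u6 hn_6_5.symm nz_5_6
              exfalso
              have key := Groth.Agent.Helper6.NT.negfun3 T h2 u4 u5 u6 (by norm_num) 1 1 1 (by norm_num) (by norm_num)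
              linarith only [key, tap_4_5, taq_4_5, tap_4_6, taq_4_6, lbp_5_6, lbq_5_6, T.w_pos u4, T.w_pos u5, T.w_pos u6]
          · -- (4,6) Dp
            exfalso
            have key := Groth.Agent.Helper6.NT.negfun4 T h2 u3 u4 u5 u6 (by norm_num) 1 2 1 1 (by norm_num) (by norm_num)
            linarith only [key, tap_3_4, taq_3_4, z_3_5, z_3_6, tap_4_5, taq_4_5, tap_4_6, taq_4_6, T.offDiag_nonneg u5 u6 hn_6_5.symm, T.w_pos u3, T.w_pos u4, T.w_pos u5, T.w_pos u6]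
          · -- (4,6) Dm
            exfalso
            have key := Groth.Agent.Helper6.NT.negfun4 T h2 u3 u4 u5 u6 (by norm_num) 1 2 1 2 (by norm_num) (by norm_num)
            linarith only [key, tap_3_4, taq_3_4, z_3_5, z_3_6, tap_4_5, taq_4_5, tap_4_6, taq_4_6, T.offDiag_nonneg u5 u6 hn_6_5.symm, T.w_pos u3, T.w_pos u4, T.w_pos u5, T.w_pos u6]
          · -- (4,6) Tp
            exfalso
            have key := Groth.Agent.Helper6.NT.negfun3 T h2 u4 u5 u6 (by norm_num) 2 1 1 (by norm_num) (by norm_num)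
            linarith only [key, tap_4_5, taq_4_5, tap_4_6, taq_4_6, T.offDiag_nonneg u5 u6 hn_6_5.symm, T.w_pos u4, T.w_pos u5, T.w_pos u6]
          · -- (4,6) Tm
            exfalso
            have key := Groth.Agent.Helper6.NT.negfun3 T h2 u4 u5 u6 (by norm_num) 2 1 3 (by norm_num) (by norm_num)
            linarith only [key, tap_4_5, taq_4_5, tap_4_6, taq_4_6, T.offDiag_nonneg u5 u6 hn_6_5.symm, T.w_pos u4, T.w_pos u5, T.w_pos u6]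
        · push Not at hx
          have cl_4 := hx
          clear hx
          by_cases hx : ∃ j, (j ≠ u0 ∧ j ≠ u1 ∧ j ≠ u2 ∧ j ≠ u3 ∧ j ≠ u4 ∧ j ≠ u5) ∧ T.a u5 j ≠ 0
          · obtain ⟨u6, ⟨hn_6_0, hn_6_1, hn_6_2, hn_6_3, hn_6_4, hn_6_5⟩, e_5_6⟩ := hx
            have z_0_6 : T.a u0 u6 = 0 := cl_0 u6 ⟨hn_6_0, hn_6_1, hn_6_2⟩
            have z_1_6 : T.a u1 u6 = 0 := cl_1 u6 ⟨hn_6_0, hn_6_1, hn_6_2, hn_6_3⟩
            have z_2_6 : T.a u2 u6 = 0 := cl_2 u6 ⟨hn_6_0, hn_6_1, hn_6_2, hn_6_3⟩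
            have z_3_6 : T.a u3 u6 = 0 := cl_3 u6 ⟨hn_6_0, hn_6_1, hn_6_2, hn_6_3, hn_6_4⟩
            have z_4_6 : T.a u4 u6 = 0 := cl_4 u6 ⟨hn_6_0, hn_6_1, hn_6_2, hn_6_3, hn_6_4, hn_6_5⟩
            rcases Groth.Agent.Helper6.NT.edge5 T h2 (by norm_num) u5 u6 hn_6_5.symm e_5_6 with ⟨tw_5_6, tap_5_6, taq_5_6⟩ | ⟨tw_5_6, tap_5_6, taq_5_6⟩ | ⟨tw_5_6, tap_5_6, taq_5_6⟩ | ⟨tw_5_6, tap_5_6, taq_5_6⟩ | ⟨tw_5_6, tap_5_6, taq_5_6⟩
            · -- (5,6) S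
              by_cases hx : ∃ j, (j ≠ u0 ∧ j ≠ u1 ∧ j ≠ u2 ∧ j ≠ u3 ∧ j ≠ u4 ∧ j ≠ u5 ∧ j ≠ u6) ∧ T.a u5 j ≠ 0
              · obtain ⟨u7, ⟨hn_7_0, hn_7_1, hn_7_2, hn_7_3, hn_7_4, hn_7_5, hn_7_6⟩, e_5_7⟩ := hx
                have z_0_7 : T.a u0 u7 = 0 := cl_0 u7 ⟨hn_7_0, hn_7_1, hn_7_2⟩
                have z_1_7 : T.a u1 u7 = 0 := cl_1 u7 ⟨hn_7_0, hn_7_1, hn_7_2, hn_7_3⟩
                have z_2_7 : T.a u2 u7 = 0 := cl_2 u7 ⟨hn_7_0, hn_7_1, hn_7_2, hn_7_3⟩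
                have z_3_7 : T.a u3 u7 = 0 := cl_3 u7 ⟨hn_7_0, hn_7_1, hn_7_2, hn_7_3, hn_7_4⟩
                have z_4_7 : T.a u4 u7 = 0 := cl_4 u7 ⟨hn_7_0, hn_7_1, hn_7_2, hn_7_3, hn_7_4, hn_7_5⟩
                rcases Groth.Agent.Helper6.NT.edge5 T h2 (by norm_num) u5 u7 hn_7_5.symm e_5_7 with ⟨tw_5_7, tap_5_7, taq_5_7⟩ | ⟨tw_5_7, tap_5_7, taq_5_7⟩ | ⟨tw_5_7, tap_5_7, taq_5_7⟩ | ⟨tw_5_7, tap_5_7, taq_5_7⟩ | ⟨tw_5_7, tap_5_7, taq_5_7⟩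
                · -- (5,7) S
                  rcases eq_or_ne (T.a u6 u7) 0 with z_6_7 | nz_6_7
                  · -- (6,7) zero
                    have hinj := Groth.Agent.Helper6.NT.inj8 u0 u1 u2 u3 u4 u5 u6 u7 hn_1_0 hn_2_0 hn_2_1 hn_3_0 hn_3_1 hn_3_2 hn_4_0 hn_4_1 hn_4_2 hn_4_3 hn_5_0 hn_5_1 hn_5_2 hn_5_3 hn_5_4 hn_6_0 hn_6_1 hn_6_2 hn_6_3 hn_6_4 hn_6_5 hn_7_0 hn_7_1 hn_7_2 hn_7_3 hn_7_4 hn_7_5 hn_7_6
                    have r_0 : -2 * T.m u0 + 1 * T.m u1 + 1 * T.m u2 = 0 := by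
                      have key := Groth.Agent.Helper6.NT.rowfun8 T u0 u1 u2 u3 u4 u5 u6 u7 hinj u0
                      rw [(h2 u0).2, tap_0_1, tap_0_2, z_0_3, z_0_4, z_0_5, z_0_6, z_0_7] at key
                      exact mul_left_cancel₀ (T.w_pos u0).ne' (by linarith only [key])
                    have r_1 : 1 * T.m u0 + -2 * T.m u1 + 1 * T.m u3 = 0 := by
                      have key := Groth.Agent.Helper6.NT.rowfun8 T u0 u1 u2 u3 u4 u5 u6 u7 hinj u1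
                      rw [Groth.Agent.Helper6.NT.symm' T u1 u0, taq_0_1, (h2 u1).2, z_1_2, tap_1_3, z_1_4, z_1_5, z_1_6, z_1_7] at key
                      exact mul_left_cancel₀ (T.w_pos u1).ne' (by linarith only [key])
                    have r_2 : 1 * T.m u0 + -2 * T.m u2 = 0 := by
                      have key := Groth.Agent.Helper6.NT.rowfun8 T u0 u1 u2 u3 u4 u5 u6 u7 hinj u2
                      rw [Groth.Agent.Helper6.NT.symm' T u2 u0, taq_0_2, Groth.Agent.Helper6.NT.symm' T u2 u1, z_1_2, (h2 u2).2, z_2_3, z_2_4, z_2_5, z_2_6, z_2_7] at key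
                      exact mul_left_cancel₀ (T.w_pos u2).ne' (by linarith only [key])
                    have r_3 : 1 * T.m u1 + -2 * T.m u3 + 1 * T.m u4 = 0 := by
                      have key := Groth.Agent.Helper6.NT.rowfun8 T u0 u1 u2 u3 u4 u5 u6 u7 hinj u3
                      rw [Groth.Agent.Helper6.NT.symm' T u3 u0, z_0_3, Groth.Agent.Helper6.NT.symm' T u3 u1, taq_1_3, Groth.Agent.Helper6.NT.symm' T u3 u2, z_2_3, (h2 u3).2, tap_3_4, z_3_5, z_3_6, z_3_7] at key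
                      exact mul_left_cancel₀ (T.w_pos u3).ne' (by linarith only [key])
                    have r_4 : 1 * T.m u3 + -2 * T.m u4 + 1 * T.m u5 = 0 := by
                      have key := Groth.Agent.Helper6.NT.rowfun8 T u0 u1 u2 u3 u4 u5 u6 u7 hinj u4
                      rw [Groth.Agent.Helper6.NT.symm' T u4 u0, z_0_4, Groth.Agent.Helper6.NT.symm' T u4 u1, z_1_4, Groth.Agent.Helper6.NT.symm' T u4 u2, z_2_4, Groth.Agent.Helper6.NT.symm' T u4 u3, taq_3_4, (h2 u4).2, tap_4_5, z_4_6, z_4_7] at key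
                      exact mul_left_cancel₀ (T.w_pos u4).ne' (by linarith only [key])
                    have r_5 : 1 * T.m u4 + -2 * T.m u5 + 1 * T.m u6 + 1 * T.m u7 = 0 := by
                      have key := Groth.Agent.Helper6.NT.rowfun8 T u0 u1 u2 u3 u4 u5 u6 u7 hinj u5
                      rw [Groth.Agent.Helper6.NT.symm' T u5 u0, z_0_5, Groth.Agent.Helper6.NT.symm' T u5 u1, z_1_5, Groth.Agent.Helper6.NT.symm' T u5 u2, z_2_5, Groth.Agent.Helper6.NT.symm' T u5 u3, z_3_5, Groth.Agent.Helper6.NT.symm' T u5 u4, taq_4_5, (h2 u5).2, tap_5_6, tap_5_7] at key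
                      exact mul_left_cancel₀ (T.w_pos u5).ne' (by linarith only [key])
                    have r_6 : 1 * T.m u5 + -2 * T.m u6 = 0 := by
                      have key := Groth.Agent.Helper6.NT.rowfun8 T u0 u1 u2 u3 u4 u5 u6 u7 hinj u6
                      rw [Groth.Agent.Helper6.NT.symm' T u6 u0, z_0_6, Groth.Agent.Helper6.NT.symm' T u6 u1, z_1_6, Groth.Agent.Helper6.NT.symm' T u6 u2, z_2_6, Groth.Agent.Helper6.NT.symm' T u6 u3, z_3_6, Groth.Agent.Helper6.NT.symm' T u6 u4, z_4_6, Groth.Agent.Helper6.NT.symm' T u6 u5, taq_5_6, (h2 u6).2, z_6_7] at key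
                      exact mul_left_cancel₀ (T.w_pos u6).ne' (by linarith only [key])
                    have r_7 : 1 * T.m u5 + -2 * T.m u7 = 0 := by
                      have key := Groth.Agent.Helper6.NT.rowfun8 T u0 u1 u2 u3 u4 u5 u6 u7 hinj u7
                      rw [Groth.Agent.Helper6.NT.symm' T u7 u0, z_0_7, Groth.Agent.Helper6.NT.symm' T u7 u1, z_1_7, Groth.Agent.Helper6.NT.symm' T u7 u2, z_2_7, Groth.Agent.Helper6.NT.symm' T u7 u3, z_3_7, Groth.Agent.Helper6.NT.symm' T u7 u4, z_4_7, Groth.Agent.Helper6.NT.symm' T u7 u5, taq_5_7, Groth.Agent.Helper6.NT.symm' T u7 u6, z_6_7, (h2 u7).2] at key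
                      exact mul_left_cancel₀ (T.w_pos u7).ne' (by linarith only [key])
                    exfalso
                    linarith only [r_0, r_1, r_2, r_3, r_4, r_5, r_6, r_7, T.m_pos u0, T.m_pos u1, T.m_pos u2, T.m_pos u3, T.m_pos u4, T.m_pos u5, T.m_pos u6, T.m_pos u7]
                  · -- (6,7) nonzero
                    obtain ⟨lbp_6_7, lbq_6_7⟩ := Groth.Agent.Helper6.NT.lb T u6 u7 hn_7_6.symm nz_6_7
                    exfalso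
                    have key := Groth.Agent.Helper6.NT.negfun3 T h2 u5 u6 u7 (by norm_num) 1 1 1 (by norm_num) (by norm_num)
                    linarith only [key, tap_5_6, taq_5_6, tap_5_7, taq_5_7, lbp_6_7, lbq_6_7, T.w_pos u5, T.w_pos u6, T.w_pos u7]
                · -- (5,7) Dp
                  exfalso
                  have key := Groth.Agent.Helper6.NT.negfun4 T h2 u4 u5 u6 u7 (by norm_num) 1 2 1 1 (by norm_num) (by norm_num)
                  linarith only [key, tap_4_5, taq_4_5, z_4_6, z_4_7, tap_5_6, taq_5_6, tap_5_7, taq_5_7, T.offDiag_nonneg u6 u7 hn_7_6.symm, T.w_pos u4, T.w_pos u5, T.w_pos u6, T.w_pos u7]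
                · -- (5,7) Dm
                  exfalso
                  have key := Groth.Agent.Helper6.NT.negfun4 T h2 u4 u5 u6 u7 (by norm_num) 1 2 1 2 (by norm_num) (by norm_num)
                  linarith only [key, tap_4_5, taq_4_5, z_4_6, z_4_7, tap_5_6, taq_5_6, tap_5_7, taq_5_7, T.offDiag_nonneg u6 u7 hn_7_6.symm, T.w_pos u4, T.w_pos u5, T.w_pos u6, T.w_pos u7]
                · -- (5,7) Tp
                  exfalso
                  have key := Groth.Agent.Helper6.NT.negfun3 T h2 u5 u6 u7 (by norm_num) 2 1 1 (by norm_num) (by norm_num)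
                  linarith only [key, tap_5_6, taq_5_6, tap_5_7, taq_5_7, T.offDiag_nonneg u6 u7 hn_7_6.symm, T.w_pos u5, T.w_pos u6, T.w_pos u7]
                · -- (5,7) Tm
                  exfalso
                  have key := Groth.Agent.Helper6.NT.negfun3 T h2 u5 u6 u7 (by norm_num) 2 1 3 (by norm_num) (by norm_num)
                  linarith only [key, tap_5_6, taq_5_6, tap_5_7, taq_5_7, T.offDiag_nonneg u6 u7 hn_7_6.symm, T.w_pos u5, T.w_pos u6, T.w_pos u7]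
              · push Not at hx
                have cl_5 := hx
                clear hx
                by_cases hx : ∃ j, (j ≠ u0 ∧ j ≠ u1 ∧ j ≠ u2 ∧ j ≠ u3 ∧ j ≠ u4 ∧ j ≠ u5 ∧ j ≠ u6) ∧ T.a u6 j ≠ 0
                · obtain ⟨u7, ⟨hn_7_0, hn_7_1, hn_7_2, hn_7_3, hn_7_4, hn_7_5, hn_7_6⟩, e_6_7⟩ := hx
                  have z_0_7 : T.a u0 u7 = 0 := cl_0 u7 ⟨hn_7_0, hn_7_1, hn_7_2⟩
                  have z_1_7 : T.a u1 u7 = 0 := cl_1 u7 ⟨hn_7_0, hn_7_1, hn_7_2, hn_7_3⟩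
                  have z_2_7 : T.a u2 u7 = 0 := cl_2 u7 ⟨hn_7_0, hn_7_1, hn_7_2, hn_7_3⟩
                  have z_3_7 : T.a u3 u7 = 0 := cl_3 u7 ⟨hn_7_0, hn_7_1, hn_7_2, hn_7_3, hn_7_4⟩
                  have z_4_7 : T.a u4 u7 = 0 := cl_4 u7 ⟨hn_7_0, hn_7_1, hn_7_2, hn_7_3, hn_7_4, hn_7_5⟩
                  have z_5_7 : T.a u5 u7 = 0 := cl_5 u7 ⟨hn_7_0, hn_7_1, hn_7_2, hn_7_3, hn_7_4, hn_7_5, hn_7_6⟩
                  rcases Groth.Agent.Helper6.NT.edge5 T h2 (by norm_num) u6 u7 hn_7_6.symm e_6_7 with ⟨tw_6_7, tap_6_7, taq_6_7⟩ | ⟨tw_6_7, tap_6_7, taq_6_7⟩ | ⟨tw_6_7, tap_6_7, taq_6_7⟩ | ⟨tw_6_7, tap_6_7, taq_6_7⟩ | ⟨tw_6_7, tap_6_7, taq_6_7⟩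
                  · -- (6,7) S
                    have hinj := Groth.Agent.Helper6.NT.inj8 u0 u1 u2 u3 u4 u5 u6 u7 hn_1_0 hn_2_0 hn_2_1 hn_3_0 hn_3_1 hn_3_2 hn_4_0 hn_4_1 hn_4_2 hn_4_3 hn_5_0 hn_5_1 hn_5_2 hn_5_3 hn_5_4 hn_6_0 hn_6_1 hn_6_2 hn_6_3 hn_6_4 hn_6_5 hn_7_0 hn_7_1 hn_7_2 hn_7_3 hn_7_4 hn_7_5 hn_7_6
                    have r_0 : -2 * T.m u0 + 1 * T.m u1 + 1 * T.m u2 = 0 := by
                      have key := Groth.Agent.Helper6.NT.rowfun8 T u0 u1 u2 u3 u4 u5 u6 u7 hinj u0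
                      rw [(h2 u0).2, tap_0_1, tap_0_2, z_0_3, z_0_4, z_0_5, z_0_6, z_0_7] at key
                      exact mul_left_cancel₀ (T.w_pos u0).ne' (by linarith only [key])
                    have r_1 : 1 * T.m u0 + -2 * T.m u1 + 1 * T.m u3 = 0 := by
                      have key := Groth.Agent.Helper6.NT.rowfun8 T u0 u1 u2 u3 u4 u5 u6 u7 hinj u1
                      rw [Groth.Agent.Helper6.NT.symm' T u1 u0, taq_0_1, (h2 u1).2, z_1_2, tap_1_3, z_1_4, z_1_5, z_1_6, z_1_7] at key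
                      exact mul_left_cancel₀ (T.w_pos u1).ne' (by linarith only [key])
                    have r_2 : 1 * T.m u0 + -2 * T.m u2 = 0 := by
                      have key := Groth.Agent.Helper6.NT.rowfun8 T u0 u1 u2 u3 u4 u5 u6 u7 hinj u2
                      rw [Groth.Agent.Helper6.NT.symm' T u2 u0, taq_0_2, Groth.Agent.Helper6.NT.symm' T u2 u1, z_1_2, (h2 u2).2, z_2_3, z_2_4, z_2_5, z_2_6, z_2_7] at key
                      exact mul_left_cancel₀ (T.w_pos u2).ne' (by linarith only [key])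
                    have r_3 : 1 * T.m u1 + -2 * T.m u3 + 1 * T.m u4 = 0 := by
                      have key := Groth.Agent.Helper6.NT.rowfun8 T u0 u1 u2 u3 u4 u5 u6 u7 hinj u3
                      rw [Groth.Agent.Helper6.NT.symm' T u3 u0, z_0_3, Groth.Agent.Helper6.NT.symm' T u3 u1, taq_1_3, Groth.Agent.Helper6.NT.symm' T u3 u2, z_2_3, (h2 u3).2, tap_3_4, z_3_5, z_3_6, z_3_7] at key
                      exact mul_left_cancel₀ (T.w_pos u3).ne' (by linarith only [key])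
                    have r_4 : 1 * T.m u3 + -2 * T.m u4 + 1 * T.m u5 = 0 := by
                      have key := Groth.Agent.Helper6.NT.rowfun8 T u0 u1 u2 u3 u4 u5 u6 u7 hinj u4
                      rw [Groth.Agent.Helper6.NT.symm' T u4 u0, z_0_4, Groth.Agent.Helper6.NT.symm' T u4 u1, z_1_4, Groth.Agent.Helper6.NT.symm' T u4 u2, z_2_4, Groth.Agent.Helper6.NT.symm' T u4 u3, taq_3_4, (h2 u4).2, tap_4_5, z_4_6, z_4_7] at key
                      exact mul_left_cancel₀ (T.w_pos u4).ne' (by linarith only [key])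
                    have r_5 : 1 * T.m u4 + -2 * T.m u5 + 1 * T.m u6 = 0 := by
                      have key := Groth.Agent.Helper6.NT.rowfun8 T u0 u1 u2 u3 u4 u5 u6 u7 hinj u5
                      rw [Groth.Agent.Helper6.NT.symm' T u5 u0, z_0_5, Groth.Agent.Helper6.NT.symm' T u5 u1, z_1_5, Groth.Agent.Helper6.NT.symm' T u5 u2, z_2_5, Groth.Agent.Helper6.NT.symm' T u5 u3, z_3_5, Groth.Agent.Helper6.NT.symm' T u5 u4, taq_4_5, (h2 u5).2, tap_5_6, z_5_7] at key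
                      exact mul_left_cancel₀ (T.w_pos u5).ne' (by linarith only [key])
                    have r_6 : 1 * T.m u5 + -2 * T.m u6 + 1 * T.m u7 = 0 := by
                      have key := Groth.Agent.Helper6.NT.rowfun8 T u0 u1 u2 u3 u4 u5 u6 u7 hinj u6
                      rw [Groth.Agent.Helper6.NT.symm' T u6 u0, z_0_6, Groth.Agent.Helper6.NT.symm' T u6 u1, z_1_6, Groth.Agent.Helper6.NT.symm' T u6 u2, z_2_6, Groth.Agent.Helper6.NT.symm' T u6 u3, z_3_6, Groth.Agent.Helper6.NT.symm' T u6 u4, z_4_6, Groth.Agent.Helper6.NT.symm' T u6 u5, taq_5_6, (h2 u6).2, tap_6_7] at key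
                      exact mul_left_cancel₀ (T.w_pos u6).ne' (by linarith only [key])
                    have r_7 : 1 * T.m u6 + -2 * T.m u7 = 0 := by
                      have key := Groth.Agent.Helper6.NT.rowfun8 T u0 u1 u2 u3 u4 u5 u6 u7 hinj u7
                      rw [Groth.Agent.Helper6.NT.symm' T u7 u0, z_0_7, Groth.Agent.Helper6.NT.symm' T u7 u1, z_1_7, Groth.Agent.Helper6.NT.symm' T u7 u2, z_2_7, Groth.Agent.Helper6.NT.symm' T u7 u3, z_3_7, Groth.Agent.Helper6.NT.symm' T u7 u4, z_4_7, Groth.Agent.Helper6.NT.symm' T u7 u5, z_5_7, Groth.Agent.Helper6.NT.symm' T u7 u6, taq_6_7, (h2 u7).2] at key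
                      exact mul_left_cancel₀ (T.w_pos u7).ne' (by linarith only [key])
                    exfalso
                    linarith only [r_0, r_1, r_2, r_3, r_4, r_5, r_6, r_7, T.m_pos u0, T.m_pos u1, T.m_pos u2, T.m_pos u3, T.m_pos u4, T.m_pos u5, T.m_pos u6, T.m_pos u7]
                  · -- (6,7) Dp
                    have hinj := Groth.Agent.Helper6.NT.inj8 u0 u1 u2 u3 u4 u5 u6 u7 hn_1_0 hn_2_0 hn_2_1 hn_3_0 hn_3_1 hn_3_2 hn_4_0 hn_4_1 hn_4_2 hn_4_3 hn_5_0 hn_5_1 hn_5_2 hn_5_3 hn_5_4 hn_6_0 hn_6_1 hn_6_2 hn_6_3 hn_6_4 hn_6_5 hn_7_0 hn_7_1 hn_7_2 hn_7_3 hn_7_4 hn_7_5 hn_7_6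
                    have r_0 : -2 * T.m u0 + 1 * T.m u1 + 1 * T.m u2 = 0 := by
                      have key := Groth.Agent.Helper6.NT.rowfun8 T u0 u1 u2 u3 u4 u5 u6 u7 hinj u0
                      rw [(h2 u0).2, tap_0_1, tap_0_2, z_0_3, z_0_4, z_0_5, z_0_6, z_0_7] at key
                      exact mul_left_cancel₀ (T.w_pos u0).ne' (by linarith only [key])
                    have r_1 : 1 * T.m u0 + -2 * T.m u1 + 1 * T.m u3 = 0 := by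
                      have key := Groth.Agent.Helper6.NT.rowfun8 T u0 u1 u2 u3 u4 u5 u6 u7 hinj u1
                      rw [Groth.Agent.Helper6.NT.symm' T u1 u0, taq_0_1, (h2 u1).2, z_1_2, tap_1_3, z_1_4, z_1_5, z_1_6, z_1_7] at key
                      exact mul_left_cancel₀ (T.w_pos u1).ne' (by linarith only [key])
                    have r_2 : 1 * T.m u0 + -2 * T.m u2 = 0 := by
                      have key := Groth.Agent.Helper6.NT.rowfun8 T u0 u1 u2 u3 u4 u5 u6 u7 hinj u2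
                      rw [Groth.Agent.Helper6.NT.symm' T u2 u0, taq_0_2, Groth.Agent.Helper6.NT.symm' T u2 u1, z_1_2, (h2 u2).2, z_2_3, z_2_4, z_2_5, z_2_6, z_2_7] at key
                      exact mul_left_cancel₀ (T.w_pos u2).ne' (by linarith only [key])
                    have r_3 : 1 * T.m u1 + -2 * T.m u3 + 1 * T.m u4 = 0 := by
                      have key := Groth.Agent.Helper6.NT.rowfun8 T u0 u1 u2 u3 u4 u5 u6 u7 hinj u3
                      rw [Groth.Agent.Helper6.NT.symm' T u3 u0, z_0_3, Groth.Agent.Helper6.NT.symm' T u3 u1, taq_1_3, Groth.Agent.Helper6.NT.symm' T u3 u2, z_2_3, (h2 u3).2, tap_3_4, z_3_5, z_3_6, z_3_7] at key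
                      exact mul_left_cancel₀ (T.w_pos u3).ne' (by linarith only [key])
                    have r_4 : 1 * T.m u3 + -2 * T.m u4 + 1 * T.m u5 = 0 := by
                      have key := Groth.Agent.Helper6.NT.rowfun8 T u0 u1 u2 u3 u4 u5 u6 u7 hinj u4
                      rw [Groth.Agent.Helper6.NT.symm' T u4 u0, z_0_4, Groth.Agent.Helper6.NT.symm' T u4 u1, z_1_4, Groth.Agent.Helper6.NT.symm' T u4 u2, z_2_4, Groth.Agent.Helper6.NT.symm' T u4 u3, taq_3_4, (h2 u4).2, tap_4_5, z_4_6, z_4_7] at key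
                      exact mul_left_cancel₀ (T.w_pos u4).ne' (by linarith only [key])
                    have r_5 : 1 * T.m u4 + -2 * T.m u5 + 1 * T.m u6 = 0 := by
                      have key := Groth.Agent.Helper6.NT.rowfun8 T u0 u1 u2 u3 u4 u5 u6 u7 hinj u5
                      rw [Groth.Agent.Helper6.NT.symm' T u5 u0, z_0_5, Groth.Agent.Helper6.NT.symm' T u5 u1, z_1_5, Groth.Agent.Helper6.NT.symm' T u5 u2, z_2_5, Groth.Agent.Helper6.NT.symm' T u5 u3, z_3_5, Groth.Agent.Helper6.NT.symm' T u5 u4, taq_4_5, (h2 u5).2, tap_5_6, z_5_7] at key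
                      exact mul_left_cancel₀ (T.w_pos u5).ne' (by linarith only [key])
                    have r_6 : 1 * T.m u5 + -2 * T.m u6 + 2 * T.m u7 = 0 := by
                      have key := Groth.Agent.Helper6.NT.rowfun8 T u0 u1 u2 u3 u4 u5 u6 u7 hinj u6
                      rw [Groth.Agent.Helper6.NT.symm' T u6 u0, z_0_6, Groth.Agent.Helper6.NT.symm' T u6 u1, z_1_6, Groth.Agent.Helper6.NT.symm' T u6 u2, z_2_6, Groth.Agent.Helper6.NT.symm' T u6 u3, z_3_6, Groth.Agent.Helper6.NT.symm' T u6 u4, z_4_6, Groth.Agent.Helper6.NT.symm' T u6 u5, taq_5_6, (h2 u6).2, tap_6_7] at key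
                      exact mul_left_cancel₀ (T.w_pos u6).ne' (by linarith only [key])
                    have r_7 : 1 * T.m u6 + -2 * T.m u7 = 0 := by
                      have key := Groth.Agent.Helper6.NT.rowfun8 T u0 u1 u2 u3 u4 u5 u6 u7 hinj u7
                      rw [Groth.Agent.Helper6.NT.symm' T u7 u0, z_0_7, Groth.Agent.Helper6.NT.symm' T u7 u1, z_1_7, Groth.Agent.Helper6.NT.symm' T u7 u2, z_2_7, Groth.Agent.Helper6.NT.symm' T u7 u3, z_3_7, Groth.Agent.Helper6.NT.symm' T u7 u4, z_4_7, Groth.Agent.Helper6.NT.symm' T u7 u5, z_5_7, Groth.Agent.Helper6.NT.symm' T u7 u6, taq_6_7, (h2 u7).2] at key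
                      exact mul_left_cancel₀ (T.w_pos u7).ne' (by linarith only [key])
                    exfalso
                    linarith only [r_0, r_1, r_2, r_3, r_4, r_5, r_6, r_7, T.m_pos u0, T.m_pos u1, T.m_pos u2, T.m_pos u3, T.m_pos u4, T.m_pos u5, T.m_pos u6, T.m_pos u7]
                  · -- (6,7) Dm
                    have hinj := Groth.Agent.Helper6.NT.inj8 u0 u1 u2 u3 u4 u5 u6 u7 hn_1_0 hn_2_0 hn_2_1 hn_3_0 hn_3_1 hn_3_2 hn_4_0 hn_4_1 hn_4_2 hn_4_3 hn_5_0 hn_5_1 hn_5_2 hn_5_3 hn_5_4 hn_6_0 hn_6_1 hn_6_2 hn_6_3 hn_6_4 hn_6_5 hn_7_0 hn_7_1 hn_7_2 hn_7_3 hn_7_4 hn_7_5 hn_7_6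
                    have r_0 : -2 * T.m u0 + 1 * T.m u1 + 1 * T.m u2 = 0 := by
                      have key := Groth.Agent.Helper6.NT.rowfun8 T u0 u1 u2 u3 u4 u5 u6 u7 hinj u0
                      rw [(h2 u0).2, tap_0_1, tap_0_2, z_0_3, z_0_4, z_0_5, z_0_6, z_0_7] at key
                      exact mul_left_cancel₀ (T.w_pos u0).ne' (by linarith only [key])
                    have r_1 : 1 * T.m u0 + -2 * T.m u1 + 1 * T.m u3 = 0 := by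
                      have key := Groth.Agent.Helper6.NT.rowfun8 T u0 u1 u2 u3 u4 u5 u6 u7 hinj u1
                      rw [Groth.Agent.Helper6.NT.symm' T u1 u0, taq_0_1, (h2 u1).2, z_1_2, tap_1_3, z_1_4, z_1_5, z_1_6, z_1_7] at key
                      exact mul_left_cancel₀ (T.w_pos u1).ne' (by linarith only [key])
                    have r_2 : 1 * T.m u0 + -2 * T.m u2 = 0 := by
                      have key := Groth.Agent.Helper6.NT.rowfun8 T u0 u1 u2 u3 u4 u5 u6 u7 hinj u2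
                      rw [Groth.Agent.Helper6.NT.symm' T u2 u0, taq_0_2, Groth.Agent.Helper6.NT.symm' T u2 u1, z_1_2, (h2 u2).2, z_2_3, z_2_4, z_2_5, z_2_6, z_2_7] at key
                      exact mul_left_cancel₀ (T.w_pos u2).ne' (by linarith only [key])
                    have r_3 : 1 * T.m u1 + -2 * T.m u3 + 1 * T.m u4 = 0 := by
                      have key := Groth.Agent.Helper6.NT.rowfun8 T u0 u1 u2 u3 u4 u5 u6 u7 hinj u3
                      rw [Groth.Agent.Helper6.NT.symm' T u3 u0, z_0_3, Groth.Agent.Helper6.NT.symm' T u3 u1, taq_1_3, Groth.Agent.Helper6.NT.symm' T u3 u2, z_2_3, (h2 u3).2, tap_3_4, z_3_5, z_3_6, z_3_7] at key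
                      exact mul_left_cancel₀ (T.w_pos u3).ne' (by linarith only [key])
                    have r_4 : 1 * T.m u3 + -2 * T.m u4 + 1 * T.m u5 = 0 := by
                      have key := Groth.Agent.Helper6.NT.rowfun8 T u0 u1 u2 u3 u4 u5 u6 u7 hinj u4
                      rw [Groth.Agent.Helper6.NT.symm' T u4 u0, z_0_4, Groth.Agent.Helper6.NT.symm' T u4 u1, z_1_4, Groth.Agent.Helper6.NT.symm' T u4 u2, z_2_4, Groth.Agent.Helper6.NT.symm' T u4 u3, taq_3_4, (h2 u4).2, tap_4_5, z_4_6, z_4_7] at key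
                      exact mul_left_cancel₀ (T.w_pos u4).ne' (by linarith only [key])
                    have r_5 : 1 * T.m u4 + -2 * T.m u5 + 1 * T.m u6 = 0 := by
                      have key := Groth.Agent.Helper6.NT.rowfun8 T u0 u1 u2 u3 u4 u5 u6 u7 hinj u5
                      rw [Groth.Agent.Helper6.NT.symm' T u5 u0, z_0_5, Groth.Agent.Helper6.NT.symm' T u5 u1, z_1_5, Groth.Agent.Helper6.NT.symm' T u5 u2, z_2_5, Groth.Agent.Helper6.NT.symm' T u5 u3, z_3_5, Groth.Agent.Helper6.NT.symm' T u5 u4, taq_4_5, (h2 u5).2, tap_5_6, z_5_7] at key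
                      exact mul_left_cancel₀ (T.w_pos u5).ne' (by linarith only [key])
                    have r_6 : 1 * T.m u5 + -2 * T.m u6 + 1 * T.m u7 = 0 := by
                      have key := Groth.Agent.Helper6.NT.rowfun8 T u0 u1 u2 u3 u4 u5 u6 u7 hinj u6
                      rw [Groth.Agent.Helper6.NT.symm' T u6 u0, z_0_6, Groth.Agent.Helper6.NT.symm' T u6 u1, z_1_6, Groth.Agent.Helper6.NT.symm' T u6 u2, z_2_6, Groth.Agent.Helper6.NT.symm' T u6 u3, z_3_6, Groth.Agent.Helper6.NT.symm' T u6 u4, z_4_6, Groth.Agent.Helper6.NT.symm' T u6 u5, taq_5_6, (h2 u6).2, tap_6_7] at key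
                      exact mul_left_cancel₀ (T.w_pos u6).ne' (by linarith only [key])
                    have r_7 : 2 * T.m u6 + -2 * T.m u7 = 0 := by
                      have key := Groth.Agent.Helper6.NT.rowfun8 T u0 u1 u2 u3 u4 u5 u6 u7 hinj u7
                      rw [Groth.Agent.Helper6.NT.symm' T u7 u0, z_0_7, Groth.Agent.Helper6.NT.symm' T u7 u1, z_1_7, Groth.Agent.Helper6.NT.symm' T u7 u2, z_2_7, Groth.Agent.Helper6.NT.symm' T u7 u3, z_3_7, Groth.Agent.Helper6.NT.symm' T u7 u4, z_4_7, Groth.Agent.Helper6.NT.symm' T u7 u5, z_5_7, Groth.Agent.Helper6.NT.symm' T u7 u6, taq_6_7, (h2 u7).2] at key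
                      exact mul_left_cancel₀ (T.w_pos u7).ne' (by linarith only [key])
                    exfalso
                    linarith only [r_0, r_1, r_2, r_3, r_4, r_5, r_6, r_7, T.m_pos u0, T.m_pos u1, T.m_pos u2, T.m_pos u3, T.m_pos u4, T.m_pos u5, T.m_pos u6, T.m_pos u7]
                  · -- (6,7) Tp
                    exfalso
                    have key := Groth.Agent.Helper6.NT.negfun3 T h2 u5 u6 u7 (by norm_num) 1 2 1 (by norm_num) (by norm_num)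
                    linarith only [key, tap_5_6, taq_5_6, z_5_7, tap_6_7, taq_6_7, T.w_pos u5, T.w_pos u6, T.w_pos u7]
                  · -- (6,7) Tm
                    exfalso
                    have key := Groth.Agent.Helper6.NT.negfun3 T h2 u5 u6 u7 (by norm_num) 1 2 3 (by norm_num) (by norm_num)
                    linarith only [key, tap_5_6, taq_5_6, z_5_7, tap_6_7, taq_6_7, T.w_pos u5, T.w_pos u6, T.w_pos u7]
                · push Not at hx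
                  have cl_6 := hx
                  clear hx
                  exfalso
                  refine Groth.Agent.Helper6.NT.closed_contra T [u0, u1, u2, u3, u4, u5, u6] (by simp) (by simp) ?_
                  intro i hi j hj
                  simp only [List.mem_cons, List.not_mem_nil, or_false, not_or] at hi hj
                  rcases hi with rfl | rfl | rfl | rfl | rfl | rfl | rfl
                  · exact cl_0 j ⟨hj.1, hj.2.1, hj.2.2.1⟩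
                  · exact cl_1 j ⟨hj.1, hj.2.1, hj.2.2.1, hj.2.2.2.1⟩
                  · exact cl_2 j ⟨hj.1, hj.2.1, hj.2.2.1, hj.2.2.2.1⟩
                  · exact cl_3 j ⟨hj.1, hj.2.1, hj.2.2.1, hj.2.2.2.1, hj.2.2.2.2.1⟩
                  · exact cl_4 j ⟨hj.1, hj.2.1, hj.2.2.1, hj.2.2.2.1, hj.2.2.2.2.1, hj.2.2.2.2.2.1⟩
                  · exact cl_5 j ⟨hj.1, hj.2.1, hj.2.2.1, hj.2.2.2.1, hj.2.2.2.2.1, hj.2.2.2.2.2.1, hj.2.2.2.2.2.2⟩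
                  · exact cl_6 j ⟨hj.1, hj.2.1, hj.2.2.1, hj.2.2.2.1, hj.2.2.2.2.1, hj.2.2.2.2.2.1, hj.2.2.2.2.2.2⟩
            · -- (5,6) Dp
              by_cases hx : ∃ j, (j ≠ u0 ∧ j ≠ u1 ∧ j ≠ u2 ∧ j ≠ u3 ∧ j ≠ u4 ∧ j ≠ u5 ∧ j ≠ u6) ∧ T.a u5 j ≠ 0
              · obtain ⟨u7, ⟨hn_7_0, hn_7_1, hn_7_2, hn_7_3, hn_7_4, hn_7_5, hn_7_6⟩, e_5_7⟩ := hx
                have z_0_7 : T.a u0 u7 = 0 := cl_0 u7 ⟨hn_7_0, hn_7_1, hn_7_2⟩
                have z_1_7 : T.a u1 u7 = 0 := cl_1 u7 ⟨hn_7_0, hn_7_1, hn_7_2, hn_7_3⟩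
                have z_2_7 : T.a u2 u7 = 0 := cl_2 u7 ⟨hn_7_0, hn_7_1, hn_7_2, hn_7_3⟩
                have z_3_7 : T.a u3 u7 = 0 := cl_3 u7 ⟨hn_7_0, hn_7_1, hn_7_2, hn_7_3, hn_7_4⟩
                have z_4_7 : T.a u4 u7 = 0 := cl_4 u7 ⟨hn_7_0, hn_7_1, hn_7_2, hn_7_3, hn_7_4, hn_7_5⟩
                rcases Groth.Agent.Helper6.NT.edge5 T h2 (by norm_num) u5 u7 hn_7_5.symm e_5_7 with ⟨tw_5_7, tap_5_7, taq_5_7⟩ | ⟨tw_5_7, tap_5_7, taq_5_7⟩ | ⟨tw_5_7, tap_5_7, taq_5_7⟩ | ⟨tw_5_7, tap_5_7, taq_5_7⟩ | ⟨tw_5_7, tap_5_7, taq_5_7⟩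
                · -- (5,7) S
                  exfalso
                  have key := Groth.Agent.Helper6.NT.negfun4 T h2 u4 u5 u6 u7 (by norm_num) 1 2 1 1 (by norm_num) (by norm_num)
                  linarith only [key, tap_4_5, taq_4_5, z_4_6, z_4_7, tap_5_6, taq_5_6, tap_5_7, taq_5_7, T.offDiag_nonneg u6 u7 hn_7_6.symm, T.w_pos u4, T.w_pos u5, T.w_pos u6, T.w_pos u7]
                · -- (5,7) Dp
                  exfalso
                  have key := Groth.Agent.Helper6.NT.negfun3 T h2 u5 u6 u7 (by norm_num) 2 1 1 (by norm_num) (by norm_num)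
                  linarith only [key, tap_5_6, taq_5_6, tap_5_7, taq_5_7, T.offDiag_nonneg u6 u7 hn_7_6.symm, T.w_pos u5, T.w_pos u6, T.w_pos u7]
                · -- (5,7) Dm
                  exfalso
                  have key := Groth.Agent.Helper6.NT.negfun3 T h2 u5 u6 u7 (by norm_num) 2 1 2 (by norm_num) (by norm_num)
                  linarith only [key, tap_5_6, taq_5_6, tap_5_7, taq_5_7, T.offDiag_nonneg u6 u7 hn_7_6.symm, T.w_pos u5, T.w_pos u6, T.w_pos u7]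
                · -- (5,7) Tp
                  exfalso
                  have key := Groth.Agent.Helper6.NT.negfun3 T h2 u5 u6 u7 (by norm_num) 2 1 1 (by norm_num) (by norm_num)
                  linarith only [key, tap_5_6, taq_5_6, tap_5_7, taq_5_7, T.offDiag_nonneg u6 u7 hn_7_6.symm, T.w_pos u5, T.w_pos u6, T.w_pos u7]
                · -- (5,7) Tm
                  exfalso
                  have key := Groth.Agent.Helper6.NT.negfun3 T h2 u5 u6 u7 (by norm_num) 2 1 3 (by norm_num) (by norm_num)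
                  linarith only [key, tap_5_6, taq_5_6, tap_5_7, taq_5_7, T.offDiag_nonneg u6 u7 hn_7_6.symm, T.w_pos u5, T.w_pos u6, T.w_pos u7]
              · push Not at hx
                have cl_5 := hx
                clear hx
                by_cases hx : ∃ j, (j ≠ u0 ∧ j ≠ u1 ∧ j ≠ u2 ∧ j ≠ u3 ∧ j ≠ u4 ∧ j ≠ u5 ∧ j ≠ u6) ∧ T.a u6 j ≠ 0
                · obtain ⟨u7, ⟨hn_7_0, hn_7_1, hn_7_2, hn_7_3, hn_7_4, hn_7_5, hn_7_6⟩, e_6_7⟩ := hx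
                  have z_0_7 : T.a u0 u7 = 0 := cl_0 u7 ⟨hn_7_0, hn_7_1, hn_7_2⟩
                  have z_1_7 : T.a u1 u7 = 0 := cl_1 u7 ⟨hn_7_0, hn_7_1, hn_7_2, hn_7_3⟩
                  have z_2_7 : T.a u2 u7 = 0 := cl_2 u7 ⟨hn_7_0, hn_7_1, hn_7_2, hn_7_3⟩
                  have z_3_7 : T.a u3 u7 = 0 := cl_3 u7 ⟨hn_7_0, hn_7_1, hn_7_2, hn_7_3, hn_7_4⟩
                  have z_4_7 : T.a u4 u7 = 0 := cl_4 u7 ⟨hn_7_0, hn_7_1, hn_7_2, hn_7_3, hn_7_4, hn_7_5⟩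
                  have z_5_7 : T.a u5 u7 = 0 := cl_5 u7 ⟨hn_7_0, hn_7_1, hn_7_2, hn_7_3, hn_7_4, hn_7_5, hn_7_6⟩
                  rcases Groth.Agent.Helper6.NT.edge5 T h2 (by norm_num) u6 u7 hn_7_6.symm e_6_7 with ⟨tw_6_7, tap_6_7, taq_6_7⟩ | ⟨tw_6_7, tap_6_7, taq_6_7⟩ | ⟨tw_6_7, tap_6_7, taq_6_7⟩ | ⟨tw_6_7, tap_6_7, taq_6_7⟩ | ⟨tw_6_7, tap_6_7, taq_6_7⟩
                  · -- (6,7) S
                    exfalso
                    have key := Groth.Agent.Helper6.NT.negfun5 T h2 u3 u4 u5 u6 u7 (by norm_num) 1 2 3 2 1 (by norm_num) (by norm_num)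
                    linarith only [key, tap_3_4, taq_3_4, z_3_5, z_3_6, z_3_7, tap_4_5, taq_4_5, z_4_6, z_4_7, tap_5_6, taq_5_6, z_5_7, tap_6_7, taq_6_7, T.w_pos u3, T.w_pos u4, T.w_pos u5, T.w_pos u6, T.w_pos u7]
                  · -- (6,7) Dp
                    exfalso
                    have key := Groth.Agent.Helper6.NT.negfun3 T h2 u5 u6 u7 (by norm_num) 2 2 1 (by norm_num) (by norm_num)
                    linarith only [key, tap_5_6, taq_5_6, z_5_7, tap_6_7, taq_6_7, T.w_pos u5, T.w_pos u6, T.w_pos u7]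
                  · -- (6,7) Dm
                    exfalso
                    have key := Groth.Agent.Helper6.NT.negfun3 T h2 u5 u6 u7 (by norm_num) 1 1 1 (by norm_num) (by norm_num)
                    linarith only [key, tap_5_6, taq_5_6, z_5_7, tap_6_7, taq_6_7, T.w_pos u5, T.w_pos u6, T.w_pos u7]
                  · -- (6,7) Tp
                    exfalso
                    have key := Groth.Agent.Helper6.NT.negfun3 T h2 u5 u6 u7 (by norm_num) 2 2 1 (by norm_num) (by norm_num)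
                    linarith only [key, tap_5_6, taq_5_6, z_5_7, tap_6_7, taq_6_7, T.w_pos u5, T.w_pos u6, T.w_pos u7]
                  · -- (6,7) Tm
                    exfalso
                    have key := Groth.Agent.Helper6.NT.negfun3 T h2 u5 u6 u7 (by norm_num) 2 2 3 (by norm_num) (by norm_num)
                    linarith only [key, tap_5_6, taq_5_6, z_5_7, tap_6_7, taq_6_7, T.w_pos u5, T.w_pos u6, T.w_pos u7]
                · push Not at hx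
                  have cl_6 := hx
                  clear hx
                  exfalso
                  refine Groth.Agent.Helper6.NT.closed_contra T [u0, u1, u2, u3, u4, u5, u6] (by simp) (by simp) ?_
                  intro i hi j hj
                  simp only [List.mem_cons, List.not_mem_nil, or_false, not_or] at hi hj
                  rcases hi with rfl | rfl | rfl | rfl | rfl | rfl | rfl
                  · exact cl_0 j ⟨hj.1, hj.2.1, hj.2.2.1⟩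
                  · exact cl_1 j ⟨hj.1, hj.2.1, hj.2.2.1, hj.2.2.2.1⟩
                  · exact cl_2 j ⟨hj.1, hj.2.1, hj.2.2.1, hj.2.2.2.1⟩
                  · exact cl_3 j ⟨hj.1, hj.2.1, hj.2.2.1, hj.2.2.2.1, hj.2.2.2.2.1⟩
                  · exact cl_4 j ⟨hj.1, hj.2.1, hj.2.2.1, hj.2.2.2.1, hj.2.2.2.2.1, hj.2.2.2.2.2.1⟩
                  · exact cl_5 j ⟨hj.1, hj.2.1, hj.2.2.1, hj.2.2.2.1, hj.2.2.2.2.1, hj.2.2.2.2.2.1, hj.2.2.2.2.2.2⟩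
                  · exact cl_6 j ⟨hj.1, hj.2.1, hj.2.2.1, hj.2.2.2.1, hj.2.2.2.2.1, hj.2.2.2.2.2.1, hj.2.2.2.2.2.2⟩
            · -- (5,6) Dm
              by_cases hx : ∃ j, (j ≠ u0 ∧ j ≠ u1 ∧ j ≠ u2 ∧ j ≠ u3 ∧ j ≠ u4 ∧ j ≠ u5 ∧ j ≠ u6) ∧ T.a u5 j ≠ 0
              · obtain ⟨u7, ⟨hn_7_0, hn_7_1, hn_7_2, hn_7_3, hn_7_4, hn_7_5, hn_7_6⟩, e_5_7⟩ := hx
                have z_0_7 : T.a u0 u7 = 0 := cl_0 u7 ⟨hn_7_0, hn_7_1, hn_7_2⟩
                have z_1_7 : T.a u1 u7 = 0 := cl_1 u7 ⟨hn_7_0, hn_7_1, hn_7_2, hn_7_3⟩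
                have z_2_7 : T.a u2 u7 = 0 := cl_2 u7 ⟨hn_7_0, hn_7_1, hn_7_2, hn_7_3⟩
                have z_3_7 : T.a u3 u7 = 0 := cl_3 u7 ⟨hn_7_0, hn_7_1, hn_7_2, hn_7_3, hn_7_4⟩
                have z_4_7 : T.a u4 u7 = 0 := cl_4 u7 ⟨hn_7_0, hn_7_1, hn_7_2, hn_7_3, hn_7_4, hn_7_5⟩
                rcases Groth.Agent.Helper6.NT.edge5 T h2 (by norm_num) u5 u7 hn_7_5.symm e_5_7 with ⟨tw_5_7, tap_5_7, taq_5_7⟩ | ⟨tw_5_7, tap_5_7, taq_5_7⟩ | ⟨tw_5_7, tap_5_7, taq_5_7⟩ | ⟨tw_5_7, tap_5_7, taq_5_7⟩ | ⟨tw_5_7, tap_5_7, taq_5_7⟩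
                · -- (5,7) S
                  exfalso
                  have key := Groth.Agent.Helper6.NT.negfun4 T h2 u4 u5 u6 u7 (by norm_num) 1 2 2 1 (by norm_num) (by norm_num)
                  linarith only [key, tap_4_5, taq_4_5, z_4_6, z_4_7, tap_5_6, taq_5_6, tap_5_7, taq_5_7, T.offDiag_nonneg u6 u7 hn_7_6.symm, T.w_pos u4, T.w_pos u5, T.w_pos u6, T.w_pos u7]
                · -- (5,7) Dp
                  exfalso
                  have key := Groth.Agent.Helper6.NT.negfun3 T h2 u5 u6 u7 (by norm_num) 2 2 1 (by norm_num) (by norm_num)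
                  linarith only [key, tap_5_6, taq_5_6, tap_5_7, taq_5_7, T.offDiag_nonneg u6 u7 hn_7_6.symm, T.w_pos u5, T.w_pos u6, T.w_pos u7]
                · -- (5,7) Dm
                  exfalso
                  have key := Groth.Agent.Helper6.NT.negfun3 T h2 u5 u6 u7 (by norm_num) 1 1 1 (by norm_num) (by norm_num)
                  linarith only [key, tap_5_6, taq_5_6, tap_5_7, taq_5_7, T.offDiag_nonneg u6 u7 hn_7_6.symm, T.w_pos u5, T.w_pos u6, T.w_pos u7]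
                · -- (5,7) Tp
                  exfalso
                  have key := Groth.Agent.Helper6.NT.negfun3 T h2 u5 u6 u7 (by norm_num) 2 2 1 (by norm_num) (by norm_num)
                  linarith only [key, tap_5_6, taq_5_6, tap_5_7, taq_5_7, T.offDiag_nonneg u6 u7 hn_7_6.symm, T.w_pos u5, T.w_pos u6, T.w_pos u7]
                · -- (5,7) Tm
                  exfalso
                  have key := Groth.Agent.Helper6.NT.negfun3 T h2 u5 u6 u7 (by norm_num) 2 2 3 (by norm_num) (by norm_num)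
                  linarith only [key, tap_5_6, taq_5_6, tap_5_7, taq_5_7, T.offDiag_nonneg u6 u7 hn_7_6.symm, T.w_pos u5, T.w_pos u6, T.w_pos u7]
              · push Not at hx
                have cl_5 := hx
                clear hx
                by_cases hx : ∃ j, (j ≠ u0 ∧ j ≠ u1 ∧ j ≠ u2 ∧ j ≠ u3 ∧ j ≠ u4 ∧ j ≠ u5 ∧ j ≠ u6) ∧ T.a u6 j ≠ 0
                · obtain ⟨u7, ⟨hn_7_0, hn_7_1, hn_7_2, hn_7_3, hn_7_4, hn_7_5, hn_7_6⟩, e_6_7⟩ := hx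
                  have z_0_7 : T.a u0 u7 = 0 := cl_0 u7 ⟨hn_7_0, hn_7_1, hn_7_2⟩
                  have z_1_7 : T.a u1 u7 = 0 := cl_1 u7 ⟨hn_7_0, hn_7_1, hn_7_2, hn_7_3⟩
                  have z_2_7 : T.a u2 u7 = 0 := cl_2 u7 ⟨hn_7_0, hn_7_1, hn_7_2, hn_7_3⟩
                  have z_3_7 : T.a u3 u7 = 0 := cl_3 u7 ⟨hn_7_0, hn_7_1, hn_7_2, hn_7_3, hn_7_4⟩
                  have z_4_7 : T.a u4 u7 = 0 := cl_4 u7 ⟨hn_7_0, hn_7_1, hn_7_2, hn_7_3, hn_7_4, hn_7_5⟩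
                  have z_5_7 : T.a u5 u7 = 0 := cl_5 u7 ⟨hn_7_0, hn_7_1, hn_7_2, hn_7_3, hn_7_4, hn_7_5, hn_7_6⟩
                  rcases Groth.Agent.Helper6.NT.edge5 T h2 (by norm_num) u6 u7 hn_7_6.symm e_6_7 with ⟨tw_6_7, tap_6_7, taq_6_7⟩ | ⟨tw_6_7, tap_6_7, taq_6_7⟩ | ⟨tw_6_7, tap_6_7, taq_6_7⟩ | ⟨tw_6_7, tap_6_7, taq_6_7⟩ | ⟨tw_6_7, tap_6_7, taq_6_7⟩
                  · -- (6,7) S
                    exfalso
                    have key := Groth.Agent.Helper6.NT.negfun5 T h2 u3 u4 u5 u6 u7 (by norm_num) 1 2 3 4 2 (by norm_num) (by norm_num)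
                    linarith only [key, tap_3_4, taq_3_4, z_3_5, z_3_6, z_3_7, tap_4_5, taq_4_5, z_4_6, z_4_7, tap_5_6, taq_5_6, z_5_7, tap_6_7, taq_6_7, T.w_pos u3, T.w_pos u4, T.w_pos u5, T.w_pos u6, T.w_pos u7]
                  · -- (6,7) Dp
                    exfalso
                    have key := Groth.Agent.Helper6.NT.negfun3 T h2 u5 u6 u7 (by norm_num) 1 2 1 (by norm_num) (by norm_num)
                    linarith only [key, tap_5_6, taq_5_6, z_5_7, tap_6_7, taq_6_7, T.w_pos u5, T.w_pos u6, T.w_pos u7]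
                  · -- (6,7) Dm
                    exfalso
                    have key := Groth.Agent.Helper6.NT.negfun3 T h2 u5 u6 u7 (by norm_num) 1 2 2 (by norm_num) (by norm_num)
                    linarith only [key, tap_5_6, taq_5_6, z_5_7, tap_6_7, taq_6_7, T.w_pos u5, T.w_pos u6, T.w_pos u7]
                  · -- (6,7) Tp
                    exfalso
                    have key := Groth.Agent.Helper6.NT.negfun3 T h2 u5 u6 u7 (by norm_num) 1 2 1 (by norm_num) (by norm_num)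
                    linarith only [key, tap_5_6, taq_5_6, z_5_7, tap_6_7, taq_6_7, T.w_pos u5, T.w_pos u6, T.w_pos u7]
                  · -- (6,7) Tm
                    exfalso
                    have key := Groth.Agent.Helper6.NT.negfun3 T h2 u5 u6 u7 (by norm_num) 1 2 3 (by norm_num) (by norm_num)
                    linarith only [key, tap_5_6, taq_5_6, z_5_7, tap_6_7, taq_6_7, T.w_pos u5, T.w_pos u6, T.w_pos u7]
                · push Not at hx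
                  have cl_6 := hx
                  clear hx
                  exfalso
                  refine Groth.Agent.Helper6.NT.closed_contra T [u0, u1, u2, u3, u4, u5, u6] (by simp) (by simp) ?_
                  intro i hi j hj
                  simp only [List.mem_cons, List.not_mem_nil, or_false, not_or] at hi hj
                  rcases hi with rfl | rfl | rfl | rfl | rfl | rfl | rfl
                  · exact cl_0 j ⟨hj.1, hj.2.1, hj.2.2.1⟩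
                  · exact cl_1 j ⟨hj.1, hj.2.1, hj.2.2.1, hj.2.2.2.1⟩
                  · exact cl_2 j ⟨hj.1, hj.2.1, hj.2.2.1, hj.2.2.2.1⟩
                  · exact cl_3 j ⟨hj.1, hj.2.1, hj.2.2.1, hj.2.2.2.1, hj.2.2.2.2.1⟩
                  · exact cl_4 j ⟨hj.1, hj.2.1, hj.2.2.1, hj.2.2.2.1, hj.2.2.2.2.1, hj.2.2.2.2.2.1⟩
                  · exact cl_5 j ⟨hj.1, hj.2.1, hj.2.2.1, hj.2.2.2.1, hj.2.2.2.2.1, hj.2.2.2.2.2.1, hj.2.2.2.2.2.2⟩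
                  · exact cl_6 j ⟨hj.1, hj.2.1, hj.2.2.1, hj.2.2.2.1, hj.2.2.2.2.1, hj.2.2.2.2.2.1, hj.2.2.2.2.2.2⟩
            · -- (5,6) Tp
              exfalso
              have key := Groth.Agent.Helper6.NT.negfun3 T h2 u4 u5 u6 (by norm_num) 1 2 1 (by norm_num) (by norm_num)
              linarith only [key, tap_4_5, taq_4_5, z_4_6, tap_5_6, taq_5_6, T.w_pos u4, T.w_pos u5, T.w_pos u6]
            · -- (5,6) Tm
              exfalso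
              have key := Groth.Agent.Helper6.NT.negfun3 T h2 u4 u5 u6 (by norm_num) 1 2 3 (by norm_num) (by norm_num)
              linarith only [key, tap_4_5, taq_4_5, z_4_6, tap_5_6, taq_5_6, T.w_pos u4, T.w_pos u5, T.w_pos u6]
          · push Not at hx
            have cl_5 := hx
            clear hx
            exfalso
            refine Groth.Agent.Helper6.NT.closed_contra T [u0, u1, u2, u3, u4, u5] (by simp) (by simp) ?_
            intro i hi j hj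
            simp only [List.mem_cons, List.not_mem_nil, or_false, not_or] at hi hj
            rcases hi with rfl | rfl | rfl | rfl | rfl | rfl
            · exact cl_0 j ⟨hj.1, hj.2.1, hj.2.2.1⟩
            · exact cl_1 j ⟨hj.1, hj.2.1, hj.2.2.1, hj.2.2.2.1⟩
            · exact cl_2 j ⟨hj.1, hj.2.1, hj.2.2.1, hj.2.2.2.1⟩
            · exact cl_3 j ⟨hj.1, hj.2.1, hj.2.2.1, hj.2.2.2.1, hj.2.2.2.2.1⟩
            · exact cl_4 j ⟨hj.1, hj.2.1, hj.2.2.1, hj.2.2.2.1, hj.2.2.2.2.1, hj.2.2.2.2.2⟩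
            · exact cl_5 j ⟨hj.1, hj.2.1, hj.2.2.1, hj.2.2.2.1, hj.2.2.2.2.1, hj.2.2.2.2.2⟩
      · -- (4,5) Dp
        by_cases hx : ∃ j, (j ≠ u0 ∧ j ≠ u1 ∧ j ≠ u2 ∧ j ≠ u3 ∧ j ≠ u4 ∧ j ≠ u5) ∧ T.a u4 j ≠ 0
        · obtain ⟨u6, ⟨hn_6_0, hn_6_1, hn_6_2, hn_6_3, hn_6_4, hn_6_5⟩, e_4_6⟩ := hx
          have z_0_6 : T.a u0 u6 = 0 := cl_0 u6 ⟨hn_6_0, hn_6_1, hn_6_2⟩
          have z_1_6 : T.a u1 u6 = 0 := cl_1 u6 ⟨hn_6_0, hn_6_1, hn_6_2, hn_6_3⟩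
          have z_2_6 : T.a u2 u6 = 0 := cl_2 u6 ⟨hn_6_0, hn_6_1, hn_6_2, hn_6_3⟩
          have z_3_6 : T.a u3 u6 = 0 := cl_3 u6 ⟨hn_6_0, hn_6_1, hn_6_2, hn_6_3, hn_6_4⟩
          rcases Groth.Agent.Helper6.NT.edge5 T h2 (by norm_num) u4 u6 hn_6_4.symm e_4_6 with ⟨tw_4_6, tap_4_6, taq_4_6⟩ | ⟨tw_4_6, tap_4_6, taq_4_6⟩ | ⟨tw_4_6, tap_4_6, taq_4_6⟩ | ⟨tw_4_6, tap_4_6, taq_4_6⟩ | ⟨tw_4_6, tap_4_6, taq_4_6⟩
          · -- (4,6) S
            exfalso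
            have key := Groth.Agent.Helper6.NT.negfun4 T h2 u3 u4 u5 u6 (by norm_num) 1 2 1 1 (by norm_num) (by norm_num)
            linarith only [key, tap_3_4, taq_3_4, z_3_5, z_3_6, tap_4_5, taq_4_5, tap_4_6, taq_4_6, T.offDiag_nonneg u5 u6 hn_6_5.symm, T.w_pos u3, T.w_pos u4, T.w_pos u5, T.w_pos u6]
          · -- (4,6) Dp
            exfalso
            have key := Groth.Agent.Helper6.NT.negfun3 T h2 u4 u5 u6 (by norm_num) 2 1 1 (by norm_num) (by norm_num)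
            linarith only [key, tap_4_5, taq_4_5, tap_4_6, taq_4_6, T.offDiag_nonneg u5 u6 hn_6_5.symm, T.w_pos u4, T.w_pos u5, T.w_pos u6]
          · -- (4,6) Dm
            exfalso
            have key := Groth.Agent.Helper6.NT.negfun3 T h2 u4 u5 u6 (by norm_num) 2 1 2 (by norm_num) (by norm_num)
            linarith only [key, tap_4_5, taq_4_5, tap_4_6, taq_4_6, T.offDiag_nonneg u5 u6 hn_6_5.symm, T.w_pos u4, T.w_pos u5, T.w_pos u6]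
          · -- (4,6) Tp
            exfalso
            have key := Groth.Agent.Helper6.NT.negfun3 T h2 u4 u5 u6 (by norm_num) 2 1 1 (by norm_num) (by norm_num)
            linarith only [key, tap_4_5, taq_4_5, tap_4_6, taq_4_6, T.offDiag_nonneg u5 u6 hn_6_5.symm, T.w_pos u4, T.w_pos u5, T.w_pos u6]
          · -- (4,6) Tm
            exfalso
            have key := Groth.Agent.Helper6.NT.negfun3 T h2 u4 u5 u6 (by norm_num) 2 1 3 (by norm_num) (by norm_num)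
            linarith only [key, tap_4_5, taq_4_5, tap_4_6, taq_4_6, T.offDiag_nonneg u5 u6 hn_6_5.symm, T.w_pos u4, T.w_pos u5, T.w_pos u6]
        · push Not at hx
          have cl_4 := hx
          clear hx
          by_cases hx : ∃ j, (j ≠ u0 ∧ j ≠ u1 ∧ j ≠ u2 ∧ j ≠ u3 ∧ j ≠ u4 ∧ j ≠ u5) ∧ T.a u5 j ≠ 0
          · obtain ⟨u6, ⟨hn_6_0, hn_6_1, hn_6_2, hn_6_3, hn_6_4, hn_6_5⟩, e_5_6⟩ := hx
            have z_0_6 : T.a u0 u6 = 0 := cl_0 u6 ⟨hn_6_0, hn_6_1, hn_6_2⟩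
            have z_1_6 : T.a u1 u6 = 0 := cl_1 u6 ⟨hn_6_0, hn_6_1, hn_6_2, hn_6_3⟩
            have z_2_6 : T.a u2 u6 = 0 := cl_2 u6 ⟨hn_6_0, hn_6_1, hn_6_2, hn_6_3⟩
            have z_3_6 : T.a u3 u6 = 0 := cl_3 u6 ⟨hn_6_0, hn_6_1, hn_6_2, hn_6_3, hn_6_4⟩
            have z_4_6 : T.a u4 u6 = 0 := cl_4 u6 ⟨hn_6_0, hn_6_1, hn_6_2, hn_6_3, hn_6_4, hn_6_5⟩
            rcases Groth.Agent.Helper6.NT.edge5 T h2 (by norm_num) u5 u6 hn_6_5.symm e_5_6 with ⟨tw_5_6, tap_5_6, taq_5_6⟩ | ⟨tw_5_6, tap_5_6, taq_5_6⟩ | ⟨tw_5_6, tap_5_6, taq_5_6⟩ | ⟨tw_5_6, tap_5_6, taq_5_6⟩ | ⟨tw_5_6, tap_5_6, taq_5_6⟩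
            · -- (5,6) S
              exfalso
              have key := Groth.Agent.Helper6.NT.negfun5 T h2 u1 u3 u4 u5 u6 (by norm_num) 1 2 3 2 1 (by norm_num) (by norm_num)
              linarith only [key, tap_1_3, taq_1_3, z_1_4, z_1_5, z_1_6, tap_3_4, taq_3_4, z_3_5, z_3_6, tap_4_5, taq_4_5, z_4_6, tap_5_6, taq_5_6, T.w_pos u1, T.w_pos u3, T.w_pos u4, T.w_pos u5, T.w_pos u6]
            · -- (5,6) Dp
              exfalso
              have key := Groth.Agent.Helper6.NT.negfun3 T h2 u4 u5 u6 (by norm_num) 2 2 1 (by norm_num) (by norm_num)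
              linarith only [key, tap_4_5, taq_4_5, z_4_6, tap_5_6, taq_5_6, T.w_pos u4, T.w_pos u5, T.w_pos u6]
            · -- (5,6) Dm
              exfalso
              have key := Groth.Agent.Helper6.NT.negfun3 T h2 u4 u5 u6 (by norm_num) 1 1 1 (by norm_num) (by norm_num)
              linarith only [key, tap_4_5, taq_4_5, z_4_6, tap_5_6, taq_5_6, T.w_pos u4, T.w_pos u5, T.w_pos u6]
            · -- (5,6) Tp
              exfalso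
              have key := Groth.Agent.Helper6.NT.negfun3 T h2 u4 u5 u6 (by norm_num) 2 2 1 (by norm_num) (by norm_num)
              linarith only [key, tap_4_5, taq_4_5, z_4_6, tap_5_6, taq_5_6, T.w_pos u4, T.w_pos u5, T.w_pos u6]
            · -- (5,6) Tm
              exfalso
              have key := Groth.Agent.Helper6.NT.negfun3 T h2 u4 u5 u6 (by norm_num) 2 2 3 (by norm_num) (by norm_num)
              linarith only [key, tap_4_5, taq_4_5, z_4_6, tap_5_6, taq_5_6, T.w_pos u4, T.w_pos u5, T.w_pos u6]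
          · push Not at hx
            have cl_5 := hx
            clear hx
            exfalso
            refine Groth.Agent.Helper6.NT.closed_contra T [u0, u1, u2, u3, u4, u5] (by simp) (by simp) ?_
            intro i hi j hj
            simp only [List.mem_cons, List.not_mem_nil, or_false, not_or] at hi hj
            rcases hi with rfl | rfl | rfl | rfl | rfl | rfl
            · exact cl_0 j ⟨hj.1, hj.2.1, hj.2.2.1⟩
            · exact cl_1 j ⟨hj.1, hj.2.1, hj.2.2.1, hj.2.2.2.1⟩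
            · exact cl_2 j ⟨hj.1, hj.2.1, hj.2.2.1, hj.2.2.2.1⟩
            · exact cl_3 j ⟨hj.1, hj.2.1, hj.2.2.1, hj.2.2.2.1, hj.2.2.2.2.1⟩
            · exact cl_4 j ⟨hj.1, hj.2.1, hj.2.2.1, hj.2.2.2.1, hj.2.2.2.2.1, hj.2.2.2.2.2⟩
            · exact cl_5 j ⟨hj.1, hj.2.1, hj.2.2.1, hj.2.2.2.1, hj.2.2.2.2.1, hj.2.2.2.2.2⟩
      · -- (4,5) Dm
        by_cases hx : ∃ j, (j ≠ u0 ∧ j ≠ u1 ∧ j ≠ u2 ∧ j ≠ u3 ∧ j ≠ u4 ∧ j ≠ u5) ∧ T.a u4 j ≠ 0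
        · obtain ⟨u6, ⟨hn_6_0, hn_6_1, hn_6_2, hn_6_3, hn_6_4, hn_6_5⟩, e_4_6⟩ := hx
          have z_0_6 : T.a u0 u6 = 0 := cl_0 u6 ⟨hn_6_0, hn_6_1, hn_6_2⟩
          have z_1_6 : T.a u1 u6 = 0 := cl_1 u6 ⟨hn_6_0, hn_6_1, hn_6_2, hn_6_3⟩
          have z_2_6 : T.a u2 u6 = 0 := cl_2 u6 ⟨hn_6_0, hn_6_1, hn_6_2, hn_6_3⟩
          have z_3_6 : T.a u3 u6 = 0 := cl_3 u6 ⟨hn_6_0, hn_6_1, hn_6_2, hn_6_3, hn_6_4⟩
          rcases Groth.Agent.Helper6.NT.edge5 T h2 (by norm_num) u4 u6 hn_6_4.symm e_4_6 with ⟨tw_4_6, tap_4_6, taq_4_6⟩ | ⟨tw_4_6, tap_4_6, taq_4_6⟩ | ⟨tw_4_6, tap_4_6, taq_4_6⟩ | ⟨tw_4_6, tap_4_6, taq_4_6⟩ | ⟨tw_4_6, tap_4_6, taq_4_6⟩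
          · -- (4,6) S
            exfalso
            have key := Groth.Agent.Helper6.NT.negfun4 T h2 u3 u4 u5 u6 (by norm_num) 1 2 2 1 (by norm_num) (by norm_num)
            linarith only [key, tap_3_4, taq_3_4, z_3_5, z_3_6, tap_4_5, taq_4_5, tap_4_6, taq_4_6, T.offDiag_nonneg u5 u6 hn_6_5.symm, T.w_pos u3, T.w_pos u4, T.w_pos u5, T.w_pos u6]
          · -- (4,6) Dp
            exfalso
            have key := Groth.Agent.Helper6.NT.negfun3 T h2 u4 u5 u6 (by norm_num) 2 2 1 (by norm_num) (by norm_num)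
            linarith only [key, tap_4_5, taq_4_5, tap_4_6, taq_4_6, T.offDiag_nonneg u5 u6 hn_6_5.symm, T.w_pos u4, T.w_pos u5, T.w_pos u6]
          · -- (4,6) Dm
            exfalso
            have key := Groth.Agent.Helper6.NT.negfun3 T h2 u4 u5 u6 (by norm_num) 1 1 1 (by norm_num) (by norm_num)
            linarith only [key, tap_4_5, taq_4_5, tap_4_6, taq_4_6, T.offDiag_nonneg u5 u6 hn_6_5.symm, T.w_pos u4, T.w_pos u5, T.w_pos u6]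
          · -- (4,6) Tp
            exfalso
            have key := Groth.Agent.Helper6.NT.negfun3 T h2 u4 u5 u6 (by norm_num) 2 2 1 (by norm_num) (by norm_num)
            linarith only [key, tap_4_5, taq_4_5, tap_4_6, taq_4_6, T.offDiag_nonneg u5 u6 hn_6_5.symm, T.w_pos u4, T.w_pos u5, T.w_pos u6]
          · -- (4,6) Tm
            exfalso
            have key := Groth.Agent.Helper6.NT.negfun3 T h2 u4 u5 u6 (by norm_num) 2 2 3 (by norm_num) (by norm_num)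
            linarith only [key, tap_4_5, taq_4_5, tap_4_6, taq_4_6, T.offDiag_nonneg u5 u6 hn_6_5.symm, T.w_pos u4, T.w_pos u5, T.w_pos u6]
        · push Not at hx
          have cl_4 := hx
          clear hx
          by_cases hx : ∃ j, (j ≠ u0 ∧ j ≠ u1 ∧ j ≠ u2 ∧ j ≠ u3 ∧ j ≠ u4 ∧ j ≠ u5) ∧ T.a u5 j ≠ 0
          · obtain ⟨u6, ⟨hn_6_0, hn_6_1, hn_6_2, hn_6_3, hn_6_4, hn_6_5⟩, e_5_6⟩ := hx
            have z_0_6 : T.a u0 u6 = 0 := cl_0 u6 ⟨hn_6_0, hn_6_1, hn_6_2⟩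
            have z_1_6 : T.a u1 u6 = 0 := cl_1 u6 ⟨hn_6_0, hn_6_1, hn_6_2, hn_6_3⟩
            have z_2_6 : T.a u2 u6 = 0 := cl_2 u6 ⟨hn_6_0, hn_6_1, hn_6_2, hn_6_3⟩
            have z_3_6 : T.a u3 u6 = 0 := cl_3 u6 ⟨hn_6_0, hn_6_1, hn_6_2, hn_6_3, hn_6_4⟩
            have z_4_6 : T.a u4 u6 = 0 := cl_4 u6 ⟨hn_6_0, hn_6_1, hn_6_2, hn_6_3, hn_6_4, hn_6_5⟩
            rcases Groth.Agent.Helper6.NT.edge5 T h2 (by norm_num) u5 u6 hn_6_5.symm e_5_6 with ⟨tw_5_6, tap_5_6, taq_5_6⟩ | ⟨tw_5_6, tap_5_6, taq_5_6⟩ | ⟨tw_5_6, tap_5_6, taq_5_6⟩ | ⟨tw_5_6, tap_5_6, taq_5_6⟩ | ⟨tw_5_6, tap_5_6, taq_5_6⟩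
            · -- (5,6) S
              exfalso
              have key := Groth.Agent.Helper6.NT.negfun5 T h2 u1 u3 u4 u5 u6 (by norm_num) 1 2 3 4 2 (by norm_num) (by norm_num)
              linarith only [key, tap_1_3, taq_1_3, z_1_4, z_1_5, z_1_6, tap_3_4, taq_3_4, z_3_5, z_3_6, tap_4_5, taq_4_5, z_4_6, tap_5_6, taq_5_6, T.w_pos u1, T.w_pos u3, T.w_pos u4, T.w_pos u5, T.w_pos u6]
            · -- (5,6) Dp
              exfalso
              have key := Groth.Agent.Helper6.NT.negfun3 T h2 u4 u5 u6 (by norm_num) 1 2 1 (by norm_num) (by norm_num)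
              linarith only [key, tap_4_5, taq_4_5, z_4_6, tap_5_6, taq_5_6, T.w_pos u4, T.w_pos u5, T.w_pos u6]
            · -- (5,6) Dm
              exfalso
              have key := Groth.Agent.Helper6.NT.negfun3 T h2 u4 u5 u6 (by norm_num) 1 2 2 (by norm_num) (by norm_num)
              linarith only [key, tap_4_5, taq_4_5, z_4_6, tap_5_6, taq_5_6, T.w_pos u4, T.w_pos u5, T.w_pos u6]
            · -- (5,6) Tp
              exfalso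
              have key := Groth.Agent.Helper6.NT.negfun3 T h2 u4 u5 u6 (by norm_num) 1 2 1 (by norm_num) (by norm_num)
              linarith only [key, tap_4_5, taq_4_5, z_4_6, tap_5_6, taq_5_6, T.w_pos u4, T.w_pos u5, T.w_pos u6]
            · -- (5,6) Tm
              exfalso
              have key := Groth.Agent.Helper6.NT.negfun3 T h2 u4 u5 u6 (by norm_num) 1 2 3 (by norm_num) (by norm_num)
              linarith only [key, tap_4_5, taq_4_5, z_4_6, tap_5_6, taq_5_6, T.w_pos u4, T.w_pos u5, T.w_pos u6]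
          · push Not at hx
            have cl_5 := hx
            clear hx
            exfalso
            refine Groth.Agent.Helper6.NT.closed_contra T [u0, u1, u2, u3, u4, u5] (by simp) (by simp) ?_
            intro i hi j hj
            simp only [List.mem_cons, List.not_mem_nil, or_false, not_or] at hi hj
            rcases hi with rfl | rfl | rfl | rfl | rfl | rfl
            · exact cl_0 j ⟨hj.1, hj.2.1, hj.2.2.1⟩
            · exact cl_1 j ⟨hj.1, hj.2.1, hj.2.2.1, hj.2.2.2.1⟩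
            · exact cl_2 j ⟨hj.1, hj.2.1, hj.2.2.1, hj.2.2.2.1⟩
            · exact cl_3 j ⟨hj.1, hj.2.1, hj.2.2.1, hj.2.2.2.1, hj.2.2.2.2.1⟩
            · exact cl_4 j ⟨hj.1, hj.2.1, hj.2.2.1, hj.2.2.2.1, hj.2.2.2.2.1, hj.2.2.2.2.2⟩
            · exact cl_5 j ⟨hj.1, hj.2.1, hj.2.2.1, hj.2.2.2.1, hj.2.2.2.2.1, hj.2.2.2.2.2⟩
      · -- (4,5) Tp
        exfalso
        have key := Groth.Agent.Helper6.NT.negfun3 T h2 u3 u4 u5 (by norm_num) 1 2 1 (by norm_num) (by norm_num)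
        linarith only [key, tap_3_4, taq_3_4, z_3_5, tap_4_5, taq_4_5, T.w_pos u3, T.w_pos u4, T.w_pos u5]
      · -- (4,5) Tm
        exfalso
        have key := Groth.Agent.Helper6.NT.negfun3 T h2 u3 u4 u5 (by norm_num) 1 2 3 (by norm_num) (by norm_num)
        linarith only [key, tap_3_4, taq_3_4, z_3_5, tap_4_5, taq_4_5, T.w_pos u3, T.w_pos u4, T.w_pos u5]
    · push Not at hx
      have cl_4 := hx
      clear hx
      exfalso
      refine Groth.Agent.Helper6.NT.closed_contra T [u0, u1, u2, u3, u4] (by simp) (by simp) ?_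
      intro i hi j hj
      simp only [List.mem_cons, List.not_mem_nil, or_false, not_or] at hi hj
      rcases hi with rfl | rfl | rfl | rfl | rfl
      · exact cl_0 j ⟨hj.1, hj.2.1, hj.2.2.1⟩
      · exact cl_1 j ⟨hj.1, hj.2.1, hj.2.2.1, hj.2.2.2.1⟩
      · exact cl_2 j ⟨hj.1, hj.2.1, hj.2.2.1, hj.2.2.2.1⟩
      · exact cl_3 j ⟨hj.1, hj.2.1, hj.2.2.1, hj.2.2.2.1, hj.2.2.2.2⟩
      · exact cl_4 j ⟨hj.1, hj.2.1, hj.2.2.1, hj.2.2.2.1, hj.2.2.2.2⟩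

theorem cut8_10 (T : Models.NumericalType 8) (h2 : ∀ i, T.IsMinusTwo i) (u0 u1 u2 u3 u4 : Fin 8)
    (hn_1_0 : u1 ≠ u0)
    (e_0_1 : T.a u0 u1 ≠ 0)
    (tw_0_1 : T.w u1 = T.w u0)
    (tap_0_1 : T.a u0 u1 = T.w u0)
    (taq_0_1 : T.a u0 u1 = T.w u1)
    (hn_2_0 : u2 ≠ u0)
    (hn_2_1 : u2 ≠ u1)
    (e_0_2 : T.a u0 u2 ≠ 0)
    (tw_0_2 : T.w u2 = T.w u0)
    (tap_0_2 : T.a u0 u2 = T.w u0)
    (taq_0_2 : T.a u0 u2 = T.w u2)
    (z_1_2 : T.a u1 u2 = 0)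
    (cl_0 : ∀ j : Fin 8, (j ≠ u0 ∧ j ≠ u1 ∧ j ≠ u2) → T.a u0 j = 0)
    (hn_3_0 : u3 ≠ u0)
    (hn_3_1 : u3 ≠ u1)
    (hn_3_2 : u3 ≠ u2)
    (e_1_3 : T.a u1 u3 ≠ 0)
    (z_0_3 : T.a u0 u3 = 0)
    (tw_1_3 : T.w u3 = T.w u1)
    (tap_1_3 : T.a u1 u3 = T.w u1)
    (taq_1_3 : T.a u1 u3 = T.w u3)
    (z_2_3 : T.a u2 u3 = 0)
    (cl_1 : ∀ j : Fin 8, (j ≠ u0 ∧ j ≠ u1 ∧ j ≠ u2 ∧ j ≠ u3) → T.a u1 j = 0)
    (cl_2 : ∀ j : Fin 8, (j ≠ u0 ∧ j ≠ u1 ∧ j ≠ u2 ∧ j ≠ u3) → T.a u2 j = 0)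
    (hn_4_0 : u4 ≠ u0)
    (hn_4_1 : u4 ≠ u1)
    (hn_4_2 : u4 ≠ u2)
    (hn_4_3 : u4 ≠ u3)
    (e_3_4 : T.a u3 u4 ≠ 0)
    (z_0_4 : T.a u0 u4 = 0)
    (z_1_4 : T.a u1 u4 = 0)
    (z_2_4 : T.a u2 u4 = 0)
    (tw_3_4 : T.w u4 = 2 * T.w u3)
    (tap_3_4 : T.a u3 u4 = 2 * T.w u3)
    (taq_3_4 : T.a u3 u4 = T.w u4) :
    ∃ (σ : Equiv.Perm (Fin 8)) (m w : ℤ), ((T.m (σ 0) = m ∧ T.m (σ 1) = m ∧ T.m (σ 2) = m ∧ T.m (σ 3) = m ∧ T.m (σ 4) = m ∧ T.m (σ 5) = m ∧ T.m (σ 6) = m ∧ T.m (σ 7) = m ∧ T.w (σ 0) = w ∧ T.w (σ 1) = w ∧ T.w (σ 2) = w ∧ T.w (σ 3) = w ∧ T.w (σ 4) = w ∧ T.w (σ 5) = w ∧ T.w (σ 6) = w ∧ T.w (σ 7) = w ∧ T.a (σ 0) (σ 0) = -2 * w ∧ T.a (σ 0) (σ 1) = w ∧ T.a (σ 0) (σ 2) = 0 ∧ T.a (σ 0) (σ 3) = 0 ∧ T.a (σ 0) (σ 4) = 0 ∧ T.a (σ 0) (σ 5) = 0 ∧ T.a (σ 0) (σ 6) = 0 ∧ T.a (σ 0) (σ 7) = w ∧ T.a (σ 1) (σ 1) = -2 * w ∧ T.a (σ 1) (σ 2) = w ∧ T.a (σ 1) (σ 3) = 0 ∧ T.a (σ 1) (σ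 4) = 0 ∧ T.a (σ 1) (σ 5) = 0 ∧ T.a (σ 1) (σ 6) = 0 ∧ T.a (σ 1) (σ 7) = 0 ∧ T.a (σ 2) (σ 2) = -2 * w ∧ T.a (σ 2) (σ 3) = w ∧ T.a (σ 2) (σ 4) = 0 ∧ T.a (σ 2) (σ 5) = 0 ∧ T.a (σ 2) (σ 6) = 0 ∧ T.a (σ 2) (σ 7) = 0 ∧ T.a (σ 3) (σ 3) = -2 * w ∧ T.a (σ 3) (σ 4) = w ∧ T.a (σ 3) (σ 5) = 0 ∧ T.a (σ 3) (σ 6) = 0 ∧ T.a (σ 3) (σ 7) = 0 ∧ T.a (σ 4) (σ 4) = -2 * w ∧ T.a (σ 4) (σ 5) = w ∧ T.a (σ 4) (σ 6) = 0 ∧ T.a (σ 4) (σ 7) = 0 ∧ T.a (σ 5) (σ 5) = -2 * w ∧ T.a (σ 5) (σ 6) = w ∧ T.a (σ 5) (σ 7) = 0 ∧ T.a (σ 6) (σ 6) = -2 * w ∧ T.a (σ 6) (σ 7) = w ∧ T.a (σ 7) (σ 7) = -2 * w) ∨ (T.m (σ 0) = 2 * m ∧ T.m (σ 1) = 2 * m ∧ T.m (σ 2) = 2 * m ∧ T.m (σ 3) = 2 * m ∧ T.m (σ 4) = 2 * m ∧ T.m (σ 5) = 2 * m ∧ T.m (σ 6) = 2 * m ∧ T.m (σ 7) = m ∧ T.w (σ 0) = w ∧ T.w (σ 1) = 2 * w ∧ T.w (σ 2) = 2 * w ∧ T.w (σ 3) = 2 * w ∧ T.w (σ 4) = 2 * w ∧ T.w (σ 5) = 2 * w ∧ T.w (σ 6) = 2 * w ∧ T.w (σ 7) = 4 * w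 ∧ T.a (σ 0) (σ 0) = -2 * w ∧ T.a (σ 0) (σ 1) = 2 * w ∧ T.a (σ 0) (σ 2) = 0 ∧ T.a (σ 0) (σ 3) = 0 ∧ T.a (σ 0) (σ 4) = 0 ∧ T.a (σ 0) (σ 5) = 0 ∧ T.a (σ 0) (σ 6) = 0 ∧ T.a (σ 0) (σ 7) = 0 ∧ T.a (σ 1) (σ 1) = -4 * w ∧ T.a (σ 1) (σ 2) = 2 * w ∧ T.a (σ 1) (σ 3) = 0 ∧ T.a (σ 1) (σ 4) = 0 ∧ T.a (σ 1) (σ 5) = 0 ∧ T.a (σ 1) (σ 6) = 0 ∧ T.a (σ 1) (σ 7) = 0 ∧ T.a (σ 2) (σ 2) = -4 * w ∧ T.a (σ 2) (σ 3) = 2 * w ∧ T.a (σ 2) (σ 4) = 0 ∧ T.a (σ 2) (σ 5) = 0 ∧ T.a (σ 2) (σ 6) = 0 ∧ T.a (σ 2) (σ 7) = 0 ∧ T.a (σ 3) (σ 3) = -4 * w ∧ T.a (σ 3) (σ 4) = 2 * w ∧ T.a (σ 3) (σ 5) = 0 ∧ T.a (σ 3) (σ 6) = 0 ∧ T.a (σ 3) (σ 7) = 0 ∧ T.a (σ 4) (σ 4) = -4 * w ∧ T.a (σ 4) (σ 5) = 2 * w ∧ T.a (σ 4) (σ 6) = 0 ∧ T.a (σ 4) (σ 7) = 0 ∧ T.a (σ 5) (σ 5) = -4 * w ∧ T.a (σ 5) (σ 6) = 2 * w ∧ T.a (σ 5) (σ 7) = 0 ∧ T.a (σ 6) (σ 6) = -4 * w ∧ T.a (σ 6) (σ 7) = 4 * w ∧ T.a (σ 7) (σ 7) = -8 * w) ∨ (T.m (σ 0) = m ∧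 T.m (σ 1) = m ∧ T.m (σ 2) = m ∧ T.m (σ 3) = m ∧ T.m (σ 4) = m ∧ T.m (σ 5) = m ∧ T.m (σ 6) = m ∧ T.m (σ 7) = m ∧ T.w (σ 0) = w ∧ T.w (σ 1) = 2 * w ∧ T.w (σ 2) = 2 * w ∧ T.w (σ 3) = 2 * w ∧ T.w (σ 4) = 2 * w ∧ T.w (σ 5) = 2 * w ∧ T.w (σ 6) = 2 * w ∧ T.w (σ 7) = w ∧ T.a (σ 0) (σ 0) = -2 * w ∧ T.a (σ 0) (σ 1) = 2 * w ∧ T.a (σ 0) (σ 2) = 0 ∧ T.a (σ 0) (σ 3) = 0 ∧ T.a (σ 0) (σ 4) = 0 ∧ T.a (σ 0) (σ 5) = 0 ∧ T.a (σ 0) (σ 6) = 0 ∧ T.a (σ 0) (σ 7) = 0 ∧ T.a (σ 1) (σ 1) = -4 * w ∧ T.a (σ 1) (σ 2) = 2 * w ∧ T.a (σ 1) (σ 3) = 0 ∧ T.a (σ 1) (σ 4) = 0 ∧ T.a (σ 1) (σ 5) = 0 ∧ T.a (σ 1) (σ 6) = 0 ∧ T.a (σ 1) (σ 7) = 0 ∧ T.a (σ 2) (σ 2) = -4 * w ∧ T.a (σ 2) (σ 3) = 2 * w ∧ T.a (σ 2) (σ 4) = 0 ∧ T.a (σ 2) (σ 5) = 0 ∧ T.a (σ 2) (σ 6) = 0 ∧ T.a (σ 2) (σ 7) = 0 ∧ T.a (σ 3) (σ 3) = -4 * w ∧ T.a (σ 3) (σ 4) = 2 * w ∧ T.a (σ 3) (σ 5) = 0 ∧ T.a (σ 3) (σ 6) = 0 ∧ T.a (σ 3) (σ 7) = 0 ∧ T.a (σ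 4) (σ 4) = -4 * w ∧ T.a (σ 4) (σ 5) = 2 * w ∧ T.a (σ 4) (σ 6) = 0 ∧ T.a (σ 4) (σ 7) = 0 ∧ T.a (σ 5) (σ 5) = -4 * w ∧ T.a (σ 5) (σ 6) = 2 * w ∧ T.a (σ 5) (σ 7) = 0 ∧ T.a (σ 6) (σ 6) = -4 * w ∧ T.a (σ 6) (σ 7) = 2 * w ∧ T.a (σ 7) (σ 7) = -2 * w) ∨ (T.m (σ 0) = m ∧ T.m (σ 1) = 2 * m ∧ T.m (σ 2) = 2 * m ∧ T.m (σ 3) = 2 * m ∧ T.m (σ 4) = 2 * m ∧ T.m (σ 5) = 2 * m ∧ T.m (σ 6) = 2 * m ∧ T.m (σ 7) = m ∧ T.w (σ 0) = 2 * w ∧ T.w (σ 1) = w ∧ T.w (σ 2) = w ∧ T.w (σ 3) = w ∧ T.w (σ 4) = w ∧ T.w (σ 5) = w ∧ T.w (σ 6) = w ∧ T.w (σ 7) = 2 * w ∧ T.a (σ 0) (σ 0) = -4 * w ∧ T.a (σ 0) (σ 1) = 2 * w ∧ T.a (σ 0) (σ 2) = 0 ∧ T.a (σ 0) (σ 3) = 0 ∧ T.a (σ 0) (σ 4) = 0 ∧ T.a (σ 0) (σ 5) = 0 ∧ T.a (σ 0) (σ 6) = 0 ∧ T.a (σ 0) (σ 7) = 0 ∧ T.a (σ 1) (σ 1) = -2 * w ∧ T.a (σ 1) (σ 2) = w ∧ T.a (σ 1) (σ 3) = 0 ∧ T.a (σ 1) (σ 4) = 0 ∧ T.a (σ 1) (σ 5) = 0 ∧ T.a (σ 1) (σ 6) = 0 ∧ T.a (σ 1) (σ 7) = 0 ∧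 T.a (σ 2) (σ 2) = -2 * w ∧ T.a (σ 2) (σ 3) = w ∧ T.a (σ 2) (σ 4) = 0 ∧ T.a (σ 2) (σ 5) = 0 ∧ T.a (σ 2) (σ 6) = 0 ∧ T.a (σ 2) (σ 7) = 0 ∧ T.a (σ 3) (σ 3) = -2 * w ∧ T.a (σ 3) (σ 4) = w ∧ T.a (σ 3) (σ 5) = 0 ∧ T.a (σ 3) (σ 6) = 0 ∧ T.a (σ 3) (σ 7) = 0 ∧ T.a (σ 4) (σ 4) = -2 * w ∧ T.a (σ 4) (σ 5) = w ∧ T.a (σ 4) (σ 6) = 0 ∧ T.a (σ 4) (σ 7) = 0 ∧ T.a (σ 5) (σ 5) = -2 * w ∧ T.a (σ 5) (σ 6) = w ∧ T.a (σ 5) (σ 7) = 0 ∧ T.a (σ 6) (σ 6) = -2 * w ∧ T.a (σ 6) (σ 7) = 2 * w ∧ T.a (σ 7) (σ 7) = -4 * w) ∨ (T.m (σ 0) = m ∧ T.m (σ 1) = 2 * m ∧ T.m (σ 2) = 2 * m ∧ T.m (σ 3) = 2 * m ∧ T.m (σ 4) = 2 * m ∧ T.m (σ 5) = 2 * m ∧ T.m (σ 6) = m ∧ T.m (σ 7) = m ∧ T.w (σ 0) = 2 * w ∧ T.w (σ 1) = w ∧ T.w (σ 2) = w ∧ T.w (σ 3) = w ∧ T.w (σ 4) = w ∧ T.w (σ 5) = w ∧ T.w (σ 6) = w ∧ T.w (σ 7) = w ∧ T.a (σ 0) (σ 0) = -4 * w ∧ T.a (σ 0) (σ 1) = 2 * w ∧ T.a (σ 0) (σ 2) = 0 ∧ T.a (σ 0) (σ 3) = 0 ∧ T.a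 (σ 0) (σ 4) = 0 ∧ T.a (σ 0) (σ 5) = 0 ∧ T.a (σ 0) (σ 6) = 0 ∧ T.a (σ 0) (σ 7) = 0 ∧ T.a (σ 1) (σ 1) = -2 * w ∧ T.a (σ 1) (σ 2) = w ∧ T.a (σ 1) (σ 3) = 0 ∧ T.a (σ 1) (σ 4) = 0 ∧ T.a (σ 1) (σ 5) = 0 ∧ T.a (σ 1) (σ 6) = 0 ∧ T.a (σ 1) (σ 7) = 0 ∧ T.a (σ 2) (σ 2) = -2 * w ∧ T.a (σ 2) (σ 3) = w ∧ T.a (σ 2) (σ 4) = 0 ∧ T.a (σ 2) (σ 5) = 0 ∧ T.a (σ 2) (σ 6) = 0 ∧ T.a (σ 2) (σ 7) = 0 ∧ T.a (σ 3) (σ 3) = -2 * w ∧ T.a (σ 3) (σ 4) = w ∧ T.a (σ 3) (σ 5) = 0 ∧ T.a (σ 3) (σ 6) = 0 ∧ T.a (σ 3) (σ 7) = 0 ∧ T.a (σ 4) (σ 4) = -2 * w ∧ T.a (σ 4) (σ 5) = w ∧ T.a (σ 4) (σ 6) = 0 ∧ T.a (σ 4) (σ 7) = 0 ∧ T.a (σ 5) (σ 5) = -2 * w ∧ T.a (σ 5) (σ 6) = w ∧ T.a (σ 5) (σ 7) = w ∧ T.a (σ 6) (σ 6) = -2 * w ∧ T.a (σ 6) (σ 7) = 0 ∧ T.a (σ 7) (σ 7) = -2 * w) ∨ (T.m (σ 0) = 2 * m ∧ T.m (σ 1) = 2 * m ∧ T.m (σ 2) = 2 * m ∧ T.m (σ 3) = 2 * m ∧ T.m (σ 4) = 2 * m ∧ T.m (σ 5) = 2 * m ∧ T.m (σ 6) = m ∧ T.m (σ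 7) = m ∧ T.w (σ 0) = w ∧ T.w (σ 1) = 2 * w ∧ T.w (σ 2) = 2 * w ∧ T.w (σ 3) = 2 * w ∧ T.w (σ 4) = 2 * w ∧ T.w (σ 5) = 2 * w ∧ T.w (σ 6) = 2 * w ∧ T.w (σ 7) = 2 * w ∧ T.a (σ 0) (σ 0) = -2 * w ∧ T.a (σ 0) (σ 1) = 2 * w ∧ T.a (σ 0) (σ 2) = 0 ∧ T.a (σ 0) (σ 3) = 0 ∧ T.a (σ 0) (σ 4) = 0 ∧ T.a (σ 0) (σ 5) = 0 ∧ T.a (σ 0) (σ 6) = 0 ∧ T.a (σ 0) (σ 7) = 0 ∧ T.a (σ 1) (σ 1) = -4 * w ∧ T.a (σ 1) (σ 2) = 2 * w ∧ T.a (σ 1) (σ 3) = 0 ∧ T.a (σ 1) (σ 4) = 0 ∧ T.a (σ 1) (σ 5) = 0 ∧ T.a (σ 1) (σ 6) = 0 ∧ T.a (σ 1) (σ 7) = 0 ∧ T.a (σ 2) (σ 2) = -4 * w ∧ T.a (σ 2) (σ 3) = 2 * w ∧ T.a (σ 2) (σ 4) = 0 ∧ T.a (σ 2) (σ 5) = 0 ∧ T.a (σ 2) (σ 6) = 0 ∧ T.a (σ 2) (σ 7) = 0 ∧ T.a (σ 3) (σ 3) = -4 * w ∧ T.a (σ 3) (σ 4) = 2 * w ∧ T.a (σ 3) (σ 5) = 0 ∧ T.a (σ 3) (σ 6) = 0 ∧ T.a (σ 3) (σ 7) = 0 ∧ T.a (σ 4) (σ 4) = -4 * w ∧ T.a (σ 4) (σ 5) = 2 * w ∧ T.a (σ 4) (σ 6) = 0 ∧ T.a (σ 4) (σ 7) = 0 ∧ T.a (σ 5)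 (σ 5) = -4 * w ∧ T.a (σ 5) (σ 6) = 2 * w ∧ T.a (σ 5) (σ 7) = 2 * w ∧ T.a (σ 6) (σ 6) = -4 * w ∧ T.a (σ 6) (σ 7) = 0 ∧ T.a (σ 7) (σ 7) = -4 * w) ∨ (T.m (σ 0) = m ∧ T.m (σ 1) = m ∧ T.m (σ 2) = 2 * m ∧ T.m (σ 3) = 2 * m ∧ T.m (σ 4) = 2 * m ∧ T.m (σ 5) = 2 * m ∧ T.m (σ 6) = m ∧ T.m (σ 7) = m ∧ T.w (σ 0) = w ∧ T.w (σ 1) = w ∧ T.w (σ 2) = w ∧ T.w (σ 3) = w ∧ T.w (σ 4) = w ∧ T.w (σ 5) = w ∧ T.w (σ 6) = w ∧ T.w (σ 7) = w ∧ T.a (σ 0) (σ 0) = -2 * w ∧ T.a (σ 0) (σ 1) = 0 ∧ T.a (σ 0) (σ 2) = w ∧ T.a (σ 0) (σ 3) = 0 ∧ T.a (σ 0) (σ 4) = 0 ∧ T.a (σ 0) (σ 5) = 0 ∧ T.a (σ 0) (σ 6) = 0 ∧ T.a (σ 0) (σ 7) = 0 ∧ T.a (σ 1) (σ 1) = -2 * w ∧ T.a (σ 1) (σ 2) = w ∧ T.a (σ 1) (σ 3) = 0 ∧ T.a (σ 1) (σ 4) = 0 ∧ T.a (σ 1) (σ 5) = 0 ∧ T.a (σ 1) (σ 6) = 0 ∧ T.a (σ 1) (σ 7) = 0 ∧ T.a (σ 2) (σ 2) = -2 * w ∧ T.a (σ 2) (σ 3) = w ∧ T.a (σ 2) (σ 4) = 0 ∧ T.a (σ 2) (σ 5) = 0 ∧ T.a (σ 2) (σ 6) = 0 ∧ T.a (σ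 2) (σ 7) = 0 ∧ T.a (σ 3) (σ 3) = -2 * w ∧ T.a (σ 3) (σ 4) = w ∧ T.a (σ 3) (σ 5) = 0 ∧ T.a (σ 3) (σ 6) = 0 ∧ T.a (σ 3) (σ 7) = 0 ∧ T.a (σ 4) (σ 4) = -2 * w ∧ T.a (σ 4) (σ 5) = w ∧ T.a (σ 4) (σ 6) = 0 ∧ T.a (σ 4) (σ 7) = 0 ∧ T.a (σ 5) (σ 5) = -2 * w ∧ T.a (σ 5) (σ 6) = w ∧ T.a (σ 5) (σ 7) = w ∧ T.a (σ 6) (σ 6) = -2 * w ∧ T.a (σ 6) (σ 7) = 0 ∧ T.a (σ 7) (σ 7) = -2 * w) ∨ (T.m (σ 0) = m ∧ T.m (σ 1) = 2 * m ∧ T.m (σ 2) = 3 * m ∧ T.m (σ 3) = 4 * m ∧ T.m (σ 4) = 3 * m ∧ T.m (σ 5) = 2 * m ∧ T.m (σ 6) = m ∧ T.m (σ 7) = 2 * m ∧ T.w (σ 0) = w ∧ T.w (σ 1) = w ∧ T.w (σ 2) = w ∧ T.w (σ 3) = w ∧ T.w (σ 4) = w ∧ T.w (σ 5) = w ∧ T.w (σ 6) = w ∧ T.w (σ 7) = w ∧ T.a (σ 0) (σ 0) = -2 * w ∧ T.a (σ 0) (σ 1) = w ∧ T.a (σ 0) (σ 2) = 0 ∧ T.a (σ 0) (σ 3) = 0 ∧ T.a (σ 0) (σ 4) = 0 ∧ T.a (σ 0) (σ 5) = 0 ∧ T.a (σ 0) (σ 6) = 0 ∧ T.a (σ 0) (σ 7) = 0 ∧ T.a (σ 1) (σ 1) = -2 * w ∧ T.a (σ 1) (σ 2) = w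 ∧ T.a (σ 1) (σ 3) = 0 ∧ T.a (σ 1) (σ 4) = 0 ∧ T.a (σ 1) (σ 5) = 0 ∧ T.a (σ 1) (σ 6) = 0 ∧ T.a (σ 1) (σ 7) = 0 ∧ T.a (σ 2) (σ 2) = -2 * w ∧ T.a (σ 2) (σ 3) = w ∧ T.a (σ 2) (σ 4) = 0 ∧ T.a (σ 2) (σ 5) = 0 ∧ T.a (σ 2) (σ 6) = 0 ∧ T.a (σ 2) (σ 7) = 0 ∧ T.a (σ 3) (σ 3) = -2 * w ∧ T.a (σ 3) (σ 4) = w ∧ T.a (σ 3) (σ 5) = 0 ∧ T.a (σ 3) (σ 6) = 0 ∧ T.a (σ 3) (σ 7) = w ∧ T.a (σ 4) (σ 4) = -2 * w ∧ T.a (σ 4) (σ 5) = w ∧ T.a (σ 4) (σ 6) = 0 ∧ T.a (σ 4) (σ 7) = 0 ∧ T.a (σ 5) (σ 5) = -2 * w ∧ T.a (σ 5) (σ 6) = w ∧ T.a (σ 5) (σ 7) = 0 ∧ T.a (σ 6) (σ 6) = -2 * w ∧ T.a (σ 6) (σ 7) = 0 ∧ T.a (σ 7) (σ 7) = -2 * w)) := by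
  by_cases hx : ∃ j, (j ≠ u0 ∧ j ≠ u1 ∧ j ≠ u2 ∧ j ≠ u3 ∧ j ≠ u4) ∧ T.a u3 j ≠ 0
  · obtain ⟨u5, ⟨hn_5_0, hn_5_1, hn_5_2, hn_5_3, hn_5_4⟩, e_3_5⟩ := hx
    have z_0_5 : T.a u0 u5 = 0 := cl_0 u5 ⟨hn_5_0, hn_5_1, hn_5_2⟩
    have z_1_5 : T.a u1 u5 = 0 := cl_1 u5 ⟨hn_5_0, hn_5_1, hn_5_2, hn_5_3⟩
    have z_2_5 : T.a u2 u5 = 0 := cl_2 u5 ⟨hn_5_0, hn_5_1, hn_5_2, hn_5_3⟩
    rcases Groth.Agent.Helper6.NT.edge5 T h2 (by norm_num) u3 u5 hn_5_3.symm e_3_5 with ⟨tw_3_5, tap_3_5, taq_3_5⟩ | ⟨tw_3_5, tap_3_5, taq_3_5⟩ | ⟨tw_3_5, tap_3_5, taq_3_5⟩ | ⟨tw_3_5, tap_3_5, taq_3_5⟩ | ⟨tw_3_5, tap_3_5, taq_3_5⟩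
    · -- (3,5) S
      exfalso
      have key := Groth.Agent.Helper6.NT.negfun4 T h2 u1 u3 u4 u5 (by norm_num) 1 2 1 1 (by norm_num) (by norm_num)
      linarith only [key, tap_1_3, taq_1_3, z_1_4, z_1_5, tap_3_4, taq_3_4, tap_3_5, taq_3_5, T.offDiag_nonneg u4 u5 hn_5_4.symm, T.w_pos u1, T.w_pos u3, T.w_pos u4, T.w_pos u5]
    · -- (3,5) Dp
      exfalso
      have key := Groth.Agent.Helper6.NT.negfun3 T h2 u3 u4 u5 (by norm_num) 2 1 1 (by norm_num) (by norm_num)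
      linarith only [key, tap_3_4, taq_3_4, tap_3_5, taq_3_5, T.offDiag_nonneg u4 u5 hn_5_4.symm, T.w_pos u3, T.w_pos u4, T.w_pos u5]
    · -- (3,5) Dm
      exfalso
      have key := Groth.Agent.Helper6.NT.negfun3 T h2 u3 u4 u5 (by norm_num) 2 1 2 (by norm_num) (by norm_num)
      linarith only [key, tap_3_4, taq_3_4, tap_3_5, taq_3_5, T.offDiag_nonneg u4 u5 hn_5_4.symm, T.w_pos u3, T.w_pos u4, T.w_pos u5]
    · -- (3,5) Tp
      exfalso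
      have key := Groth.Agent.Helper6.NT.negfun3 T h2 u3 u4 u5 (by norm_num) 2 1 1 (by norm_num) (by norm_num)
      linarith only [key, tap_3_4, taq_3_4, tap_3_5, taq_3_5, T.offDiag_nonneg u4 u5 hn_5_4.symm, T.w_pos u3, T.w_pos u4, T.w_pos u5]
    · -- (3,5) Tm
      exfalso
      have key := Groth.Agent.Helper6.NT.negfun3 T h2 u3 u4 u5 (by norm_num) 2 1 3 (by norm_num) (by norm_num)
      linarith only [key, tap_3_4, taq_3_4, tap_3_5, taq_3_5, T.offDiag_nonneg u4 u5 hn_5_4.symm, T.w_pos u3, T.w_pos u4, T.w_pos u5]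
  · push Not at hx
    have cl_3 := hx
    clear hx
    by_cases hx : ∃ j, (j ≠ u0 ∧ j ≠ u1 ∧ j ≠ u2 ∧ j ≠ u3 ∧ j ≠ u4) ∧ T.a u4 j ≠ 0
    · obtain ⟨u5, ⟨hn_5_0, hn_5_1, hn_5_2, hn_5_3, hn_5_4⟩, e_4_5⟩ := hx
      have z_0_5 : T.a u0 u5 = 0 := cl_0 u5 ⟨hn_5_0, hn_5_1, hn_5_2⟩
      have z_1_5 : T.a u1 u5 = 0 := cl_1 u5 ⟨hn_5_0, hn_5_1, hn_5_2, hn_5_3⟩
      have z_2_5 : T.a u2 u5 = 0 := cl_2 u5 ⟨hn_5_0, hn_5_1, hn_5_2, hn_5_3⟩
      have z_3_5 : T.a u3 u5 = 0 := cl_3 u5 ⟨hn_5_0, hn_5_1, hn_5_2, hn_5_3, hn_5_4⟩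
      rcases Groth.Agent.Helper6.NT.edge5 T h2 (by norm_num) u4 u5 hn_5_4.symm e_4_5 with ⟨tw_4_5, tap_4_5, taq_4_5⟩ | ⟨tw_4_5, tap_4_5, taq_4_5⟩ | ⟨tw_4_5, tap_4_5, taq_4_5⟩ | ⟨tw_4_5, tap_4_5, taq_4_5⟩ | ⟨tw_4_5, tap_4_5, taq_4_5⟩
      · -- (4,5) S
        exfalso
        have key := Groth.Agent.Helper6.NT.negfun5 T h2 u0 u1 u3 u4 u5 (by norm_num) 1 2 3 2 1 (by norm_num) (by norm_num)
        linarith only [key, tap_0_1, taq_0_1, z_0_3, z_0_4, z_0_5, tap_1_3, taq_1_3, z_1_4, z_1_5, tap_3_4, taq_3_4, z_3_5, tap_4_5, taq_4_5, T.w_pos u0, T.w_pos u1, T.w_pos u3, T.w_pos u4, T.w_pos u5]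
      · -- (4,5) Dp
        exfalso
        have key := Groth.Agent.Helper6.NT.negfun3 T h2 u3 u4 u5 (by norm_num) 2 2 1 (by norm_num) (by norm_num)
        linarith only [key, tap_3_4, taq_3_4, z_3_5, tap_4_5, taq_4_5, T.w_pos u3, T.w_pos u4, T.w_pos u5]
      · -- (4,5) Dm
        exfalso
        have key := Groth.Agent.Helper6.NT.negfun3 T h2 u3 u4 u5 (by norm_num) 1 1 1 (by norm_num) (by norm_num)
        linarith only [key, tap_3_4, taq_3_4, z_3_5, tap_4_5, taq_4_5, T.w_pos u3, T.w_pos u4, T.w_pos u5]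
      · -- (4,5) Tp
        exfalso
        have key := Groth.Agent.Helper6.NT.negfun3 T h2 u3 u4 u5 (by norm_num) 2 2 1 (by norm_num) (by norm_num)
        linarith only [key, tap_3_4, taq_3_4, z_3_5, tap_4_5, taq_4_5, T.w_pos u3, T.w_pos u4, T.w_pos u5]
      · -- (4,5) Tm
        exfalso
        have key := Groth.Agent.Helper6.NT.negfun3 T h2 u3 u4 u5 (by norm_num) 2 2 3 (by norm_num) (by norm_num)
        linarith only [key, tap_3_4, taq_3_4, z_3_5, tap_4_5, taq_4_5, T.w_pos u3, T.w_pos u4, T.w_pos u5]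
    · push Not at hx
      have cl_4 := hx
      clear hx
      exfalso
      refine Groth.Agent.Helper6.NT.closed_contra T [u0, u1, u2, u3, u4] (by simp) (by simp) ?_
      intro i hi j hj
      simp only [List.mem_cons, List.not_mem_nil, or_false, not_or] at hi hj
      rcases hi with rfl | rfl | rfl | rfl | rfl
      · exact cl_0 j ⟨hj.1, hj.2.1, hj.2.2.1⟩
      · exact cl_1 j ⟨hj.1, hj.2.1, hj.2.2.1, hj.2.2.2.1⟩
      · exact cl_2 j ⟨hj.1, hj.2.1, hj.2.2.1, hj.2.2.2.1⟩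
      · exact cl_3 j ⟨hj.1, hj.2.1, hj.2.2.1, hj.2.2.2.1, hj.2.2.2.2⟩
      · exact cl_4 j ⟨hj.1, hj.2.1, hj.2.2.1, hj.2.2.2.1, hj.2.2.2.2⟩

theorem cut8_11 (T : Models.NumericalType 8) (h2 : ∀ i, T.IsMinusTwo i) (u0 u1 u2 u3 u4 : Fin 8)
    (hn_1_0 : u1 ≠ u0)
    (e_0_1 : T.a u0 u1 ≠ 0)
    (tw_0_1 : T.w u1 = T.w u0)
    (tap_0_1 : T.a u0 u1 = T.w u0)
    (taq_0_1 : T.a u0 u1 = T.w u1)
    (hn_2_0 : u2 ≠ u0)
    (hn_2_1 : u2 ≠ u1)
    (e_0_2 : T.a u0 u2 ≠ 0)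
    (tw_0_2 : T.w u2 = T.w u0)
    (tap_0_2 : T.a u0 u2 = T.w u0)
    (taq_0_2 : T.a u0 u2 = T.w u2)
    (z_1_2 : T.a u1 u2 = 0)
    (cl_0 : ∀ j : Fin 8, (j ≠ u0 ∧ j ≠ u1 ∧ j ≠ u2) → T.a u0 j = 0)
    (hn_3_0 : u3 ≠ u0)
    (hn_3_1 : u3 ≠ u1)
    (hn_3_2 : u3 ≠ u2)
    (e_1_3 : T.a u1 u3 ≠ 0)
    (z_0_3 : T.a u0 u3 = 0)
    (tw_1_3 : T.w u3 = T.w u1)
    (tap_1_3 : T.a u1 u3 = T.w u1)
    (taq_1_3 : T.a u1 u3 = T.w u3)
    (z_2_3 : T.a u2 u3 = 0)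
    (cl_1 : ∀ j : Fin 8, (j ≠ u0 ∧ j ≠ u1 ∧ j ≠ u2 ∧ j ≠ u3) → T.a u1 j = 0)
    (cl_2 : ∀ j : Fin 8, (j ≠ u0 ∧ j ≠ u1 ∧ j ≠ u2 ∧ j ≠ u3) → T.a u2 j = 0)
    (hn_4_0 : u4 ≠ u0)
    (hn_4_1 : u4 ≠ u1)
    (hn_4_2 : u4 ≠ u2)
    (hn_4_3 : u4 ≠ u3)
    (e_3_4 : T.a u3 u4 ≠ 0)
    (z_0_4 : T.a u0 u4 = 0)
    (z_1_4 : T.a u1 u4 = 0)
    (z_2_4 : T.a u2 u4 = 0)
    (tw_3_4 : T.w u3 = 2 * T.w u4)
    (tap_3_4 : T.a u3 u4 = T.w u3)
    (taq_3_4 : T.a u3 u4 = 2 * T.w u4) :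
    ∃ (σ : Equiv.Perm (Fin 8)) (m w : ℤ), ((T.m (σ 0) = m ∧ T.m (σ 1) = m ∧ T.m (σ 2) = m ∧ T.m (σ 3) = m ∧ T.m (σ 4) = m ∧ T.m (σ 5) = m ∧ T.m (σ 6) = m ∧ T.m (σ 7) = m ∧ T.w (σ 0) = w ∧ T.w (σ 1) = w ∧ T.w (σ 2) = w ∧ T.w (σ 3) = w ∧ T.w (σ 4) = w ∧ T.w (σ 5) = w ∧ T.w (σ 6) = w ∧ T.w (σ 7) = w ∧ T.a (σ 0) (σ 0) = -2 * w ∧ T.a (σ 0) (σ 1) = w ∧ T.a (σ 0) (σ 2) = 0 ∧ T.a (σ 0) (σ 3) = 0 ∧ T.a (σ 0) (σ 4) = 0 ∧ T.a (σ 0) (σ 5) = 0 ∧ T.a (σ 0) (σ 6) = 0 ∧ T.a (σ 0) (σ 7) = w ∧ T.a (σ 1) (σ 1) = -2 * w ∧ T.a (σ 1) (σ 2) = w ∧ T.a (σ 1) (σ 3) = 0 ∧ T.a (σ 1) (σ 4) = 0 ∧ T.a (σ 1) (σ 5) = 0 ∧ T.a (σ 1) (σ 6) = 0 ∧ T.a (σ 1) (σ 7) = 0 ∧ T.a (σ 2) (σ 2) = -2 * w ∧ T.a (σ 2) (σ 3) = w ∧ T.a (σ 2) (σ 4) = 0 ∧ T.a (σ 2) (σ 5) = 0 ∧ T.a (σ 2) (σ 6) = 0 ∧ T.a (σ 2) (σ 7) = 0 ∧ T.a (σ 3) (σ 3) = -2 * w ∧ T.a (σ 3) (σ 4) = w ∧ T.a (σ 3) (σ 5) = 0 ∧ T.a (σ 3) (σ 6) = 0 ∧ T.a (σ 3)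 (σ 7) = 0 ∧ T.a (σ 4) (σ 4) = -2 * w ∧ T.a (σ 4) (σ 5) = w ∧ T.a (σ 4) (σ 6) = 0 ∧ T.a (σ 4) (σ 7) = 0 ∧ T.a (σ 5) (σ 5) = -2 * w ∧ T.a (σ 5) (σ 6) = w ∧ T.a (σ 5) (σ 7) = 0 ∧ T.a (σ 6) (σ 6) = -2 * w ∧ T.a (σ 6) (σ 7) = w ∧ T.a (σ 7) (σ 7) = -2 * w) ∨ (T.m (σ 0) = 2 * m ∧ T.m (σ 1) = 2 * m ∧ T.m (σ 2) = 2 * m ∧ T.m (σ 3) = 2 * m ∧ T.m (σ 4) = 2 * m ∧ T.m (σ 5) = 2 * m ∧ T.m (σ 6) = 2 * m ∧ T.m (σ 7) = m ∧ T.w (σ 0) = w ∧ T.w (σ 1) = 2 * w ∧ T.w (σ 2) = 2 * w ∧ T.w (σ 3) = 2 * w ∧ T.w (σ 4) = 2 * w ∧ T.w (σ 5) = 2 * w ∧ T.w (σ 6) = 2 * w ∧ T.w (σ 7) = 4 * w ∧ T.a (σ 0) (σ 0) = -2 * w ∧ T.a (σ 0) (σ 1) = 2 * w ∧ T.a (σ 0) (σ 2) = 0 ∧ T.a (σ 0) (σ 3) = 0 ∧ T.a (σ 0) (σ 4) = 0 ∧ T.a (σ 0) (σ 5) = 0 ∧ T.a (σ 0) (σ 6) = 0 ∧ T.a (σ 0) (σ 7) = 0 ∧ T.a (σ 1) (σ 1) = -4 * w ∧ T.a (σ 1) (σ 2) = 2 * w ∧ T.a (σ 1) (σ 3) = 0 ∧ T.a (σ 1) (σ 4) = 0 ∧ T.a (σ 1) (σ 5) = 0 ∧ T.a (σ 1)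 (σ 6) = 0 ∧ T.a (σ 1) (σ 7) = 0 ∧ T.a (σ 2) (σ 2) = -4 * w ∧ T.a (σ 2) (σ 3) = 2 * w ∧ T.a (σ 2) (σ 4) = 0 ∧ T.a (σ 2) (σ 5) = 0 ∧ T.a (σ 2) (σ 6) = 0 ∧ T.a (σ 2) (σ 7) = 0 ∧ T.a (σ 3) (σ 3) = -4 * w ∧ T.a (σ 3) (σ 4) = 2 * w ∧ T.a (σ 3) (σ 5) = 0 ∧ T.a (σ 3) (σ 6) = 0 ∧ T.a (σ 3) (σ 7) = 0 ∧ T.a (σ 4) (σ 4) = -4 * w ∧ T.a (σ 4) (σ 5) = 2 * w ∧ T.a (σ 4) (σ 6) = 0 ∧ T.a (σ 4) (σ 7) = 0 ∧ T.a (σ 5) (σ 5) = -4 * w ∧ T.a (σ 5) (σ 6) = 2 * w ∧ T.a (σ 5) (σ 7) = 0 ∧ T.a (σ 6) (σ 6) = -4 * w ∧ T.a (σ 6) (σ 7) = 4 * w ∧ T.a (σ 7) (σ 7) = -8 * w) ∨ (T.m (σ 0) = m ∧ T.m (σ 1) = m ∧ T.m (σ 2) = m ∧ T.m (σ 3) = m ∧ T.m (σ 4) = m ∧ T.m (σ 5) = m ∧ T.m (σ 6) = m ∧ T.m (σ 7) = m ∧ T.w (σ 0) = w ∧ T.w (σ 1) = 2 * w ∧ T.w (σ 2) = 2 * w ∧ T.w (σ 3) = 2 * w ∧ T.w (σ 4) = 2 * w ∧ T.w (σ 5) = 2 * w ∧ T.w (σ 6) = 2 * w ∧ T.w (σ 7) = w ∧ T.a (σ 0) (σ 0) = -2 * w ∧ T.a (σ 0) (σ 1) = 2 * w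 ∧ T.a (σ 0) (σ 2) = 0 ∧ T.a (σ 0) (σ 3) = 0 ∧ T.a (σ 0) (σ 4) = 0 ∧ T.a (σ 0) (σ 5) = 0 ∧ T.a (σ 0) (σ 6) = 0 ∧ T.a (σ 0) (σ 7) = 0 ∧ T.a (σ 1) (σ 1) = -4 * w ∧ T.a (σ 1) (σ 2) = 2 * w ∧ T.a (σ 1) (σ 3) = 0 ∧ T.a (σ 1) (σ 4) = 0 ∧ T.a (σ 1) (σ 5) = 0 ∧ T.a (σ 1) (σ 6) = 0 ∧ T.a (σ 1) (σ 7) = 0 ∧ T.a (σ 2) (σ 2) = -4 * w ∧ T.a (σ 2) (σ 3) = 2 * w ∧ T.a (σ 2) (σ 4) = 0 ∧ T.a (σ 2) (σ 5) = 0 ∧ T.a (σ 2) (σ 6) = 0 ∧ T.a (σ 2) (σ 7) = 0 ∧ T.a (σ 3) (σ 3) = -4 * w ∧ T.a (σ 3) (σ 4) = 2 * w ∧ T.a (σ 3) (σ 5) = 0 ∧ T.a (σ 3) (σ 6) = 0 ∧ T.a (σ 3) (σ 7) = 0 ∧ T.a (σ 4) (σ 4) = -4 * w ∧ T.a (σ 4) (σ 5) = 2 * w ∧ T.a (σ 4) (σ 6) = 0 ∧ T.a (σ 4) (σ 7) = 0 ∧ T.a (σ 5) (σ 5) = -4 * w ∧ T.a (σ 5) (σ 6) = 2 * w ∧ T.a (σ 5) (σ 7) = 0 ∧ T.a (σ 6) (σ 6) = -4 * w ∧ T.a (σ 6) (σ 7) = 2 * w ∧ T.a (σ 7) (σ 7) = -2 * w) ∨ (T.m (σ 0) = m ∧ T.m (σ 1) = 2 * m ∧ T.m (σ 2) = 2 * m ∧ T.m (σ 3) =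 2 * m ∧ T.m (σ 4) = 2 * m ∧ T.m (σ 5) = 2 * m ∧ T.m (σ 6) = 2 * m ∧ T.m (σ 7) = m ∧ T.w (σ 0) = 2 * w ∧ T.w (σ 1) = w ∧ T.w (σ 2) = w ∧ T.w (σ 3) = w ∧ T.w (σ 4) = w ∧ T.w (σ 5) = w ∧ T.w (σ 6) = w ∧ T.w (σ 7) = 2 * w ∧ T.a (σ 0) (σ 0) = -4 * w ∧ T.a (σ 0) (σ 1) = 2 * w ∧ T.a (σ 0) (σ 2) = 0 ∧ T.a (σ 0) (σ 3) = 0 ∧ T.a (σ 0) (σ 4) = 0 ∧ T.a (σ 0) (σ 5) = 0 ∧ T.a (σ 0) (σ 6) = 0 ∧ T.a (σ 0) (σ 7) = 0 ∧ T.a (σ 1) (σ 1) = -2 * w ∧ T.a (σ 1) (σ 2) = w ∧ T.a (σ 1) (σ 3) = 0 ∧ T.a (σ 1) (σ 4) = 0 ∧ T.a (σ 1) (σ 5) = 0 ∧ T.a (σ 1) (σ 6) = 0 ∧ T.a (σ 1) (σ 7) = 0 ∧ T.a (σ 2) (σ 2) = -2 * w ∧ T.a (σ 2) (σ 3) = w ∧ T.a (σ 2) (σ 4) = 0 ∧ T.a (σ 2) (σ 5) = 0 ∧ T.a (σ 2) (σ 6) = 0 ∧ T.a (σ 2) (σ 7) = 0 ∧ T.a (σ 3) (σ 3) = -2 * w ∧ T.a (σ 3) (σ 4) = w ∧ T.a (σ 3) (σ 5) = 0 ∧ T.a (σ 3) (σ 6) = 0 ∧ T.a (σ 3) (σ 7) = 0 ∧ T.a (σ 4) (σ 4) = -2 * w ∧ T.a (σ 4) (σ 5) = w ∧ T.a (σ 4) (σ 6)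 = 0 ∧ T.a (σ 4) (σ 7) = 0 ∧ T.a (σ 5) (σ 5) = -2 * w ∧ T.a (σ 5) (σ 6) = w ∧ T.a (σ 5) (σ 7) = 0 ∧ T.a (σ 6) (σ 6) = -2 * w ∧ T.a (σ 6) (σ 7) = 2 * w ∧ T.a (σ 7) (σ 7) = -4 * w) ∨ (T.m (σ 0) = m ∧ T.m (σ 1) = 2 * m ∧ T.m (σ 2) = 2 * m ∧ T.m (σ 3) = 2 * m ∧ T.m (σ 4) = 2 * m ∧ T.m (σ 5) = 2 * m ∧ T.m (σ 6) = m ∧ T.m (σ 7) = m ∧ T.w (σ 0) = 2 * w ∧ T.w (σ 1) = w ∧ T.w (σ 2) = w ∧ T.w (σ 3) = w ∧ T.w (σ 4) = w ∧ T.w (σ 5) = w ∧ T.w (σ 6) = w ∧ T.w (σ 7) = w ∧ T.a (σ 0) (σ 0) = -4 * w ∧ T.a (σ 0) (σ 1) = 2 * w ∧ T.a (σ 0) (σ 2) = 0 ∧ T.a (σ 0) (σ 3) = 0 ∧ T.a (σ 0) (σ 4) = 0 ∧ T.a (σ 0) (σ 5) = 0 ∧ T.a (σ 0) (σ 6) = 0 ∧ T.a (σ 0) (σ 7) = 0 ∧ T.a (σ 1) (σ 1) = -2 * w ∧ T.a (σ 1) (σ 2) = w ∧ T.a (σ 1) (σ 3) = 0 ∧ T.a (σ 1) (σ 4) = 0 ∧ T.a (σ 1) (σ 5) = 0 ∧ T.a (σ 1) (σ 6) = 0 ∧ T.a (σ 1) (σ 7) = 0 ∧ T.a (σ 2) (σ 2) = -2 * w ∧ T.a (σ 2) (σ 3) = w ∧ T.a (σ 2) (σ 4) = 0 ∧ T.a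 (σ 2) (σ 5) = 0 ∧ T.a (σ 2) (σ 6) = 0 ∧ T.a (σ 2) (σ 7) = 0 ∧ T.a (σ 3) (σ 3) = -2 * w ∧ T.a (σ 3) (σ 4) = w ∧ T.a (σ 3) (σ 5) = 0 ∧ T.a (σ 3) (σ 6) = 0 ∧ T.a (σ 3) (σ 7) = 0 ∧ T.a (σ 4) (σ 4) = -2 * w ∧ T.a (σ 4) (σ 5) = w ∧ T.a (σ 4) (σ 6) = 0 ∧ T.a (σ 4) (σ 7) = 0 ∧ T.a (σ 5) (σ 5) = -2 * w ∧ T.a (σ 5) (σ 6) = w ∧ T.a (σ 5) (σ 7) = w ∧ T.a (σ 6) (σ 6) = -2 * w ∧ T.a (σ 6) (σ 7) = 0 ∧ T.a (σ 7) (σ 7) = -2 * w) ∨ (T.m (σ 0) = 2 * m ∧ T.m (σ 1) = 2 * m ∧ T.m (σ 2) = 2 * m ∧ T.m (σ 3) = 2 * m ∧ T.m (σ 4) = 2 * m ∧ T.m (σ 5) = 2 * m ∧ T.m (σ 6) = m ∧ T.m (σ 7) = m ∧ T.w (σ 0) = w ∧ T.w (σ 1) = 2 * w ∧ T.w (σ 2) = 2 * w ∧ T.w (σ 3) = 2 * w ∧ T.w (σ 4) = 2 * w ∧ T.w (σ 5) = 2 * w ∧ T.w (σ 6) = 2 * w ∧ T.w (σ 7) = 2 * w ∧ T.a (σ 0) (σ 0) = -2 * w ∧ T.a (σ 0) (σ 1) = 2 * w ∧ T.a (σ 0) (σ 2) = 0 ∧ T.a (σ 0) (σ 3) = 0 ∧ T.a (σ 0) (σ 4) = 0 ∧ T.a (σ 0) (σ 5) = 0 ∧ T.a (σ 0) (σ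 6) = 0 ∧ T.a (σ 0) (σ 7) = 0 ∧ T.a (σ 1) (σ 1) = -4 * w ∧ T.a (σ 1) (σ 2) = 2 * w ∧ T.a (σ 1) (σ 3) = 0 ∧ T.a (σ 1) (σ 4) = 0 ∧ T.a (σ 1) (σ 5) = 0 ∧ T.a (σ 1) (σ 6) = 0 ∧ T.a (σ 1) (σ 7) = 0 ∧ T.a (σ 2) (σ 2) = -4 * w ∧ T.a (σ 2) (σ 3) = 2 * w ∧ T.a (σ 2) (σ 4) = 0 ∧ T.a (σ 2) (σ 5) = 0 ∧ T.a (σ 2) (σ 6) = 0 ∧ T.a (σ 2) (σ 7) = 0 ∧ T.a (σ 3) (σ 3) = -4 * w ∧ T.a (σ 3) (σ 4) = 2 * w ∧ T.a (σ 3) (σ 5) = 0 ∧ T.a (σ 3) (σ 6) = 0 ∧ T.a (σ 3) (σ 7) = 0 ∧ T.a (σ 4) (σ 4) = -4 * w ∧ T.a (σ 4) (σ 5) = 2 * w ∧ T.a (σ 4) (σ 6) = 0 ∧ T.a (σ 4) (σ 7) = 0 ∧ T.a (σ 5) (σ 5) = -4 * w ∧ T.a (σ 5) (σ 6) = 2 * w ∧ T.a (σ 5) (σ 7) = 2 * w ∧ T.a (σ 6) (σ 6) = -4 * w ∧ T.a (σ 6) (σ 7) = 0 ∧ T.a (σ 7) (σ 7) = -4 * w) ∨ (T.m (σ 0) = m ∧ T.m (σ 1) = m ∧ T.m (σ 2) = 2 * m ∧ T.m (σ 3) = 2 * m ∧ T.m (σ 4) = 2 * m ∧ T.m (σ 5) = 2 * m ∧ T.m (σ 6) = m ∧ T.m (σ 7) = m ∧ T.w (σ 0) = w ∧ T.w (σ 1) =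 w ∧ T.w (σ 2) = w ∧ T.w (σ 3) = w ∧ T.w (σ 4) = w ∧ T.w (σ 5) = w ∧ T.w (σ 6) = w ∧ T.w (σ 7) = w ∧ T.a (σ 0) (σ 0) = -2 * w ∧ T.a (σ 0) (σ 1) = 0 ∧ T.a (σ 0) (σ 2) = w ∧ T.a (σ 0) (σ 3) = 0 ∧ T.a (σ 0) (σ 4) = 0 ∧ T.a (σ 0) (σ 5) = 0 ∧ T.a (σ 0) (σ 6) = 0 ∧ T.a (σ 0) (σ 7) = 0 ∧ T.a (σ 1) (σ 1) = -2 * w ∧ T.a (σ 1) (σ 2) = w ∧ T.a (σ 1) (σ 3) = 0 ∧ T.a (σ 1) (σ 4) = 0 ∧ T.a (σ 1) (σ 5) = 0 ∧ T.a (σ 1) (σ 6) = 0 ∧ T.a (σ 1) (σ 7) = 0 ∧ T.a (σ 2) (σ 2) = -2 * w ∧ T.a (σ 2) (σ 3) = w ∧ T.a (σ 2) (σ 4) = 0 ∧ T.a (σ 2) (σ 5) = 0 ∧ T.a (σ 2) (σ 6) = 0 ∧ T.a (σ 2) (σ 7) = 0 ∧ T.a (σ 3) (σ 3) = -2 * w ∧ T.a (σ 3) (σ 4) = w ∧ T.a (σ 3) (σ 5) = 0 ∧ T.a (σ 3) (σ 6) = 0 ∧ T.a (σ 3) (σ 7) = 0 ∧ T.a (σ 4) (σ 4) = -2 * w ∧ T.a (σ 4) (σ 5) = w ∧ T.a (σ 4) (σ 6) = 0 ∧ T.a (σ 4) (σ 7) = 0 ∧ T.a (σ 5) (σ 5) = -2 * w ∧ T.a (σ 5) (σ 6) = w ∧ T.a (σ 5) (σ 7) = w ∧ T.a (σ 6) (σ 6) = -2 *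 w ∧ T.a (σ 6) (σ 7) = 0 ∧ T.a (σ 7) (σ 7) = -2 * w) ∨ (T.m (σ 0) = m ∧ T.m (σ 1) = 2 * m ∧ T.m (σ 2) = 3 * m ∧ T.m (σ 3) = 4 * m ∧ T.m (σ 4) = 3 * m ∧ T.m (σ 5) = 2 * m ∧ T.m (σ 6) = m ∧ T.m (σ 7) = 2 * m ∧ T.w (σ 0) = w ∧ T.w (σ 1) = w ∧ T.w (σ 2) = w ∧ T.w (σ 3) = w ∧ T.w (σ 4) = w ∧ T.w (σ 5) = w ∧ T.w (σ 6) = w ∧ T.w (σ 7) = w ∧ T.a (σ 0) (σ 0) = -2 * w ∧ T.a (σ 0) (σ 1) = w ∧ T.a (σ 0) (σ 2) = 0 ∧ T.a (σ 0) (σ 3) = 0 ∧ T.a (σ 0) (σ 4) = 0 ∧ T.a (σ 0) (σ 5) = 0 ∧ T.a (σ 0) (σ 6) = 0 ∧ T.a (σ 0) (σ 7) = 0 ∧ T.a (σ 1) (σ 1) = -2 * w ∧ T.a (σ 1) (σ 2) = w ∧ T.a (σ 1) (σ 3) = 0 ∧ T.a (σ 1) (σ 4) = 0 ∧ T.a (σ 1) (σ 5) = 0 ∧ T.a (σ 1) (σ 6) = 0 ∧ T.a (σ 1) (σ 7) = 0 ∧ T.a (σ 2) (σ 2) = -2 * w ∧ T.a (σ 2) (σ 3) = w ∧ T.a (σ 2) (σ 4) = 0 ∧ T.a (σ 2) (σ 5) = 0 ∧ T.a (σ 2) (σ 6) = 0 ∧ T.a (σ 2) (σ 7) = 0 ∧ T.a (σ 3) (σ 3) = -2 * w ∧ T.a (σ 3) (σ 4) = w ∧ T.a (σ 3) (σ 5) =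 0 ∧ T.a (σ 3) (σ 6) = 0 ∧ T.a (σ 3) (σ 7) = w ∧ T.a (σ 4) (σ 4) = -2 * w ∧ T.a (σ 4) (σ 5) = w ∧ T.a (σ 4) (σ 6) = 0 ∧ T.a (σ 4) (σ 7) = 0 ∧ T.a (σ 5) (σ 5) = -2 * w ∧ T.a (σ 5) (σ 6) = w ∧ T.a (σ 5) (σ 7) = 0 ∧ T.a (σ 6) (σ 6) = -2 * w ∧ T.a (σ 6) (σ 7) = 0 ∧ T.a (σ 7) (σ 7) = -2 * w)) := by
  by_cases hx : ∃ j, (j ≠ u0 ∧ j ≠ u1 ∧ j ≠ u2 ∧ j ≠ u3 ∧ j ≠ u4) ∧ T.a u3 j ≠ 0
  · obtain ⟨u5, ⟨hn_5_0, hn_5_1, hn_5_2, hn_5_3, hn_5_4⟩, e_3_5⟩ := hx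
    have z_0_5 : T.a u0 u5 = 0 := cl_0 u5 ⟨hn_5_0, hn_5_1, hn_5_2⟩
    have z_1_5 : T.a u1 u5 = 0 := cl_1 u5 ⟨hn_5_0, hn_5_1, hn_5_2, hn_5_3⟩
    have z_2_5 : T.a u2 u5 = 0 := cl_2 u5 ⟨hn_5_0, hn_5_1, hn_5_2, hn_5_3⟩
    rcases Groth.Agent.Helper6.NT.edge5 T h2 (by norm_num) u3 u5 hn_5_3.symm e_3_5 with ⟨tw_3_5, tap_3_5, taq_3_5⟩ | ⟨tw_3_5, tap_3_5, taq_3_5⟩ | ⟨tw_3_5, tap_3_5, taq_3_5⟩ | ⟨tw_3_5, tap_3_5, taq_3_5⟩ | ⟨tw_3_5, tap_3_5, taq_3_5⟩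
    · -- (3,5) S
      exfalso
      have key := Groth.Agent.Helper6.NT.negfun4 T h2 u1 u3 u4 u5 (by norm_num) 1 2 2 1 (by norm_num) (by norm_num)
      linarith only [key, tap_1_3, taq_1_3, z_1_4, z_1_5, tap_3_4, taq_3_4, tap_3_5, taq_3_5, T.offDiag_nonneg u4 u5 hn_5_4.symm, T.w_pos u1, T.w_pos u3, T.w_pos u4, T.w_pos u5]
    · -- (3,5) Dp
      exfalso
      have key := Groth.Agent.Helper6.NT.negfun3 T h2 u3 u4 u5 (by norm_num) 2 2 1 (by norm_num) (by norm_num)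
      linarith only [key, tap_3_4, taq_3_4, tap_3_5, taq_3_5, T.offDiag_nonneg u4 u5 hn_5_4.symm, T.w_pos u3, T.w_pos u4, T.w_pos u5]
    · -- (3,5) Dm
      exfalso
      have key := Groth.Agent.Helper6.NT.negfun3 T h2 u3 u4 u5 (by norm_num) 1 1 1 (by norm_num) (by norm_num)
      linarith only [key, tap_3_4, taq_3_4, tap_3_5, taq_3_5, T.offDiag_nonneg u4 u5 hn_5_4.symm, T.w_pos u3, T.w_pos u4, T.w_pos u5]
    · -- (3,5) Tp
      exfalso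
      have key := Groth.Agent.Helper6.NT.negfun3 T h2 u3 u4 u5 (by norm_num) 2 2 1 (by norm_num) (by norm_num)
      linarith only [key, tap_3_4, taq_3_4, tap_3_5, taq_3_5, T.offDiag_nonneg u4 u5 hn_5_4.symm, T.w_pos u3, T.w_pos u4, T.w_pos u5]
    · -- (3,5) Tm
      exfalso
      have key := Groth.Agent.Helper6.NT.negfun3 T h2 u3 u4 u5 (by norm_num) 2 2 3 (by norm_num) (by norm_num)
      linarith only [key, tap_3_4, taq_3_4, tap_3_5, taq_3_5, T.offDiag_nonneg u4 u5 hn_5_4.symm, T.w_pos u3, T.w_pos u4, T.w_pos u5]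
  · push Not at hx
    have cl_3 := hx
    clear hx
    by_cases hx : ∃ j, (j ≠ u0 ∧ j ≠ u1 ∧ j ≠ u2 ∧ j ≠ u3 ∧ j ≠ u4) ∧ T.a u4 j ≠ 0
    · obtain ⟨u5, ⟨hn_5_0, hn_5_1, hn_5_2, hn_5_3, hn_5_4⟩, e_4_5⟩ := hx
      have z_0_5 : T.a u0 u5 = 0 := cl_0 u5 ⟨hn_5_0, hn_5_1, hn_5_2⟩
      have z_1_5 : T.a u1 u5 = 0 := cl_1 u5 ⟨hn_5_0, hn_5_1, hn_5_2, hn_5_3⟩
      have z_2_5 : T.a u2 u5 = 0 := cl_2 u5 ⟨hn_5_0, hn_5_1, hn_5_2, hn_5_3⟩
      have z_3_5 : T.a u3 u5 = 0 := cl_3 u5 ⟨hn_5_0, hn_5_1, hn_5_2, hn_5_3, hn_5_4⟩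
      rcases Groth.Agent.Helper6.NT.edge5 T h2 (by norm_num) u4 u5 hn_5_4.symm e_4_5 with ⟨tw_4_5, tap_4_5, taq_4_5⟩ | ⟨tw_4_5, tap_4_5, taq_4_5⟩ | ⟨tw_4_5, tap_4_5, taq_4_5⟩ | ⟨tw_4_5, tap_4_5, taq_4_5⟩ | ⟨tw_4_5, tap_4_5, taq_4_5⟩
      · -- (4,5) S
        exfalso
        have key := Groth.Agent.Helper6.NT.negfun5 T h2 u0 u1 u3 u4 u5 (by norm_num) 1 2 3 4 2 (by norm_num) (by norm_num)
        linarith only [key, tap_0_1, taq_0_1, z_0_3, z_0_4, z_0_5, tap_1_3, taq_1_3, z_1_4, z_1_5, tap_3_4, taq_3_4, z_3_5, tap_4_5, taq_4_5, T.w_pos u0, T.w_pos u1, T.w_pos u3, T.w_pos u4, T.w_pos u5]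
      · -- (4,5) Dp
        exfalso
        have key := Groth.Agent.Helper6.NT.negfun3 T h2 u3 u4 u5 (by norm_num) 1 2 1 (by norm_num) (by norm_num)
        linarith only [key, tap_3_4, taq_3_4, z_3_5, tap_4_5, taq_4_5, T.w_pos u3, T.w_pos u4, T.w_pos u5]
      · -- (4,5) Dm
        exfalso
        have key := Groth.Agent.Helper6.NT.negfun3 T h2 u3 u4 u5 (by norm_num) 1 2 2 (by norm_num) (by norm_num)
        linarith only [key, tap_3_4, taq_3_4, z_3_5, tap_4_5, taq_4_5, T.w_pos u3, T.w_pos u4, T.w_pos u5]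
      · -- (4,5) Tp
        exfalso
        have key := Groth.Agent.Helper6.NT.negfun3 T h2 u3 u4 u5 (by norm_num) 1 2 1 (by norm_num) (by norm_num)
        linarith only [key, tap_3_4, taq_3_4, z_3_5, tap_4_5, taq_4_5, T.w_pos u3, T.w_pos u4, T.w_pos u5]
      · -- (4,5) Tm
        exfalso
        have key := Groth.Agent.Helper6.NT.negfun3 T h2 u3 u4 u5 (by norm_num) 1 2 3 (by norm_num) (by norm_num)
        linarith only [key, tap_3_4, taq_3_4, z_3_5, tap_4_5, taq_4_5, T.w_pos u3, T.w_pos u4, T.w_pos u5]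
    · push Not at hx
      have cl_4 := hx
      clear hx
      exfalso
      refine Groth.Agent.Helper6.NT.closed_contra T [u0, u1, u2, u3, u4] (by simp) (by simp) ?_
      intro i hi j hj
      simp only [List.mem_cons, List.not_mem_nil, or_false, not_or] at hi hj
      rcases hi with rfl | rfl | rfl | rfl | rfl
      · exact cl_0 j ⟨hj.1, hj.2.1, hj.2.2.1⟩
      · exact cl_1 j ⟨hj.1, hj.2.1, hj.2.2.1, hj.2.2.2.1⟩
      · exact cl_2 j ⟨hj.1, hj.2.1, hj.2.2.1, hj.2.2.2.1⟩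
      · exact cl_3 j ⟨hj.1, hj.2.1, hj.2.2.1, hj.2.2.2.1, hj.2.2.2.2⟩
      · exact cl_4 j ⟨hj.1, hj.2.1, hj.2.2.1, hj.2.2.2.1, hj.2.2.2.2⟩

theorem cut8_12 (T : Models.NumericalType 8) (h2 : ∀ i, T.IsMinusTwo i) (u0 u1 u2 u3 u4 : Fin 8)
    (hn_1_0 : u1 ≠ u0)
    (e_0_1 : T.a u0 u1 ≠ 0)
    (tw_0_1 : T.w u1 = T.w u0)
    (tap_0_1 : T.a u0 u1 = T.w u0)
    (taq_0_1 : T.a u0 u1 = T.w u1)
    (hn_2_0 : u2 ≠ u0)
    (hn_2_1 : u2 ≠ u1)
    (e_0_2 : T.a u0 u2 ≠ 0)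
    (tw_0_2 : T.w u2 = T.w u0)
    (tap_0_2 : T.a u0 u2 = T.w u0)
    (taq_0_2 : T.a u0 u2 = T.w u2)
    (z_1_2 : T.a u1 u2 = 0)
    (cl_0 : ∀ j : Fin 8, (j ≠ u0 ∧ j ≠ u1 ∧ j ≠ u2) → T.a u0 j = 0)
    (hn_3_0 : u3 ≠ u0)
    (hn_3_1 : u3 ≠ u1)
    (hn_3_2 : u3 ≠ u2)
    (e_1_3 : T.a u1 u3 ≠ 0)
    (z_0_3 : T.a u0 u3 = 0)
    (tw_1_3 : T.w u3 = 2 * T.w u1)
    (tap_1_3 : T.a u1 u3 = 2 * T.w u1)
    (taq_1_3 : T.a u1 u3 = T.w u3)
    (z_2_3 : T.a u2 u3 = 0)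
    (cl_1 : ∀ j : Fin 8, (j ≠ u0 ∧ j ≠ u1 ∧ j ≠ u2 ∧ j ≠ u3) → T.a u1 j = 0)
    (hn_4_0 : u4 ≠ u0)
    (hn_4_1 : u4 ≠ u1)
    (hn_4_2 : u4 ≠ u2)
    (hn_4_3 : u4 ≠ u3)
    (e_2_4 : T.a u2 u4 ≠ 0)
    (z_0_4 : T.a u0 u4 = 0)
    (z_1_4 : T.a u1 u4 = 0)
    (tw_2_4 : T.w u4 = T.w u2)
    (tap_2_4 : T.a u2 u4 = T.w u2)
    (taq_2_4 : T.a u2 u4 = T.w u4)
    (z_3_4 : T.a u3 u4 = 0) :
    ∃ (σ : Equiv.Perm (Fin 8)) (m w : ℤ), ((T.m (σ 0) = m ∧ T.m (σ 1) = m ∧ T.m (σ 2) = m ∧ T.m (σ 3) = m ∧ T.m (σ 4) = m ∧ T.m (σ 5) = m ∧ T.m (σ 6) = m ∧ T.m (σ 7) = m ∧ T.w (σ 0) = w ∧ T.w (σ 1) = w ∧ T.w (σ 2) = w ∧ T.w (σ 3) = w ∧ T.w (σ 4) = w ∧ T.w (σ 5) = w ∧ T.w (σ 6) = w ∧ T.w (σ 7) = w ∧ T.a (σ 0) (σ 0) = -2 * w ∧ T.a (σ 0) (σ 1) = w ∧ T.a (σ 0) (σ 2) = 0 ∧ T.a (σ 0) (σ 3) = 0 ∧ T.a (σ 0) (σ 4) = 0 ∧ T.a (σ 0) (σ 5) = 0 ∧ T.a (σ 0) (σ 6) = 0 ∧ T.a (σ 0) (σ 7) = w ∧ T.a (σ 1) (σ 1)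 = -2 * w ∧ T.a (σ 1) (σ 2) = w ∧ T.a (σ 1) (σ 3) = 0 ∧ T.a (σ 1) (σ 4) = 0 ∧ T.a (σ 1) (σ 5) = 0 ∧ T.a (σ 1) (σ 6) = 0 ∧ T.a (σ 1) (σ 7) = 0 ∧ T.a (σ 2) (σ 2) = -2 * w ∧ T.a (σ 2) (σ 3) = w ∧ T.a (σ 2) (σ 4) = 0 ∧ T.a (σ 2) (σ 5) = 0 ∧ T.a (σ 2) (σ 6) = 0 ∧ T.a (σ 2) (σ 7) = 0 ∧ T.a (σ 3) (σ 3) = -2 * w ∧ T.a (σ 3) (σ 4) = w ∧ T.a (σ 3) (σ 5) = 0 ∧ T.a (σ 3) (σ 6) = 0 ∧ T.a (σ 3) (σ 7) = 0 ∧ T.a (σ 4) (σ 4) = -2 * w ∧ T.a (σ 4) (σ 5) = w ∧ T.a (σ 4) (σ 6) = 0 ∧ T.a (σ 4) (σ 7) = 0 ∧ T.a (σ 5) (σ 5) = -2 * w ∧ T.a (σ 5) (σ 6) = w ∧ T.a (σ 5) (σ 7) = 0 ∧ T.a (σ 6) (σ 6) = -2 * w ∧ T.a (σ 6) (σ 7) = w ∧ T.a (σ 7) (σ 7) = -2 * w) ∨ (T.m (σ 0) = 2 * m ∧ T.m (σ 1) = 2 * m ∧ T.m (σ 2) = 2 * m ∧ T.m (σ 3) = 2 * m ∧ T.m (σ 4) = 2 * m ∧ T.m (σ 5) = 2 * m ∧ T.m (σ 6) = 2 * m ∧ T.m (σ 7) = m ∧ T.w (σ 0) = w ∧ T.w (σ 1) = 2 * w ∧ T.w (σ 2) = 2 * w ∧ T.w (σ 3) = 2 * w ∧ T.w (σ 4)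 = 2 * w ∧ T.w (σ 5) = 2 * w ∧ T.w (σ 6) = 2 * w ∧ T.w (σ 7) = 4 * w ∧ T.a (σ 0) (σ 0) = -2 * w ∧ T.a (σ 0) (σ 1) = 2 * w ∧ T.a (σ 0) (σ 2) = 0 ∧ T.a (σ 0) (σ 3) = 0 ∧ T.a (σ 0) (σ 4) = 0 ∧ T.a (σ 0) (σ 5) = 0 ∧ T.a (σ 0) (σ 6) = 0 ∧ T.a (σ 0) (σ 7) = 0 ∧ T.a (σ 1) (σ 1) = -4 * w ∧ T.a (σ 1) (σ 2) = 2 * w ∧ T.a (σ 1) (σ 3) = 0 ∧ T.a (σ 1) (σ 4) = 0 ∧ T.a (σ 1) (σ 5) = 0 ∧ T.a (σ 1) (σ 6) = 0 ∧ T.a (σ 1) (σ 7) = 0 ∧ T.a (σ 2) (σ 2) = -4 * w ∧ T.a (σ 2) (σ 3) = 2 * w ∧ T.a (σ 2) (σ 4) = 0 ∧ T.a (σ 2) (σ 5) = 0 ∧ T.a (σ 2) (σ 6) = 0 ∧ T.a (σ 2) (σ 7) = 0 ∧ T.a (σ 3) (σ 3) = -4 * w ∧ T.a (σ 3) (σ 4) = 2 * w ∧ T.a (σ 3) (σ 5) = 0 ∧ T.a (σ 3) (σ 6) = 0 ∧ T.a (σ 3) (σ 7) = 0 ∧ T.a (σ 4) (σ 4) = -4 * w ∧ T.a (σ 4) (σ 5) = 2 * w ∧ T.a (σ 4) (σ 6) = 0 ∧ T.a (σ 4) (σ 7) = 0 ∧ T.a (σ 5) (σ 5) = -4 * w ∧ T.a (σ 5) (σ 6) = 2 * w ∧ T.a (σ 5) (σ 7) = 0 ∧ T.a (σ 6) (σ 6) = -4 * w ∧ T.a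 (σ 6) (σ 7) = 4 * w ∧ T.a (σ 7) (σ 7) = -8 * w) ∨ (T.m (σ 0) = m ∧ T.m (σ 1) = m ∧ T.m (σ 2) = m ∧ T.m (σ 3) = m ∧ T.m (σ 4) = m ∧ T.m (σ 5) = m ∧ T.m (σ 6) = m ∧ T.m (σ 7) = m ∧ T.w (σ 0) = w ∧ T.w (σ 1) = 2 * w ∧ T.w (σ 2) = 2 * w ∧ T.w (σ 3) = 2 * w ∧ T.w (σ 4) = 2 * w ∧ T.w (σ 5) = 2 * w ∧ T.w (σ 6) = 2 * w ∧ T.w (σ 7) = w ∧ T.a (σ 0) (σ 0) = -2 * w ∧ T.a (σ 0) (σ 1) = 2 * w ∧ T.a (σ 0) (σ 2) = 0 ∧ T.a (σ 0) (σ 3) = 0 ∧ T.a (σ 0) (σ 4) = 0 ∧ T.a (σ 0) (σ 5) = 0 ∧ T.a (σ 0) (σ 6) = 0 ∧ T.a (σ 0) (σ 7) = 0 ∧ T.a (σ 1) (σ 1) = -4 * w ∧ T.a (σ 1) (σ 2) = 2 * w ∧ T.a (σ 1) (σ 3) = 0 ∧ T.a (σ 1) (σ 4) = 0 ∧ T.a (σ 1) (σ 5) = 0 ∧ T.a (σ 1) (σ 6) = 0 ∧ T.a (σ 1) (σ 7) = 0 ∧ T.a (σ 2) (σ 2) = -4 * w ∧ T.a (σ 2) (σ 3) = 2 * w ∧ T.a (σ 2) (σ 4) = 0 ∧ T.a (σ 2) (σ 5) = 0 ∧ T.a (σ 2) (σ 6) = 0 ∧ T.a (σ 2) (σ 7) = 0 ∧ T.a (σ 3) (σ 3) = -4 * w ∧ T.a (σ 3) (σ 4) = 2 * w ∧ T.a (σ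 3) (σ 5) = 0 ∧ T.a (σ 3) (σ 6) = 0 ∧ T.a (σ 3) (σ 7) = 0 ∧ T.a (σ 4) (σ 4) = -4 * w ∧ T.a (σ 4) (σ 5) = 2 * w ∧ T.a (σ 4) (σ 6) = 0 ∧ T.a (σ 4) (σ 7) = 0 ∧ T.a (σ 5) (σ 5) = -4 * w ∧ T.a (σ 5) (σ 6) = 2 * w ∧ T.a (σ 5) (σ 7) = 0 ∧ T.a (σ 6) (σ 6) = -4 * w ∧ T.a (σ 6) (σ 7) = 2 * w ∧ T.a (σ 7) (σ 7) = -2 * w) ∨ (T.m (σ 0) = m ∧ T.m (σ 1) = 2 * m ∧ T.m (σ 2) = 2 * m ∧ T.m (σ 3) = 2 * m ∧ T.m (σ 4) = 2 * m ∧ T.m (σ 5) = 2 * m ∧ T.m (σ 6) = 2 * m ∧ T.m (σ 7) = m ∧ T.w (σ 0) = 2 * w ∧ T.w (σ 1) = w ∧ T.w (σ 2) = w ∧ T.w (σ 3) = w ∧ T.w (σ 4) = w ∧ T.w (σ 5) = w ∧ T.w (σ 6) = w ∧ T.w (σ 7) = 2 * w ∧ T.a (σ 0) (σ 0) = -4 * w ∧ T.a (σ 0) (σ 1) = 2 * w ∧ T.a (σ 0) (σ 2) = 0 ∧ T.a (σ 0) (σ 3) = 0 ∧ T.a (σ 0) (σ 4) = 0 ∧ T.a (σ 0) (σ 5) = 0 ∧ T.a (σ 0) (σ 6) = 0 ∧ T.a (σ 0) (σ 7) = 0 ∧ T.a (σ 1) (σ 1) = -2 * w ∧ T.a (σ 1) (σ 2) = w ∧ T.a (σ 1) (σ 3) = 0 ∧ T.a (σ 1) (σ 4) = 0 ∧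 T.a (σ 1) (σ 5) = 0 ∧ T.a (σ 1) (σ 6) = 0 ∧ T.a (σ 1) (σ 7) = 0 ∧ T.a (σ 2) (σ 2) = -2 * w ∧ T.a (σ 2) (σ 3) = w ∧ T.a (σ 2) (σ 4) = 0 ∧ T.a (σ 2) (σ 5) = 0 ∧ T.a (σ 2) (σ 6) = 0 ∧ T.a (σ 2) (σ 7) = 0 ∧ T.a (σ 3) (σ 3) = -2 * w ∧ T.a (σ 3) (σ 4) = w ∧ T.a (σ 3) (σ 5) = 0 ∧ T.a (σ 3) (σ 6) = 0 ∧ T.a (σ 3) (σ 7) = 0 ∧ T.a (σ 4) (σ 4) = -2 * w ∧ T.a (σ 4) (σ 5) = w ∧ T.a (σ 4) (σ 6) = 0 ∧ T.a (σ 4) (σ 7) = 0 ∧ T.a (σ 5) (σ 5) = -2 * w ∧ T.a (σ 5) (σ 6) = w ∧ T.a (σ 5) (σ 7) = 0 ∧ T.a (σ 6) (σ 6) = -2 * w ∧ T.a (σ 6) (σ 7) = 2 * w ∧ T.a (σ 7) (σ 7) = -4 * w) ∨ (T.m (σ 0) = m ∧ T.m (σ 1) = 2 * m ∧ T.m (σ 2) = 2 * m ∧ T.m (σ 3) = 2 * m ∧ T.m (σ 4) = 2 * m ∧ T.m (σ 5) = 2 * m ∧ T.m (σ 6) = m ∧ T.m (σ 7) = m ∧ T.w (σ 0) = 2 * w ∧ T.w (σ 1) = w ∧ T.w (σ 2) = w ∧ T.w (σ 3) = w ∧ T.w (σ 4) = w ∧ T.w (σ 5) = w ∧ T.w (σ 6) = w ∧ T.w (σ 7) = w ∧ T.a (σ 0) (σ 0) = -4 * w ∧ T.a (σ 0)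 (σ 1) = 2 * w ∧ T.a (σ 0) (σ 2) = 0 ∧ T.a (σ 0) (σ 3) = 0 ∧ T.a (σ 0) (σ 4) = 0 ∧ T.a (σ 0) (σ 5) = 0 ∧ T.a (σ 0) (σ 6) = 0 ∧ T.a (σ 0) (σ 7) = 0 ∧ T.a (σ 1) (σ 1) = -2 * w ∧ T.a (σ 1) (σ 2) = w ∧ T.a (σ 1) (σ 3) = 0 ∧ T.a (σ 1) (σ 4) = 0 ∧ T.a (σ 1) (σ 5) = 0 ∧ T.a (σ 1) (σ 6) = 0 ∧ T.a (σ 1) (σ 7) = 0 ∧ T.a (σ 2) (σ 2) = -2 * w ∧ T.a (σ 2) (σ 3) = w ∧ T.a (σ 2) (σ 4) = 0 ∧ T.a (σ 2) (σ 5) = 0 ∧ T.a (σ 2) (σ 6) = 0 ∧ T.a (σ 2) (σ 7) = 0 ∧ T.a (σ 3) (σ 3) = -2 * w ∧ T.a (σ 3) (σ 4) = w ∧ T.a (σ 3) (σ 5) = 0 ∧ T.a (σ 3) (σ 6) = 0 ∧ T.a (σ 3) (σ 7) = 0 ∧ T.a (σ 4) (σ 4) = -2 * w ∧ T.a (σ 4) (σ 5) = w ∧ T.a (σ 4) (σ 6) = 0 ∧ T.a (σ 4) (σ 7) = 0 ∧ T.a (σ 5) (σ 5) = -2 * w ∧ T.a (σ 5) (σ 6) = w ∧ T.a (σ 5) (σ 7) = w ∧ T.a (σ 6) (σ 6) = -2 * w ∧ T.a (σ 6) (σ 7) = 0 ∧ T.a (σ 7) (σ 7) = -2 * w) ∨ (T.m (σ 0) = 2 * m ∧ T.m (σ 1) = 2 * m ∧ T.m (σ 2) = 2 * m ∧ T.m (σ 3) = 2 * m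 ∧ T.m (σ 4) = 2 * m ∧ T.m (σ 5) = 2 * m ∧ T.m (σ 6) = m ∧ T.m (σ 7) = m ∧ T.w (σ 0) = w ∧ T.w (σ 1) = 2 * w ∧ T.w (σ 2) = 2 * w ∧ T.w (σ 3) = 2 * w ∧ T.w (σ 4) = 2 * w ∧ T.w (σ 5) = 2 * w ∧ T.w (σ 6) = 2 * w ∧ T.w (σ 7) = 2 * w ∧ T.a (σ 0) (σ 0) = -2 * w ∧ T.a (σ 0) (σ 1) = 2 * w ∧ T.a (σ 0) (σ 2) = 0 ∧ T.a (σ 0) (σ 3) = 0 ∧ T.a (σ 0) (σ 4) = 0 ∧ T.a (σ 0) (σ 5) = 0 ∧ T.a (σ 0) (σ 6) = 0 ∧ T.a (σ 0) (σ 7) = 0 ∧ T.a (σ 1) (σ 1) = -4 * w ∧ T.a (σ 1) (σ 2) = 2 * w ∧ T.a (σ 1) (σ 3) = 0 ∧ T.a (σ 1) (σ 4) = 0 ∧ T.a (σ 1) (σ 5) = 0 ∧ T.a (σ 1) (σ 6) = 0 ∧ T.a (σ 1) (σ 7) = 0 ∧ T.a (σ 2) (σ 2) = -4 * w ∧ T.a (σ 2) (σ 3) = 2 * w ∧ T.a (σ 2) (σ 4) = 0 ∧ T.a (σ 2) (σ 5) = 0 ∧ T.a (σ 2) (σ 6) = 0 ∧ T.a (σ 2) (σ 7) = 0 ∧ T.a (σ 3) (σ 3) = -4 * w ∧ T.a (σ 3) (σ 4) = 2 * w ∧ T.a (σ 3) (σ 5) = 0 ∧ T.a (σ 3) (σ 6) = 0 ∧ T.a (σ 3) (σ 7) = 0 ∧ T.a (σ 4) (σ 4) = -4 * w ∧ T.a (σ 4) (σ 5)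 = 2 * w ∧ T.a (σ 4) (σ 6) = 0 ∧ T.a (σ 4) (σ 7) = 0 ∧ T.a (σ 5) (σ 5) = -4 * w ∧ T.a (σ 5) (σ 6) = 2 * w ∧ T.a (σ 5) (σ 7) = 2 * w ∧ T.a (σ 6) (σ 6) = -4 * w ∧ T.a (σ 6) (σ 7) = 0 ∧ T.a (σ 7) (σ 7) = -4 * w) ∨ (T.m (σ 0) = m ∧ T.m (σ 1) = m ∧ T.m (σ 2) = 2 * m ∧ T.m (σ 3) = 2 * m ∧ T.m (σ 4) = 2 * m ∧ T.m (σ 5) = 2 * m ∧ T.m (σ 6) = m ∧ T.m (σ 7) = m ∧ T.w (σ 0) = w ∧ T.w (σ 1) = w ∧ T.w (σ 2) = w ∧ T.w (σ 3) = w ∧ T.w (σ 4) = w ∧ T.w (σ 5) = w ∧ T.w (σ 6) = w ∧ T.w (σ 7) = w ∧ T.a (σ 0) (σ 0) = -2 * w ∧ T.a (σ 0) (σ 1) = 0 ∧ T.a (σ 0) (σ 2) = w ∧ T.a (σ 0) (σ 3) = 0 ∧ T.a (σ 0) (σ 4) = 0 ∧ T.a (σ 0) (σ 5) = 0 ∧ T.a (σ 0) (σ 6) = 0 ∧ T.a (σ 0) (σ 7) = 0 ∧ T.a (σ 1) (σ 1) = -2 * w ∧ T.a (σ 1) (σ 2) = w ∧ T.a (σ 1) (σ 3) = 0 ∧ T.a (σ 1) (σ 4) = 0 ∧ T.a (σ 1) (σ 5) = 0 ∧ T.a (σ 1) (σ 6) = 0 ∧ T.a (σ 1) (σ 7) = 0 ∧ T.a (σ 2) (σ 2) = -2 * w ∧ T.a (σ 2) (σ 3) = w ∧ T.a (σ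 2) (σ 4) = 0 ∧ T.a (σ 2) (σ 5) = 0 ∧ T.a (σ 2) (σ 6) = 0 ∧ T.a (σ 2) (σ 7) = 0 ∧ T.a (σ 3) (σ 3) = -2 * w ∧ T.a (σ 3) (σ 4) = w ∧ T.a (σ 3) (σ 5) = 0 ∧ T.a (σ 3) (σ 6) = 0 ∧ T.a (σ 3) (σ 7) = 0 ∧ T.a (σ 4) (σ 4) = -2 * w ∧ T.a (σ 4) (σ 5) = w ∧ T.a (σ 4) (σ 6) = 0 ∧ T.a (σ 4) (σ 7) = 0 ∧ T.a (σ 5) (σ 5) = -2 * w ∧ T.a (σ 5) (σ 6) = w ∧ T.a (σ 5) (σ 7) = w ∧ T.a (σ 6) (σ 6) = -2 * w ∧ T.a (σ 6) (σ 7) = 0 ∧ T.a (σ 7) (σ 7) = -2 * w) ∨ (T.m (σ 0) = m ∧ T.m (σ 1) = 2 * m ∧ T.m (σ 2) = 3 * m ∧ T.m (σ 3) = 4 * m ∧ T.m (σ 4) = 3 * m ∧ T.m (σ 5) = 2 * m ∧ T.m (σ 6) = m ∧ T.m (σ 7) = 2 * m ∧ T.w (σ 0) = w ∧ T.w (σ 1) = w ∧ T.w (σ 2) = w ∧ T.w (σ 3) = w ∧ T.w (σ 4) = w ∧ T.w (σ 5) = w ∧ T.w (σ 6) = w ∧ T.w (σ 7) = w ∧ T.a (σ 0) (σ 0) = -2 * w ∧ T.a (σ 0) (σ 1) = w ∧ T.a (σ 0) (σ 2) = 0 ∧ T.a (σ 0) (σ 3) = 0 ∧ T.a (σ 0) (σ 4) = 0 ∧ T.a (σ 0) (σ 5) = 0 ∧ T.a (σ 0) (σ 6) = 0 ∧ T.a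 (σ 0) (σ 7) = 0 ∧ T.a (σ 1) (σ 1) = -2 * w ∧ T.a (σ 1) (σ 2) = w ∧ T.a (σ 1) (σ 3) = 0 ∧ T.a (σ 1) (σ 4) = 0 ∧ T.a (σ 1) (σ 5) = 0 ∧ T.a (σ 1) (σ 6) = 0 ∧ T.a (σ 1) (σ 7) = 0 ∧ T.a (σ 2) (σ 2) = -2 * w ∧ T.a (σ 2) (σ 3) = w ∧ T.a (σ 2) (σ 4) = 0 ∧ T.a (σ 2) (σ 5) = 0 ∧ T.a (σ 2) (σ 6) = 0 ∧ T.a (σ 2) (σ 7) = 0 ∧ T.a (σ 3) (σ 3) = -2 * w ∧ T.a (σ 3) (σ 4) = w ∧ T.a (σ 3) (σ 5) = 0 ∧ T.a (σ 3) (σ 6) = 0 ∧ T.a (σ 3) (σ 7) = w ∧ T.a (σ 4) (σ 4) = -2 * w ∧ T.a (σ 4) (σ 5) = w ∧ T.a (σ 4) (σ 6) = 0 ∧ T.a (σ 4) (σ 7) = 0 ∧ T.a (σ 5) (σ 5) = -2 * w ∧ T.a (σ 5) (σ 6) = w ∧ T.a (σ 5) (σ 7) = 0 ∧ T.a (σ 6) (σ 6) = -2 * w ∧ T.a (σ 6) (σ 7) = 0 ∧ T.a (σ 7) (σ 7) = -2 * w)) := by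
  by_cases hx : ∃ j, (j ≠ u0 ∧ j ≠ u1 ∧ j ≠ u2 ∧ j ≠ u3 ∧ j ≠ u4) ∧ T.a u2 j ≠ 0
  · obtain ⟨u5, ⟨hn_5_0, hn_5_1, hn_5_2, hn_5_3, hn_5_4⟩, e_2_5⟩ := hx
    have z_0_5 : T.a u0 u5 = 0 := cl_0 u5 ⟨hn_5_0, hn_5_1, hn_5_2⟩
    have z_1_5 : T.a u1 u5 = 0 := cl_1 u5 ⟨hn_5_0, hn_5_1, hn_5_2, hn_5_3⟩
    rcases Groth.Agent.Helper6.NT.edge5 T h2 (by norm_num) u2 u5 hn_5_2.symm e_2_5 with ⟨tw_2_5, tap_2_5, taq_2_5⟩ | ⟨tw_2_5, tap_2_5, taq_2_5⟩ | ⟨tw_2_5, tap_2_5, taq_2_5⟩ | ⟨tw_2_5, tap_2_5, taq_2_5⟩ | ⟨tw_2_5, tap_2_5, taq_2_5⟩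
    · -- (2,5) S
      exfalso
      have key := Groth.Agent.Helper6.NT.negfun6 T h2 u0 u1 u2 u3 u4 u5 (by norm_num) 2 2 2 1 1 1 (by norm_num) (by norm_num)
      linarith only [key, tap_0_1, taq_0_1, tap_0_2, taq_0_2, z_0_3, z_0_4, z_0_5, z_1_2, tap_1_3, taq_1_3, z_1_4, z_1_5, z_2_3, tap_2_4, taq_2_4, tap_2_5, taq_2_5, z_3_4, T.offDiag_nonneg u3 u5 hn_5_3.symm, T.offDiag_nonneg u4 u5 hn_5_4.symm, T.w_pos u0, T.w_pos u1, T.w_pos u2, T.w_pos u3, T.w_pos u4, T.w_pos u5]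
    · -- (2,5) Dp
      exfalso
      have key := Groth.Agent.Helper6.NT.negfun4 T h2 u0 u2 u4 u5 (by norm_num) 1 2 1 1 (by norm_num) (by norm_num)
      linarith only [key, tap_0_2, taq_0_2, z_0_4, z_0_5, tap_2_4, taq_2_4, tap_2_5, taq_2_5, T.offDiag_nonneg u4 u5 hn_5_4.symm, T.w_pos u0, T.w_pos u2, T.w_pos u4, T.w_pos u5]
    · -- (2,5) Dm
      exfalso
      have key := Groth.Agent.Helper6.NT.negfun4 T h2 u0 u2 u4 u5 (by norm_num) 1 2 1 2 (by norm_num) (by norm_num)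
      linarith only [key, tap_0_2, taq_0_2, z_0_4, z_0_5, tap_2_4, taq_2_4, tap_2_5, taq_2_5, T.offDiag_nonneg u4 u5 hn_5_4.symm, T.w_pos u0, T.w_pos u2, T.w_pos u4, T.w_pos u5]
    · -- (2,5) Tp
      exfalso
      have key := Groth.Agent.Helper6.NT.negfun3 T h2 u2 u4 u5 (by norm_num) 2 1 1 (by norm_num) (by norm_num)
      linarith only [key, tap_2_4, taq_2_4, tap_2_5, taq_2_5, T.offDiag_nonneg u4 u5 hn_5_4.symm, T.w_pos u2, T.w_pos u4, T.w_pos u5]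
    · -- (2,5) Tm
      exfalso
      have key := Groth.Agent.Helper6.NT.negfun3 T h2 u2 u4 u5 (by norm_num) 2 1 3 (by norm_num) (by norm_num)
      linarith only [key, tap_2_4, taq_2_4, tap_2_5, taq_2_5, T.offDiag_nonneg u4 u5 hn_5_4.symm, T.w_pos u2, T.w_pos u4, T.w_pos u5]
  · push Not at hx
    have cl_2 := hx
    clear hx
    by_cases hx : ∃ j, (j ≠ u0 ∧ j ≠ u1 ∧ j ≠ u2 ∧ j ≠ u3 ∧ j ≠ u4) ∧ T.a u3 j ≠ 0
    · obtain ⟨u5, ⟨hn_5_0, hn_5_1, hn_5_2, hn_5_3, hn_5_4⟩, e_3_5⟩ := hx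
      have z_0_5 : T.a u0 u5 = 0 := cl_0 u5 ⟨hn_5_0, hn_5_1, hn_5_2⟩
      have z_1_5 : T.a u1 u5 = 0 := cl_1 u5 ⟨hn_5_0, hn_5_1, hn_5_2, hn_5_3⟩
      have z_2_5 : T.a u2 u5 = 0 := cl_2 u5 ⟨hn_5_0, hn_5_1, hn_5_2, hn_5_3, hn_5_4⟩
      rcases Groth.Agent.Helper6.NT.edge5 T h2 (by norm_num) u3 u5 hn_5_3.symm e_3_5 with ⟨tw_3_5, tap_3_5, taq_3_5⟩ | ⟨tw_3_5, tap_3_5, taq_3_5⟩ | ⟨tw_3_5, tap_3_5, taq_3_5⟩ | ⟨tw_3_5, tap_3_5, taq_3_5⟩ | ⟨tw_3_5, tap_3_5, taq_3_5⟩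
      · -- (3,5) S
        exfalso
        have key := Groth.Agent.Helper6.NT.negfun5 T h2 u0 u1 u2 u3 u5 (by norm_num) 2 3 1 2 1 (by norm_num) (by norm_num)
        linarith only [key, tap_0_1, taq_0_1, tap_0_2, taq_0_2, z_0_3, z_0_5, z_1_2, tap_1_3, taq_1_3, z_1_5, z_2_3, z_2_5, tap_3_5, taq_3_5, T.w_pos u0, T.w_pos u1, T.w_pos u2, T.w_pos u3, T.w_pos u5]
      · -- (3,5) Dp
        exfalso
        have key := Groth.Agent.Helper6.NT.negfun3 T h2 u1 u3 u5 (by norm_num) 2 2 1 (by norm_num) (by norm_num)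
        linarith only [key, tap_1_3, taq_1_3, z_1_5, tap_3_5, taq_3_5, T.w_pos u1, T.w_pos u3, T.w_pos u5]
      · -- (3,5) Dm
        exfalso
        have key := Groth.Agent.Helper6.NT.negfun3 T h2 u1 u3 u5 (by norm_num) 1 1 1 (by norm_num) (by norm_num)
        linarith only [key, tap_1_3, taq_1_3, z_1_5, tap_3_5, taq_3_5, T.w_pos u1, T.w_pos u3, T.w_pos u5]
      · -- (3,5) Tp
        exfalso
        have key := Groth.Agent.Helper6.NT.negfun3 T h2 u1 u3 u5 (by norm_num) 2 2 1 (by norm_num) (by norm_num)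
        linarith only [key, tap_1_3, taq_1_3, z_1_5, tap_3_5, taq_3_5, T.w_pos u1, T.w_pos u3, T.w_pos u5]
      · -- (3,5) Tm
        exfalso
        have key := Groth.Agent.Helper6.NT.negfun3 T h2 u1 u3 u5 (by norm_num) 2 2 3 (by norm_num) (by norm_num)
        linarith only [key, tap_1_3, taq_1_3, z_1_5, tap_3_5, taq_3_5, T.w_pos u1, T.w_pos u3, T.w_pos u5]
    · push Not at hx
      have cl_3 := hx
      clear hx
      by_cases hx : ∃ j, (j ≠ u0 ∧ j ≠ u1 ∧ j ≠ u2 ∧ j ≠ u3 ∧ j ≠ u4) ∧ T.a u4 j ≠ 0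
      · obtain ⟨u5, ⟨hn_5_0, hn_5_1, hn_5_2, hn_5_3, hn_5_4⟩, e_4_5⟩ := hx
        have z_0_5 : T.a u0 u5 = 0 := cl_0 u5 ⟨hn_5_0, hn_5_1, hn_5_2⟩
        have z_1_5 : T.a u1 u5 = 0 := cl_1 u5 ⟨hn_5_0, hn_5_1, hn_5_2, hn_5_3⟩
        have z_2_5 : T.a u2 u5 = 0 := cl_2 u5 ⟨hn_5_0, hn_5_1, hn_5_2, hn_5_3, hn_5_4⟩
        have z_3_5 : T.a u3 u5 = 0 := cl_3 u5 ⟨hn_5_0, hn_5_1, hn_5_2, hn_5_3, hn_5_4⟩
        rcases Groth.Agent.Helper6.NT.edge5 T h2 (by norm_num) u4 u5 hn_5_4.symm e_4_5 with ⟨tw_4_5, tap_4_5, taq_4_5⟩ | ⟨tw_4_5, tap_4_5, taq_4_5⟩ | ⟨tw_4_5, tap_4_5, taq_4_5⟩ | ⟨tw_4_5, tap_4_5, taq_4_5⟩ | ⟨tw_4_5, tap_4_5, taq_4_5⟩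
        · -- (4,5) S
          by_cases hx : ∃ j, (j ≠ u0 ∧ j ≠ u1 ∧ j ≠ u2 ∧ j ≠ u3 ∧ j ≠ u4 ∧ j ≠ u5) ∧ T.a u4 j ≠ 0
          · obtain ⟨u6, ⟨hn_6_0, hn_6_1, hn_6_2, hn_6_3, hn_6_4, hn_6_5⟩, e_4_6⟩ := hx
            have z_0_6 : T.a u0 u6 = 0 := cl_0 u6 ⟨hn_6_0, hn_6_1, hn_6_2⟩
            have z_1_6 : T.a u1 u6 = 0 := cl_1 u6 ⟨hn_6_0, hn_6_1, hn_6_2, hn_6_3⟩
            have z_2_6 : T.a u2 u6 = 0 := cl_2 u6 ⟨hn_6_0, hn_6_1, hn_6_2, hn_6_3, hn_6_4⟩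
            have z_3_6 : T.a u3 u6 = 0 := cl_3 u6 ⟨hn_6_0, hn_6_1, hn_6_2, hn_6_3, hn_6_4⟩
            rcases Groth.Agent.Helper6.NT.edge5 T h2 (by norm_num) u4 u6 hn_6_4.symm e_4_6 with ⟨tw_4_6, tap_4_6, taq_4_6⟩ | ⟨tw_4_6, tap_4_6, taq_4_6⟩ | ⟨tw_4_6, tap_4_6, taq_4_6⟩ | ⟨tw_4_6, tap_4_6, taq_4_6⟩ | ⟨tw_4_6, tap_4_6, taq_4_6⟩
            · -- (4,6) S
              exfalso
              have key := Groth.Agent.Helper6.NT.negfun7 T h2 u0 u1 u2 u3 u4 u5 u6 (by norm_num) 2 2 2 1 2 1 1 (by norm_num) (by norm_num)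
              linarith only [key, tap_0_1, taq_0_1, tap_0_2, taq_0_2, z_0_3, z_0_4, z_0_5, z_0_6, z_1_2, tap_1_3, taq_1_3, z_1_4, z_1_5, z_1_6, z_2_3, tap_2_4, taq_2_4, z_2_5, z_2_6, z_3_4, z_3_5, z_3_6, tap_4_5, taq_4_5, tap_4_6, taq_4_6, T.offDiag_nonneg u5 u6 hn_6_5.symm, T.w_pos u0, T.w_pos u1, T.w_pos u2, T.w_pos u3, T.w_pos u4, T.w_pos u5, T.w_pos u6]
            · -- (4,6) Dp
              exfalso
              have key := Groth.Agent.Helper6.NT.negfun4 T h2 u2 u4 u5 u6 (by norm_num) 1 2 1 1 (by norm_num) (by norm_num)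
              linarith only [key, tap_2_4, taq_2_4, z_2_5, z_2_6, tap_4_5, taq_4_5, tap_4_6, taq_4_6, T.offDiag_nonneg u5 u6 hn_6_5.symm, T.w_pos u2, T.w_pos u4, T.w_pos u5, T.w_pos u6]
            · -- (4,6) Dm
              exfalso
              have key := Groth.Agent.Helper6.NT.negfun4 T h2 u2 u4 u5 u6 (by norm_num) 1 2 1 2 (by norm_num) (by norm_num)
              linarith only [key, tap_2_4, taq_2_4, z_2_5, z_2_6, tap_4_5, taq_4_5, tap_4_6, taq_4_6, T.offDiag_nonneg u5 u6 hn_6_5.symm, T.w_pos u2, T.w_pos u4, T.w_pos u5, T.w_pos u6]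
            · -- (4,6) Tp
              exfalso
              have key := Groth.Agent.Helper6.NT.negfun3 T h2 u4 u5 u6 (by norm_num) 2 1 1 (by norm_num) (by norm_num)
              linarith only [key, tap_4_5, taq_4_5, tap_4_6, taq_4_6, T.offDiag_nonneg u5 u6 hn_6_5.symm, T.w_pos u4, T.w_pos u5, T.w_pos u6]
            · -- (4,6) Tm
              exfalso
              have key := Groth.Agent.Helper6.NT.negfun3 T h2 u4 u5 u6 (by norm_num) 2 1 3 (by norm_num) (by norm_num)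
              linarith only [key, tap_4_5, taq_4_5, tap_4_6, taq_4_6, T.offDiag_nonneg u5 u6 hn_6_5.symm, T.w_pos u4, T.w_pos u5, T.w_pos u6]
          · push Not at hx
            have cl_4 := hx
            clear hx
            by_cases hx : ∃ j, (j ≠ u0 ∧ j ≠ u1 ∧ j ≠ u2 ∧ j ≠ u3 ∧ j ≠ u4 ∧ j ≠ u5) ∧ T.a u5 j ≠ 0
            · obtain ⟨u6, ⟨hn_6_0, hn_6_1, hn_6_2, hn_6_3, hn_6_4, hn_6_5⟩, e_5_6⟩ := hx
              have z_0_6 : T.a u0 u6 = 0 := cl_0 u6 ⟨hn_6_0, hn_6_1, hn_6_2⟩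
              have z_1_6 : T.a u1 u6 = 0 := cl_1 u6 ⟨hn_6_0, hn_6_1, hn_6_2, hn_6_3⟩
              have z_2_6 : T.a u2 u6 = 0 := cl_2 u6 ⟨hn_6_0, hn_6_1, hn_6_2, hn_6_3, hn_6_4⟩
              have z_3_6 : T.a u3 u6 = 0 := cl_3 u6 ⟨hn_6_0, hn_6_1, hn_6_2, hn_6_3, hn_6_4⟩
              have z_4_6 : T.a u4 u6 = 0 := cl_4 u6 ⟨hn_6_0, hn_6_1, hn_6_2, hn_6_3, hn_6_4, hn_6_5⟩
              rcases Groth.Agent.Helper6.NT.edge5 T h2 (by norm_num) u5 u6 hn_6_5.symm e_5_6 with ⟨tw_5_6, tap_5_6, taq_5_6⟩ | ⟨tw_5_6, tap_5_6, taq_5_6⟩ | ⟨tw_5_6, tap_5_6, taq_5_6⟩ | ⟨tw_5_6, tap_5_6, taq_5_6⟩ | ⟨tw_5_6, tap_5_6, taq_5_6⟩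
              · -- (5,6) S
                by_cases hx : ∃ j, (j ≠ u0 ∧ j ≠ u1 ∧ j ≠ u2 ∧ j ≠ u3 ∧ j ≠ u4 ∧ j ≠ u5 ∧ j ≠ u6) ∧ T.a u5 j ≠ 0
                · obtain ⟨u7, ⟨hn_7_0, hn_7_1, hn_7_2, hn_7_3, hn_7_4, hn_7_5, hn_7_6⟩, e_5_7⟩ := hx
                  have z_0_7 : T.a u0 u7 = 0 := cl_0 u7 ⟨hn_7_0, hn_7_1, hn_7_2⟩
                  have z_1_7 : T.a u1 u7 = 0 := cl_1 u7 ⟨hn_7_0, hn_7_1, hn_7_2, hn_7_3⟩
                  have z_2_7 : T.a u2 u7 = 0 := cl_2 u7 ⟨hn_7_0, hn_7_1, hn_7_2, hn_7_3, hn_7_4⟩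
                  have z_3_7 : T.a u3 u7 = 0 := cl_3 u7 ⟨hn_7_0, hn_7_1, hn_7_2, hn_7_3, hn_7_4⟩
                  have z_4_7 : T.a u4 u7 = 0 := cl_4 u7 ⟨hn_7_0, hn_7_1, hn_7_2, hn_7_3, hn_7_4, hn_7_5⟩
                  rcases Groth.Agent.Helper6.NT.edge5 T h2 (by norm_num) u5 u7 hn_7_5.symm e_5_7 with ⟨tw_5_7, tap_5_7, taq_5_7⟩ | ⟨tw_5_7, tap_5_7, taq_5_7⟩ | ⟨tw_5_7, tap_5_7, taq_5_7⟩ | ⟨tw_5_7, tap_5_7, taq_5_7⟩ | ⟨tw_5_7, tap_5_7, taq_5_7⟩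
                  · -- (5,7) S
                    rcases eq_or_ne (T.a u6 u7) 0 with z_6_7 | nz_6_7
                    · -- (6,7) zero
                      have hinj := Groth.Agent.Helper6.NT.inj8 u0 u1 u2 u3 u4 u5 u6 u7 hn_1_0 hn_2_0 hn_2_1 hn_3_0 hn_3_1 hn_3_2 hn_4_0 hn_4_1 hn_4_2 hn_4_3 hn_5_0 hn_5_1 hn_5_2 hn_5_3 hn_5_4 hn_6_0 hn_6_1 hn_6_2 hn_6_3 hn_6_4 hn_6_5 hn_7_0 hn_7_1 hn_7_2 hn_7_3 hn_7_4 hn_7_5 hn_7_6
                      have r_0 : -2 * T.m u0 + 1 * T.m u1 + 1 * T.m u2 = 0 := by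
                        have key := Groth.Agent.Helper6.NT.rowfun8 T u0 u1 u2 u3 u4 u5 u6 u7 hinj u0
                        rw [(h2 u0).2, tap_0_1, tap_0_2, z_0_3, z_0_4, z_0_5, z_0_6, z_0_7] at key
                        exact mul_left_cancel₀ (T.w_pos u0).ne' (by linarith only [key])
                      have r_1 : 1 * T.m u0 + -2 * T.m u1 + 2 * T.m u3 = 0 := by
                        have key := Groth.Agent.Helper6.NT.rowfun8 T u0 u1 u2 u3 u4 u5 u6 u7 hinj u1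
                        rw [Groth.Agent.Helper6.NT.symm' T u1 u0, taq_0_1, (h2 u1).2, z_1_2, tap_1_3, z_1_4, z_1_5, z_1_6, z_1_7] at key
                        exact mul_left_cancel₀ (T.w_pos u1).ne' (by linarith only [key])
                      have r_2 : 1 * T.m u0 + -2 * T.m u2 + 1 * T.m u4 = 0 := by
                        have key := Groth.Agent.Helper6.NT.rowfun8 T u0 u1 u2 u3 u4 u5 u6 u7 hinj u2
                        rw [Groth.Agent.Helper6.NT.symm' T u2 u0, taq_0_2, Groth.Agent.Helper6.NT.symm' T u2 u1, z_1_2, (h2 u2).2, z_2_3, tap_2_4, z_2_5, z_2_6, z_2_7] at key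
                        exact mul_left_cancel₀ (T.w_pos u2).ne' (by linarith only [key])
                      have r_3 : 1 * T.m u1 + -2 * T.m u3 = 0 := by
                        have key := Groth.Agent.Helper6.NT.rowfun8 T u0 u1 u2 u3 u4 u5 u6 u7 hinj u3
                        rw [Groth.Agent.Helper6.NT.symm' T u3 u0, z_0_3, Groth.Agent.Helper6.NT.symm' T u3 u1, taq_1_3, Groth.Agent.Helper6.NT.symm' T u3 u2, z_2_3, (h2 u3).2, z_3_4, z_3_5, z_3_6, z_3_7] at key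
                        exact mul_left_cancel₀ (T.w_pos u3).ne' (by linarith only [key])
                      have r_4 : 1 * T.m u2 + -2 * T.m u4 + 1 * T.m u5 = 0 := by
                        have key := Groth.Agent.Helper6.NT.rowfun8 T u0 u1 u2 u3 u4 u5 u6 u7 hinj u4
                        rw [Groth.Agent.Helper6.NT.symm' T u4 u0, z_0_4, Groth.Agent.Helper6.NT.symm' T u4 u1, z_1_4, Groth.Agent.Helper6.NT.symm' T u4 u2, taq_2_4, Groth.Agent.Helper6.NT.symm' T u4 u3, z_3_4, (h2 u4).2, tap_4_5, z_4_6, z_4_7] at key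
                        exact mul_left_cancel₀ (T.w_pos u4).ne' (by linarith only [key])
                      have r_5 : 1 * T.m u4 + -2 * T.m u5 + 1 * T.m u6 + 1 * T.m u7 = 0 := by
                        have key := Groth.Agent.Helper6.NT.rowfun8 T u0 u1 u2 u3 u4 u5 u6 u7 hinj u5
                        rw [Groth.Agent.Helper6.NT.symm' T u5 u0, z_0_5, Groth.Agent.Helper6.NT.symm' T u5 u1, z_1_5, Groth.Agent.Helper6.NT.symm' T u5 u2, z_2_5, Groth.Agent.Helper6.NT.symm' T u5 u3, z_3_5, Groth.Agent.Helper6.NT.symm' T u5 u4, taq_4_5, (h2 u5).2, tap_5_6, tap_5_7] at key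
                        exact mul_left_cancel₀ (T.w_pos u5).ne' (by linarith only [key])
                      have r_6 : 1 * T.m u5 + -2 * T.m u6 = 0 := by
                        have key := Groth.Agent.Helper6.NT.rowfun8 T u0 u1 u2 u3 u4 u5 u6 u7 hinj u6
                        rw [Groth.Agent.Helper6.NT.symm' T u6 u0, z_0_6, Groth.Agent.Helper6.NT.symm' T u6 u1, z_1_6, Groth.Agent.Helper6.NT.symm' T u6 u2, z_2_6, Groth.Agent.Helper6.NT.symm' T u6 u3, z_3_6, Groth.Agent.Helper6.NT.symm' T u6 u4, z_4_6, Groth.Agent.Helper6.NT.symm' T u6 u5, taq_5_6, (h2 u6).2, z_6_7] at key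
                        exact mul_left_cancel₀ (T.w_pos u6).ne' (by linarith only [key])
                      have r_7 : 1 * T.m u5 + -2 * T.m u7 = 0 := by
                        have key := Groth.Agent.Helper6.NT.rowfun8 T u0 u1 u2 u3 u4 u5 u6 u7 hinj u7
                        rw [Groth.Agent.Helper6.NT.symm' T u7 u0, z_0_7, Groth.Agent.Helper6.NT.symm' T u7 u1, z_1_7, Groth.Agent.Helper6.NT.symm' T u7 u2, z_2_7, Groth.Agent.Helper6.NT.symm' T u7 u3, z_3_7, Groth.Agent.Helper6.NT.symm' T u7 u4, z_4_7, Groth.Agent.Helper6.NT.symm' T u7 u5, taq_5_7, Groth.Agent.Helper6.NT.symm' T u7 u6, z_6_7, (h2 u7).2] at key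
                        exact mul_left_cancel₀ (T.w_pos u7).ne' (by linarith only [key])
                      have f0 : T.m u3 = T.m u3 := rfl
                      have f1 : T.m u1 = 2 * T.m u3 := by linarith only [r_0, r_1, r_2, r_3, r_4, r_5, r_6, r_7]
                      have f2 : T.m u0 = 2 * T.m u3 := by linarith only [r_0, r_1, r_2, r_3, r_4, r_5, r_6, r_7]
                      have f3 : T.m u2 = 2 * T.m u3 := by linarith only [r_0, r_1, r_2, r_3, r_4, r_5, r_6, r_7]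
                      have f4 : T.m u4 = 2 * T.m u3 := by linarith only [r_0, r_1, r_2, r_3, r_4, r_5, r_6, r_7]
                      have f5 : T.m u5 = 2 * T.m u3 := by linarith only [r_0, r_1, r_2, r_3, r_4, r_5, r_6, r_7]
                      have f6 : T.m u6 = T.m u3 := by linarith only [r_0, r_1, r_2, r_3, r_4, r_5, r_6, r_7]
                      have f7 : T.m u7 = T.m u3 := by linarith only [r_0, r_1, r_2, r_3, r_4, r_5, r_6, r_7]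
                      have f8 : T.w u3 = 2 * T.w u1 := by linarith only [tw_0_1, tw_0_2, tw_1_3, tw_2_4, tw_4_5, tw_5_6, tw_5_7]
                      have f9 : T.w u1 = T.w u1 := rfl
                      have f10 : T.w u0 = T.w u1 := by linarith only [tw_0_1, tw_0_2, tw_1_3, tw_2_4, tw_4_5, tw_5_6, tw_5_7]
                      have f11 : T.w u2 = T.w u1 := by linarith only [tw_0_1, tw_0_2, tw_1_3, tw_2_4, tw_4_5, tw_5_6, tw_5_7]
                      have f12 : T.w u4 = T.w u1 := by linarith only [tw_0_1, tw_0_2, tw_1_3, tw_2_4, tw_4_5, tw_5_6, tw_5_7]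
                      have f13 : T.w u5 = T.w u1 := by linarith only [tw_0_1, tw_0_2, tw_1_3, tw_2_4, tw_4_5, tw_5_6, tw_5_7]
                      have f14 : T.w u6 = T.w u1 := by linarith only [tw_0_1, tw_0_2, tw_1_3, tw_2_4, tw_4_5, tw_5_6, tw_5_7]
                      have f15 : T.w u7 = T.w u1 := by linarith only [tw_0_1, tw_0_2, tw_1_3, tw_2_4, tw_4_5, tw_5_6, tw_5_7]
                      have f16 : T.a u3 u3 = -4 * T.w u1 := by have := (h2 u3).2; linarith only [this, tw_0_1, tw_0_2, tw_1_3, tw_2_4, tw_4_5, tw_5_6, tw_5_7]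
                      have f17 : T.a u3 u1 = 2 * T.w u1 := by rw [Groth.Agent.Helper6.NT.symm' T u3 u1]; linarith only [tap_1_3, tw_0_1, tw_0_2, tw_1_3, tw_2_4, tw_4_5, tw_5_6, tw_5_7]
                      have f18 : T.a u3 u0 = 0 := by rw [Groth.Agent.Helper6.NT.symm' T u3 u0]; exact z_0_3
                      have f19 : T.a u3 u2 = 0 := by rw [Groth.Agent.Helper6.NT.symm' T u3 u2]; exact z_2_3
                      have f20 : T.a u3 u4 = 0 := by exact z_3_4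
                      have f21 : T.a u3 u5 = 0 := by exact z_3_5
                      have f22 : T.a u3 u6 = 0 := by exact z_3_6
                      have f23 : T.a u3 u7 = 0 := by exact z_3_7
                      have f24 : T.a u1 u1 = -2 * T.w u1 := by have := (h2 u1).2; linarith only [this, tw_0_1, tw_0_2, tw_1_3, tw_2_4, tw_4_5, tw_5_6, tw_5_7]
                      have f25 : T.a u1 u0 = T.w u1 := by rw [Groth.Agent.Helper6.NT.symm' T u1 u0]; linarith only [tap_0_1, tw_0_1, tw_0_2, tw_1_3, tw_2_4, tw_4_5, tw_5_6, tw_5_7]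
                      have f26 : T.a u1 u2 = 0 := by exact z_1_2
                      have f27 : T.a u1 u4 = 0 := by exact z_1_4
                      have f28 : T.a u1 u5 = 0 := by exact z_1_5
                      have f29 : T.a u1 u6 = 0 := by exact z_1_6
                      have f30 : T.a u1 u7 = 0 := by exact z_1_7
                      have f31 : T.a u0 u0 = -2 * T.w u1 := by have := (h2 u0).2; linarith only [this, tw_0_1, tw_0_2, tw_1_3, tw_2_4, tw_4_5, tw_5_6, tw_5_7]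
                      have f32 : T.a u0 u2 = T.w u1 := by linarith only [tap_0_2, tw_0_1, tw_0_2, tw_1_3, tw_2_4, tw_4_5, tw_5_6, tw_5_7]
                      have f33 : T.a u0 u4 = 0 := by exact z_0_4
                      have f34 : T.a u0 u5 = 0 := by exact z_0_5
                      have f35 : T.a u0 u6 = 0 := by exact z_0_6
                      have f36 : T.a u0 u7 = 0 := by exact z_0_7
                      have f37 : T.a u2 u2 = -2 * T.w u1 := by have := (h2 u2).2; linarith only [this, tw_0_1, tw_0_2, tw_1_3, tw_2_4, tw_4_5, tw_5_6, tw_5_7]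
                      have f38 : T.a u2 u4 = T.w u1 := by linarith only [tap_2_4, tw_0_1, tw_0_2, tw_1_3, tw_2_4, tw_4_5, tw_5_6, tw_5_7]
                      have f39 : T.a u2 u5 = 0 := by exact z_2_5
                      have f40 : T.a u2 u6 = 0 := by exact z_2_6
                      have f41 : T.a u2 u7 = 0 := by exact z_2_7
                      have f42 : T.a u4 u4 = -2 * T.w u1 := by have := (h2 u4).2; linarith only [this, tw_0_1, tw_0_2, tw_1_3, tw_2_4, tw_4_5, tw_5_6, tw_5_7]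
                      have f43 : T.a u4 u5 = T.w u1 := by linarith only [tap_4_5, tw_0_1, tw_0_2, tw_1_3, tw_2_4, tw_4_5, tw_5_6, tw_5_7]
                      have f44 : T.a u4 u6 = 0 := by exact z_4_6
                      have f45 : T.a u4 u7 = 0 := by exact z_4_7
                      have f46 : T.a u5 u5 = -2 * T.w u1 := by have := (h2 u5).2; linarith only [this, tw_0_1, tw_0_2, tw_1_3, tw_2_4, tw_4_5, tw_5_6, tw_5_7]
                      have f47 : T.a u5 u6 = T.w u1 := by linarith only [tap_5_6, tw_0_1, tw_0_2, tw_1_3, tw_2_4, tw_4_5, tw_5_6, tw_5_7]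
                      have f48 : T.a u5 u7 = T.w u1 := by linarith only [tap_5_7, tw_0_1, tw_0_2, tw_1_3, tw_2_4, tw_4_5, tw_5_6, tw_5_7]
                      have f49 : T.a u6 u6 = -2 * T.w u1 := by have := (h2 u6).2; linarith only [this, tw_0_1, tw_0_2, tw_1_3, tw_2_4, tw_4_5, tw_5_6, tw_5_7]
                      have f50 : T.a u6 u7 = 0 := by exact z_6_7
                      have f51 : T.a u7 u7 = -2 * T.w u1 := by have := (h2 u7).2; linarith only [this, tw_0_1, tw_0_2, tw_1_3, tw_2_4, tw_4_5, tw_5_6, tw_5_7]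
                      have hsig := Groth.Agent.Helper6.NT.inj8 u3 u1 u0 u2 u4 u5 u6 u7 hn_3_1.symm hn_3_0.symm hn_1_0.symm hn_3_2.symm hn_2_1 hn_2_0 hn_4_3 hn_4_1 hn_4_0 hn_4_2 hn_5_3 hn_5_1 hn_5_0 hn_5_2 hn_5_4 hn_6_3 hn_6_1 hn_6_0 hn_6_2 hn_6_4 hn_6_5 hn_7_3 hn_7_1 hn_7_0 hn_7_2 hn_7_4 hn_7_5 hn_7_6
                      exact ⟨Equiv.ofBijective _ (Finite.injective_iff_bijective.1 hsig), T.m u3, T.w u1, Or.inr (Or.inr (Or.inr (Or.inr (Or.inl ⟨f0, f1, f2, f3, f4, f5, f6, f7, f8, f9, f10, f11, f12, f13, f14, f15, f16, f17, f18, f19, f20, f21, f22, f23, f24, f25, f26, f27, f28, f29, f30, f31, f32, f33, f34, f35, f36, f37, f38, f39, f40, f41, f42, f43, f44, f45, f46, f47, f48, f49, f50, f51⟩))))⟩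
                    · -- (6,7) nonzero
                      obtain ⟨lbp_6_7, lbq_6_7⟩ := Groth.Agent.Helper6.NT.lb T u6 u7 hn_7_6.symm nz_6_7
                      exfalso
                      have key := Groth.Agent.Helper6.NT.negfun3 T h2 u5 u6 u7 (by norm_num) 1 1 1 (by norm_num) (by norm_num)
                      linarith only [key, tap_5_6, taq_5_6, tap_5_7, taq_5_7, lbp_6_7, lbq_6_7, T.w_pos u5, T.w_pos u6, T.w_pos u7]
                  · -- (5,7) Dp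
                    exfalso
                    have key := Groth.Agent.Helper6.NT.negfun4 T h2 u4 u5 u6 u7 (by norm_num) 1 2 1 1 (by norm_num) (by norm_num)
                    linarith only [key, tap_4_5, taq_4_5, z_4_6, z_4_7, tap_5_6, taq_5_6, tap_5_7, taq_5_7, T.offDiag_nonneg u6 u7 hn_7_6.symm, T.w_pos u4, T.w_pos u5, T.w_pos u6, T.w_pos u7]
                  · -- (5,7) Dm
                    exfalso
                    have key := Groth.Agent.Helper6.NT.negfun4 T h2 u4 u5 u6 u7 (by norm_num) 1 2 1 2 (by norm_num) (by norm_num)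
                    linarith only [key, tap_4_5, taq_4_5, z_4_6, z_4_7, tap_5_6, taq_5_6, tap_5_7, taq_5_7, T.offDiag_nonneg u6 u7 hn_7_6.symm, T.w_pos u4, T.w_pos u5, T.w_pos u6, T.w_pos u7]
                  · -- (5,7) Tp
                    exfalso
                    have key := Groth.Agent.Helper6.NT.negfun3 T h2 u5 u6 u7 (by norm_num) 2 1 1 (by norm_num) (by norm_num)
                    linarith only [key, tap_5_6, taq_5_6, tap_5_7, taq_5_7, T.offDiag_nonneg u6 u7 hn_7_6.symm, T.w_pos u5, T.w_pos u6, T.w_pos u7]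
                  · -- (5,7) Tm
                    exfalso
                    have key := Groth.Agent.Helper6.NT.negfun3 T h2 u5 u6 u7 (by norm_num) 2 1 3 (by norm_num) (by norm_num)
                    linarith only [key, tap_5_6, taq_5_6, tap_5_7, taq_5_7, T.offDiag_nonneg u6 u7 hn_7_6.symm, T.w_pos u5, T.w_pos u6, T.w_pos u7]
                · push Not at hx
                  have cl_5 := hx
                  clear hx
                  by_cases hx : ∃ j, (j ≠ u0 ∧ j ≠ u1 ∧ j ≠ u2 ∧ j ≠ u3 ∧ j ≠ u4 ∧ j ≠ u5 ∧ j ≠ u6) ∧ T.a u6 j ≠ 0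
                  · obtain ⟨u7, ⟨hn_7_0, hn_7_1, hn_7_2, hn_7_3, hn_7_4, hn_7_5, hn_7_6⟩, e_6_7⟩ := hx
                    have z_0_7 : T.a u0 u7 = 0 := cl_0 u7 ⟨hn_7_0, hn_7_1, hn_7_2⟩
                    have z_1_7 : T.a u1 u7 = 0 := cl_1 u7 ⟨hn_7_0, hn_7_1, hn_7_2, hn_7_3⟩
                    have z_2_7 : T.a u2 u7 = 0 := cl_2 u7 ⟨hn_7_0, hn_7_1, hn_7_2, hn_7_3, hn_7_4⟩
                    have z_3_7 : T.a u3 u7 = 0 := cl_3 u7 ⟨hn_7_0, hn_7_1, hn_7_2, hn_7_3, hn_7_4⟩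
                    have z_4_7 : T.a u4 u7 = 0 := cl_4 u7 ⟨hn_7_0, hn_7_1, hn_7_2, hn_7_3, hn_7_4, hn_7_5⟩
                    have z_5_7 : T.a u5 u7 = 0 := cl_5 u7 ⟨hn_7_0, hn_7_1, hn_7_2, hn_7_3, hn_7_4, hn_7_5, hn_7_6⟩
                    rcases Groth.Agent.Helper6.NT.edge5 T h2 (by norm_num) u6 u7 hn_7_6.symm e_6_7 with ⟨tw_6_7, tap_6_7, taq_6_7⟩ | ⟨tw_6_7, tap_6_7, taq_6_7⟩ | ⟨tw_6_7, tap_6_7, taq_6_7⟩ | ⟨tw_6_7, tap_6_7, taq_6_7⟩ | ⟨tw_6_7, tap_6_7, taq_6_7⟩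
                    · -- (6,7) S
                      have hinj := Groth.Agent.Helper6.NT.inj8 u0 u1 u2 u3 u4 u5 u6 u7 hn_1_0 hn_2_0 hn_2_1 hn_3_0 hn_3_1 hn_3_2 hn_4_0 hn_4_1 hn_4_2 hn_4_3 hn_5_0 hn_5_1 hn_5_2 hn_5_3 hn_5_4 hn_6_0 hn_6_1 hn_6_2 hn_6_3 hn_6_4 hn_6_5 hn_7_0 hn_7_1 hn_7_2 hn_7_3 hn_7_4 hn_7_5 hn_7_6
                      have r_0 : -2 * T.m u0 + 1 * T.m u1 + 1 * T.m u2 = 0 := by
                        have key := Groth.Agent.Helper6.NT.rowfun8 T u0 u1 u2 u3 u4 u5 u6 u7 hinj u0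
                        rw [(h2 u0).2, tap_0_1, tap_0_2, z_0_3, z_0_4, z_0_5, z_0_6, z_0_7] at key
                        exact mul_left_cancel₀ (T.w_pos u0).ne' (by linarith only [key])
                      have r_1 : 1 * T.m u0 + -2 * T.m u1 + 2 * T.m u3 = 0 := by
                        have key := Groth.Agent.Helper6.NT.rowfun8 T u0 u1 u2 u3 u4 u5 u6 u7 hinj u1
                        rw [Groth.Agent.Helper6.NT.symm' T u1 u0, taq_0_1, (h2 u1).2, z_1_2, tap_1_3, z_1_4, z_1_5, z_1_6, z_1_7] at key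
                        exact mul_left_cancel₀ (T.w_pos u1).ne' (by linarith only [key])
                      have r_2 : 1 * T.m u0 + -2 * T.m u2 + 1 * T.m u4 = 0 := by
                        have key := Groth.Agent.Helper6.NT.rowfun8 T u0 u1 u2 u3 u4 u5 u6 u7 hinj u2
                        rw [Groth.Agent.Helper6.NT.symm' T u2 u0, taq_0_2, Groth.Agent.Helper6.NT.symm' T u2 u1, z_1_2, (h2 u2).2, z_2_3, tap_2_4, z_2_5, z_2_6, z_2_7] at key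
                        exact mul_left_cancel₀ (T.w_pos u2).ne' (by linarith only [key])
                      have r_3 : 1 * T.m u1 + -2 * T.m u3 = 0 := by
                        have key := Groth.Agent.Helper6.NT.rowfun8 T u0 u1 u2 u3 u4 u5 u6 u7 hinj u3
                        rw [Groth.Agent.Helper6.NT.symm' T u3 u0, z_0_3, Groth.Agent.Helper6.NT.symm' T u3 u1, taq_1_3, Groth.Agent.Helper6.NT.symm' T u3 u2, z_2_3, (h2 u3).2, z_3_4, z_3_5, z_3_6, z_3_7] at key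
                        exact mul_left_cancel₀ (T.w_pos u3).ne' (by linarith only [key])
                      have r_4 : 1 * T.m u2 + -2 * T.m u4 + 1 * T.m u5 = 0 := by
                        have key := Groth.Agent.Helper6.NT.rowfun8 T u0 u1 u2 u3 u4 u5 u6 u7 hinj u4
                        rw [Groth.Agent.Helper6.NT.symm' T u4 u0, z_0_4, Groth.Agent.Helper6.NT.symm' T u4 u1, z_1_4, Groth.Agent.Helper6.NT.symm' T u4 u2, taq_2_4, Groth.Agent.Helper6.NT.symm' T u4 u3, z_3_4, (h2 u4).2, tap_4_5, z_4_6, z_4_7] at key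
                        exact mul_left_cancel₀ (T.w_pos u4).ne' (by linarith only [key])
                      have r_5 : 1 * T.m u4 + -2 * T.m u5 + 1 * T.m u6 = 0 := by
                        have key := Groth.Agent.Helper6.NT.rowfun8 T u0 u1 u2 u3 u4 u5 u6 u7 hinj u5
                        rw [Groth.Agent.Helper6.NT.symm' T u5 u0, z_0_5, Groth.Agent.Helper6.NT.symm' T u5 u1, z_1_5, Groth.Agent.Helper6.NT.symm' T u5 u2, z_2_5, Groth.Agent.Helper6.NT.symm' T u5 u3, z_3_5, Groth.Agent.Helper6.NT.symm' T u5 u4, taq_4_5, (h2 u5).2, tap_5_6, z_5_7] at key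
                        exact mul_left_cancel₀ (T.w_pos u5).ne' (by linarith only [key])
                      have r_6 : 1 * T.m u5 + -2 * T.m u6 + 1 * T.m u7 = 0 := by
                        have key := Groth.Agent.Helper6.NT.rowfun8 T u0 u1 u2 u3 u4 u5 u6 u7 hinj u6
                        rw [Groth.Agent.Helper6.NT.symm' T u6 u0, z_0_6, Groth.Agent.Helper6.NT.symm' T u6 u1, z_1_6, Groth.Agent.Helper6.NT.symm' T u6 u2, z_2_6, Groth.Agent.Helper6.NT.symm' T u6 u3, z_3_6, Groth.Agent.Helper6.NT.symm' T u6 u4, z_4_6, Groth.Agent.Helper6.NT.symm' T u6 u5, taq_5_6, (h2 u6).2, tap_6_7] at key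
                        exact mul_left_cancel₀ (T.w_pos u6).ne' (by linarith only [key])
                      have r_7 : 1 * T.m u6 + -2 * T.m u7 = 0 := by
                        have key := Groth.Agent.Helper6.NT.rowfun8 T u0 u1 u2 u3 u4 u5 u6 u7 hinj u7
                        rw [Groth.Agent.Helper6.NT.symm' T u7 u0, z_0_7, Groth.Agent.Helper6.NT.symm' T u7 u1, z_1_7, Groth.Agent.Helper6.NT.symm' T u7 u2, z_2_7, Groth.Agent.Helper6.NT.symm' T u7 u3, z_3_7, Groth.Agent.Helper6.NT.symm' T u7 u4, z_4_7, Groth.Agent.Helper6.NT.symm' T u7 u5, z_5_7, Groth.Agent.Helper6.NT.symm' T u7 u6, taq_6_7, (h2 u7).2] at key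
                        exact mul_left_cancel₀ (T.w_pos u7).ne' (by linarith only [key])
                      exfalso
                      linarith only [r_0, r_1, r_2, r_3, r_4, r_5, r_6, r_7, T.m_pos u0, T.m_pos u1, T.m_pos u2, T.m_pos u3, T.m_pos u4, T.m_pos u5, T.m_pos u6, T.m_pos u7]
                    · -- (6,7) Dp
                      have hinj := Groth.Agent.Helper6.NT.inj8 u0 u1 u2 u3 u4 u5 u6 u7 hn_1_0 hn_2_0 hn_2_1 hn_3_0 hn_3_1 hn_3_2 hn_4_0 hn_4_1 hn_4_2 hn_4_3 hn_5_0 hn_5_1 hn_5_2 hn_5_3 hn_5_4 hn_6_0 hn_6_1 hn_6_2 hn_6_3 hn_6_4 hn_6_5 hn_7_0 hn_7_1 hn_7_2 hn_7_3 hn_7_4 hn_7_5 hn_7_6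
                      have r_0 : -2 * T.m u0 + 1 * T.m u1 + 1 * T.m u2 = 0 := by
                        have key := Groth.Agent.Helper6.NT.rowfun8 T u0 u1 u2 u3 u4 u5 u6 u7 hinj u0
                        rw [(h2 u0).2, tap_0_1, tap_0_2, z_0_3, z_0_4, z_0_5, z_0_6, z_0_7] at key
                        exact mul_left_cancel₀ (T.w_pos u0).ne' (by linarith only [key])
                      have r_1 : 1 * T.m u0 + -2 * T.m u1 + 2 * T.m u3 = 0 := by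
                        have key := Groth.Agent.Helper6.NT.rowfun8 T u0 u1 u2 u3 u4 u5 u6 u7 hinj u1
                        rw [Groth.Agent.Helper6.NT.symm' T u1 u0, taq_0_1, (h2 u1).2, z_1_2, tap_1_3, z_1_4, z_1_5, z_1_6, z_1_7] at key
                        exact mul_left_cancel₀ (T.w_pos u1).ne' (by linarith only [key])
                      have r_2 : 1 * T.m u0 + -2 * T.m u2 + 1 * T.m u4 = 0 := by
                        have key := Groth.Agent.Helper6.NT.rowfun8 T u0 u1 u2 u3 u4 u5 u6 u7 hinj u2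
                        rw [Groth.Agent.Helper6.NT.symm' T u2 u0, taq_0_2, Groth.Agent.Helper6.NT.symm' T u2 u1, z_1_2, (h2 u2).2, z_2_3, tap_2_4, z_2_5, z_2_6, z_2_7] at key
                        exact mul_left_cancel₀ (T.w_pos u2).ne' (by linarith only [key])
                      have r_3 : 1 * T.m u1 + -2 * T.m u3 = 0 := by
                        have key := Groth.Agent.Helper6.NT.rowfun8 T u0 u1 u2 u3 u4 u5 u6 u7 hinj u3
                        rw [Groth.Agent.Helper6.NT.symm' T u3 u0, z_0_3, Groth.Agent.Helper6.NT.symm' T u3 u1, taq_1_3, Groth.Agent.Helper6.NT.symm' T u3 u2, z_2_3, (h2 u3).2, z_3_4, z_3_5, z_3_6, z_3_7] at key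
                        exact mul_left_cancel₀ (T.w_pos u3).ne' (by linarith only [key])
                      have r_4 : 1 * T.m u2 + -2 * T.m u4 + 1 * T.m u5 = 0 := by
                        have key := Groth.Agent.Helper6.NT.rowfun8 T u0 u1 u2 u3 u4 u5 u6 u7 hinj u4
                        rw [Groth.Agent.Helper6.NT.symm' T u4 u0, z_0_4, Groth.Agent.Helper6.NT.symm' T u4 u1, z_1_4, Groth.Agent.Helper6.NT.symm' T u4 u2, taq_2_4, Groth.Agent.Helper6.NT.symm' T u4 u3, z_3_4, (h2 u4).2, tap_4_5, z_4_6, z_4_7] at key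
                        exact mul_left_cancel₀ (T.w_pos u4).ne' (by linarith only [key])
                      have r_5 : 1 * T.m u4 + -2 * T.m u5 + 1 * T.m u6 = 0 := by
                        have key := Groth.Agent.Helper6.NT.rowfun8 T u0 u1 u2 u3 u4 u5 u6 u7 hinj u5
                        rw [Groth.Agent.Helper6.NT.symm' T u5 u0, z_0_5, Groth.Agent.Helper6.NT.symm' T u5 u1, z_1_5, Groth.Agent.Helper6.NT.symm' T u5 u2, z_2_5, Groth.Agent.Helper6.NT.symm' T u5 u3, z_3_5, Groth.Agent.Helper6.NT.symm' T u5 u4, taq_4_5, (h2 u5).2, tap_5_6, z_5_7] at key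
                        exact mul_left_cancel₀ (T.w_pos u5).ne' (by linarith only [key])
                      have r_6 : 1 * T.m u5 + -2 * T.m u6 + 2 * T.m u7 = 0 := by
                        have key := Groth.Agent.Helper6.NT.rowfun8 T u0 u1 u2 u3 u4 u5 u6 u7 hinj u6
                        rw [Groth.Agent.Helper6.NT.symm' T u6 u0, z_0_6, Groth.Agent.Helper6.NT.symm' T u6 u1, z_1_6, Groth.Agent.Helper6.NT.symm' T u6 u2, z_2_6, Groth.Agent.Helper6.NT.symm' T u6 u3, z_3_6, Groth.Agent.Helper6.NT.symm' T u6 u4, z_4_6, Groth.Agent.Helper6.NT.symm' T u6 u5, taq_5_6, (h2 u6).2, tap_6_7] at key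
                        exact mul_left_cancel₀ (T.w_pos u6).ne' (by linarith only [key])
                      have r_7 : 1 * T.m u6 + -2 * T.m u7 = 0 := by
                        have key := Groth.Agent.Helper6.NT.rowfun8 T u0 u1 u2 u3 u4 u5 u6 u7 hinj u7
                        rw [Groth.Agent.Helper6.NT.symm' T u7 u0, z_0_7, Groth.Agent.Helper6.NT.symm' T u7 u1, z_1_7, Groth.Agent.Helper6.NT.symm' T u7 u2, z_2_7, Groth.Agent.Helper6.NT.symm' T u7 u3, z_3_7, Groth.Agent.Helper6.NT.symm' T u7 u4, z_4_7, Groth.Agent.Helper6.NT.symm' T u7 u5, z_5_7, Groth.Agent.Helper6.NT.symm' T u7 u6, taq_6_7, (h2 u7).2] at key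
                        exact mul_left_cancel₀ (T.w_pos u7).ne' (by linarith only [key])
                      have f0 : T.m u3 = T.m u3 := rfl
                      have f1 : T.m u1 = 2 * T.m u3 := by linarith only [r_0, r_1, r_2, r_3, r_4, r_5, r_6, r_7]
                      have f2 : T.m u0 = 2 * T.m u3 := by linarith only [r_0, r_1, r_2, r_3, r_4, r_5, r_6, r_7]
                      have f3 : T.m u2 = 2 * T.m u3 := by linarith only [r_0, r_1, r_2, r_3, r_4, r_5, r_6, r_7]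
                      have f4 : T.m u4 = 2 * T.m u3 := by linarith only [r_0, r_1, r_2, r_3, r_4, r_5, r_6, r_7]
                      have f5 : T.m u5 = 2 * T.m u3 := by linarith only [r_0, r_1, r_2, r_3, r_4, r_5, r_6, r_7]
                      have f6 : T.m u6 = 2 * T.m u3 := by linarith only [r_0, r_1, r_2, r_3, r_4, r_5, r_6, r_7]
                      have f7 : T.m u7 = T.m u3 := by linarith only [r_0, r_1, r_2, r_3, r_4, r_5, r_6, r_7]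
                      have f8 : T.w u3 = 2 * T.w u1 := by linarith only [tw_0_1, tw_0_2, tw_1_3, tw_2_4, tw_4_5, tw_5_6, tw_6_7]
                      have f9 : T.w u1 = T.w u1 := rfl
                      have f10 : T.w u0 = T.w u1 := by linarith only [tw_0_1, tw_0_2, tw_1_3, tw_2_4, tw_4_5, tw_5_6, tw_6_7]
                      have f11 : T.w u2 = T.w u1 := by linarith only [tw_0_1, tw_0_2, tw_1_3, tw_2_4, tw_4_5, tw_5_6, tw_6_7]
                      have f12 : T.w u4 = T.w u1 := by linarith only [tw_0_1, tw_0_2, tw_1_3, tw_2_4, tw_4_5, tw_5_6, tw_6_7]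
                      have f13 : T.w u5 = T.w u1 := by linarith only [tw_0_1, tw_0_2, tw_1_3, tw_2_4, tw_4_5, tw_5_6, tw_6_7]
                      have f14 : T.w u6 = T.w u1 := by linarith only [tw_0_1, tw_0_2, tw_1_3, tw_2_4, tw_4_5, tw_5_6, tw_6_7]
                      have f15 : T.w u7 = 2 * T.w u1 := by linarith only [tw_0_1, tw_0_2, tw_1_3, tw_2_4, tw_4_5, tw_5_6, tw_6_7]
                      have f16 : T.a u3 u3 = -4 * T.w u1 := by have := (h2 u3).2; linarith only [this, tw_0_1, tw_0_2, tw_1_3, tw_2_4, tw_4_5, tw_5_6, tw_6_7]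
                      have f17 : T.a u3 u1 = 2 * T.w u1 := by rw [Groth.Agent.Helper6.NT.symm' T u3 u1]; linarith only [tap_1_3, tw_0_1, tw_0_2, tw_1_3, tw_2_4, tw_4_5, tw_5_6, tw_6_7]
                      have f18 : T.a u3 u0 = 0 := by rw [Groth.Agent.Helper6.NT.symm' T u3 u0]; exact z_0_3
                      have f19 : T.a u3 u2 = 0 := by rw [Groth.Agent.Helper6.NT.symm' T u3 u2]; exact z_2_3
                      have f20 : T.a u3 u4 = 0 := by exact z_3_4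
                      have f21 : T.a u3 u5 = 0 := by exact z_3_5
                      have f22 : T.a u3 u6 = 0 := by exact z_3_6
                      have f23 : T.a u3 u7 = 0 := by exact z_3_7
                      have f24 : T.a u1 u1 = -2 * T.w u1 := by have := (h2 u1).2; linarith only [this, tw_0_1, tw_0_2, tw_1_3, tw_2_4, tw_4_5, tw_5_6, tw_6_7]
                      have f25 : T.a u1 u0 = T.w u1 := by rw [Groth.Agent.Helper6.NT.symm' T u1 u0]; linarith only [tap_0_1, tw_0_1, tw_0_2, tw_1_3, tw_2_4, tw_4_5, tw_5_6, tw_6_7]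
                      have f26 : T.a u1 u2 = 0 := by exact z_1_2
                      have f27 : T.a u1 u4 = 0 := by exact z_1_4
                      have f28 : T.a u1 u5 = 0 := by exact z_1_5
                      have f29 : T.a u1 u6 = 0 := by exact z_1_6
                      have f30 : T.a u1 u7 = 0 := by exact z_1_7
                      have f31 : T.a u0 u0 = -2 * T.w u1 := by have := (h2 u0).2; linarith only [this, tw_0_1, tw_0_2, tw_1_3, tw_2_4, tw_4_5, tw_5_6, tw_6_7]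
                      have f32 : T.a u0 u2 = T.w u1 := by linarith only [tap_0_2, tw_0_1, tw_0_2, tw_1_3, tw_2_4, tw_4_5, tw_5_6, tw_6_7]
                      have f33 : T.a u0 u4 = 0 := by exact z_0_4
                      have f34 : T.a u0 u5 = 0 := by exact z_0_5
                      have f35 : T.a u0 u6 = 0 := by exact z_0_6
                      have f36 : T.a u0 u7 = 0 := by exact z_0_7
                      have f37 : T.a u2 u2 = -2 * T.w u1 := by have := (h2 u2).2; linarith only [this, tw_0_1, tw_0_2, tw_1_3, tw_2_4, tw_4_5, tw_5_6, tw_6_7]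
                      have f38 : T.a u2 u4 = T.w u1 := by linarith only [tap_2_4, tw_0_1, tw_0_2, tw_1_3, tw_2_4, tw_4_5, tw_5_6, tw_6_7]
                      have f39 : T.a u2 u5 = 0 := by exact z_2_5
                      have f40 : T.a u2 u6 = 0 := by exact z_2_6
                      have f41 : T.a u2 u7 = 0 := by exact z_2_7
                      have f42 : T.a u4 u4 = -2 * T.w u1 := by have := (h2 u4).2; linarith only [this, tw_0_1, tw_0_2, tw_1_3, tw_2_4, tw_4_5, tw_5_6, tw_6_7]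
                      have f43 : T.a u4 u5 = T.w u1 := by linarith only [tap_4_5, tw_0_1, tw_0_2, tw_1_3, tw_2_4, tw_4_5, tw_5_6, tw_6_7]
                      have f44 : T.a u4 u6 = 0 := by exact z_4_6
                      have f45 : T.a u4 u7 = 0 := by exact z_4_7
                      have f46 : T.a u5 u5 = -2 * T.w u1 := by have := (h2 u5).2; linarith only [this, tw_0_1, tw_0_2, tw_1_3, tw_2_4, tw_4_5, tw_5_6, tw_6_7]
                      have f47 : T.a u5 u6 = T.w u1 := by linarith only [tap_5_6, tw_0_1, tw_0_2, tw_1_3, tw_2_4, tw_4_5, tw_5_6, tw_6_7]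
                      have f48 : T.a u5 u7 = 0 := by exact z_5_7
                      have f49 : T.a u6 u6 = -2 * T.w u1 := by have := (h2 u6).2; linarith only [this, tw_0_1, tw_0_2, tw_1_3, tw_2_4, tw_4_5, tw_5_6, tw_6_7]
                      have f50 : T.a u6 u7 = 2 * T.w u1 := by linarith only [tap_6_7, tw_0_1, tw_0_2, tw_1_3, tw_2_4, tw_4_5, tw_5_6, tw_6_7]
                      have f51 : T.a u7 u7 = -4 * T.w u1 := by have := (h2 u7).2; linarith only [this, tw_0_1, tw_0_2, tw_1_3, tw_2_4, tw_4_5, tw_5_6, tw_6_7]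
                      have hsig := Groth.Agent.Helper6.NT.inj8 u3 u1 u0 u2 u4 u5 u6 u7 hn_3_1.symm hn_3_0.symm hn_1_0.symm hn_3_2.symm hn_2_1 hn_2_0 hn_4_3 hn_4_1 hn_4_0 hn_4_2 hn_5_3 hn_5_1 hn_5_0 hn_5_2 hn_5_4 hn_6_3 hn_6_1 hn_6_0 hn_6_2 hn_6_4 hn_6_5 hn_7_3 hn_7_1 hn_7_0 hn_7_2 hn_7_4 hn_7_5 hn_7_6
                      exact ⟨Equiv.ofBijective _ (Finite.injective_iff_bijective.1 hsig), T.m u3, T.w u1, Or.inr (Or.inr (Or.inr (Or.inl ⟨f0, f1, f2, f3, f4, f5, f6, f7, f8, f9, f10, f11, f12, f13, f14, f15, f16, f17, f18, f19, f20, f21, f22, f23, f24, f25, f26, f27, f28, f29, f30, f31, f32, f33, f34, f35, f36, f37, f38, f39, f40, f41, f42, f43, f44, f45, f46, f47, f48, f49, f50, f51⟩)))⟩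
                    · -- (6,7) Dm
                      have hinj := Groth.Agent.Helper6.NT.inj8 u0 u1 u2 u3 u4 u5 u6 u7 hn_1_0 hn_2_0 hn_2_1 hn_3_0 hn_3_1 hn_3_2 hn_4_0 hn_4_1 hn_4_2 hn_4_3 hn_5_0 hn_5_1 hn_5_2 hn_5_3 hn_5_4 hn_6_0 hn_6_1 hn_6_2 hn_6_3 hn_6_4 hn_6_5 hn_7_0 hn_7_1 hn_7_2 hn_7_3 hn_7_4 hn_7_5 hn_7_6
                      have r_0 : -2 * T.m u0 + 1 * T.m u1 + 1 * T.m u2 = 0 := by
                        have key := Groth.Agent.Helper6.NT.rowfun8 T u0 u1 u2 u3 u4 u5 u6 u7 hinj u0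
                        rw [(h2 u0).2, tap_0_1, tap_0_2, z_0_3, z_0_4, z_0_5, z_0_6, z_0_7] at key
                        exact mul_left_cancel₀ (T.w_pos u0).ne' (by linarith only [key])
                      have r_1 : 1 * T.m u0 + -2 * T.m u1 + 2 * T.m u3 = 0 := by
                        have key := Groth.Agent.Helper6.NT.rowfun8 T u0 u1 u2 u3 u4 u5 u6 u7 hinj u1
                        rw [Groth.Agent.Helper6.NT.symm' T u1 u0, taq_0_1, (h2 u1).2, z_1_2, tap_1_3, z_1_4, z_1_5, z_1_6, z_1_7] at key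
                        exact mul_left_cancel₀ (T.w_pos u1).ne' (by linarith only [key])
                      have r_2 : 1 * T.m u0 + -2 * T.m u2 + 1 * T.m u4 = 0 := by
                        have key := Groth.Agent.Helper6.NT.rowfun8 T u0 u1 u2 u3 u4 u5 u6 u7 hinj u2
                        rw [Groth.Agent.Helper6.NT.symm' T u2 u0, taq_0_2, Groth.Agent.Helper6.NT.symm' T u2 u1, z_1_2, (h2 u2).2, z_2_3, tap_2_4, z_2_5, z_2_6, z_2_7] at key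
                        exact mul_left_cancel₀ (T.w_pos u2).ne' (by linarith only [key])
                      have r_3 : 1 * T.m u1 + -2 * T.m u3 = 0 := by
                        have key := Groth.Agent.Helper6.NT.rowfun8 T u0 u1 u2 u3 u4 u5 u6 u7 hinj u3
                        rw [Groth.Agent.Helper6.NT.symm' T u3 u0, z_0_3, Groth.Agent.Helper6.NT.symm' T u3 u1, taq_1_3, Groth.Agent.Helper6.NT.symm' T u3 u2, z_2_3, (h2 u3).2, z_3_4, z_3_5, z_3_6, z_3_7] at key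
                        exact mul_left_cancel₀ (T.w_pos u3).ne' (by linarith only [key])
                      have r_4 : 1 * T.m u2 + -2 * T.m u4 + 1 * T.m u5 = 0 := by
                        have key := Groth.Agent.Helper6.NT.rowfun8 T u0 u1 u2 u3 u4 u5 u6 u7 hinj u4
                        rw [Groth.Agent.Helper6.NT.symm' T u4 u0, z_0_4, Groth.Agent.Helper6.NT.symm' T u4 u1, z_1_4, Groth.Agent.Helper6.NT.symm' T u4 u2, taq_2_4, Groth.Agent.Helper6.NT.symm' T u4 u3, z_3_4, (h2 u4).2, tap_4_5, z_4_6, z_4_7] at key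
                        exact mul_left_cancel₀ (T.w_pos u4).ne' (by linarith only [key])
                      have r_5 : 1 * T.m u4 + -2 * T.m u5 + 1 * T.m u6 = 0 := by
                        have key := Groth.Agent.Helper6.NT.rowfun8 T u0 u1 u2 u3 u4 u5 u6 u7 hinj u5
                        rw [Groth.Agent.Helper6.NT.symm' T u5 u0, z_0_5, Groth.Agent.Helper6.NT.symm' T u5 u1, z_1_5, Groth.Agent.Helper6.NT.symm' T u5 u2, z_2_5, Groth.Agent.Helper6.NT.symm' T u5 u3, z_3_5, Groth.Agent.Helper6.NT.symm' T u5 u4, taq_4_5, (h2 u5).2, tap_5_6, z_5_7] at key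
                        exact mul_left_cancel₀ (T.w_pos u5).ne' (by linarith only [key])
                      have r_6 : 1 * T.m u5 + -2 * T.m u6 + 1 * T.m u7 = 0 := by
                        have key := Groth.Agent.Helper6.NT.rowfun8 T u0 u1 u2 u3 u4 u5 u6 u7 hinj u6
                        rw [Groth.Agent.Helper6.NT.symm' T u6 u0, z_0_6, Groth.Agent.Helper6.NT.symm' T u6 u1, z_1_6, Groth.Agent.Helper6.NT.symm' T u6 u2, z_2_6, Groth.Agent.Helper6.NT.symm' T u6 u3, z_3_6, Groth.Agent.Helper6.NT.symm' T u6 u4, z_4_6, Groth.Agent.Helper6.NT.symm' T u6 u5, taq_5_6, (h2 u6).2, tap_6_7] at key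
                        exact mul_left_cancel₀ (T.w_pos u6).ne' (by linarith only [key])
                      have r_7 : 2 * T.m u6 + -2 * T.m u7 = 0 := by
                        have key := Groth.Agent.Helper6.NT.rowfun8 T u0 u1 u2 u3 u4 u5 u6 u7 hinj u7
                        rw [Groth.Agent.Helper6.NT.symm' T u7 u0, z_0_7, Groth.Agent.Helper6.NT.symm' T u7 u1, z_1_7, Groth.Agent.Helper6.NT.symm' T u7 u2, z_2_7, Groth.Agent.Helper6.NT.symm' T u7 u3, z_3_7, Groth.Agent.Helper6.NT.symm' T u7 u4, z_4_7, Groth.Agent.Helper6.NT.symm' T u7 u5, z_5_7, Groth.Agent.Helper6.NT.symm' T u7 u6, taq_6_7, (h2 u7).2] at key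
                        exact mul_left_cancel₀ (T.w_pos u7).ne' (by linarith only [key])
                      have f0 : T.m u7 = 2 * T.m u3 := by linarith only [r_0, r_1, r_2, r_3, r_4, r_5, r_6, r_7]
                      have f1 : T.m u6 = 2 * T.m u3 := by linarith only [r_0, r_1, r_2, r_3, r_4, r_5, r_6, r_7]
                      have f2 : T.m u5 = 2 * T.m u3 := by linarith only [r_0, r_1, r_2, r_3, r_4, r_5, r_6, r_7]
                      have f3 : T.m u4 = 2 * T.m u3 := by linarith only [r_0, r_1, r_2, r_3, r_4, r_5, r_6, r_7]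
                      have f4 : T.m u2 = 2 * T.m u3 := by linarith only [r_0, r_1, r_2, r_3, r_4, r_5, r_6, r_7]
                      have f5 : T.m u0 = 2 * T.m u3 := by linarith only [r_0, r_1, r_2, r_3, r_4, r_5, r_6, r_7]
                      have f6 : T.m u1 = 2 * T.m u3 := by linarith only [r_0, r_1, r_2, r_3, r_4, r_5, r_6, r_7]
                      have f7 : T.m u3 = T.m u3 := rfl
                      have f8 : T.w u7 = T.w u7 := rfl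
                      have f9 : T.w u6 = 2 * T.w u7 := by linarith only [tw_0_1, tw_0_2, tw_1_3, tw_2_4, tw_4_5, tw_5_6, tw_6_7]
                      have f10 : T.w u5 = 2 * T.w u7 := by linarith only [tw_0_1, tw_0_2, tw_1_3, tw_2_4, tw_4_5, tw_5_6, tw_6_7]
                      have f11 : T.w u4 = 2 * T.w u7 := by linarith only [tw_0_1, tw_0_2, tw_1_3, tw_2_4, tw_4_5, tw_5_6, tw_6_7]
                      have f12 : T.w u2 = 2 * T.w u7 := by linarith only [tw_0_1, tw_0_2, tw_1_3, tw_2_4, tw_4_5, tw_5_6, tw_6_7]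
                      have f13 : T.w u0 = 2 * T.w u7 := by linarith only [tw_0_1, tw_0_2, tw_1_3, tw_2_4, tw_4_5, tw_5_6, tw_6_7]
                      have f14 : T.w u1 = 2 * T.w u7 := by linarith only [tw_0_1, tw_0_2, tw_1_3, tw_2_4, tw_4_5, tw_5_6, tw_6_7]
                      have f15 : T.w u3 = 4 * T.w u7 := by linarith only [tw_0_1, tw_0_2, tw_1_3, tw_2_4, tw_4_5, tw_5_6, tw_6_7]
                      have f16 : T.a u7 u7 = -2 * T.w u7 := by have := (h2 u7).2; linarith only [this, tw_0_1, tw_0_2, tw_1_3, tw_2_4, tw_4_5, tw_5_6, tw_6_7]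
                      have f17 : T.a u7 u6 = 2 * T.w u7 := by rw [Groth.Agent.Helper6.NT.symm' T u7 u6]; linarith only [tap_6_7, tw_0_1, tw_0_2, tw_1_3, tw_2_4, tw_4_5, tw_5_6, tw_6_7]
                      have f18 : T.a u7 u5 = 0 := by rw [Groth.Agent.Helper6.NT.symm' T u7 u5]; exact z_5_7
                      have f19 : T.a u7 u4 = 0 := by rw [Groth.Agent.Helper6.NT.symm' T u7 u4]; exact z_4_7
                      have f20 : T.a u7 u2 = 0 := by rw [Groth.Agent.Helper6.NT.symm' T u7 u2]; exact z_2_7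
                      have f21 : T.a u7 u0 = 0 := by rw [Groth.Agent.Helper6.NT.symm' T u7 u0]; exact z_0_7
                      have f22 : T.a u7 u1 = 0 := by rw [Groth.Agent.Helper6.NT.symm' T u7 u1]; exact z_1_7
                      have f23 : T.a u7 u3 = 0 := by rw [Groth.Agent.Helper6.NT.symm' T u7 u3]; exact z_3_7
                      have f24 : T.a u6 u6 = -4 * T.w u7 := by have := (h2 u6).2; linarith only [this, tw_0_1, tw_0_2, tw_1_3, tw_2_4, tw_4_5, tw_5_6, tw_6_7]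
                      have f25 : T.a u6 u5 = 2 * T.w u7 := by rw [Groth.Agent.Helper6.NT.symm' T u6 u5]; linarith only [tap_5_6, tw_0_1, tw_0_2, tw_1_3, tw_2_4, tw_4_5, tw_5_6, tw_6_7]
                      have f26 : T.a u6 u4 = 0 := by rw [Groth.Agent.Helper6.NT.symm' T u6 u4]; exact z_4_6
                      have f27 : T.a u6 u2 = 0 := by rw [Groth.Agent.Helper6.NT.symm' T u6 u2]; exact z_2_6
                      have f28 : T.a u6 u0 = 0 := by rw [Groth.Agent.Helper6.NT.symm' T u6 u0]; exact z_0_6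
                      have f29 : T.a u6 u1 = 0 := by rw [Groth.Agent.Helper6.NT.symm' T u6 u1]; exact z_1_6
                      have f30 : T.a u6 u3 = 0 := by rw [Groth.Agent.Helper6.NT.symm' T u6 u3]; exact z_3_6
                      have f31 : T.a u5 u5 = -4 * T.w u7 := by have := (h2 u5).2; linarith only [this, tw_0_1, tw_0_2, tw_1_3, tw_2_4, tw_4_5, tw_5_6, tw_6_7]
                      have f32 : T.a u5 u4 = 2 * T.w u7 := by rw [Groth.Agent.Helper6.NT.symm' T u5 u4]; linarith only [tap_4_5, tw_0_1, tw_0_2, tw_1_3, tw_2_4, tw_4_5, tw_5_6, tw_6_7]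
                      have f33 : T.a u5 u2 = 0 := by rw [Groth.Agent.Helper6.NT.symm' T u5 u2]; exact z_2_5
                      have f34 : T.a u5 u0 = 0 := by rw [Groth.Agent.Helper6.NT.symm' T u5 u0]; exact z_0_5
                      have f35 : T.a u5 u1 = 0 := by rw [Groth.Agent.Helper6.NT.symm' T u5 u1]; exact z_1_5
                      have f36 : T.a u5 u3 = 0 := by rw [Groth.Agent.Helper6.NT.symm' T u5 u3]; exact z_3_5
                      have f37 : T.a u4 u4 = -4 * T.w u7 := by have := (h2 u4).2; linarith only [this, tw_0_1, tw_0_2, tw_1_3, tw_2_4, tw_4_5, tw_5_6, tw_6_7]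
                      have f38 : T.a u4 u2 = 2 * T.w u7 := by rw [Groth.Agent.Helper6.NT.symm' T u4 u2]; linarith only [tap_2_4, tw_0_1, tw_0_2, tw_1_3, tw_2_4, tw_4_5, tw_5_6, tw_6_7]
                      have f39 : T.a u4 u0 = 0 := by rw [Groth.Agent.Helper6.NT.symm' T u4 u0]; exact z_0_4
                      have f40 : T.a u4 u1 = 0 := by rw [Groth.Agent.Helper6.NT.symm' T u4 u1]; exact z_1_4
                      have f41 : T.a u4 u3 = 0 := by rw [Groth.Agent.Helper6.NT.symm' T u4 u3]; exact z_3_4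
                      have f42 : T.a u2 u2 = -4 * T.w u7 := by have := (h2 u2).2; linarith only [this, tw_0_1, tw_0_2, tw_1_3, tw_2_4, tw_4_5, tw_5_6, tw_6_7]
                      have f43 : T.a u2 u0 = 2 * T.w u7 := by rw [Groth.Agent.Helper6.NT.symm' T u2 u0]; linarith only [tap_0_2, tw_0_1, tw_0_2, tw_1_3, tw_2_4, tw_4_5, tw_5_6, tw_6_7]
                      have f44 : T.a u2 u1 = 0 := by rw [Groth.Agent.Helper6.NT.symm' T u2 u1]; exact z_1_2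
                      have f45 : T.a u2 u3 = 0 := by exact z_2_3
                      have f46 : T.a u0 u0 = -4 * T.w u7 := by have := (h2 u0).2; linarith only [this, tw_0_1, tw_0_2, tw_1_3, tw_2_4, tw_4_5, tw_5_6, tw_6_7]
                      have f47 : T.a u0 u1 = 2 * T.w u7 := by linarith only [tap_0_1, tw_0_1, tw_0_2, tw_1_3, tw_2_4, tw_4_5, tw_5_6, tw_6_7]
                      have f48 : T.a u0 u3 = 0 := by exact z_0_3
                      have f49 : T.a u1 u1 = -4 * T.w u7 := by have := (h2 u1).2; linarith only [this, tw_0_1, tw_0_2, tw_1_3, tw_2_4, tw_4_5, tw_5_6, tw_6_7]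
                      have f50 : T.a u1 u3 = 4 * T.w u7 := by linarith only [tap_1_3, tw_0_1, tw_0_2, tw_1_3, tw_2_4, tw_4_5, tw_5_6, tw_6_7]
                      have f51 : T.a u3 u3 = -8 * T.w u7 := by have := (h2 u3).2; linarith only [this, tw_0_1, tw_0_2, tw_1_3, tw_2_4, tw_4_5, tw_5_6, tw_6_7]
                      have hsig := Groth.Agent.Helper6.NT.inj8 u7 u6 u5 u4 u2 u0 u1 u3 hn_7_6.symm hn_7_5.symm hn_6_5.symm hn_7_4.symm hn_6_4.symm hn_5_4.symm hn_7_2.symm hn_6_2.symm hn_5_2.symm hn_4_2.symm hn_7_0.symm hn_6_0.symm hn_5_0.symm hn_4_0.symm hn_2_0.symm hn_7_1.symm hn_6_1.symm hn_5_1.symm hn_4_1.symm hn_2_1.symm hn_1_0 hn_7_3.symm hn_6_3.symm hn_5_3.symm hn_4_3.symm hn_3_2 hn_3_0 hn_3_1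
                      exact ⟨Equiv.ofBijective _ (Finite.injective_iff_bijective.1 hsig), T.m u3, T.w u7, Or.inr (Or.inl ⟨f0, f1, f2, f3, f4, f5, f6, f7, f8, f9, f10, f11, f12, f13, f14, f15, f16, f17, f18, f19, f20, f21, f22, f23, f24, f25, f26, f27, f28, f29, f30, f31, f32, f33, f34, f35, f36, f37, f38, f39, f40, f41, f42, f43, f44, f45, f46, f47, f48, f49, f50, f51⟩)⟩
                    · -- (6,7) Tp
                      exfalso
                      have key := Groth.Agent.Helper6.NT.negfun3 T h2 u5 u6 u7 (by norm_num) 1 2 1 (by norm_num) (by norm_num)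
                      linarith only [key, tap_5_6, taq_5_6, z_5_7, tap_6_7, taq_6_7, T.w_pos u5, T.w_pos u6, T.w_pos u7]
                    · -- (6,7) Tm
                      exfalso
                      have key := Groth.Agent.Helper6.NT.negfun3 T h2 u5 u6 u7 (by norm_num) 1 2 3 (by norm_num) (by norm_num)
                      linarith only [key, tap_5_6, taq_5_6, z_5_7, tap_6_7, taq_6_7, T.w_pos u5, T.w_pos u6, T.w_pos u7]
                  · push Not at hx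
                    have cl_6 := hx
                    clear hx
                    exfalso
                    refine Groth.Agent.Helper6.NT.closed_contra T [u0, u1, u2, u3, u4, u5, u6] (by simp) (by simp) ?_
                    intro i hi j hj
                    simp only [List.mem_cons, List.not_mem_nil, or_false, not_or] at hi hj
                    rcases hi with rfl | rfl | rfl | rfl | rfl | rfl | rfl
                    · exact cl_0 j ⟨hj.1, hj.2.1, hj.2.2.1⟩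
                    · exact cl_1 j ⟨hj.1, hj.2.1, hj.2.2.1, hj.2.2.2.1⟩
                    · exact cl_2 j ⟨hj.1, hj.2.1, hj.2.2.1, hj.2.2.2.1, hj.2.2.2.2.1⟩
                    · exact cl_3 j ⟨hj.1, hj.2.1, hj.2.2.1, hj.2.2.2.1, hj.2.2.2.2.1⟩
                    · exact cl_4 j ⟨hj.1, hj.2.1, hj.2.2.1, hj.2.2.2.1, hj.2.2.2.2.1, hj.2.2.2.2.2.1⟩
                    · exact cl_5 j ⟨hj.1, hj.2.1, hj.2.2.1, hj.2.2.2.1, hj.2.2.2.2.1, hj.2.2.2.2.2.1, hj.2.2.2.2.2.2⟩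
                    · exact cl_6 j ⟨hj.1, hj.2.1, hj.2.2.1, hj.2.2.2.1, hj.2.2.2.2.1, hj.2.2.2.2.2.1, hj.2.2.2.2.2.2⟩
              · -- (5,6) Dp
                exfalso
                have key := Groth.Agent.Helper6.NT.negfun7 T h2 u0 u1 u2 u3 u4 u5 u6 (by norm_num) 2 2 2 1 2 2 1 (by norm_num) (by norm_num)
                linarith only [key, tap_0_1, taq_0_1, tap_0_2, taq_0_2, z_0_3, z_0_4, z_0_5, z_0_6, z_1_2, tap_1_3, taq_1_3, z_1_4, z_1_5, z_1_6, z_2_3, tap_2_4, taq_2_4, z_2_5, z_2_6, z_3_4, z_3_5, z_3_6, tap_4_5, taq_4_5, z_4_6, tap_5_6, taq_5_6, T.w_pos u0, T.w_pos u1, T.w_pos u2, T.w_pos u3, T.w_pos u4, T.w_pos u5, T.w_pos u6]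
              · -- (5,6) Dm
                exfalso
                have key := Groth.Agent.Helper6.NT.negfun7 T h2 u0 u1 u2 u3 u4 u5 u6 (by norm_num) 2 2 2 1 2 2 2 (by norm_num) (by norm_num)
                linarith only [key, tap_0_1, taq_0_1, tap_0_2, taq_0_2, z_0_3, z_0_4, z_0_5, z_0_6, z_1_2, tap_1_3, taq_1_3, z_1_4, z_1_5, z_1_6, z_2_3, tap_2_4, taq_2_4, z_2_5, z_2_6, z_3_4, z_3_5, z_3_6, tap_4_5, taq_4_5, z_4_6, tap_5_6, taq_5_6, T.w_pos u0, T.w_pos u1, T.w_pos u2, T.w_pos u3, T.w_pos u4, T.w_pos u5, T.w_pos u6]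
              · -- (5,6) Tp
                exfalso
                have key := Groth.Agent.Helper6.NT.negfun3 T h2 u4 u5 u6 (by norm_num) 1 2 1 (by norm_num) (by norm_num)
                linarith only [key, tap_4_5, taq_4_5, z_4_6, tap_5_6, taq_5_6, T.w_pos u4, T.w_pos u5, T.w_pos u6]
              · -- (5,6) Tm
                exfalso
                have key := Groth.Agent.Helper6.NT.negfun3 T h2 u4 u5 u6 (by norm_num) 1 2 3 (by norm_num) (by norm_num)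
                linarith only [key, tap_4_5, taq_4_5, z_4_6, tap_5_6, taq_5_6, T.w_pos u4, T.w_pos u5, T.w_pos u6]
            · push Not at hx
              have cl_5 := hx
              clear hx
              exfalso
              refine Groth.Agent.Helper6.NT.closed_contra T [u0, u1, u2, u3, u4, u5] (by simp) (by simp) ?_
              intro i hi j hj
              simp only [List.mem_cons, List.not_mem_nil, or_false, not_or] at hi hj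
              rcases hi with rfl | rfl | rfl | rfl | rfl | rfl
              · exact cl_0 j ⟨hj.1, hj.2.1, hj.2.2.1⟩
              · exact cl_1 j ⟨hj.1, hj.2.1, hj.2.2.1, hj.2.2.2.1⟩
              · exact cl_2 j ⟨hj.1, hj.2.1, hj.2.2.1, hj.2.2.2.1, hj.2.2.2.2.1⟩
              · exact cl_3 j ⟨hj.1, hj.2.1, hj.2.2.1, hj.2.2.2.1, hj.2.2.2.2.1⟩
              · exact cl_4 j ⟨hj.1, hj.2.1, hj.2.2.1, hj.2.2.2.1, hj.2.2.2.2.1, hj.2.2.2.2.2⟩
              · exact cl_5 j ⟨hj.1, hj.2.1, hj.2.2.1, hj.2.2.2.1, hj.2.2.2.2.1, hj.2.2.2.2.2⟩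
        · -- (4,5) Dp
          exfalso
          have key := Groth.Agent.Helper6.NT.negfun6 T h2 u0 u1 u2 u3 u4 u5 (by norm_num) 2 2 2 1 2 1 (by norm_num) (by norm_num)
          linarith only [key, tap_0_1, taq_0_1, tap_0_2, taq_0_2, z_0_3, z_0_4, z_0_5, z_1_2, tap_1_3, taq_1_3, z_1_4, z_1_5, z_2_3, tap_2_4, taq_2_4, z_2_5, z_3_4, z_3_5, tap_4_5, taq_4_5, T.w_pos u0, T.w_pos u1, T.w_pos u2, T.w_pos u3, T.w_pos u4, T.w_pos u5]
        · -- (4,5) Dm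
          exfalso
          have key := Groth.Agent.Helper6.NT.negfun6 T h2 u0 u1 u2 u3 u4 u5 (by norm_num) 2 2 2 1 2 2 (by norm_num) (by norm_num)
          linarith only [key, tap_0_1, taq_0_1, tap_0_2, taq_0_2, z_0_3, z_0_4, z_0_5, z_1_2, tap_1_3, taq_1_3, z_1_4, z_1_5, z_2_3, tap_2_4, taq_2_4, z_2_5, z_3_4, z_3_5, tap_4_5, taq_4_5, T.w_pos u0, T.w_pos u1, T.w_pos u2, T.w_pos u3, T.w_pos u4, T.w_pos u5]
        · -- (4,5) Tp
          exfalso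
          have key := Groth.Agent.Helper6.NT.negfun3 T h2 u2 u4 u5 (by norm_num) 1 2 1 (by norm_num) (by norm_num)
          linarith only [key, tap_2_4, taq_2_4, z_2_5, tap_4_5, taq_4_5, T.w_pos u2, T.w_pos u4, T.w_pos u5]
        · -- (4,5) Tm
          exfalso
          have key := Groth.Agent.Helper6.NT.negfun3 T h2 u2 u4 u5 (by norm_num) 1 2 3 (by norm_num) (by norm_num)
          linarith only [key, tap_2_4, taq_2_4, z_2_5, tap_4_5, taq_4_5, T.w_pos u2, T.w_pos u4, T.w_pos u5]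
      · push Not at hx
        have cl_4 := hx
        clear hx
        exfalso
        refine Groth.Agent.Helper6.NT.closed_contra T [u0, u1, u2, u3, u4] (by simp) (by simp) ?_
        intro i hi j hj
        simp only [List.mem_cons, List.not_mem_nil, or_false, not_or] at hi hj
        rcases hi with rfl | rfl | rfl | rfl | rfl
        · exact cl_0 j ⟨hj.1, hj.2.1, hj.2.2.1⟩
        · exact cl_1 j ⟨hj.1, hj.2.1, hj.2.2.1, hj.2.2.2.1⟩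
        · exact cl_2 j ⟨hj.1, hj.2.1, hj.2.2.1, hj.2.2.2.1, hj.2.2.2.2⟩
        · exact cl_3 j ⟨hj.1, hj.2.1, hj.2.2.1, hj.2.2.2.1, hj.2.2.2.2⟩
        · exact cl_4 j ⟨hj.1, hj.2.1, hj.2.2.1, hj.2.2.2.1, hj.2.2.2.2⟩

theorem cut8_13 (T : Models.NumericalType 8) (h2 : ∀ i, T.IsMinusTwo i) (u0 u1 u2 u3 u4 : Fin 8)
    (hn_1_0 : u1 ≠ u0)
    (e_0_1 : T.a u0 u1 ≠ 0)
    (tw_0_1 : T.w u1 = T.w u0)
    (tap_0_1 : T.a u0 u1 = T.w u0)
    (taq_0_1 : T.a u0 u1 = T.w u1)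
    (hn_2_0 : u2 ≠ u0)
    (hn_2_1 : u2 ≠ u1)
    (e_0_2 : T.a u0 u2 ≠ 0)
    (tw_0_2 : T.w u2 = T.w u0)
    (tap_0_2 : T.a u0 u2 = T.w u0)
    (taq_0_2 : T.a u0 u2 = T.w u2)
    (z_1_2 : T.a u1 u2 = 0)
    (cl_0 : ∀ j : Fin 8, (j ≠ u0 ∧ j ≠ u1 ∧ j ≠ u2) → T.a u0 j = 0)
    (hn_3_0 : u3 ≠ u0)
    (hn_3_1 : u3 ≠ u1)
    (hn_3_2 : u3 ≠ u2)
    (e_1_3 : T.a u1 u3 ≠ 0)
    (z_0_3 : T.a u0 u3 = 0)
    (tw_1_3 : T.w u1 = 2 * T.w u3)
    (tap_1_3 : T.a u1 u3 = T.w u1)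
    (taq_1_3 : T.a u1 u3 = 2 * T.w u3)
    (z_2_3 : T.a u2 u3 = 0)
    (cl_1 : ∀ j : Fin 8, (j ≠ u0 ∧ j ≠ u1 ∧ j ≠ u2 ∧ j ≠ u3) → T.a u1 j = 0)
    (hn_4_0 : u4 ≠ u0)
    (hn_4_1 : u4 ≠ u1)
    (hn_4_2 : u4 ≠ u2)
    (hn_4_3 : u4 ≠ u3)
    (e_2_4 : T.a u2 u4 ≠ 0)
    (z_0_4 : T.a u0 u4 = 0)
    (z_1_4 : T.a u1 u4 = 0)
    (tw_2_4 : T.w u4 = T.w u2)
    (tap_2_4 : T.a u2 u4 = T.w u2)
    (taq_2_4 : T.a u2 u4 = T.w u4)
    (z_3_4 : T.a u3 u4 = 0) :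
    ∃ (σ : Equiv.Perm (Fin 8)) (m w : ℤ), ((T.m (σ 0) = m ∧ T.m (σ 1) = m ∧ T.m (σ 2) = m ∧ T.m (σ 3) = m ∧ T.m (σ 4) = m ∧ T.m (σ 5) = m ∧ T.m (σ 6) = m ∧ T.m (σ 7) = m ∧ T.w (σ 0) = w ∧ T.w (σ 1) = w ∧ T.w (σ 2) = w ∧ T.w (σ 3) = w ∧ T.w (σ 4) = w ∧ T.w (σ 5) = w ∧ T.w (σ 6) = w ∧ T.w (σ 7) = w ∧ T.a (σ 0) (σ 0) = -2 * w ∧ T.a (σ 0) (σ 1) = w ∧ T.a (σ 0) (σ 2) = 0 ∧ T.a (σ 0) (σ 3) = 0 ∧ T.a (σ 0) (σ 4) = 0 ∧ T.a (σ 0) (σ 5) = 0 ∧ T.a (σ 0) (σ 6) = 0 ∧ T.a (σ 0) (σ 7) = w ∧ T.a (σ 1) (σ 1) = -2 * w ∧ T.a (σ 1) (σ 2) = w ∧ T.a (σ 1) (σ 3) = 0 ∧ T.a (σ 1) (σ 4) = 0 ∧ T.a (σ 1) (σ 5) = 0 ∧ T.a (σ 1) (σ 6) = 0 ∧ T.a (σ 1) (σ 7) = 0 ∧ T.a (σ 2) (σ 2) = -2 * w ∧ T.a (σ 2) (σ 3) = w ∧ T.a (σ 2) (σ 4) = 0 ∧ T.a (σ 2) (σ 5) = 0 ∧ T.a (σ 2) (σ 6) = 0 ∧ T.a (σ 2) (σ 7) = 0 ∧ T.a (σ 3) (σ 3) = -2 * w ∧ T.a (σ 3) (σ 4) = w ∧ T.a (σ 3) (σ 5) = 0 ∧ T.a (σ 3) (σ 6) = 0 ∧ T.a (σ 3)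 (σ 7) = 0 ∧ T.a (σ 4) (σ 4) = -2 * w ∧ T.a (σ 4) (σ 5) = w ∧ T.a (σ 4) (σ 6) = 0 ∧ T.a (σ 4) (σ 7) = 0 ∧ T.a (σ 5) (σ 5) = -2 * w ∧ T.a (σ 5) (σ 6) = w ∧ T.a (σ 5) (σ 7) = 0 ∧ T.a (σ 6) (σ 6) = -2 * w ∧ T.a (σ 6) (σ 7) = w ∧ T.a (σ 7) (σ 7) = -2 * w) ∨ (T.m (σ 0) = 2 * m ∧ T.m (σ 1) = 2 * m ∧ T.m (σ 2) = 2 * m ∧ T.m (σ 3) = 2 * m ∧ T.m (σ 4) = 2 * m ∧ T.m (σ 5) = 2 * m ∧ T.m (σ 6) = 2 * m ∧ T.m (σ 7) = m ∧ T.w (σ 0) = w ∧ T.w (σ 1) = 2 * w ∧ T.w (σ 2) = 2 * w ∧ T.w (σ 3) = 2 * w ∧ T.w (σ 4) = 2 * w ∧ T.w (σ 5) = 2 * w ∧ T.w (σ 6) = 2 * w ∧ T.w (σ 7) = 4 * w ∧ T.a (σ 0) (σ 0) = -2 * w ∧ T.a (σ 0) (σ 1) = 2 * w ∧ T.a (σ 0) (σ 2) = 0 ∧ T.a (σ 0) (σ 3) = 0 ∧ T.a (σ 0) (σ 4) = 0 ∧ T.a (σ 0) (σ 5) = 0 ∧ T.a (σ 0) (σ 6) = 0 ∧ T.a (σ 0) (σ 7) = 0 ∧ T.a (σ 1) (σ 1) = -4 * w ∧ T.a (σ 1) (σ 2) = 2 * w ∧ T.a (σ 1) (σ 3) = 0 ∧ T.a (σ 1) (σ 4) = 0 ∧ T.a (σ 1) (σ 5) = 0 ∧ T.a (σ 1)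 (σ 6) = 0 ∧ T.a (σ 1) (σ 7) = 0 ∧ T.a (σ 2) (σ 2) = -4 * w ∧ T.a (σ 2) (σ 3) = 2 * w ∧ T.a (σ 2) (σ 4) = 0 ∧ T.a (σ 2) (σ 5) = 0 ∧ T.a (σ 2) (σ 6) = 0 ∧ T.a (σ 2) (σ 7) = 0 ∧ T.a (σ 3) (σ 3) = -4 * w ∧ T.a (σ 3) (σ 4) = 2 * w ∧ T.a (σ 3) (σ 5) = 0 ∧ T.a (σ 3) (σ 6) = 0 ∧ T.a (σ 3) (σ 7) = 0 ∧ T.a (σ 4) (σ 4) = -4 * w ∧ T.a (σ 4) (σ 5) = 2 * w ∧ T.a (σ 4) (σ 6) = 0 ∧ T.a (σ 4) (σ 7) = 0 ∧ T.a (σ 5) (σ 5) = -4 * w ∧ T.a (σ 5) (σ 6) = 2 * w ∧ T.a (σ 5) (σ 7) = 0 ∧ T.a (σ 6) (σ 6) = -4 * w ∧ T.a (σ 6) (σ 7) = 4 * w ∧ T.a (σ 7) (σ 7) = -8 * w) ∨ (T.m (σ 0) = m ∧ T.m (σ 1) = m ∧ T.m (σ 2) = m ∧ T.m (σ 3) = m ∧ T.m (σ 4) = m ∧ T.m (σ 5) = m ∧ T.m (σ 6) = m ∧ T.m (σ 7) = m ∧ T.w (σ 0) = w ∧ T.w (σ 1) = 2 * w ∧ T.w (σ 2) = 2 * w ∧ T.w (σ 3) = 2 * w ∧ T.w (σ 4) = 2 * w ∧ T.w (σ 5) = 2 * w ∧ T.w (σ 6) = 2 * w ∧ T.w (σ 7) = w ∧ T.a (σ 0) (σ 0) = -2 * w ∧ T.a (σ 0) (σ 1) = 2 * w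 ∧ T.a (σ 0) (σ 2) = 0 ∧ T.a (σ 0) (σ 3) = 0 ∧ T.a (σ 0) (σ 4) = 0 ∧ T.a (σ 0) (σ 5) = 0 ∧ T.a (σ 0) (σ 6) = 0 ∧ T.a (σ 0) (σ 7) = 0 ∧ T.a (σ 1) (σ 1) = -4 * w ∧ T.a (σ 1) (σ 2) = 2 * w ∧ T.a (σ 1) (σ 3) = 0 ∧ T.a (σ 1) (σ 4) = 0 ∧ T.a (σ 1) (σ 5) = 0 ∧ T.a (σ 1) (σ 6) = 0 ∧ T.a (σ 1) (σ 7) = 0 ∧ T.a (σ 2) (σ 2) = -4 * w ∧ T.a (σ 2) (σ 3) = 2 * w ∧ T.a (σ 2) (σ 4) = 0 ∧ T.a (σ 2) (σ 5) = 0 ∧ T.a (σ 2) (σ 6) = 0 ∧ T.a (σ 2) (σ 7) = 0 ∧ T.a (σ 3) (σ 3) = -4 * w ∧ T.a (σ 3) (σ 4) = 2 * w ∧ T.a (σ 3) (σ 5) = 0 ∧ T.a (σ 3) (σ 6) = 0 ∧ T.a (σ 3) (σ 7) = 0 ∧ T.a (σ 4) (σ 4) = -4 * w ∧ T.a (σ 4) (σ 5) = 2 * w ∧ T.a (σ 4) (σ 6) = 0 ∧ T.a (σ 4) (σ 7) = 0 ∧ T.a (σ 5) (σ 5) = -4 * w ∧ T.a (σ 5) (σ 6) = 2 * w ∧ T.a (σ 5) (σ 7) = 0 ∧ T.a (σ 6) (σ 6) = -4 * w ∧ T.a (σ 6) (σ 7) = 2 * w ∧ T.a (σ 7) (σ 7) = -2 * w) ∨ (T.m (σ 0) = m ∧ T.m (σ 1) = 2 * m ∧ T.m (σ 2) = 2 * m ∧ T.m (σ 3) =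 2 * m ∧ T.m (σ 4) = 2 * m ∧ T.m (σ 5) = 2 * m ∧ T.m (σ 6) = 2 * m ∧ T.m (σ 7) = m ∧ T.w (σ 0) = 2 * w ∧ T.w (σ 1) = w ∧ T.w (σ 2) = w ∧ T.w (σ 3) = w ∧ T.w (σ 4) = w ∧ T.w (σ 5) = w ∧ T.w (σ 6) = w ∧ T.w (σ 7) = 2 * w ∧ T.a (σ 0) (σ 0) = -4 * w ∧ T.a (σ 0) (σ 1) = 2 * w ∧ T.a (σ 0) (σ 2) = 0 ∧ T.a (σ 0) (σ 3) = 0 ∧ T.a (σ 0) (σ 4) = 0 ∧ T.a (σ 0) (σ 5) = 0 ∧ T.a (σ 0) (σ 6) = 0 ∧ T.a (σ 0) (σ 7) = 0 ∧ T.a (σ 1) (σ 1) = -2 * w ∧ T.a (σ 1) (σ 2) = w ∧ T.a (σ 1) (σ 3) = 0 ∧ T.a (σ 1) (σ 4) = 0 ∧ T.a (σ 1) (σ 5) = 0 ∧ T.a (σ 1) (σ 6) = 0 ∧ T.a (σ 1) (σ 7) = 0 ∧ T.a (σ 2) (σ 2) = -2 * w ∧ T.a (σ 2) (σ 3) = w ∧ T.a (σ 2) (σ 4) = 0 ∧ T.a (σ 2) (σ 5) = 0 ∧ T.a (σ 2) (σ 6) = 0 ∧ T.a (σ 2) (σ 7) = 0 ∧ T.a (σ 3) (σ 3) = -2 * w ∧ T.a (σ 3) (σ 4) = w ∧ T.a (σ 3) (σ 5) = 0 ∧ T.a (σ 3) (σ 6) = 0 ∧ T.a (σ 3) (σ 7) = 0 ∧ T.a (σ 4) (σ 4) = -2 * w ∧ T.a (σ 4) (σ 5) = w ∧ T.a (σ 4) (σ 6)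 = 0 ∧ T.a (σ 4) (σ 7) = 0 ∧ T.a (σ 5) (σ 5) = -2 * w ∧ T.a (σ 5) (σ 6) = w ∧ T.a (σ 5) (σ 7) = 0 ∧ T.a (σ 6) (σ 6) = -2 * w ∧ T.a (σ 6) (σ 7) = 2 * w ∧ T.a (σ 7) (σ 7) = -4 * w) ∨ (T.m (σ 0) = m ∧ T.m (σ 1) = 2 * m ∧ T.m (σ 2) = 2 * m ∧ T.m (σ 3) = 2 * m ∧ T.m (σ 4) = 2 * m ∧ T.m (σ 5) = 2 * m ∧ T.m (σ 6) = m ∧ T.m (σ 7) = m ∧ T.w (σ 0) = 2 * w ∧ T.w (σ 1) = w ∧ T.w (σ 2) = w ∧ T.w (σ 3) = w ∧ T.w (σ 4) = w ∧ T.w (σ 5) = w ∧ T.w (σ 6) = w ∧ T.w (σ 7) = w ∧ T.a (σ 0) (σ 0) = -4 * w ∧ T.a (σ 0) (σ 1) = 2 * w ∧ T.a (σ 0) (σ 2) = 0 ∧ T.a (σ 0) (σ 3) = 0 ∧ T.a (σ 0) (σ 4) = 0 ∧ T.a (σ 0) (σ 5) = 0 ∧ T.a (σ 0) (σ 6) = 0 ∧ T.a (σ 0) (σ 7) = 0 ∧ T.a (σ 1) (σ 1) = -2 * w ∧ T.a (σ 1) (σ 2) = w ∧ T.a (σ 1) (σ 3) = 0 ∧ T.a (σ 1) (σ 4) = 0 ∧ T.a (σ 1) (σ 5) = 0 ∧ T.a (σ 1) (σ 6) = 0 ∧ T.a (σ 1) (σ 7) = 0 ∧ T.a (σ 2) (σ 2) = -2 * w ∧ T.a (σ 2) (σ 3) = w ∧ T.a (σ 2) (σ 4) = 0 ∧ T.a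 (σ 2) (σ 5) = 0 ∧ T.a (σ 2) (σ 6) = 0 ∧ T.a (σ 2) (σ 7) = 0 ∧ T.a (σ 3) (σ 3) = -2 * w ∧ T.a (σ 3) (σ 4) = w ∧ T.a (σ 3) (σ 5) = 0 ∧ T.a (σ 3) (σ 6) = 0 ∧ T.a (σ 3) (σ 7) = 0 ∧ T.a (σ 4) (σ 4) = -2 * w ∧ T.a (σ 4) (σ 5) = w ∧ T.a (σ 4) (σ 6) = 0 ∧ T.a (σ 4) (σ 7) = 0 ∧ T.a (σ 5) (σ 5) = -2 * w ∧ T.a (σ 5) (σ 6) = w ∧ T.a (σ 5) (σ 7) = w ∧ T.a (σ 6) (σ 6) = -2 * w ∧ T.a (σ 6) (σ 7) = 0 ∧ T.a (σ 7) (σ 7) = -2 * w) ∨ (T.m (σ 0) = 2 * m ∧ T.m (σ 1) = 2 * m ∧ T.m (σ 2) = 2 * m ∧ T.m (σ 3) = 2 * m ∧ T.m (σ 4) = 2 * m ∧ T.m (σ 5) = 2 * m ∧ T.m (σ 6) = m ∧ T.m (σ 7) = m ∧ T.w (σ 0) = w ∧ T.w (σ 1) = 2 * w ∧ T.w (σ 2) = 2 * w ∧ T.w (σ 3) = 2 * w ∧ T.w (σ 4) = 2 * w ∧ T.w (σ 5) = 2 * w ∧ T.w (σ 6) = 2 * w ∧ T.w (σ 7) = 2 * w ∧ T.a (σ 0) (σ 0) = -2 * w ∧ T.a (σ 0) (σ 1) = 2 * w ∧ T.a (σ 0) (σ 2) = 0 ∧ T.a (σ 0) (σ 3) = 0 ∧ T.a (σ 0) (σ 4) = 0 ∧ T.a (σ 0) (σ 5) = 0 ∧ T.a (σ 0) (σ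 6) = 0 ∧ T.a (σ 0) (σ 7) = 0 ∧ T.a (σ 1) (σ 1) = -4 * w ∧ T.a (σ 1) (σ 2) = 2 * w ∧ T.a (σ 1) (σ 3) = 0 ∧ T.a (σ 1) (σ 4) = 0 ∧ T.a (σ 1) (σ 5) = 0 ∧ T.a (σ 1) (σ 6) = 0 ∧ T.a (σ 1) (σ 7) = 0 ∧ T.a (σ 2) (σ 2) = -4 * w ∧ T.a (σ 2) (σ 3) = 2 * w ∧ T.a (σ 2) (σ 4) = 0 ∧ T.a (σ 2) (σ 5) = 0 ∧ T.a (σ 2) (σ 6) = 0 ∧ T.a (σ 2) (σ 7) = 0 ∧ T.a (σ 3) (σ 3) = -4 * w ∧ T.a (σ 3) (σ 4) = 2 * w ∧ T.a (σ 3) (σ 5) = 0 ∧ T.a (σ 3) (σ 6) = 0 ∧ T.a (σ 3) (σ 7) = 0 ∧ T.a (σ 4) (σ 4) = -4 * w ∧ T.a (σ 4) (σ 5) = 2 * w ∧ T.a (σ 4) (σ 6) = 0 ∧ T.a (σ 4) (σ 7) = 0 ∧ T.a (σ 5) (σ 5) = -4 * w ∧ T.a (σ 5) (σ 6) = 2 * w ∧ T.a (σ 5) (σ 7) = 2 * w ∧ T.a (σ 6) (σ 6) = -4 * w ∧ T.a (σ 6) (σ 7) = 0 ∧ T.a (σ 7) (σ 7) = -4 * w) ∨ (T.m (σ 0) = m ∧ T.m (σ 1) = m ∧ T.m (σ 2) = 2 * m ∧ T.m (σ 3) = 2 * m ∧ T.m (σ 4) = 2 * m ∧ T.m (σ 5) = 2 * m ∧ T.m (σ 6) = m ∧ T.m (σ 7) = m ∧ T.w (σ 0) = w ∧ T.w (σ 1) =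 w ∧ T.w (σ 2) = w ∧ T.w (σ 3) = w ∧ T.w (σ 4) = w ∧ T.w (σ 5) = w ∧ T.w (σ 6) = w ∧ T.w (σ 7) = w ∧ T.a (σ 0) (σ 0) = -2 * w ∧ T.a (σ 0) (σ 1) = 0 ∧ T.a (σ 0) (σ 2) = w ∧ T.a (σ 0) (σ 3) = 0 ∧ T.a (σ 0) (σ 4) = 0 ∧ T.a (σ 0) (σ 5) = 0 ∧ T.a (σ 0) (σ 6) = 0 ∧ T.a (σ 0) (σ 7) = 0 ∧ T.a (σ 1) (σ 1) = -2 * w ∧ T.a (σ 1) (σ 2) = w ∧ T.a (σ 1) (σ 3) = 0 ∧ T.a (σ 1) (σ 4) = 0 ∧ T.a (σ 1) (σ 5) = 0 ∧ T.a (σ 1) (σ 6) = 0 ∧ T.a (σ 1) (σ 7) = 0 ∧ T.a (σ 2) (σ 2) = -2 * w ∧ T.a (σ 2) (σ 3) = w ∧ T.a (σ 2) (σ 4) = 0 ∧ T.a (σ 2) (σ 5) = 0 ∧ T.a (σ 2) (σ 6) = 0 ∧ T.a (σ 2) (σ 7) = 0 ∧ T.a (σ 3) (σ 3) = -2 * w ∧ T.a (σ 3) (σ 4) = w ∧ T.a (σ 3) (σ 5) = 0 ∧ T.a (σ 3) (σ 6) = 0 ∧ T.a (σ 3) (σ 7) = 0 ∧ T.a (σ 4) (σ 4) = -2 * w ∧ T.a (σ 4) (σ 5) = w ∧ T.a (σ 4) (σ 6) = 0 ∧ T.a (σ 4) (σ 7) = 0 ∧ T.a (σ 5) (σ 5) = -2 * w ∧ T.a (σ 5) (σ 6) = w ∧ T.a (σ 5) (σ 7) = w ∧ T.a (σ 6) (σ 6) = -2 *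 w ∧ T.a (σ 6) (σ 7) = 0 ∧ T.a (σ 7) (σ 7) = -2 * w) ∨ (T.m (σ 0) = m ∧ T.m (σ 1) = 2 * m ∧ T.m (σ 2) = 3 * m ∧ T.m (σ 3) = 4 * m ∧ T.m (σ 4) = 3 * m ∧ T.m (σ 5) = 2 * m ∧ T.m (σ 6) = m ∧ T.m (σ 7) = 2 * m ∧ T.w (σ 0) = w ∧ T.w (σ 1) = w ∧ T.w (σ 2) = w ∧ T.w (σ 3) = w ∧ T.w (σ 4) = w ∧ T.w (σ 5) = w ∧ T.w (σ 6) = w ∧ T.w (σ 7) = w ∧ T.a (σ 0) (σ 0) = -2 * w ∧ T.a (σ 0) (σ 1) = w ∧ T.a (σ 0) (σ 2) = 0 ∧ T.a (σ 0) (σ 3) = 0 ∧ T.a (σ 0) (σ 4) = 0 ∧ T.a (σ 0) (σ 5) = 0 ∧ T.a (σ 0) (σ 6) = 0 ∧ T.a (σ 0) (σ 7) = 0 ∧ T.a (σ 1) (σ 1) = -2 * w ∧ T.a (σ 1) (σ 2) = w ∧ T.a (σ 1) (σ 3) = 0 ∧ T.a (σ 1) (σ 4) = 0 ∧ T.a (σ 1) (σ 5) = 0 ∧ T.a (σ 1) (σ 6) = 0 ∧ T.a (σ 1) (σ 7) = 0 ∧ T.a (σ 2) (σ 2) = -2 * w ∧ T.a (σ 2) (σ 3) = w ∧ T.a (σ 2) (σ 4) = 0 ∧ T.a (σ 2) (σ 5) = 0 ∧ T.a (σ 2) (σ 6) = 0 ∧ T.a (σ 2) (σ 7) = 0 ∧ T.a (σ 3) (σ 3) = -2 * w ∧ T.a (σ 3) (σ 4) = w ∧ T.a (σ 3) (σ 5) =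 0 ∧ T.a (σ 3) (σ 6) = 0 ∧ T.a (σ 3) (σ 7) = w ∧ T.a (σ 4) (σ 4) = -2 * w ∧ T.a (σ 4) (σ 5) = w ∧ T.a (σ 4) (σ 6) = 0 ∧ T.a (σ 4) (σ 7) = 0 ∧ T.a (σ 5) (σ 5) = -2 * w ∧ T.a (σ 5) (σ 6) = w ∧ T.a (σ 5) (σ 7) = 0 ∧ T.a (σ 6) (σ 6) = -2 * w ∧ T.a (σ 6) (σ 7) = 0 ∧ T.a (σ 7) (σ 7) = -2 * w)) := by
  by_cases hx : ∃ j, (j ≠ u0 ∧ j ≠ u1 ∧ j ≠ u2 ∧ j ≠ u3 ∧ j ≠ u4) ∧ T.a u2 j ≠ 0
  · obtain ⟨u5, ⟨hn_5_0, hn_5_1, hn_5_2, hn_5_3, hn_5_4⟩, e_2_5⟩ := hx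
    have z_0_5 : T.a u0 u5 = 0 := cl_0 u5 ⟨hn_5_0, hn_5_1, hn_5_2⟩
    have z_1_5 : T.a u1 u5 = 0 := cl_1 u5 ⟨hn_5_0, hn_5_1, hn_5_2, hn_5_3⟩
    rcases Groth.Agent.Helper6.NT.edge5 T h2 (by norm_num) u2 u5 hn_5_2.symm e_2_5 with ⟨tw_2_5, tap_2_5, taq_2_5⟩ | ⟨tw_2_5, tap_2_5, taq_2_5⟩ | ⟨tw_2_5, tap_2_5, taq_2_5⟩ | ⟨tw_2_5, tap_2_5, taq_2_5⟩ | ⟨tw_2_5, tap_2_5, taq_2_5⟩
    · -- (2,5) S
      exfalso
      have key := Groth.Agent.Helper6.NT.negfun6 T h2 u0 u1 u2 u3 u4 u5 (by norm_num) 2 2 2 2 1 1 (by norm_num) (by norm_num)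
      linarith only [key, tap_0_1, taq_0_1, tap_0_2, taq_0_2, z_0_3, z_0_4, z_0_5, z_1_2, tap_1_3, taq_1_3, z_1_4, z_1_5, z_2_3, tap_2_4, taq_2_4, tap_2_5, taq_2_5, z_3_4, T.offDiag_nonneg u3 u5 hn_5_3.symm, T.offDiag_nonneg u4 u5 hn_5_4.symm, T.w_pos u0, T.w_pos u1, T.w_pos u2, T.w_pos u3, T.w_pos u4, T.w_pos u5]
    · -- (2,5) Dp
      exfalso
      have key := Groth.Agent.Helper6.NT.negfun4 T h2 u0 u2 u4 u5 (by norm_num) 1 2 1 1 (by norm_num) (by norm_num)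
      linarith only [key, tap_0_2, taq_0_2, z_0_4, z_0_5, tap_2_4, taq_2_4, tap_2_5, taq_2_5, T.offDiag_nonneg u4 u5 hn_5_4.symm, T.w_pos u0, T.w_pos u2, T.w_pos u4, T.w_pos u5]
    · -- (2,5) Dm
      exfalso
      have key := Groth.Agent.Helper6.NT.negfun4 T h2 u0 u2 u4 u5 (by norm_num) 1 2 1 2 (by norm_num) (by norm_num)
      linarith only [key, tap_0_2, taq_0_2, z_0_4, z_0_5, tap_2_4, taq_2_4, tap_2_5, taq_2_5, T.offDiag_nonneg u4 u5 hn_5_4.symm, T.w_pos u0, T.w_pos u2, T.w_pos u4, T.w_pos u5]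
    · -- (2,5) Tp
      exfalso
      have key := Groth.Agent.Helper6.NT.negfun3 T h2 u2 u4 u5 (by norm_num) 2 1 1 (by norm_num) (by norm_num)
      linarith only [key, tap_2_4, taq_2_4, tap_2_5, taq_2_5, T.offDiag_nonneg u4 u5 hn_5_4.symm, T.w_pos u2, T.w_pos u4, T.w_pos u5]
    · -- (2,5) Tm
      exfalso
      have key := Groth.Agent.Helper6.NT.negfun3 T h2 u2 u4 u5 (by norm_num) 2 1 3 (by norm_num) (by norm_num)
      linarith only [key, tap_2_4, taq_2_4, tap_2_5, taq_2_5, T.offDiag_nonneg u4 u5 hn_5_4.symm, T.w_pos u2, T.w_pos u4, T.w_pos u5]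
  · push Not at hx
    have cl_2 := hx
    clear hx
    by_cases hx : ∃ j, (j ≠ u0 ∧ j ≠ u1 ∧ j ≠ u2 ∧ j ≠ u3 ∧ j ≠ u4) ∧ T.a u3 j ≠ 0
    · obtain ⟨u5, ⟨hn_5_0, hn_5_1, hn_5_2, hn_5_3, hn_5_4⟩, e_3_5⟩ := hx
      have z_0_5 : T.a u0 u5 = 0 := cl_0 u5 ⟨hn_5_0, hn_5_1, hn_5_2⟩
      have z_1_5 : T.a u1 u5 = 0 := cl_1 u5 ⟨hn_5_0, hn_5_1, hn_5_2, hn_5_3⟩
      have z_2_5 : T.a u2 u5 = 0 := cl_2 u5 ⟨hn_5_0, hn_5_1, hn_5_2, hn_5_3, hn_5_4⟩
      rcases Groth.Agent.Helper6.NT.edge5 T h2 (by norm_num) u3 u5 hn_5_3.symm e_3_5 with ⟨tw_3_5, tap_3_5, taq_3_5⟩ | ⟨tw_3_5, tap_3_5, taq_3_5⟩ | ⟨tw_3_5, tap_3_5, taq_3_5⟩ | ⟨tw_3_5, tap_3_5, taq_3_5⟩ | ⟨tw_3_5, tap_3_5, taq_3_5⟩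
      · -- (3,5) S
        exfalso
        have key := Groth.Agent.Helper6.NT.negfun5 T h2 u0 u1 u2 u3 u5 (by norm_num) 2 3 1 4 2 (by norm_num) (by norm_num)
        linarith only [key, tap_0_1, taq_0_1, tap_0_2, taq_0_2, z_0_3, z_0_5, z_1_2, tap_1_3, taq_1_3, z_1_5, z_2_3, z_2_5, tap_3_5, taq_3_5, T.w_pos u0, T.w_pos u1, T.w_pos u2, T.w_pos u3, T.w_pos u5]
      · -- (3,5) Dp
        exfalso
        have key := Groth.Agent.Helper6.NT.negfun3 T h2 u1 u3 u5 (by norm_num) 1 2 1 (by norm_num) (by norm_num)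
        linarith only [key, tap_1_3, taq_1_3, z_1_5, tap_3_5, taq_3_5, T.w_pos u1, T.w_pos u3, T.w_pos u5]
      · -- (3,5) Dm
        exfalso
        have key := Groth.Agent.Helper6.NT.negfun3 T h2 u1 u3 u5 (by norm_num) 1 2 2 (by norm_num) (by norm_num)
        linarith only [key, tap_1_3, taq_1_3, z_1_5, tap_3_5, taq_3_5, T.w_pos u1, T.w_pos u3, T.w_pos u5]
      · -- (3,5) Tp
        exfalso
        have key := Groth.Agent.Helper6.NT.negfun3 T h2 u1 u3 u5 (by norm_num) 1 2 1 (by norm_num) (by norm_num)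
        linarith only [key, tap_1_3, taq_1_3, z_1_5, tap_3_5, taq_3_5, T.w_pos u1, T.w_pos u3, T.w_pos u5]
      · -- (3,5) Tm
        exfalso
        have key := Groth.Agent.Helper6.NT.negfun3 T h2 u1 u3 u5 (by norm_num) 1 2 3 (by norm_num) (by norm_num)
        linarith only [key, tap_1_3, taq_1_3, z_1_5, tap_3_5, taq_3_5, T.w_pos u1, T.w_pos u3, T.w_pos u5]
    · push Not at hx
      have cl_3 := hx
      clear hx
      by_cases hx : ∃ j, (j ≠ u0 ∧ j ≠ u1 ∧ j ≠ u2 ∧ j ≠ u3 ∧ j ≠ u4) ∧ T.a u4 j ≠ 0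
      · obtain ⟨u5, ⟨hn_5_0, hn_5_1, hn_5_2, hn_5_3, hn_5_4⟩, e_4_5⟩ := hx
        have z_0_5 : T.a u0 u5 = 0 := cl_0 u5 ⟨hn_5_0, hn_5_1, hn_5_2⟩
        have z_1_5 : T.a u1 u5 = 0 := cl_1 u5 ⟨hn_5_0, hn_5_1, hn_5_2, hn_5_3⟩
        have z_2_5 : T.a u2 u5 = 0 := cl_2 u5 ⟨hn_5_0, hn_5_1, hn_5_2, hn_5_3, hn_5_4⟩
        have z_3_5 : T.a u3 u5 = 0 := cl_3 u5 ⟨hn_5_0, hn_5_1, hn_5_2, hn_5_3, hn_5_4⟩
        rcases Groth.Agent.Helper6.NT.edge5 T h2 (by norm_num) u4 u5 hn_5_4.symm e_4_5 with ⟨tw_4_5, tap_4_5, taq_4_5⟩ | ⟨tw_4_5, tap_4_5, taq_4_5⟩ | ⟨tw_4_5, tap_4_5, taq_4_5⟩ | ⟨tw_4_5, tap_4_5, taq_4_5⟩ | ⟨tw_4_5, tap_4_5, taq_4_5⟩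
        · -- (4,5) S
          by_cases hx : ∃ j, (j ≠ u0 ∧ j ≠ u1 ∧ j ≠ u2 ∧ j ≠ u3 ∧ j ≠ u4 ∧ j ≠ u5) ∧ T.a u4 j ≠ 0
          · obtain ⟨u6, ⟨hn_6_0, hn_6_1, hn_6_2, hn_6_3, hn_6_4, hn_6_5⟩, e_4_6⟩ := hx
            have z_0_6 : T.a u0 u6 = 0 := cl_0 u6 ⟨hn_6_0, hn_6_1, hn_6_2⟩
            have z_1_6 : T.a u1 u6 = 0 := cl_1 u6 ⟨hn_6_0, hn_6_1, hn_6_2, hn_6_3⟩
            have z_2_6 : T.a u2 u6 = 0 := cl_2 u6 ⟨hn_6_0, hn_6_1, hn_6_2, hn_6_3, hn_6_4⟩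
            have z_3_6 : T.a u3 u6 = 0 := cl_3 u6 ⟨hn_6_0, hn_6_1, hn_6_2, hn_6_3, hn_6_4⟩
            rcases Groth.Agent.Helper6.NT.edge5 T h2 (by norm_num) u4 u6 hn_6_4.symm e_4_6 with ⟨tw_4_6, tap_4_6, taq_4_6⟩ | ⟨tw_4_6, tap_4_6, taq_4_6⟩ | ⟨tw_4_6, tap_4_6, taq_4_6⟩ | ⟨tw_4_6, tap_4_6, taq_4_6⟩ | ⟨tw_4_6, tap_4_6, taq_4_6⟩
            · -- (4,6) S
              exfalso
              have key := Groth.Agent.Helper6.NT.negfun7 T h2 u0 u1 u2 u3 u4 u5 u6 (by norm_num) 2 2 2 2 2 1 1 (by norm_num) (by norm_num)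
              linarith only [key, tap_0_1, taq_0_1, tap_0_2, taq_0_2, z_0_3, z_0_4, z_0_5, z_0_6, z_1_2, tap_1_3, taq_1_3, z_1_4, z_1_5, z_1_6, z_2_3, tap_2_4, taq_2_4, z_2_5, z_2_6, z_3_4, z_3_5, z_3_6, tap_4_5, taq_4_5, tap_4_6, taq_4_6, T.offDiag_nonneg u5 u6 hn_6_5.symm, T.w_pos u0, T.w_pos u1, T.w_pos u2, T.w_pos u3, T.w_pos u4, T.w_pos u5, T.w_pos u6]
            · -- (4,6) Dp
              exfalso
              have key := Groth.Agent.Helper6.NT.negfun4 T h2 u2 u4 u5 u6 (by norm_num) 1 2 1 1 (by norm_num) (by norm_num)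
              linarith only [key, tap_2_4, taq_2_4, z_2_5, z_2_6, tap_4_5, taq_4_5, tap_4_6, taq_4_6, T.offDiag_nonneg u5 u6 hn_6_5.symm, T.w_pos u2, T.w_pos u4, T.w_pos u5, T.w_pos u6]
            · -- (4,6) Dm
              exfalso
              have key := Groth.Agent.Helper6.NT.negfun4 T h2 u2 u4 u5 u6 (by norm_num) 1 2 1 2 (by norm_num) (by norm_num)
              linarith only [key, tap_2_4, taq_2_4, z_2_5, z_2_6, tap_4_5, taq_4_5, tap_4_6, taq_4_6, T.offDiag_nonneg u5 u6 hn_6_5.symm, T.w_pos u2, T.w_pos u4, T.w_pos u5, T.w_pos u6]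
            · -- (4,6) Tp
              exfalso
              have key := Groth.Agent.Helper6.NT.negfun3 T h2 u4 u5 u6 (by norm_num) 2 1 1 (by norm_num) (by norm_num)
              linarith only [key, tap_4_5, taq_4_5, tap_4_6, taq_4_6, T.offDiag_nonneg u5 u6 hn_6_5.symm, T.w_pos u4, T.w_pos u5, T.w_pos u6]
            · -- (4,6) Tm
              exfalso
              have key := Groth.Agent.Helper6.NT.negfun3 T h2 u4 u5 u6 (by norm_num) 2 1 3 (by norm_num) (by norm_num)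
              linarith only [key, tap_4_5, taq_4_5, tap_4_6, taq_4_6, T.offDiag_nonneg u5 u6 hn_6_5.symm, T.w_pos u4, T.w_pos u5, T.w_pos u6]
          · push Not at hx
            have cl_4 := hx
            clear hx
            by_cases hx : ∃ j, (j ≠ u0 ∧ j ≠ u1 ∧ j ≠ u2 ∧ j ≠ u3 ∧ j ≠ u4 ∧ j ≠ u5) ∧ T.a u5 j ≠ 0
            · obtain ⟨u6, ⟨hn_6_0, hn_6_1, hn_6_2, hn_6_3, hn_6_4, hn_6_5⟩, e_5_6⟩ := hx
              have z_0_6 : T.a u0 u6 = 0 := cl_0 u6 ⟨hn_6_0, hn_6_1, hn_6_2⟩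
              have z_1_6 : T.a u1 u6 = 0 := cl_1 u6 ⟨hn_6_0, hn_6_1, hn_6_2, hn_6_3⟩
              have z_2_6 : T.a u2 u6 = 0 := cl_2 u6 ⟨hn_6_0, hn_6_1, hn_6_2, hn_6_3, hn_6_4⟩
              have z_3_6 : T.a u3 u6 = 0 := cl_3 u6 ⟨hn_6_0, hn_6_1, hn_6_2, hn_6_3, hn_6_4⟩
              have z_4_6 : T.a u4 u6 = 0 := cl_4 u6 ⟨hn_6_0, hn_6_1, hn_6_2, hn_6_3, hn_6_4, hn_6_5⟩
              rcases Groth.Agent.Helper6.NT.edge5 T h2 (by norm_num) u5 u6 hn_6_5.symm e_5_6 with ⟨tw_5_6, tap_5_6, taq_5_6⟩ | ⟨tw_5_6, tap_5_6, taq_5_6⟩ | ⟨tw_5_6, tap_5_6, taq_5_6⟩ | ⟨tw_5_6, tap_5_6, taq_5_6⟩ | ⟨tw_5_6, tap_5_6, taq_5_6⟩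
              · -- (5,6) S
                by_cases hx : ∃ j, (j ≠ u0 ∧ j ≠ u1 ∧ j ≠ u2 ∧ j ≠ u3 ∧ j ≠ u4 ∧ j ≠ u5 ∧ j ≠ u6) ∧ T.a u5 j ≠ 0
                · obtain ⟨u7, ⟨hn_7_0, hn_7_1, hn_7_2, hn_7_3, hn_7_4, hn_7_5, hn_7_6⟩, e_5_7⟩ := hx
                  have z_0_7 : T.a u0 u7 = 0 := cl_0 u7 ⟨hn_7_0, hn_7_1, hn_7_2⟩
                  have z_1_7 : T.a u1 u7 = 0 := cl_1 u7 ⟨hn_7_0, hn_7_1, hn_7_2, hn_7_3⟩
                  have z_2_7 : T.a u2 u7 = 0 := cl_2 u7 ⟨hn_7_0, hn_7_1, hn_7_2, hn_7_3, hn_7_4⟩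
                  have z_3_7 : T.a u3 u7 = 0 := cl_3 u7 ⟨hn_7_0, hn_7_1, hn_7_2, hn_7_3, hn_7_4⟩
                  have z_4_7 : T.a u4 u7 = 0 := cl_4 u7 ⟨hn_7_0, hn_7_1, hn_7_2, hn_7_3, hn_7_4, hn_7_5⟩
                  rcases Groth.Agent.Helper6.NT.edge5 T h2 (by norm_num) u5 u7 hn_7_5.symm e_5_7 with ⟨tw_5_7, tap_5_7, taq_5_7⟩ | ⟨tw_5_7, tap_5_7, taq_5_7⟩ | ⟨tw_5_7, tap_5_7, taq_5_7⟩ | ⟨tw_5_7, tap_5_7, taq_5_7⟩ | ⟨tw_5_7, tap_5_7, taq_5_7⟩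
                  · -- (5,7) S
                    rcases eq_or_ne (T.a u6 u7) 0 with z_6_7 | nz_6_7
                    · -- (6,7) zero
                      have hinj := Groth.Agent.Helper6.NT.inj8 u0 u1 u2 u3 u4 u5 u6 u7 hn_1_0 hn_2_0 hn_2_1 hn_3_0 hn_3_1 hn_3_2 hn_4_0 hn_4_1 hn_4_2 hn_4_3 hn_5_0 hn_5_1 hn_5_2 hn_5_3 hn_5_4 hn_6_0 hn_6_1 hn_6_2 hn_6_3 hn_6_4 hn_6_5 hn_7_0 hn_7_1 hn_7_2 hn_7_3 hn_7_4 hn_7_5 hn_7_6
                      have r_0 : -2 * T.m u0 + 1 * T.m u1 + 1 * T.m u2 = 0 := by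
                        have key := Groth.Agent.Helper6.NT.rowfun8 T u0 u1 u2 u3 u4 u5 u6 u7 hinj u0
                        rw [(h2 u0).2, tap_0_1, tap_0_2, z_0_3, z_0_4, z_0_5, z_0_6, z_0_7] at key
                        exact mul_left_cancel₀ (T.w_pos u0).ne' (by linarith only [key])
                      have r_1 : 1 * T.m u0 + -2 * T.m u1 + 1 * T.m u3 = 0 := by
                        have key := Groth.Agent.Helper6.NT.rowfun8 T u0 u1 u2 u3 u4 u5 u6 u7 hinj u1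
                        rw [Groth.Agent.Helper6.NT.symm' T u1 u0, taq_0_1, (h2 u1).2, z_1_2, tap_1_3, z_1_4, z_1_5, z_1_6, z_1_7] at key
                        exact mul_left_cancel₀ (T.w_pos u1).ne' (by linarith only [key])
                      have r_2 : 1 * T.m u0 + -2 * T.m u2 + 1 * T.m u4 = 0 := by
                        have key := Groth.Agent.Helper6.NT.rowfun8 T u0 u1 u2 u3 u4 u5 u6 u7 hinj u2
                        rw [Groth.Agent.Helper6.NT.symm' T u2 u0, taq_0_2, Groth.Agent.Helper6.NT.symm' T u2 u1, z_1_2, (h2 u2).2, z_2_3, tap_2_4, z_2_5, z_2_6, z_2_7] at key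
                        exact mul_left_cancel₀ (T.w_pos u2).ne' (by linarith only [key])
                      have r_3 : 2 * T.m u1 + -2 * T.m u3 = 0 := by
                        have key := Groth.Agent.Helper6.NT.rowfun8 T u0 u1 u2 u3 u4 u5 u6 u7 hinj u3
                        rw [Groth.Agent.Helper6.NT.symm' T u3 u0, z_0_3, Groth.Agent.Helper6.NT.symm' T u3 u1, taq_1_3, Groth.Agent.Helper6.NT.symm' T u3 u2, z_2_3, (h2 u3).2, z_3_4, z_3_5, z_3_6, z_3_7] at key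
                        exact mul_left_cancel₀ (T.w_pos u3).ne' (by linarith only [key])
                      have r_4 : 1 * T.m u2 + -2 * T.m u4 + 1 * T.m u5 = 0 := by
                        have key := Groth.Agent.Helper6.NT.rowfun8 T u0 u1 u2 u3 u4 u5 u6 u7 hinj u4
                        rw [Groth.Agent.Helper6.NT.symm' T u4 u0, z_0_4, Groth.Agent.Helper6.NT.symm' T u4 u1, z_1_4, Groth.Agent.Helper6.NT.symm' T u4 u2, taq_2_4, Groth.Agent.Helper6.NT.symm' T u4 u3, z_3_4, (h2 u4).2, tap_4_5, z_4_6, z_4_7] at key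
                        exact mul_left_cancel₀ (T.w_pos u4).ne' (by linarith only [key])
                      have r_5 : 1 * T.m u4 + -2 * T.m u5 + 1 * T.m u6 + 1 * T.m u7 = 0 := by
                        have key := Groth.Agent.Helper6.NT.rowfun8 T u0 u1 u2 u3 u4 u5 u6 u7 hinj u5
                        rw [Groth.Agent.Helper6.NT.symm' T u5 u0, z_0_5, Groth.Agent.Helper6.NT.symm' T u5 u1, z_1_5, Groth.Agent.Helper6.NT.symm' T u5 u2, z_2_5, Groth.Agent.Helper6.NT.symm' T u5 u3, z_3_5, Groth.Agent.Helper6.NT.symm' T u5 u4, taq_4_5, (h2 u5).2, tap_5_6, tap_5_7] at key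
                        exact mul_left_cancel₀ (T.w_pos u5).ne' (by linarith only [key])
                      have r_6 : 1 * T.m u5 + -2 * T.m u6 = 0 := by
                        have key := Groth.Agent.Helper6.NT.rowfun8 T u0 u1 u2 u3 u4 u5 u6 u7 hinj u6
                        rw [Groth.Agent.Helper6.NT.symm' T u6 u0, z_0_6, Groth.Agent.Helper6.NT.symm' T u6 u1, z_1_6, Groth.Agent.Helper6.NT.symm' T u6 u2, z_2_6, Groth.Agent.Helper6.NT.symm' T u6 u3, z_3_6, Groth.Agent.Helper6.NT.symm' T u6 u4, z_4_6, Groth.Agent.Helper6.NT.symm' T u6 u5, taq_5_6, (h2 u6).2, z_6_7] at key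
                        exact mul_left_cancel₀ (T.w_pos u6).ne' (by linarith only [key])
                      have r_7 : 1 * T.m u5 + -2 * T.m u7 = 0 := by
                        have key := Groth.Agent.Helper6.NT.rowfun8 T u0 u1 u2 u3 u4 u5 u6 u7 hinj u7
                        rw [Groth.Agent.Helper6.NT.symm' T u7 u0, z_0_7, Groth.Agent.Helper6.NT.symm' T u7 u1, z_1_7, Groth.Agent.Helper6.NT.symm' T u7 u2, z_2_7, Groth.Agent.Helper6.NT.symm' T u7 u3, z_3_7, Groth.Agent.Helper6.NT.symm' T u7 u4, z_4_7, Groth.Agent.Helper6.NT.symm' T u7 u5, taq_5_7, Groth.Agent.Helper6.NT.symm' T u7 u6, z_6_7, (h2 u7).2] at key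
                        exact mul_left_cancel₀ (T.w_pos u7).ne' (by linarith only [key])
                      have f0 : T.m u3 = 2 * T.m u6 := by linarith only [r_0, r_1, r_2, r_3, r_4, r_5, r_6, r_7]
                      have f1 : T.m u1 = 2 * T.m u6 := by linarith only [r_0, r_1, r_2, r_3, r_4, r_5, r_6, r_7]
                      have f2 : T.m u0 = 2 * T.m u6 := by linarith only [r_0, r_1, r_2, r_3, r_4, r_5, r_6, r_7]
                      have f3 : T.m u2 = 2 * T.m u6 := by linarith only [r_0, r_1, r_2, r_3, r_4, r_5, r_6, r_7]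
                      have f4 : T.m u4 = 2 * T.m u6 := by linarith only [r_0, r_1, r_2, r_3, r_4, r_5, r_6, r_7]
                      have f5 : T.m u5 = 2 * T.m u6 := by linarith only [r_0, r_1, r_2, r_3, r_4, r_5, r_6, r_7]
                      have f6 : T.m u6 = T.m u6 := rfl
                      have f7 : T.m u7 = T.m u6 := by linarith only [r_0, r_1, r_2, r_3, r_4, r_5, r_6, r_7]
                      have f8 : T.w u3 = T.w u3 := rfl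
                      have f9 : T.w u1 = 2 * T.w u3 := by linarith only [tw_0_1, tw_0_2, tw_1_3, tw_2_4, tw_4_5, tw_5_6, tw_5_7]
                      have f10 : T.w u0 = 2 * T.w u3 := by linarith only [tw_0_1, tw_0_2, tw_1_3, tw_2_4, tw_4_5, tw_5_6, tw_5_7]
                      have f11 : T.w u2 = 2 * T.w u3 := by linarith only [tw_0_1, tw_0_2, tw_1_3, tw_2_4, tw_4_5, tw_5_6, tw_5_7]
                      have f12 : T.w u4 = 2 * T.w u3 := by linarith only [tw_0_1, tw_0_2, tw_1_3, tw_2_4, tw_4_5, tw_5_6, tw_5_7]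
                      have f13 : T.w u5 = 2 * T.w u3 := by linarith only [tw_0_1, tw_0_2, tw_1_3, tw_2_4, tw_4_5, tw_5_6, tw_5_7]
                      have f14 : T.w u6 = 2 * T.w u3 := by linarith only [tw_0_1, tw_0_2, tw_1_3, tw_2_4, tw_4_5, tw_5_6, tw_5_7]
                      have f15 : T.w u7 = 2 * T.w u3 := by linarith only [tw_0_1, tw_0_2, tw_1_3, tw_2_4, tw_4_5, tw_5_6, tw_5_7]
                      have f16 : T.a u3 u3 = -2 * T.w u3 := by have := (h2 u3).2; linarith only [this, tw_0_1, tw_0_2, tw_1_3, tw_2_4, tw_4_5, tw_5_6, tw_5_7]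
                      have f17 : T.a u3 u1 = 2 * T.w u3 := by rw [Groth.Agent.Helper6.NT.symm' T u3 u1]; linarith only [tap_1_3, tw_0_1, tw_0_2, tw_1_3, tw_2_4, tw_4_5, tw_5_6, tw_5_7]
                      have f18 : T.a u3 u0 = 0 := by rw [Groth.Agent.Helper6.NT.symm' T u3 u0]; exact z_0_3
                      have f19 : T.a u3 u2 = 0 := by rw [Groth.Agent.Helper6.NT.symm' T u3 u2]; exact z_2_3
                      have f20 : T.a u3 u4 = 0 := by exact z_3_4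
                      have f21 : T.a u3 u5 = 0 := by exact z_3_5
                      have f22 : T.a u3 u6 = 0 := by exact z_3_6
                      have f23 : T.a u3 u7 = 0 := by exact z_3_7
                      have f24 : T.a u1 u1 = -4 * T.w u3 := by have := (h2 u1).2; linarith only [this, tw_0_1, tw_0_2, tw_1_3, tw_2_4, tw_4_5, tw_5_6, tw_5_7]
                      have f25 : T.a u1 u0 = 2 * T.w u3 := by rw [Groth.Agent.Helper6.NT.symm' T u1 u0]; linarith only [tap_0_1, tw_0_1, tw_0_2, tw_1_3, tw_2_4, tw_4_5, tw_5_6, tw_5_7]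
                      have f26 : T.a u1 u2 = 0 := by exact z_1_2
                      have f27 : T.a u1 u4 = 0 := by exact z_1_4
                      have f28 : T.a u1 u5 = 0 := by exact z_1_5
                      have f29 : T.a u1 u6 = 0 := by exact z_1_6
                      have f30 : T.a u1 u7 = 0 := by exact z_1_7
                      have f31 : T.a u0 u0 = -4 * T.w u3 := by have := (h2 u0).2; linarith only [this, tw_0_1, tw_0_2, tw_1_3, tw_2_4, tw_4_5, tw_5_6, tw_5_7]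
                      have f32 : T.a u0 u2 = 2 * T.w u3 := by linarith only [tap_0_2, tw_0_1, tw_0_2, tw_1_3, tw_2_4, tw_4_5, tw_5_6, tw_5_7]
                      have f33 : T.a u0 u4 = 0 := by exact z_0_4
                      have f34 : T.a u0 u5 = 0 := by exact z_0_5
                      have f35 : T.a u0 u6 = 0 := by exact z_0_6
                      have f36 : T.a u0 u7 = 0 := by exact z_0_7
                      have f37 : T.a u2 u2 = -4 * T.w u3 := by have := (h2 u2).2; linarith only [this, tw_0_1, tw_0_2, tw_1_3, tw_2_4, tw_4_5, tw_5_6, tw_5_7]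
                      have f38 : T.a u2 u4 = 2 * T.w u3 := by linarith only [tap_2_4, tw_0_1, tw_0_2, tw_1_3, tw_2_4, tw_4_5, tw_5_6, tw_5_7]
                      have f39 : T.a u2 u5 = 0 := by exact z_2_5
                      have f40 : T.a u2 u6 = 0 := by exact z_2_6
                      have f41 : T.a u2 u7 = 0 := by exact z_2_7
                      have f42 : T.a u4 u4 = -4 * T.w u3 := by have := (h2 u4).2; linarith only [this, tw_0_1, tw_0_2, tw_1_3, tw_2_4, tw_4_5, tw_5_6, tw_5_7]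
                      have f43 : T.a u4 u5 = 2 * T.w u3 := by linarith only [tap_4_5, tw_0_1, tw_0_2, tw_1_3, tw_2_4, tw_4_5, tw_5_6, tw_5_7]
                      have f44 : T.a u4 u6 = 0 := by exact z_4_6
                      have f45 : T.a u4 u7 = 0 := by exact z_4_7
                      have f46 : T.a u5 u5 = -4 * T.w u3 := by have := (h2 u5).2; linarith only [this, tw_0_1, tw_0_2, tw_1_3, tw_2_4, tw_4_5, tw_5_6, tw_5_7]
                      have f47 : T.a u5 u6 = 2 * T.w u3 := by linarith only [tap_5_6, tw_0_1, tw_0_2, tw_1_3, tw_2_4, tw_4_5, tw_5_6, tw_5_7]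
                      have f48 : T.a u5 u7 = 2 * T.w u3 := by linarith only [tap_5_7, tw_0_1, tw_0_2, tw_1_3, tw_2_4, tw_4_5, tw_5_6, tw_5_7]
                      have f49 : T.a u6 u6 = -4 * T.w u3 := by have := (h2 u6).2; linarith only [this, tw_0_1, tw_0_2, tw_1_3, tw_2_4, tw_4_5, tw_5_6, tw_5_7]
                      have f50 : T.a u6 u7 = 0 := by exact z_6_7
                      have f51 : T.a u7 u7 = -4 * T.w u3 := by have := (h2 u7).2; linarith only [this, tw_0_1, tw_0_2, tw_1_3, tw_2_4, tw_4_5, tw_5_6, tw_5_7]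
                      have hsig := Groth.Agent.Helper6.NT.inj8 u3 u1 u0 u2 u4 u5 u6 u7 hn_3_1.symm hn_3_0.symm hn_1_0.symm hn_3_2.symm hn_2_1 hn_2_0 hn_4_3 hn_4_1 hn_4_0 hn_4_2 hn_5_3 hn_5_1 hn_5_0 hn_5_2 hn_5_4 hn_6_3 hn_6_1 hn_6_0 hn_6_2 hn_6_4 hn_6_5 hn_7_3 hn_7_1 hn_7_0 hn_7_2 hn_7_4 hn_7_5 hn_7_6
                      exact ⟨Equiv.ofBijective _ (Finite.injective_iff_bijective.1 hsig), T.m u6, T.w u3, Or.inr (Or.inr (Or.inr (Or.inr (Or.inr (Or.inl ⟨f0, f1, f2, f3, f4, f5, f6, f7, f8, f9, f10, f11, f12, f13, f14, f15, f16, f17, f18, f19, f20, f21, f22, f23, f24, f25, f26, f27, f28, f29, f30, f31, f32, f33, f34, f35, f36, f37, f38, f39, f40, f41, f42, f43, f44, f45, f46, f47, f48, f49, f50, f51⟩)))))⟩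
                    · -- (6,7) nonzero
                      obtain ⟨lbp_6_7, lbq_6_7⟩ := Groth.Agent.Helper6.NT.lb T u6 u7 hn_7_6.symm nz_6_7
                      exfalso
                      have key := Groth.Agent.Helper6.NT.negfun3 T h2 u5 u6 u7 (by norm_num) 1 1 1 (by norm_num) (by norm_num)
                      linarith only [key, tap_5_6, taq_5_6, tap_5_7, taq_5_7, lbp_6_7, lbq_6_7, T.w_pos u5, T.w_pos u6, T.w_pos u7]
                  · -- (5,7) Dp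
                    exfalso
                    have key := Groth.Agent.Helper6.NT.negfun4 T h2 u4 u5 u6 u7 (by norm_num) 1 2 1 1 (by norm_num) (by norm_num)
                    linarith only [key, tap_4_5, taq_4_5, z_4_6, z_4_7, tap_5_6, taq_5_6, tap_5_7, taq_5_7, T.offDiag_nonneg u6 u7 hn_7_6.symm, T.w_pos u4, T.w_pos u5, T.w_pos u6, T.w_pos u7]
                  · -- (5,7) Dm
                    exfalso
                    have key := Groth.Agent.Helper6.NT.negfun4 T h2 u4 u5 u6 u7 (by norm_num) 1 2 1 2 (by norm_num) (by norm_num)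
                    linarith only [key, tap_4_5, taq_4_5, z_4_6, z_4_7, tap_5_6, taq_5_6, tap_5_7, taq_5_7, T.offDiag_nonneg u6 u7 hn_7_6.symm, T.w_pos u4, T.w_pos u5, T.w_pos u6, T.w_pos u7]
                  · -- (5,7) Tp
                    exfalso
                    have key := Groth.Agent.Helper6.NT.negfun3 T h2 u5 u6 u7 (by norm_num) 2 1 1 (by norm_num) (by norm_num)
                    linarith only [key, tap_5_6, taq_5_6, tap_5_7, taq_5_7, T.offDiag_nonneg u6 u7 hn_7_6.symm, T.w_pos u5, T.w_pos u6, T.w_pos u7]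
                  · -- (5,7) Tm
                    exfalso
                    have key := Groth.Agent.Helper6.NT.negfun3 T h2 u5 u6 u7 (by norm_num) 2 1 3 (by norm_num) (by norm_num)
                    linarith only [key, tap_5_6, taq_5_6, tap_5_7, taq_5_7, T.offDiag_nonneg u6 u7 hn_7_6.symm, T.w_pos u5, T.w_pos u6, T.w_pos u7]
                · push Not at hx
                  have cl_5 := hx
                  clear hx
                  by_cases hx : ∃ j, (j ≠ u0 ∧ j ≠ u1 ∧ j ≠ u2 ∧ j ≠ u3 ∧ j ≠ u4 ∧ j ≠ u5 ∧ j ≠ u6) ∧ T.a u6 j ≠ 0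
                  · obtain ⟨u7, ⟨hn_7_0, hn_7_1, hn_7_2, hn_7_3, hn_7_4, hn_7_5, hn_7_6⟩, e_6_7⟩ := hx
                    have z_0_7 : T.a u0 u7 = 0 := cl_0 u7 ⟨hn_7_0, hn_7_1, hn_7_2⟩
                    have z_1_7 : T.a u1 u7 = 0 := cl_1 u7 ⟨hn_7_0, hn_7_1, hn_7_2, hn_7_3⟩
                    have z_2_7 : T.a u2 u7 = 0 := cl_2 u7 ⟨hn_7_0, hn_7_1, hn_7_2, hn_7_3, hn_7_4⟩
                    have z_3_7 : T.a u3 u7 = 0 := cl_3 u7 ⟨hn_7_0, hn_7_1, hn_7_2, hn_7_3, hn_7_4⟩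
                    have z_4_7 : T.a u4 u7 = 0 := cl_4 u7 ⟨hn_7_0, hn_7_1, hn_7_2, hn_7_3, hn_7_4, hn_7_5⟩
                    have z_5_7 : T.a u5 u7 = 0 := cl_5 u7 ⟨hn_7_0, hn_7_1, hn_7_2, hn_7_3, hn_7_4, hn_7_5, hn_7_6⟩
                    rcases Groth.Agent.Helper6.NT.edge5 T h2 (by norm_num) u6 u7 hn_7_6.symm e_6_7 with ⟨tw_6_7, tap_6_7, taq_6_7⟩ | ⟨tw_6_7, tap_6_7, taq_6_7⟩ | ⟨tw_6_7, tap_6_7, taq_6_7⟩ | ⟨tw_6_7, tap_6_7, taq_6_7⟩ | ⟨tw_6_7, tap_6_7, taq_6_7⟩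
                    · -- (6,7) S
                      have hinj := Groth.Agent.Helper6.NT.inj8 u0 u1 u2 u3 u4 u5 u6 u7 hn_1_0 hn_2_0 hn_2_1 hn_3_0 hn_3_1 hn_3_2 hn_4_0 hn_4_1 hn_4_2 hn_4_3 hn_5_0 hn_5_1 hn_5_2 hn_5_3 hn_5_4 hn_6_0 hn_6_1 hn_6_2 hn_6_3 hn_6_4 hn_6_5 hn_7_0 hn_7_1 hn_7_2 hn_7_3 hn_7_4 hn_7_5 hn_7_6
                      have r_0 : -2 * T.m u0 + 1 * T.m u1 + 1 * T.m u2 = 0 := by
                        have key := Groth.Agent.Helper6.NT.rowfun8 T u0 u1 u2 u3 u4 u5 u6 u7 hinj u0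
                        rw [(h2 u0).2, tap_0_1, tap_0_2, z_0_3, z_0_4, z_0_5, z_0_6, z_0_7] at key
                        exact mul_left_cancel₀ (T.w_pos u0).ne' (by linarith only [key])
                      have r_1 : 1 * T.m u0 + -2 * T.m u1 + 1 * T.m u3 = 0 := by
                        have key := Groth.Agent.Helper6.NT.rowfun8 T u0 u1 u2 u3 u4 u5 u6 u7 hinj u1
                        rw [Groth.Agent.Helper6.NT.symm' T u1 u0, taq_0_1, (h2 u1).2, z_1_2, tap_1_3, z_1_4, z_1_5, z_1_6, z_1_7] at key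
                        exact mul_left_cancel₀ (T.w_pos u1).ne' (by linarith only [key])
                      have r_2 : 1 * T.m u0 + -2 * T.m u2 + 1 * T.m u4 = 0 := by
                        have key := Groth.Agent.Helper6.NT.rowfun8 T u0 u1 u2 u3 u4 u5 u6 u7 hinj u2
                        rw [Groth.Agent.Helper6.NT.symm' T u2 u0, taq_0_2, Groth.Agent.Helper6.NT.symm' T u2 u1, z_1_2, (h2 u2).2, z_2_3, tap_2_4, z_2_5, z_2_6, z_2_7] at key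
                        exact mul_left_cancel₀ (T.w_pos u2).ne' (by linarith only [key])
                      have r_3 : 2 * T.m u1 + -2 * T.m u3 = 0 := by
                        have key := Groth.Agent.Helper6.NT.rowfun8 T u0 u1 u2 u3 u4 u5 u6 u7 hinj u3
                        rw [Groth.Agent.Helper6.NT.symm' T u3 u0, z_0_3, Groth.Agent.Helper6.NT.symm' T u3 u1, taq_1_3, Groth.Agent.Helper6.NT.symm' T u3 u2, z_2_3, (h2 u3).2, z_3_4, z_3_5, z_3_6, z_3_7] at key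
                        exact mul_left_cancel₀ (T.w_pos u3).ne' (by linarith only [key])
                      have r_4 : 1 * T.m u2 + -2 * T.m u4 + 1 * T.m u5 = 0 := by
                        have key := Groth.Agent.Helper6.NT.rowfun8 T u0 u1 u2 u3 u4 u5 u6 u7 hinj u4
                        rw [Groth.Agent.Helper6.NT.symm' T u4 u0, z_0_4, Groth.Agent.Helper6.NT.symm' T u4 u1, z_1_4, Groth.Agent.Helper6.NT.symm' T u4 u2, taq_2_4, Groth.Agent.Helper6.NT.symm' T u4 u3, z_3_4, (h2 u4).2, tap_4_5, z_4_6, z_4_7] at key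
                        exact mul_left_cancel₀ (T.w_pos u4).ne' (by linarith only [key])
                      have r_5 : 1 * T.m u4 + -2 * T.m u5 + 1 * T.m u6 = 0 := by
                        have key := Groth.Agent.Helper6.NT.rowfun8 T u0 u1 u2 u3 u4 u5 u6 u7 hinj u5
                        rw [Groth.Agent.Helper6.NT.symm' T u5 u0, z_0_5, Groth.Agent.Helper6.NT.symm' T u5 u1, z_1_5, Groth.Agent.Helper6.NT.symm' T u5 u2, z_2_5, Groth.Agent.Helper6.NT.symm' T u5 u3, z_3_5, Groth.Agent.Helper6.NT.symm' T u5 u4, taq_4_5, (h2 u5).2, tap_5_6, z_5_7] at key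
                        exact mul_left_cancel₀ (T.w_pos u5).ne' (by linarith only [key])
                      have r_6 : 1 * T.m u5 + -2 * T.m u6 + 1 * T.m u7 = 0 := by
                        have key := Groth.Agent.Helper6.NT.rowfun8 T u0 u1 u2 u3 u4 u5 u6 u7 hinj u6
                        rw [Groth.Agent.Helper6.NT.symm' T u6 u0, z_0_6, Groth.Agent.Helper6.NT.symm' T u6 u1, z_1_6, Groth.Agent.Helper6.NT.symm' T u6 u2, z_2_6, Groth.Agent.Helper6.NT.symm' T u6 u3, z_3_6, Groth.Agent.Helper6.NT.symm' T u6 u4, z_4_6, Groth.Agent.Helper6.NT.symm' T u6 u5, taq_5_6, (h2 u6).2, tap_6_7] at key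
                        exact mul_left_cancel₀ (T.w_pos u6).ne' (by linarith only [key])
                      have r_7 : 1 * T.m u6 + -2 * T.m u7 = 0 := by
                        have key := Groth.Agent.Helper6.NT.rowfun8 T u0 u1 u2 u3 u4 u5 u6 u7 hinj u7
                        rw [Groth.Agent.Helper6.NT.symm' T u7 u0, z_0_7, Groth.Agent.Helper6.NT.symm' T u7 u1, z_1_7, Groth.Agent.Helper6.NT.symm' T u7 u2, z_2_7, Groth.Agent.Helper6.NT.symm' T u7 u3, z_3_7, Groth.Agent.Helper6.NT.symm' T u7 u4, z_4_7, Groth.Agent.Helper6.NT.symm' T u7 u5, z_5_7, Groth.Agent.Helper6.NT.symm' T u7 u6, taq_6_7, (h2 u7).2] at key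
                        exact mul_left_cancel₀ (T.w_pos u7).ne' (by linarith only [key])
                      exfalso
                      linarith only [r_0, r_1, r_2, r_3, r_4, r_5, r_6, r_7, T.m_pos u0, T.m_pos u1, T.m_pos u2, T.m_pos u3, T.m_pos u4, T.m_pos u5, T.m_pos u6, T.m_pos u7]
                    · -- (6,7) Dp
                      have hinj := Groth.Agent.Helper6.NT.inj8 u0 u1 u2 u3 u4 u5 u6 u7 hn_1_0 hn_2_0 hn_2_1 hn_3_0 hn_3_1 hn_3_2 hn_4_0 hn_4_1 hn_4_2 hn_4_3 hn_5_0 hn_5_1 hn_5_2 hn_5_3 hn_5_4 hn_6_0 hn_6_1 hn_6_2 hn_6_3 hn_6_4 hn_6_5 hn_7_0 hn_7_1 hn_7_2 hn_7_3 hn_7_4 hn_7_5 hn_7_6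
                      have r_0 : -2 * T.m u0 + 1 * T.m u1 + 1 * T.m u2 = 0 := by
                        have key := Groth.Agent.Helper6.NT.rowfun8 T u0 u1 u2 u3 u4 u5 u6 u7 hinj u0
                        rw [(h2 u0).2, tap_0_1, tap_0_2, z_0_3, z_0_4, z_0_5, z_0_6, z_0_7] at key
                        exact mul_left_cancel₀ (T.w_pos u0).ne' (by linarith only [key])
                      have r_1 : 1 * T.m u0 + -2 * T.m u1 + 1 * T.m u3 = 0 := by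
                        have key := Groth.Agent.Helper6.NT.rowfun8 T u0 u1 u2 u3 u4 u5 u6 u7 hinj u1
                        rw [Groth.Agent.Helper6.NT.symm' T u1 u0, taq_0_1, (h2 u1).2, z_1_2, tap_1_3, z_1_4, z_1_5, z_1_6, z_1_7] at key
                        exact mul_left_cancel₀ (T.w_pos u1).ne' (by linarith only [key])
                      have r_2 : 1 * T.m u0 + -2 * T.m u2 + 1 * T.m u4 = 0 := by
                        have key := Groth.Agent.Helper6.NT.rowfun8 T u0 u1 u2 u3 u4 u5 u6 u7 hinj u2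
                        rw [Groth.Agent.Helper6.NT.symm' T u2 u0, taq_0_2, Groth.Agent.Helper6.NT.symm' T u2 u1, z_1_2, (h2 u2).2, z_2_3, tap_2_4, z_2_5, z_2_6, z_2_7] at key
                        exact mul_left_cancel₀ (T.w_pos u2).ne' (by linarith only [key])
                      have r_3 : 2 * T.m u1 + -2 * T.m u3 = 0 := by
                        have key := Groth.Agent.Helper6.NT.rowfun8 T u0 u1 u2 u3 u4 u5 u6 u7 hinj u3
                        rw [Groth.Agent.Helper6.NT.symm' T u3 u0, z_0_3, Groth.Agent.Helper6.NT.symm' T u3 u1, taq_1_3, Groth.Agent.Helper6.NT.symm' T u3 u2, z_2_3, (h2 u3).2, z_3_4, z_3_5, z_3_6, z_3_7] at key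
                        exact mul_left_cancel₀ (T.w_pos u3).ne' (by linarith only [key])
                      have r_4 : 1 * T.m u2 + -2 * T.m u4 + 1 * T.m u5 = 0 := by
                        have key := Groth.Agent.Helper6.NT.rowfun8 T u0 u1 u2 u3 u4 u5 u6 u7 hinj u4
                        rw [Groth.Agent.Helper6.NT.symm' T u4 u0, z_0_4, Groth.Agent.Helper6.NT.symm' T u4 u1, z_1_4, Groth.Agent.Helper6.NT.symm' T u4 u2, taq_2_4, Groth.Agent.Helper6.NT.symm' T u4 u3, z_3_4, (h2 u4).2, tap_4_5, z_4_6, z_4_7] at key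
                        exact mul_left_cancel₀ (T.w_pos u4).ne' (by linarith only [key])
                      have r_5 : 1 * T.m u4 + -2 * T.m u5 + 1 * T.m u6 = 0 := by
                        have key := Groth.Agent.Helper6.NT.rowfun8 T u0 u1 u2 u3 u4 u5 u6 u7 hinj u5
                        rw [Groth.Agent.Helper6.NT.symm' T u5 u0, z_0_5, Groth.Agent.Helper6.NT.symm' T u5 u1, z_1_5, Groth.Agent.Helper6.NT.symm' T u5 u2, z_2_5, Groth.Agent.Helper6.NT.symm' T u5 u3, z_3_5, Groth.Agent.Helper6.NT.symm' T u5 u4, taq_4_5, (h2 u5).2, tap_5_6, z_5_7] at key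
                        exact mul_left_cancel₀ (T.w_pos u5).ne' (by linarith only [key])
                      have r_6 : 1 * T.m u5 + -2 * T.m u6 + 2 * T.m u7 = 0 := by
                        have key := Groth.Agent.Helper6.NT.rowfun8 T u0 u1 u2 u3 u4 u5 u6 u7 hinj u6
                        rw [Groth.Agent.Helper6.NT.symm' T u6 u0, z_0_6, Groth.Agent.Helper6.NT.symm' T u6 u1, z_1_6, Groth.Agent.Helper6.NT.symm' T u6 u2, z_2_6, Groth.Agent.Helper6.NT.symm' T u6 u3, z_3_6, Groth.Agent.Helper6.NT.symm' T u6 u4, z_4_6, Groth.Agent.Helper6.NT.symm' T u6 u5, taq_5_6, (h2 u6).2, tap_6_7] at key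
                        exact mul_left_cancel₀ (T.w_pos u6).ne' (by linarith only [key])
                      have r_7 : 1 * T.m u6 + -2 * T.m u7 = 0 := by
                        have key := Groth.Agent.Helper6.NT.rowfun8 T u0 u1 u2 u3 u4 u5 u6 u7 hinj u7
                        rw [Groth.Agent.Helper6.NT.symm' T u7 u0, z_0_7, Groth.Agent.Helper6.NT.symm' T u7 u1, z_1_7, Groth.Agent.Helper6.NT.symm' T u7 u2, z_2_7, Groth.Agent.Helper6.NT.symm' T u7 u3, z_3_7, Groth.Agent.Helper6.NT.symm' T u7 u4, z_4_7, Groth.Agent.Helper6.NT.symm' T u7 u5, z_5_7, Groth.Agent.Helper6.NT.symm' T u7 u6, taq_6_7, (h2 u7).2] at key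
                        exact mul_left_cancel₀ (T.w_pos u7).ne' (by linarith only [key])
                      have f0 : T.m u3 = 2 * T.m u7 := by linarith only [r_0, r_1, r_2, r_3, r_4, r_5, r_6, r_7]
                      have f1 : T.m u1 = 2 * T.m u7 := by linarith only [r_0, r_1, r_2, r_3, r_4, r_5, r_6, r_7]
                      have f2 : T.m u0 = 2 * T.m u7 := by linarith only [r_0, r_1, r_2, r_3, r_4, r_5, r_6, r_7]
                      have f3 : T.m u2 = 2 * T.m u7 := by linarith only [r_0, r_1, r_2, r_3, r_4, r_5, r_6, r_7]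
                      have f4 : T.m u4 = 2 * T.m u7 := by linarith only [r_0, r_1, r_2, r_3, r_4, r_5, r_6, r_7]
                      have f5 : T.m u5 = 2 * T.m u7 := by linarith only [r_0, r_1, r_2, r_3, r_4, r_5, r_6, r_7]
                      have f6 : T.m u6 = 2 * T.m u7 := by linarith only [r_0, r_1, r_2, r_3, r_4, r_5, r_6, r_7]
                      have f7 : T.m u7 = T.m u7 := rfl
                      have f8 : T.w u3 = T.w u3 := rfl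
                      have f9 : T.w u1 = 2 * T.w u3 := by linarith only [tw_0_1, tw_0_2, tw_1_3, tw_2_4, tw_4_5, tw_5_6, tw_6_7]
                      have f10 : T.w u0 = 2 * T.w u3 := by linarith only [tw_0_1, tw_0_2, tw_1_3, tw_2_4, tw_4_5, tw_5_6, tw_6_7]
                      have f11 : T.w u2 = 2 * T.w u3 := by linarith only [tw_0_1, tw_0_2, tw_1_3, tw_2_4, tw_4_5, tw_5_6, tw_6_7]
                      have f12 : T.w u4 = 2 * T.w u3 := by linarith only [tw_0_1, tw_0_2, tw_1_3, tw_2_4, tw_4_5, tw_5_6, tw_6_7]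
                      have f13 : T.w u5 = 2 * T.w u3 := by linarith only [tw_0_1, tw_0_2, tw_1_3, tw_2_4, tw_4_5, tw_5_6, tw_6_7]
                      have f14 : T.w u6 = 2 * T.w u3 := by linarith only [tw_0_1, tw_0_2, tw_1_3, tw_2_4, tw_4_5, tw_5_6, tw_6_7]
                      have f15 : T.w u7 = 4 * T.w u3 := by linarith only [tw_0_1, tw_0_2, tw_1_3, tw_2_4, tw_4_5, tw_5_6, tw_6_7]
                      have f16 : T.a u3 u3 = -2 * T.w u3 := by have := (h2 u3).2; linarith only [this, tw_0_1, tw_0_2, tw_1_3, tw_2_4, tw_4_5, tw_5_6, tw_6_7]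
                      have f17 : T.a u3 u1 = 2 * T.w u3 := by rw [Groth.Agent.Helper6.NT.symm' T u3 u1]; linarith only [tap_1_3, tw_0_1, tw_0_2, tw_1_3, tw_2_4, tw_4_5, tw_5_6, tw_6_7]
                      have f18 : T.a u3 u0 = 0 := by rw [Groth.Agent.Helper6.NT.symm' T u3 u0]; exact z_0_3
                      have f19 : T.a u3 u2 = 0 := by rw [Groth.Agent.Helper6.NT.symm' T u3 u2]; exact z_2_3
                      have f20 : T.a u3 u4 = 0 := by exact z_3_4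
                      have f21 : T.a u3 u5 = 0 := by exact z_3_5
                      have f22 : T.a u3 u6 = 0 := by exact z_3_6
                      have f23 : T.a u3 u7 = 0 := by exact z_3_7
                      have f24 : T.a u1 u1 = -4 * T.w u3 := by have := (h2 u1).2; linarith only [this, tw_0_1, tw_0_2, tw_1_3, tw_2_4, tw_4_5, tw_5_6, tw_6_7]
                      have f25 : T.a u1 u0 = 2 * T.w u3 := by rw [Groth.Agent.Helper6.NT.symm' T u1 u0]; linarith only [tap_0_1, tw_0_1, tw_0_2, tw_1_3, tw_2_4, tw_4_5, tw_5_6, tw_6_7]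
                      have f26 : T.a u1 u2 = 0 := by exact z_1_2
                      have f27 : T.a u1 u4 = 0 := by exact z_1_4
                      have f28 : T.a u1 u5 = 0 := by exact z_1_5
                      have f29 : T.a u1 u6 = 0 := by exact z_1_6
                      have f30 : T.a u1 u7 = 0 := by exact z_1_7
                      have f31 : T.a u0 u0 = -4 * T.w u3 := by have := (h2 u0).2; linarith only [this, tw_0_1, tw_0_2, tw_1_3, tw_2_4, tw_4_5, tw_5_6, tw_6_7]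
                      have f32 : T.a u0 u2 = 2 * T.w u3 := by linarith only [tap_0_2, tw_0_1, tw_0_2, tw_1_3, tw_2_4, tw_4_5, tw_5_6, tw_6_7]
                      have f33 : T.a u0 u4 = 0 := by exact z_0_4
                      have f34 : T.a u0 u5 = 0 := by exact z_0_5
                      have f35 : T.a u0 u6 = 0 := by exact z_0_6
                      have f36 : T.a u0 u7 = 0 := by exact z_0_7
                      have f37 : T.a u2 u2 = -4 * T.w u3 := by have := (h2 u2).2; linarith only [this, tw_0_1, tw_0_2, tw_1_3, tw_2_4, tw_4_5, tw_5_6, tw_6_7]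
                      have f38 : T.a u2 u4 = 2 * T.w u3 := by linarith only [tap_2_4, tw_0_1, tw_0_2, tw_1_3, tw_2_4, tw_4_5, tw_5_6, tw_6_7]
                      have f39 : T.a u2 u5 = 0 := by exact z_2_5
                      have f40 : T.a u2 u6 = 0 := by exact z_2_6
                      have f41 : T.a u2 u7 = 0 := by exact z_2_7
                      have f42 : T.a u4 u4 = -4 * T.w u3 := by have := (h2 u4).2; linarith only [this, tw_0_1, tw_0_2, tw_1_3, tw_2_4, tw_4_5, tw_5_6, tw_6_7]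
                      have f43 : T.a u4 u5 = 2 * T.w u3 := by linarith only [tap_4_5, tw_0_1, tw_0_2, tw_1_3, tw_2_4, tw_4_5, tw_5_6, tw_6_7]
                      have f44 : T.a u4 u6 = 0 := by exact z_4_6
                      have f45 : T.a u4 u7 = 0 := by exact z_4_7
                      have f46 : T.a u5 u5 = -4 * T.w u3 := by have := (h2 u5).2; linarith only [this, tw_0_1, tw_0_2, tw_1_3, tw_2_4, tw_4_5, tw_5_6, tw_6_7]
                      have f47 : T.a u5 u6 = 2 * T.w u3 := by linarith only [tap_5_6, tw_0_1, tw_0_2, tw_1_3, tw_2_4, tw_4_5, tw_5_6, tw_6_7]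
                      have f48 : T.a u5 u7 = 0 := by exact z_5_7
                      have f49 : T.a u6 u6 = -4 * T.w u3 := by have := (h2 u6).2; linarith only [this, tw_0_1, tw_0_2, tw_1_3, tw_2_4, tw_4_5, tw_5_6, tw_6_7]
                      have f50 : T.a u6 u7 = 4 * T.w u3 := by linarith only [tap_6_7, tw_0_1, tw_0_2, tw_1_3, tw_2_4, tw_4_5, tw_5_6, tw_6_7]
                      have f51 : T.a u7 u7 = -8 * T.w u3 := by have := (h2 u7).2; linarith only [this, tw_0_1, tw_0_2, tw_1_3, tw_2_4, tw_4_5, tw_5_6, tw_6_7]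
                      have hsig := Groth.Agent.Helper6.NT.inj8 u3 u1 u0 u2 u4 u5 u6 u7 hn_3_1.symm hn_3_0.symm hn_1_0.symm hn_3_2.symm hn_2_1 hn_2_0 hn_4_3 hn_4_1 hn_4_0 hn_4_2 hn_5_3 hn_5_1 hn_5_0 hn_5_2 hn_5_4 hn_6_3 hn_6_1 hn_6_0 hn_6_2 hn_6_4 hn_6_5 hn_7_3 hn_7_1 hn_7_0 hn_7_2 hn_7_4 hn_7_5 hn_7_6
                      exact ⟨Equiv.ofBijective _ (Finite.injective_iff_bijective.1 hsig), T.m u7, T.w u3, Or.inr (Or.inl ⟨f0, f1, f2, f3, f4, f5, f6, f7, f8, f9, f10, f11, f12, f13, f14, f15, f16, f17, f18, f19, f20, f21, f22, f23, f24, f25, f26, f27, f28, f29, f30, f31, f32, f33, f34, f35, f36, f37, f38, f39, f40, f41, f42, f43, f44, f45, f46, f47, f48, f49, f50, f51⟩)⟩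
                    · -- (6,7) Dm
                      have hinj := Groth.Agent.Helper6.NT.inj8 u0 u1 u2 u3 u4 u5 u6 u7 hn_1_0 hn_2_0 hn_2_1 hn_3_0 hn_3_1 hn_3_2 hn_4_0 hn_4_1 hn_4_2 hn_4_3 hn_5_0 hn_5_1 hn_5_2 hn_5_3 hn_5_4 hn_6_0 hn_6_1 hn_6_2 hn_6_3 hn_6_4 hn_6_5 hn_7_0 hn_7_1 hn_7_2 hn_7_3 hn_7_4 hn_7_5 hn_7_6
                      have r_0 : -2 * T.m u0 + 1 * T.m u1 + 1 * T.m u2 = 0 := by
                        have key := Groth.Agent.Helper6.NT.rowfun8 T u0 u1 u2 u3 u4 u5 u6 u7 hinj u0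
                        rw [(h2 u0).2, tap_0_1, tap_0_2, z_0_3, z_0_4, z_0_5, z_0_6, z_0_7] at key
                        exact mul_left_cancel₀ (T.w_pos u0).ne' (by linarith only [key])
                      have r_1 : 1 * T.m u0 + -2 * T.m u1 + 1 * T.m u3 = 0 := by
                        have key := Groth.Agent.Helper6.NT.rowfun8 T u0 u1 u2 u3 u4 u5 u6 u7 hinj u1
                        rw [Groth.Agent.Helper6.NT.symm' T u1 u0, taq_0_1, (h2 u1).2, z_1_2, tap_1_3, z_1_4, z_1_5, z_1_6, z_1_7] at key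
                        exact mul_left_cancel₀ (T.w_pos u1).ne' (by linarith only [key])
                      have r_2 : 1 * T.m u0 + -2 * T.m u2 + 1 * T.m u4 = 0 := by
                        have key := Groth.Agent.Helper6.NT.rowfun8 T u0 u1 u2 u3 u4 u5 u6 u7 hinj u2
                        rw [Groth.Agent.Helper6.NT.symm' T u2 u0, taq_0_2, Groth.Agent.Helper6.NT.symm' T u2 u1, z_1_2, (h2 u2).2, z_2_3, tap_2_4, z_2_5, z_2_6, z_2_7] at key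
                        exact mul_left_cancel₀ (T.w_pos u2).ne' (by linarith only [key])
                      have r_3 : 2 * T.m u1 + -2 * T.m u3 = 0 := by
                        have key := Groth.Agent.Helper6.NT.rowfun8 T u0 u1 u2 u3 u4 u5 u6 u7 hinj u3
                        rw [Groth.Agent.Helper6.NT.symm' T u3 u0, z_0_3, Groth.Agent.Helper6.NT.symm' T u3 u1, taq_1_3, Groth.Agent.Helper6.NT.symm' T u3 u2, z_2_3, (h2 u3).2, z_3_4, z_3_5, z_3_6, z_3_7] at key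
                        exact mul_left_cancel₀ (T.w_pos u3).ne' (by linarith only [key])
                      have r_4 : 1 * T.m u2 + -2 * T.m u4 + 1 * T.m u5 = 0 := by
                        have key := Groth.Agent.Helper6.NT.rowfun8 T u0 u1 u2 u3 u4 u5 u6 u7 hinj u4
                        rw [Groth.Agent.Helper6.NT.symm' T u4 u0, z_0_4, Groth.Agent.Helper6.NT.symm' T u4 u1, z_1_4, Groth.Agent.Helper6.NT.symm' T u4 u2, taq_2_4, Groth.Agent.Helper6.NT.symm' T u4 u3, z_3_4, (h2 u4).2, tap_4_5, z_4_6, z_4_7] at key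
                        exact mul_left_cancel₀ (T.w_pos u4).ne' (by linarith only [key])
                      have r_5 : 1 * T.m u4 + -2 * T.m u5 + 1 * T.m u6 = 0 := by
                        have key := Groth.Agent.Helper6.NT.rowfun8 T u0 u1 u2 u3 u4 u5 u6 u7 hinj u5
                        rw [Groth.Agent.Helper6.NT.symm' T u5 u0, z_0_5, Groth.Agent.Helper6.NT.symm' T u5 u1, z_1_5, Groth.Agent.Helper6.NT.symm' T u5 u2, z_2_5, Groth.Agent.Helper6.NT.symm' T u5 u3, z_3_5, Groth.Agent.Helper6.NT.symm' T u5 u4, taq_4_5, (h2 u5).2, tap_5_6, z_5_7] at key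
                        exact mul_left_cancel₀ (T.w_pos u5).ne' (by linarith only [key])
                      have r_6 : 1 * T.m u5 + -2 * T.m u6 + 1 * T.m u7 = 0 := by
                        have key := Groth.Agent.Helper6.NT.rowfun8 T u0 u1 u2 u3 u4 u5 u6 u7 hinj u6
                        rw [Groth.Agent.Helper6.NT.symm' T u6 u0, z_0_6, Groth.Agent.Helper6.NT.symm' T u6 u1, z_1_6, Groth.Agent.Helper6.NT.symm' T u6 u2, z_2_6, Groth.Agent.Helper6.NT.symm' T u6 u3, z_3_6, Groth.Agent.Helper6.NT.symm' T u6 u4, z_4_6, Groth.Agent.Helper6.NT.symm' T u6 u5, taq_5_6, (h2 u6).2, tap_6_7] at key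
                        exact mul_left_cancel₀ (T.w_pos u6).ne' (by linarith only [key])
                      have r_7 : 2 * T.m u6 + -2 * T.m u7 = 0 := by
                        have key := Groth.Agent.Helper6.NT.rowfun8 T u0 u1 u2 u3 u4 u5 u6 u7 hinj u7
                        rw [Groth.Agent.Helper6.NT.symm' T u7 u0, z_0_7, Groth.Agent.Helper6.NT.symm' T u7 u1, z_1_7, Groth.Agent.Helper6.NT.symm' T u7 u2, z_2_7, Groth.Agent.Helper6.NT.symm' T u7 u3, z_3_7, Groth.Agent.Helper6.NT.symm' T u7 u4, z_4_7, Groth.Agent.Helper6.NT.symm' T u7 u5, z_5_7, Groth.Agent.Helper6.NT.symm' T u7 u6, taq_6_7, (h2 u7).2] at key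
                        exact mul_left_cancel₀ (T.w_pos u7).ne' (by linarith only [key])
                      have f0 : T.m u3 = T.m u3 := rfl
                      have f1 : T.m u1 = T.m u3 := by linarith only [r_0, r_1, r_2, r_3, r_4, r_5, r_6, r_7]
                      have f2 : T.m u0 = T.m u3 := by linarith only [r_0, r_1, r_2, r_3, r_4, r_5, r_6, r_7]
                      have f3 : T.m u2 = T.m u3 := by linarith only [r_0, r_1, r_2, r_3, r_4, r_5, r_6, r_7]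
                      have f4 : T.m u4 = T.m u3 := by linarith only [r_0, r_1, r_2, r_3, r_4, r_5, r_6, r_7]
                      have f5 : T.m u5 = T.m u3 := by linarith only [r_0, r_1, r_2, r_3, r_4, r_5, r_6, r_7]
                      have f6 : T.m u6 = T.m u3 := by linarith only [r_0, r_1, r_2, r_3, r_4, r_5, r_6, r_7]
                      have f7 : T.m u7 = T.m u3 := by linarith only [r_0, r_1, r_2, r_3, r_4, r_5, r_6, r_7]
                      have f8 : T.w u3 = T.w u3 := rfl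
                      have f9 : T.w u1 = 2 * T.w u3 := by linarith only [tw_0_1, tw_0_2, tw_1_3, tw_2_4, tw_4_5, tw_5_6, tw_6_7]
                      have f10 : T.w u0 = 2 * T.w u3 := by linarith only [tw_0_1, tw_0_2, tw_1_3, tw_2_4, tw_4_5, tw_5_6, tw_6_7]
                      have f11 : T.w u2 = 2 * T.w u3 := by linarith only [tw_0_1, tw_0_2, tw_1_3, tw_2_4, tw_4_5, tw_5_6, tw_6_7]
                      have f12 : T.w u4 = 2 * T.w u3 := by linarith only [tw_0_1, tw_0_2, tw_1_3, tw_2_4, tw_4_5, tw_5_6, tw_6_7]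
                      have f13 : T.w u5 = 2 * T.w u3 := by linarith only [tw_0_1, tw_0_2, tw_1_3, tw_2_4, tw_4_5, tw_5_6, tw_6_7]
                      have f14 : T.w u6 = 2 * T.w u3 := by linarith only [tw_0_1, tw_0_2, tw_1_3, tw_2_4, tw_4_5, tw_5_6, tw_6_7]
                      have f15 : T.w u7 = T.w u3 := by linarith only [tw_0_1, tw_0_2, tw_1_3, tw_2_4, tw_4_5, tw_5_6, tw_6_7]
                      have f16 : T.a u3 u3 = -2 * T.w u3 := by have := (h2 u3).2; linarith only [this, tw_0_1, tw_0_2, tw_1_3, tw_2_4, tw_4_5, tw_5_6, tw_6_7]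
                      have f17 : T.a u3 u1 = 2 * T.w u3 := by rw [Groth.Agent.Helper6.NT.symm' T u3 u1]; linarith only [tap_1_3, tw_0_1, tw_0_2, tw_1_3, tw_2_4, tw_4_5, tw_5_6, tw_6_7]
                      have f18 : T.a u3 u0 = 0 := by rw [Groth.Agent.Helper6.NT.symm' T u3 u0]; exact z_0_3
                      have f19 : T.a u3 u2 = 0 := by rw [Groth.Agent.Helper6.NT.symm' T u3 u2]; exact z_2_3
                      have f20 : T.a u3 u4 = 0 := by exact z_3_4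
                      have f21 : T.a u3 u5 = 0 := by exact z_3_5
                      have f22 : T.a u3 u6 = 0 := by exact z_3_6
                      have f23 : T.a u3 u7 = 0 := by exact z_3_7
                      have f24 : T.a u1 u1 = -4 * T.w u3 := by have := (h2 u1).2; linarith only [this, tw_0_1, tw_0_2, tw_1_3, tw_2_4, tw_4_5, tw_5_6, tw_6_7]
                      have f25 : T.a u1 u0 = 2 * T.w u3 := by rw [Groth.Agent.Helper6.NT.symm' T u1 u0]; linarith only [tap_0_1, tw_0_1, tw_0_2, tw_1_3, tw_2_4, tw_4_5, tw_5_6, tw_6_7]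
                      have f26 : T.a u1 u2 = 0 := by exact z_1_2
                      have f27 : T.a u1 u4 = 0 := by exact z_1_4
                      have f28 : T.a u1 u5 = 0 := by exact z_1_5
                      have f29 : T.a u1 u6 = 0 := by exact z_1_6
                      have f30 : T.a u1 u7 = 0 := by exact z_1_7
                      have f31 : T.a u0 u0 = -4 * T.w u3 := by have := (h2 u0).2; linarith only [this, tw_0_1, tw_0_2, tw_1_3, tw_2_4, tw_4_5, tw_5_6, tw_6_7]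
                      have f32 : T.a u0 u2 = 2 * T.w u3 := by linarith only [tap_0_2, tw_0_1, tw_0_2, tw_1_3, tw_2_4, tw_4_5, tw_5_6, tw_6_7]
                      have f33 : T.a u0 u4 = 0 := by exact z_0_4
                      have f34 : T.a u0 u5 = 0 := by exact z_0_5
                      have f35 : T.a u0 u6 = 0 := by exact z_0_6
                      have f36 : T.a u0 u7 = 0 := by exact z_0_7
                      have f37 : T.a u2 u2 = -4 * T.w u3 := by have := (h2 u2).2; linarith only [this, tw_0_1, tw_0_2, tw_1_3, tw_2_4, tw_4_5, tw_5_6, tw_6_7]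
                      have f38 : T.a u2 u4 = 2 * T.w u3 := by linarith only [tap_2_4, tw_0_1, tw_0_2, tw_1_3, tw_2_4, tw_4_5, tw_5_6, tw_6_7]
                      have f39 : T.a u2 u5 = 0 := by exact z_2_5
                      have f40 : T.a u2 u6 = 0 := by exact z_2_6
                      have f41 : T.a u2 u7 = 0 := by exact z_2_7
                      have f42 : T.a u4 u4 = -4 * T.w u3 := by have := (h2 u4).2; linarith only [this, tw_0_1, tw_0_2, tw_1_3, tw_2_4, tw_4_5, tw_5_6, tw_6_7]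
                      have f43 : T.a u4 u5 = 2 * T.w u3 := by linarith only [tap_4_5, tw_0_1, tw_0_2, tw_1_3, tw_2_4, tw_4_5, tw_5_6, tw_6_7]
                      have f44 : T.a u4 u6 = 0 := by exact z_4_6
                      have f45 : T.a u4 u7 = 0 := by exact z_4_7
                      have f46 : T.a u5 u5 = -4 * T.w u3 := by have := (h2 u5).2; linarith only [this, tw_0_1, tw_0_2, tw_1_3, tw_2_4, tw_4_5, tw_5_6, tw_6_7]
                      have f47 : T.a u5 u6 = 2 * T.w u3 := by linarith only [tap_5_6, tw_0_1, tw_0_2, tw_1_3, tw_2_4, tw_4_5, tw_5_6, tw_6_7]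
                      have f48 : T.a u5 u7 = 0 := by exact z_5_7
                      have f49 : T.a u6 u6 = -4 * T.w u3 := by have := (h2 u6).2; linarith only [this, tw_0_1, tw_0_2, tw_1_3, tw_2_4, tw_4_5, tw_5_6, tw_6_7]
                      have f50 : T.a u6 u7 = 2 * T.w u3 := by linarith only [tap_6_7, tw_0_1, tw_0_2, tw_1_3, tw_2_4, tw_4_5, tw_5_6, tw_6_7]
                      have f51 : T.a u7 u7 = -2 * T.w u3 := by have := (h2 u7).2; linarith only [this, tw_0_1, tw_0_2, tw_1_3, tw_2_4, tw_4_5, tw_5_6, tw_6_7]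
                      have hsig := Groth.Agent.Helper6.NT.inj8 u3 u1 u0 u2 u4 u5 u6 u7 hn_3_1.symm hn_3_0.symm hn_1_0.symm hn_3_2.symm hn_2_1 hn_2_0 hn_4_3 hn_4_1 hn_4_0 hn_4_2 hn_5_3 hn_5_1 hn_5_0 hn_5_2 hn_5_4 hn_6_3 hn_6_1 hn_6_0 hn_6_2 hn_6_4 hn_6_5 hn_7_3 hn_7_1 hn_7_0 hn_7_2 hn_7_4 hn_7_5 hn_7_6
                      exact ⟨Equiv.ofBijective _ (Finite.injective_iff_bijective.1 hsig), T.m u3, T.w u3, Or.inr (Or.inr (Or.inl ⟨f0, f1, f2, f3, f4, f5, f6, f7, f8, f9, f10, f11, f12, f13, f14, f15, f16, f17, f18, f19, f20, f21, f22, f23, f24, f25, f26, f27, f28, f29, f30, f31, f32, f33, f34, f35, f36, f37, f38, f39, f40, f41, f42, f43, f44, f45, f46, f47, f48, f49, f50, f51⟩))⟩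
                    · -- (6,7) Tp
                      exfalso
                      have key := Groth.Agent.Helper6.NT.negfun3 T h2 u5 u6 u7 (by norm_num) 1 2 1 (by norm_num) (by norm_num)
                      linarith only [key, tap_5_6, taq_5_6, z_5_7, tap_6_7, taq_6_7, T.w_pos u5, T.w_pos u6, T.w_pos u7]
                    · -- (6,7) Tm
                      exfalso
                      have key := Groth.Agent.Helper6.NT.negfun3 T h2 u5 u6 u7 (by norm_num) 1 2 3 (by norm_num) (by norm_num)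
                      linarith only [key, tap_5_6, taq_5_6, z_5_7, tap_6_7, taq_6_7, T.w_pos u5, T.w_pos u6, T.w_pos u7]
                  · push Not at hx
                    have cl_6 := hx
                    clear hx
                    exfalso
                    refine Groth.Agent.Helper6.NT.closed_contra T [u0, u1, u2, u3, u4, u5, u6] (by simp) (by simp) ?_
                    intro i hi j hj
                    simp only [List.mem_cons, List.not_mem_nil, or_false, not_or] at hi hj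
                    rcases hi with rfl | rfl | rfl | rfl | rfl | rfl | rfl
                    · exact cl_0 j ⟨hj.1, hj.2.1, hj.2.2.1⟩
                    · exact cl_1 j ⟨hj.1, hj.2.1, hj.2.2.1, hj.2.2.2.1⟩
                    · exact cl_2 j ⟨hj.1, hj.2.1, hj.2.2.1, hj.2.2.2.1, hj.2.2.2.2.1⟩
                    · exact cl_3 j ⟨hj.1, hj.2.1, hj.2.2.1, hj.2.2.2.1, hj.2.2.2.2.1⟩
                    · exact cl_4 j ⟨hj.1, hj.2.1, hj.2.2.1, hj.2.2.2.1, hj.2.2.2.2.1, hj.2.2.2.2.2.1⟩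
                    · exact cl_5 j ⟨hj.1, hj.2.1, hj.2.2.1, hj.2.2.2.1, hj.2.2.2.2.1, hj.2.2.2.2.2.1, hj.2.2.2.2.2.2⟩
                    · exact cl_6 j ⟨hj.1, hj.2.1, hj.2.2.1, hj.2.2.2.1, hj.2.2.2.2.1, hj.2.2.2.2.2.1, hj.2.2.2.2.2.2⟩
              · -- (5,6) Dp
                exfalso
                have key := Groth.Agent.Helper6.NT.negfun7 T h2 u0 u1 u2 u3 u4 u5 u6 (by norm_num) 2 2 2 2 2 2 1 (by norm_num) (by norm_num)
                linarith only [key, tap_0_1, taq_0_1, tap_0_2, taq_0_2, z_0_3, z_0_4, z_0_5, z_0_6, z_1_2, tap_1_3, taq_1_3, z_1_4, z_1_5, z_1_6, z_2_3, tap_2_4, taq_2_4, z_2_5, z_2_6, z_3_4, z_3_5, z_3_6, tap_4_5, taq_4_5, z_4_6, tap_5_6, taq_5_6, T.w_pos u0, T.w_pos u1, T.w_pos u2, T.w_pos u3, T.w_pos u4, T.w_pos u5, T.w_pos u6]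
              · -- (5,6) Dm
                exfalso
                have key := Groth.Agent.Helper6.NT.negfun7 T h2 u0 u1 u2 u3 u4 u5 u6 (by norm_num) 1 1 1 1 1 1 1 (by norm_num) (by norm_num)
                linarith only [key, tap_0_1, taq_0_1, tap_0_2, taq_0_2, z_0_3, z_0_4, z_0_5, z_0_6, z_1_2, tap_1_3, taq_1_3, z_1_4, z_1_5, z_1_6, z_2_3, tap_2_4, taq_2_4, z_2_5, z_2_6, z_3_4, z_3_5, z_3_6, tap_4_5, taq_4_5, z_4_6, tap_5_6, taq_5_6, T.w_pos u0, T.w_pos u1, T.w_pos u2, T.w_pos u3, T.w_pos u4, T.w_pos u5, T.w_pos u6]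
              · -- (5,6) Tp
                exfalso
                have key := Groth.Agent.Helper6.NT.negfun3 T h2 u4 u5 u6 (by norm_num) 1 2 1 (by norm_num) (by norm_num)
                linarith only [key, tap_4_5, taq_4_5, z_4_6, tap_5_6, taq_5_6, T.w_pos u4, T.w_pos u5, T.w_pos u6]
              · -- (5,6) Tm
                exfalso
                have key := Groth.Agent.Helper6.NT.negfun3 T h2 u4 u5 u6 (by norm_num) 1 2 3 (by norm_num) (by norm_num)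
                linarith only [key, tap_4_5, taq_4_5, z_4_6, tap_5_6, taq_5_6, T.w_pos u4, T.w_pos u5, T.w_pos u6]
            · push Not at hx
              have cl_5 := hx
              clear hx
              exfalso
              refine Groth.Agent.Helper6.NT.closed_contra T [u0, u1, u2, u3, u4, u5] (by simp) (by simp) ?_
              intro i hi j hj
              simp only [List.mem_cons, List.not_mem_nil, or_false, not_or] at hi hj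
              rcases hi with rfl | rfl | rfl | rfl | rfl | rfl
              · exact cl_0 j ⟨hj.1, hj.2.1, hj.2.2.1⟩
              · exact cl_1 j ⟨hj.1, hj.2.1, hj.2.2.1, hj.2.2.2.1⟩
              · exact cl_2 j ⟨hj.1, hj.2.1, hj.2.2.1, hj.2.2.2.1, hj.2.2.2.2.1⟩
              · exact cl_3 j ⟨hj.1, hj.2.1, hj.2.2.1, hj.2.2.2.1, hj.2.2.2.2.1⟩
              · exact cl_4 j ⟨hj.1, hj.2.1, hj.2.2.1, hj.2.2.2.1, hj.2.2.2.2.1, hj.2.2.2.2.2⟩
              · exact cl_5 j ⟨hj.1, hj.2.1, hj.2.2.1, hj.2.2.2.1, hj.2.2.2.2.1, hj.2.2.2.2.2⟩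
        · -- (4,5) Dp
          exfalso
          have key := Groth.Agent.Helper6.NT.negfun6 T h2 u0 u1 u2 u3 u4 u5 (by norm_num) 2 2 2 2 2 1 (by norm_num) (by norm_num)
          linarith only [key, tap_0_1, taq_0_1, tap_0_2, taq_0_2, z_0_3, z_0_4, z_0_5, z_1_2, tap_1_3, taq_1_3, z_1_4, z_1_5, z_2_3, tap_2_4, taq_2_4, z_2_5, z_3_4, z_3_5, tap_4_5, taq_4_5, T.w_pos u0, T.w_pos u1, T.w_pos u2, T.w_pos u3, T.w_pos u4, T.w_pos u5]
        · -- (4,5) Dm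
          exfalso
          have key := Groth.Agent.Helper6.NT.negfun6 T h2 u0 u1 u2 u3 u4 u5 (by norm_num) 1 1 1 1 1 1 (by norm_num) (by norm_num)
          linarith only [key, tap_0_1, taq_0_1, tap_0_2, taq_0_2, z_0_3, z_0_4, z_0_5, z_1_2, tap_1_3, taq_1_3, z_1_4, z_1_5, z_2_3, tap_2_4, taq_2_4, z_2_5, z_3_4, z_3_5, tap_4_5, taq_4_5, T.w_pos u0, T.w_pos u1, T.w_pos u2, T.w_pos u3, T.w_pos u4, T.w_pos u5]
        · -- (4,5) Tp
          exfalso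
          have key := Groth.Agent.Helper6.NT.negfun3 T h2 u2 u4 u5 (by norm_num) 1 2 1 (by norm_num) (by norm_num)
          linarith only [key, tap_2_4, taq_2_4, z_2_5, tap_4_5, taq_4_5, T.w_pos u2, T.w_pos u4, T.w_pos u5]
        · -- (4,5) Tm
          exfalso
          have key := Groth.Agent.Helper6.NT.negfun3 T h2 u2 u4 u5 (by norm_num) 1 2 3 (by norm_num) (by norm_num)
          linarith only [key, tap_2_4, taq_2_4, z_2_5, tap_4_5, taq_4_5, T.w_pos u2, T.w_pos u4, T.w_pos u5]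
      · push Not at hx
        have cl_4 := hx
        clear hx
        exfalso
        refine Groth.Agent.Helper6.NT.closed_contra T [u0, u1, u2, u3, u4] (by simp) (by simp) ?_
        intro i hi j hj
        simp only [List.mem_cons, List.not_mem_nil, or_false, not_or] at hi hj
        rcases hi with rfl | rfl | rfl | rfl | rfl
        · exact cl_0 j ⟨hj.1, hj.2.1, hj.2.2.1⟩
        · exact cl_1 j ⟨hj.1, hj.2.1, hj.2.2.1, hj.2.2.2.1⟩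
        · exact cl_2 j ⟨hj.1, hj.2.1, hj.2.2.1, hj.2.2.2.1, hj.2.2.2.2⟩
        · exact cl_3 j ⟨hj.1, hj.2.1, hj.2.2.1, hj.2.2.2.1, hj.2.2.2.2⟩
        · exact cl_4 j ⟨hj.1, hj.2.1, hj.2.2.1, hj.2.2.2.1, hj.2.2.2.2⟩

end Groth.Agent.Helper6.G1
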