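import Groth.Agent.Lib.Helper6.NumType16
import Groth.Agent.Lib.Helper6.G1.N9P0

/-! Generated case analysis for the genus one classification, n = 9, part 1. -/

set_option linter.unusedVariables false

namespace Groth.Agent.Helper6.G1

theorem cut9_8 (T : Models.NumericalType 9) (h2 : ∀ i, T.IsMinusTwo i) (u0 u1 u2 u3 u4 : Fin 9)
    (hn_1_0 : u1 ≠ u0)
    (e_0_1 : T.a u0 u1 ≠ 0)
    (tw_0_1 : T.w u1 = T.w u0)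
    (tap_0_1 : T.a u0 u1 = T.w u0)
    (taq_0_1 : T.a u0 u1 = T.w u1)
    (hn_2_0 : u2 ≠ u0)
    (hn_2_1 : u2 ≠ u1)
    (e_0_2 : T.a u0 u2 ≠ 0)
    (tw_0_2 : T.w u2 = T.w u0)
    (tap_0_2 : T.a u0 u2 = T.w u0)
    (taq_0_2 : T.a u0 u2 = T.w u2)
    (z_1_2 : T.a u1 u2 = 0)
    (hn_3_0 : u3 ≠ u0)
    (hn_3_1 : u3 ≠ u1)
    (hn_3_2 : u3 ≠ u2)
    (e_0_3 : T.a u0 u3 ≠ 0)
    (tw_0_3 : T.w u3 = T.w u0)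
    (tap_0_3 : T.a u0 u3 = T.w u0)
    (taq_0_3 : T.a u0 u3 = T.w u3)
    (z_1_3 : T.a u1 u3 = 0)
    (z_2_3 : T.a u2 u3 = 0)
    (cl_0 : ∀ j : Fin 9, (j ≠ u0 ∧ j ≠ u1 ∧ j ≠ u2 ∧ j ≠ u3) → T.a u0 j = 0)
    (cl_1 : ∀ j : Fin 9, (j ≠ u0 ∧ j ≠ u1 ∧ j ≠ u2 ∧ j ≠ u3) → T.a u1 j = 0)
    (hn_4_0 : u4 ≠ u0)
    (hn_4_1 : u4 ≠ u1)
    (hn_4_2 : u4 ≠ u2)
    (hn_4_3 : u4 ≠ u3)
    (e_2_4 : T.a u2 u4 ≠ 0)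
    (z_0_4 : T.a u0 u4 = 0)
    (z_1_4 : T.a u1 u4 = 0)
    (tw_2_4 : T.w u4 = T.w u2)
    (tap_2_4 : T.a u2 u4 = T.w u2)
    (taq_2_4 : T.a u2 u4 = T.w u4)
    (z_3_4 : T.a u3 u4 = 0) :
    ∃ (σ : Equiv.Perm (Fin 9)) (m w : ℤ), ((T.m (σ 0) = m ∧ T.m (σ 1) = m ∧ T.m (σ 2) = m ∧ T.m (σ 3) = m ∧ T.m (σ 4) = m ∧ T.m (σ 5) = m ∧ T.m (σ 6) = m ∧ T.m (σ 7) = m ∧ T.m (σ 8) = m ∧ T.w (σ 0) = w ∧ T.w (σ 1) = w ∧ T.w (σ 2) = w ∧ T.w (σ 3) = w ∧ T.w (σ 4) = w ∧ T.w (σ 5) = w ∧ T.w (σ 6) = w ∧ T.w (σ 7) = w ∧ T.w (σ 8) = w ∧ T.a (σ 0) (σ 0) = -2 * w ∧ T.a (σ 0) (σ 1) = w ∧ T.a (σ 0) (σ 2) = 0 ∧ T.a (σ 0) (σ 3) = 0 ∧ T.a (σ 0) (σ 4) = 0 ∧ T.a (σ 0) (σ 5) = 0 ∧ T.a (σ 0) (σ 6) = 0 ∧ T.a (σ 0) (σ 7) = 0 ∧ T.a (σ 0) (σ 8) = w ∧ T.a (σ 1) (σ 1) = -2 * w ∧ T.a (σ 1) (σ 2) = w ∧ T.a (σ 1) (σ 3) = 0 ∧ T.a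 (σ 1) (σ 4) = 0 ∧ T.a (σ 1) (σ 5) = 0 ∧ T.a (σ 1) (σ 6) = 0 ∧ T.a (σ 1) (σ 7) = 0 ∧ T.a (σ 1) (σ 8) = 0 ∧ T.a (σ 2) (σ 2) = -2 * w ∧ T.a (σ 2) (σ 3) = w ∧ T.a (σ 2) (σ 4) = 0 ∧ T.a (σ 2) (σ 5) = 0 ∧ T.a (σ 2) (σ 6) = 0 ∧ T.a (σ 2) (σ 7) = 0 ∧ T.a (σ 2) (σ 8) = 0 ∧ T.a (σ 3) (σ 3) = -2 * w ∧ T.a (σ 3) (σ 4) = w ∧ T.a (σ 3) (σ 5) = 0 ∧ T.a (σ 3) (σ 6) = 0 ∧ T.a (σ 3) (σ 7) = 0 ∧ T.a (σ 3) (σ 8) = 0 ∧ T.a (σ 4) (σ 4) = -2 * w ∧ T.a (σ 4) (σ 5) = w ∧ T.a (σ 4) (σ 6) = 0 ∧ T.a (σ 4) (σ 7) = 0 ∧ T.a (σ 4) (σ 8) = 0 ∧ T.a (σ 5) (σ 5) = -2 * w ∧ T.a (σ 5) (σ 6) = w ∧ T.a (σ 5) (σ 7) = 0 ∧ T.a (σ 5) (σ 8) = 0 ∧ T.a (σ 6) (σ 6) = -2 * w ∧ T.a (σ 6) (σ 7) = w ∧ T.a (σ 6) (σ 8) = 0 ∧ T.a (σ 7) (σ 7) = -2 * w ∧ T.a (σ 7) (σ 8) = w ∧ T.a (σ 8) (σ 8) = -2 * w) ∨ (T.m (σ 0) = 2 * m ∧ T.m (σ 1) = 2 * m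 ∧ T.m (σ 2) = 2 * m ∧ T.m (σ 3) = 2 * m ∧ T.m (σ 4) = 2 * m ∧ T.m (σ 5) = 2 * m ∧ T.m (σ 6) = 2 * m ∧ T.m (σ 7) = 2 * m ∧ T.m (σ 8) = m ∧ T.w (σ 0) = w ∧ T.w (σ 1) = 2 * w ∧ T.w (σ 2) = 2 * w ∧ T.w (σ 3) = 2 * w ∧ T.w (σ 4) = 2 * w ∧ T.w (σ 5) = 2 * w ∧ T.w (σ 6) = 2 * w ∧ T.w (σ 7) = 2 * w ∧ T.w (σ 8) = 4 * w ∧ T.a (σ 0) (σ 0) = -2 * w ∧ T.a (σ 0) (σ 1) = 2 * w ∧ T.a (σ 0) (σ 2) = 0 ∧ T.a (σ 0) (σ 3) = 0 ∧ T.a (σ 0) (σ 4) = 0 ∧ T.a (σ 0) (σ 5) = 0 ∧ T.a (σ 0) (σ 6) = 0 ∧ T.a (σ 0) (σ 7) = 0 ∧ T.a (σ 0) (σ 8) = 0 ∧ T.a (σ 1) (σ 1) = -4 * w ∧ T.a (σ 1) (σ 2) = 2 * w ∧ T.a (σ 1) (σ 3) = 0 ∧ T.a (σ 1) (σ 4) = 0 ∧ T.a (σ 1) (σ 5) = 0 ∧ T.a (σ 1) (σ 6) = 0 ∧ T.a (σ 1) (σ 7) = 0 ∧ T.a (σ 1) (σ 8) = 0 ∧ T.a (σ 2) (σ 2) = -4 * w ∧ T.a (σ 2) (σ 3) = 2 * w ∧ T.a (σ 2) (σ 4) = 0 ∧ T.a (σ 2) (σ 5)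 = 0 ∧ T.a (σ 2) (σ 6) = 0 ∧ T.a (σ 2) (σ 7) = 0 ∧ T.a (σ 2) (σ 8) = 0 ∧ T.a (σ 3) (σ 3) = -4 * w ∧ T.a (σ 3) (σ 4) = 2 * w ∧ T.a (σ 3) (σ 5) = 0 ∧ T.a (σ 3) (σ 6) = 0 ∧ T.a (σ 3) (σ 7) = 0 ∧ T.a (σ 3) (σ 8) = 0 ∧ T.a (σ 4) (σ 4) = -4 * w ∧ T.a (σ 4) (σ 5) = 2 * w ∧ T.a (σ 4) (σ 6) = 0 ∧ T.a (σ 4) (σ 7) = 0 ∧ T.a (σ 4) (σ 8) = 0 ∧ T.a (σ 5) (σ 5) = -4 * w ∧ T.a (σ 5) (σ 6) = 2 * w ∧ T.a (σ 5) (σ 7) = 0 ∧ T.a (σ 5) (σ 8) = 0 ∧ T.a (σ 6) (σ 6) = -4 * w ∧ T.a (σ 6) (σ 7) = 2 * w ∧ T.a (σ 6) (σ 8) = 0 ∧ T.a (σ 7) (σ 7) = -4 * w ∧ T.a (σ 7) (σ 8) = 4 * w ∧ T.a (σ 8) (σ 8) = -8 * w) ∨ (T.m (σ 0) = m ∧ T.m (σ 1) = m ∧ T.m (σ 2) = m ∧ T.m (σ 3) = m ∧ T.m (σ 4) = m ∧ T.m (σ 5) = m ∧ T.m (σ 6) = m ∧ T.m (σ 7) = m ∧ T.m (σ 8) = m ∧ T.w (σ 0) = w ∧ T.w (σ 1) = 2 * w ∧ T.w (σ 2) = 2 * w ∧ T.w (σ 3)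 = 2 * w ∧ T.w (σ 4) = 2 * w ∧ T.w (σ 5) = 2 * w ∧ T.w (σ 6) = 2 * w ∧ T.w (σ 7) = 2 * w ∧ T.w (σ 8) = w ∧ T.a (σ 0) (σ 0) = -2 * w ∧ T.a (σ 0) (σ 1) = 2 * w ∧ T.a (σ 0) (σ 2) = 0 ∧ T.a (σ 0) (σ 3) = 0 ∧ T.a (σ 0) (σ 4) = 0 ∧ T.a (σ 0) (σ 5) = 0 ∧ T.a (σ 0) (σ 6) = 0 ∧ T.a (σ 0) (σ 7) = 0 ∧ T.a (σ 0) (σ 8) = 0 ∧ T.a (σ 1) (σ 1) = -4 * w ∧ T.a (σ 1) (σ 2) = 2 * w ∧ T.a (σ 1) (σ 3) = 0 ∧ T.a (σ 1) (σ 4) = 0 ∧ T.a (σ 1) (σ 5) = 0 ∧ T.a (σ 1) (σ 6) = 0 ∧ T.a (σ 1) (σ 7) = 0 ∧ T.a (σ 1) (σ 8) = 0 ∧ T.a (σ 2) (σ 2) = -4 * w ∧ T.a (σ 2) (σ 3) = 2 * w ∧ T.a (σ 2) (σ 4) = 0 ∧ T.a (σ 2) (σ 5) = 0 ∧ T.a (σ 2) (σ 6) = 0 ∧ T.a (σ 2) (σ 7) = 0 ∧ T.a (σ 2) (σ 8) = 0 ∧ T.a (σ 3) (σ 3) = -4 * w ∧ T.a (σ 3) (σ 4) = 2 * w ∧ T.a (σ 3) (σ 5) = 0 ∧ T.a (σ 3) (σ 6) = 0 ∧ T.a (σ 3) (σ 7) = 0 ∧ T.a (σ 3) (σ 8)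 = 0 ∧ T.a (σ 4) (σ 4) = -4 * w ∧ T.a (σ 4) (σ 5) = 2 * w ∧ T.a (σ 4) (σ 6) = 0 ∧ T.a (σ 4) (σ 7) = 0 ∧ T.a (σ 4) (σ 8) = 0 ∧ T.a (σ 5) (σ 5) = -4 * w ∧ T.a (σ 5) (σ 6) = 2 * w ∧ T.a (σ 5) (σ 7) = 0 ∧ T.a (σ 5) (σ 8) = 0 ∧ T.a (σ 6) (σ 6) = -4 * w ∧ T.a (σ 6) (σ 7) = 2 * w ∧ T.a (σ 6) (σ 8) = 0 ∧ T.a (σ 7) (σ 7) = -4 * w ∧ T.a (σ 7) (σ 8) = 2 * w ∧ T.a (σ 8) (σ 8) = -2 * w) ∨ (T.m (σ 0) = m ∧ T.m (σ 1) = 2 * m ∧ T.m (σ 2) = 2 * m ∧ T.m (σ 3) = 2 * m ∧ T.m (σ 4) = 2 * m ∧ T.m (σ 5) = 2 * m ∧ T.m (σ 6) = 2 * m ∧ T.m (σ 7) = 2 * m ∧ T.m (σ 8) = m ∧ T.w (σ 0) = 2 * w ∧ T.w (σ 1) = w ∧ T.w (σ 2) = w ∧ T.w (σ 3) = w ∧ T.w (σ 4) = w ∧ T.w (σ 5) = w ∧ T.w (σ 6) = w ∧ T.w (σ 7) = w ∧ T.w (σ 8) = 2 * w ∧ T.a (σ 0) (σ 0) = -4 * w ∧ T.a (σ 0) (σ 1) = 2 * w ∧ T.a (σ 0) (σ 2) = 0 ∧ T.a (σ 0) (σ 3) =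 0 ∧ T.a (σ 0) (σ 4) = 0 ∧ T.a (σ 0) (σ 5) = 0 ∧ T.a (σ 0) (σ 6) = 0 ∧ T.a (σ 0) (σ 7) = 0 ∧ T.a (σ 0) (σ 8) = 0 ∧ T.a (σ 1) (σ 1) = -2 * w ∧ T.a (σ 1) (σ 2) = w ∧ T.a (σ 1) (σ 3) = 0 ∧ T.a (σ 1) (σ 4) = 0 ∧ T.a (σ 1) (σ 5) = 0 ∧ T.a (σ 1) (σ 6) = 0 ∧ T.a (σ 1) (σ 7) = 0 ∧ T.a (σ 1) (σ 8) = 0 ∧ T.a (σ 2) (σ 2) = -2 * w ∧ T.a (σ 2) (σ 3) = w ∧ T.a (σ 2) (σ 4) = 0 ∧ T.a (σ 2) (σ 5) = 0 ∧ T.a (σ 2) (σ 6) = 0 ∧ T.a (σ 2) (σ 7) = 0 ∧ T.a (σ 2) (σ 8) = 0 ∧ T.a (σ 3) (σ 3) = -2 * w ∧ T.a (σ 3) (σ 4) = w ∧ T.a (σ 3) (σ 5) = 0 ∧ T.a (σ 3) (σ 6) = 0 ∧ T.a (σ 3) (σ 7) = 0 ∧ T.a (σ 3) (σ 8) = 0 ∧ T.a (σ 4) (σ 4) = -2 * w ∧ T.a (σ 4) (σ 5) = w ∧ T.a (σ 4) (σ 6) = 0 ∧ T.a (σ 4) (σ 7) = 0 ∧ T.a (σ 4) (σ 8) = 0 ∧ T.a (σ 5) (σ 5) = -2 * w ∧ T.a (σ 5) (σ 6) = w ∧ T.a (σ 5) (σ 7) = 0 ∧ T.a (σ 5) (σ 8) = 0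 ∧ T.a (σ 6) (σ 6) = -2 * w ∧ T.a (σ 6) (σ 7) = w ∧ T.a (σ 6) (σ 8) = 0 ∧ T.a (σ 7) (σ 7) = -2 * w ∧ T.a (σ 7) (σ 8) = 2 * w ∧ T.a (σ 8) (σ 8) = -4 * w) ∨ (T.m (σ 0) = m ∧ T.m (σ 1) = 2 * m ∧ T.m (σ 2) = 2 * m ∧ T.m (σ 3) = 2 * m ∧ T.m (σ 4) = 2 * m ∧ T.m (σ 5) = 2 * m ∧ T.m (σ 6) = 2 * m ∧ T.m (σ 7) = m ∧ T.m (σ 8) = m ∧ T.w (σ 0) = 2 * w ∧ T.w (σ 1) = w ∧ T.w (σ 2) = w ∧ T.w (σ 3) = w ∧ T.w (σ 4) = w ∧ T.w (σ 5) = w ∧ T.w (σ 6) = w ∧ T.w (σ 7) = w ∧ T.w (σ 8) = w ∧ T.a (σ 0) (σ 0) = -4 * w ∧ T.a (σ 0) (σ 1) = 2 * w ∧ T.a (σ 0) (σ 2) = 0 ∧ T.a (σ 0) (σ 3) = 0 ∧ T.a (σ 0) (σ 4) = 0 ∧ T.a (σ 0) (σ 5) = 0 ∧ T.a (σ 0) (σ 6) = 0 ∧ T.a (σ 0) (σ 7) = 0 ∧ T.a (σ 0) (σ 8) = 0 ∧ T.a (σ 1) (σ 1) = -2 * w ∧ T.a (σ 1) (σ 2) = w ∧ T.a (σ 1) (σ 3) = 0 ∧ T.a (σ 1) (σ 4) = 0 ∧ T.a (σ 1) (σ 5) = 0 ∧ T.a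 (σ 1) (σ 6) = 0 ∧ T.a (σ 1) (σ 7) = 0 ∧ T.a (σ 1) (σ 8) = 0 ∧ T.a (σ 2) (σ 2) = -2 * w ∧ T.a (σ 2) (σ 3) = w ∧ T.a (σ 2) (σ 4) = 0 ∧ T.a (σ 2) (σ 5) = 0 ∧ T.a (σ 2) (σ 6) = 0 ∧ T.a (σ 2) (σ 7) = 0 ∧ T.a (σ 2) (σ 8) = 0 ∧ T.a (σ 3) (σ 3) = -2 * w ∧ T.a (σ 3) (σ 4) = w ∧ T.a (σ 3) (σ 5) = 0 ∧ T.a (σ 3) (σ 6) = 0 ∧ T.a (σ 3) (σ 7) = 0 ∧ T.a (σ 3) (σ 8) = 0 ∧ T.a (σ 4) (σ 4) = -2 * w ∧ T.a (σ 4) (σ 5) = w ∧ T.a (σ 4) (σ 6) = 0 ∧ T.a (σ 4) (σ 7) = 0 ∧ T.a (σ 4) (σ 8) = 0 ∧ T.a (σ 5) (σ 5) = -2 * w ∧ T.a (σ 5) (σ 6) = w ∧ T.a (σ 5) (σ 7) = 0 ∧ T.a (σ 5) (σ 8) = 0 ∧ T.a (σ 6) (σ 6) = -2 * w ∧ T.a (σ 6) (σ 7) = w ∧ T.a (σ 6) (σ 8) = w ∧ T.a (σ 7) (σ 7) = -2 * w ∧ T.a (σ 7) (σ 8) = 0 ∧ T.a (σ 8) (σ 8) = -2 * w) ∨ (T.m (σ 0) = 2 * m ∧ T.m (σ 1) = 2 * m ∧ T.m (σ 2) = 2 * m ∧ T.m (σ 3) = 2 * m ∧ T.m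 (σ 4) = 2 * m ∧ T.m (σ 5) = 2 * m ∧ T.m (σ 6) = 2 * m ∧ T.m (σ 7) = m ∧ T.m (σ 8) = m ∧ T.w (σ 0) = w ∧ T.w (σ 1) = 2 * w ∧ T.w (σ 2) = 2 * w ∧ T.w (σ 3) = 2 * w ∧ T.w (σ 4) = 2 * w ∧ T.w (σ 5) = 2 * w ∧ T.w (σ 6) = 2 * w ∧ T.w (σ 7) = 2 * w ∧ T.w (σ 8) = 2 * w ∧ T.a (σ 0) (σ 0) = -2 * w ∧ T.a (σ 0) (σ 1) = 2 * w ∧ T.a (σ 0) (σ 2) = 0 ∧ T.a (σ 0) (σ 3) = 0 ∧ T.a (σ 0) (σ 4) = 0 ∧ T.a (σ 0) (σ 5) = 0 ∧ T.a (σ 0) (σ 6) = 0 ∧ T.a (σ 0) (σ 7) = 0 ∧ T.a (σ 0) (σ 8) = 0 ∧ T.a (σ 1) (σ 1) = -4 * w ∧ T.a (σ 1) (σ 2) = 2 * w ∧ T.a (σ 1) (σ 3) = 0 ∧ T.a (σ 1) (σ 4) = 0 ∧ T.a (σ 1) (σ 5) = 0 ∧ T.a (σ 1) (σ 6) = 0 ∧ T.a (σ 1) (σ 7) = 0 ∧ T.a (σ 1) (σ 8) = 0 ∧ T.a (σ 2) (σ 2) = -4 * w ∧ T.a (σ 2) (σ 3) = 2 * w ∧ T.a (σ 2) (σ 4) = 0 ∧ T.a (σ 2) (σ 5) = 0 ∧ T.a (σ 2) (σ 6) = 0 ∧ T.a (σ 2) (σ 7) = 0 ∧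 T.a (σ 2) (σ 8) = 0 ∧ T.a (σ 3) (σ 3) = -4 * w ∧ T.a (σ 3) (σ 4) = 2 * w ∧ T.a (σ 3) (σ 5) = 0 ∧ T.a (σ 3) (σ 6) = 0 ∧ T.a (σ 3) (σ 7) = 0 ∧ T.a (σ 3) (σ 8) = 0 ∧ T.a (σ 4) (σ 4) = -4 * w ∧ T.a (σ 4) (σ 5) = 2 * w ∧ T.a (σ 4) (σ 6) = 0 ∧ T.a (σ 4) (σ 7) = 0 ∧ T.a (σ 4) (σ 8) = 0 ∧ T.a (σ 5) (σ 5) = -4 * w ∧ T.a (σ 5) (σ 6) = 2 * w ∧ T.a (σ 5) (σ 7) = 0 ∧ T.a (σ 5) (σ 8) = 0 ∧ T.a (σ 6) (σ 6) = -4 * w ∧ T.a (σ 6) (σ 7) = 2 * w ∧ T.a (σ 6) (σ 8) = 2 * w ∧ T.a (σ 7) (σ 7) = -4 * w ∧ T.a (σ 7) (σ 8) = 0 ∧ T.a (σ 8) (σ 8) = -4 * w) ∨ (T.m (σ 0) = m ∧ T.m (σ 1) = m ∧ T.m (σ 2) = 2 * m ∧ T.m (σ 3) = 2 * m ∧ T.m (σ 4) = 2 * m ∧ T.m (σ 5) = 2 * m ∧ T.m (σ 6) = 2 * m ∧ T.m (σ 7) = m ∧ T.m (σ 8) = m ∧ T.w (σ 0) = w ∧ T.w (σ 1) = w ∧ T.w (σ 2) = w ∧ T.w (σ 3) = w ∧ T.w (σ 4) = w ∧ T.w (σ 5) = w ∧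 T.w (σ 6) = w ∧ T.w (σ 7) = w ∧ T.w (σ 8) = w ∧ T.a (σ 0) (σ 0) = -2 * w ∧ T.a (σ 0) (σ 1) = 0 ∧ T.a (σ 0) (σ 2) = w ∧ T.a (σ 0) (σ 3) = 0 ∧ T.a (σ 0) (σ 4) = 0 ∧ T.a (σ 0) (σ 5) = 0 ∧ T.a (σ 0) (σ 6) = 0 ∧ T.a (σ 0) (σ 7) = 0 ∧ T.a (σ 0) (σ 8) = 0 ∧ T.a (σ 1) (σ 1) = -2 * w ∧ T.a (σ 1) (σ 2) = w ∧ T.a (σ 1) (σ 3) = 0 ∧ T.a (σ 1) (σ 4) = 0 ∧ T.a (σ 1) (σ 5) = 0 ∧ T.a (σ 1) (σ 6) = 0 ∧ T.a (σ 1) (σ 7) = 0 ∧ T.a (σ 1) (σ 8) = 0 ∧ T.a (σ 2) (σ 2) = -2 * w ∧ T.a (σ 2) (σ 3) = w ∧ T.a (σ 2) (σ 4) = 0 ∧ T.a (σ 2) (σ 5) = 0 ∧ T.a (σ 2) (σ 6) = 0 ∧ T.a (σ 2) (σ 7) = 0 ∧ T.a (σ 2) (σ 8) = 0 ∧ T.a (σ 3) (σ 3) = -2 * w ∧ T.a (σ 3) (σ 4) = w ∧ T.a (σ 3) (σ 5) = 0 ∧ T.a (σ 3) (σ 6) = 0 ∧ T.a (σ 3) (σ 7) = 0 ∧ T.a (σ 3) (σ 8) = 0 ∧ T.a (σ 4) (σ 4) = -2 * w ∧ T.a (σ 4) (σ 5) = w ∧ T.a (σ 4) (σ 6) = 0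 ∧ T.a (σ 4) (σ 7) = 0 ∧ T.a (σ 4) (σ 8) = 0 ∧ T.a (σ 5) (σ 5) = -2 * w ∧ T.a (σ 5) (σ 6) = w ∧ T.a (σ 5) (σ 7) = 0 ∧ T.a (σ 5) (σ 8) = 0 ∧ T.a (σ 6) (σ 6) = -2 * w ∧ T.a (σ 6) (σ 7) = w ∧ T.a (σ 6) (σ 8) = w ∧ T.a (σ 7) (σ 7) = -2 * w ∧ T.a (σ 7) (σ 8) = 0 ∧ T.a (σ 8) (σ 8) = -2 * w) ∨ (T.m (σ 0) = m ∧ T.m (σ 1) = 2 * m ∧ T.m (σ 2) = 3 * m ∧ T.m (σ 3) = 4 * m ∧ T.m (σ 4) = 5 * m ∧ T.m (σ 5) = 6 * m ∧ T.m (σ 6) = 4 * m ∧ T.m (σ 7) = 2 * m ∧ T.m (σ 8) = 3 * m ∧ T.w (σ 0) = w ∧ T.w (σ 1) = w ∧ T.w (σ 2) = w ∧ T.w (σ 3) = w ∧ T.w (σ 4) = w ∧ T.w (σ 5) = w ∧ T.w (σ 6) = w ∧ T.w (σ 7) = w ∧ T.w (σ 8) = w ∧ T.a (σ 0) (σ 0) = -2 * w ∧ T.a (σ 0) (σ 1) = w ∧ T.a (σ 0) (σ 2) = 0 ∧ T.a (σ 0) (σ 3) = 0 ∧ T.a (σ 0) (σ 4) = 0 ∧ T.a (σ 0) (σ 5) = 0 ∧ T.a (σ 0) (σ 6) = 0 ∧ T.a (σ 0) (σ 7) = 0 ∧ T.a (σ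 0) (σ 8) = 0 ∧ T.a (σ 1) (σ 1) = -2 * w ∧ T.a (σ 1) (σ 2) = w ∧ T.a (σ 1) (σ 3) = 0 ∧ T.a (σ 1) (σ 4) = 0 ∧ T.a (σ 1) (σ 5) = 0 ∧ T.a (σ 1) (σ 6) = 0 ∧ T.a (σ 1) (σ 7) = 0 ∧ T.a (σ 1) (σ 8) = 0 ∧ T.a (σ 2) (σ 2) = -2 * w ∧ T.a (σ 2) (σ 3) = w ∧ T.a (σ 2) (σ 4) = 0 ∧ T.a (σ 2) (σ 5) = 0 ∧ T.a (σ 2) (σ 6) = 0 ∧ T.a (σ 2) (σ 7) = 0 ∧ T.a (σ 2) (σ 8) = 0 ∧ T.a (σ 3) (σ 3) = -2 * w ∧ T.a (σ 3) (σ 4) = w ∧ T.a (σ 3) (σ 5) = 0 ∧ T.a (σ 3) (σ 6) = 0 ∧ T.a (σ 3) (σ 7) = 0 ∧ T.a (σ 3) (σ 8) = 0 ∧ T.a (σ 4) (σ 4) = -2 * w ∧ T.a (σ 4) (σ 5) = w ∧ T.a (σ 4) (σ 6) = 0 ∧ T.a (σ 4) (σ 7) = 0 ∧ T.a (σ 4) (σ 8) = 0 ∧ T.a (σ 5) (σ 5) = -2 * w ∧ T.a (σ 5) (σ 6) = w ∧ T.a (σ 5) (σ 7) = 0 ∧ T.a (σ 5) (σ 8) = w ∧ T.a (σ 6) (σ 6) = -2 * w ∧ T.a (σ 6) (σ 7) = w ∧ T.a (σ 6) (σ 8) = 0 ∧ T.a (σ 7) (σ 7) = -2 * w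 ∧ T.a (σ 7) (σ 8) = 0 ∧ T.a (σ 8) (σ 8) = -2 * w)) := by
  by_cases hx : ∃ j, (j ≠ u0 ∧ j ≠ u1 ∧ j ≠ u2 ∧ j ≠ u3 ∧ j ≠ u4) ∧ T.a u2 j ≠ 0
  · obtain ⟨u5, ⟨hn_5_0, hn_5_1, hn_5_2, hn_5_3, hn_5_4⟩, e_2_5⟩ := hx
    have z_0_5 : T.a u0 u5 = 0 := cl_0 u5 ⟨hn_5_0, hn_5_1, hn_5_2, hn_5_3⟩
    have z_1_5 : T.a u1 u5 = 0 := cl_1 u5 ⟨hn_5_0, hn_5_1, hn_5_2, hn_5_3⟩
    rcases Groth.Agent.Helper6.NT.edge5 T h2 (by norm_num) u2 u5 hn_5_2.symm e_2_5 with ⟨tw_2_5, tap_2_5, taq_2_5⟩ | ⟨tw_2_5, tap_2_5, taq_2_5⟩ | ⟨tw_2_5, tap_2_5, taq_2_5⟩ | ⟨tw_2_5, tap_2_5, taq_2_5⟩ | ⟨tw_2_5, tap_2_5, taq_2_5⟩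
    · -- (2,5) S
      exfalso
      have key := Groth.Agent.Helper6.NT.negfun6 T h2 u0 u1 u2 u3 u4 u5 (by norm_num) 2 1 2 1 1 1 (by norm_num) (by norm_num)
      linarith only [key, tap_0_1, taq_0_1, tap_0_2, taq_0_2, tap_0_3, taq_0_3, z_0_4, z_0_5, z_1_2, z_1_3, z_1_4, z_1_5, z_2_3, tap_2_4, taq_2_4, tap_2_5, taq_2_5, z_3_4, T.offDiag_nonneg u3 u5 hn_5_3.symm, T.offDiag_nonneg u4 u5 hn_5_4.symm, T.w_pos u0, T.w_pos u1, T.w_pos u2, T.w_pos u3, T.w_pos u4, T.w_pos u5]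
    · -- (2,5) Dp
      exfalso
      have key := Groth.Agent.Helper6.NT.negfun4 T h2 u0 u2 u4 u5 (by norm_num) 1 2 1 1 (by norm_num) (by norm_num)
      linarith only [key, tap_0_2, taq_0_2, z_0_4, z_0_5, tap_2_4, taq_2_4, tap_2_5, taq_2_5, T.offDiag_nonneg u4 u5 hn_5_4.symm, T.w_pos u0, T.w_pos u2, T.w_pos u4, T.w_pos u5]
    · -- (2,5) Dm
      exfalso
      have key := Groth.Agent.Helper6.NT.negfun4 T h2 u0 u2 u4 u5 (by norm_num) 1 2 1 2 (by norm_num) (by norm_num)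
      linarith only [key, tap_0_2, taq_0_2, z_0_4, z_0_5, tap_2_4, taq_2_4, tap_2_5, taq_2_5, T.offDiag_nonneg u4 u5 hn_5_4.symm, T.w_pos u0, T.w_pos u2, T.w_pos u4, T.w_pos u5]
    · -- (2,5) Tp
      exfalso
      have key := Groth.Agent.Helper6.NT.negfun3 T h2 u2 u4 u5 (by norm_num) 2 1 1 (by norm_num) (by norm_num)
      linarith only [key, tap_2_4, taq_2_4, tap_2_5, taq_2_5, T.offDiag_nonneg u4 u5 hn_5_4.symm, T.w_pos u2, T.w_pos u4, T.w_pos u5]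
    · -- (2,5) Tm
      exfalso
      have key := Groth.Agent.Helper6.NT.negfun3 T h2 u2 u4 u5 (by norm_num) 2 1 3 (by norm_num) (by norm_num)
      linarith only [key, tap_2_4, taq_2_4, tap_2_5, taq_2_5, T.offDiag_nonneg u4 u5 hn_5_4.symm, T.w_pos u2, T.w_pos u4, T.w_pos u5]
  · push Not at hx
    have cl_2 := hx
    clear hx
    by_cases hx : ∃ j, (j ≠ u0 ∧ j ≠ u1 ∧ j ≠ u2 ∧ j ≠ u3 ∧ j ≠ u4) ∧ T.a u3 j ≠ 0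
    · obtain ⟨u5, ⟨hn_5_0, hn_5_1, hn_5_2, hn_5_3, hn_5_4⟩, e_3_5⟩ := hx
      have z_0_5 : T.a u0 u5 = 0 := cl_0 u5 ⟨hn_5_0, hn_5_1, hn_5_2, hn_5_3⟩
      have z_1_5 : T.a u1 u5 = 0 := cl_1 u5 ⟨hn_5_0, hn_5_1, hn_5_2, hn_5_3⟩
      have z_2_5 : T.a u2 u5 = 0 := cl_2 u5 ⟨hn_5_0, hn_5_1, hn_5_2, hn_5_3, hn_5_4⟩
      rcases Groth.Agent.Helper6.NT.edge5 T h2 (by norm_num) u3 u5 hn_5_3.symm e_3_5 with ⟨tw_3_5, tap_3_5, taq_3_5⟩ | ⟨tw_3_5, tap_3_5, taq_3_5⟩ | ⟨tw_3_5, tap_3_5, taq_3_5⟩ | ⟨tw_3_5, tap_3_5, taq_3_5⟩ | ⟨tw_3_5, tap_3_5, taq_3_5⟩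
      · -- (3,5) S
        rcases eq_or_ne (T.a u4 u5) 0 with z_4_5 | nz_4_5
        · -- (4,5) zero
          by_cases hx : ∃ j, (j ≠ u0 ∧ j ≠ u1 ∧ j ≠ u2 ∧ j ≠ u3 ∧ j ≠ u4 ∧ j ≠ u5) ∧ T.a u3 j ≠ 0
          · obtain ⟨u6, ⟨hn_6_0, hn_6_1, hn_6_2, hn_6_3, hn_6_4, hn_6_5⟩, e_3_6⟩ := hx
            have z_0_6 : T.a u0 u6 = 0 := cl_0 u6 ⟨hn_6_0, hn_6_1, hn_6_2, hn_6_3⟩
            have z_1_6 : T.a u1 u6 = 0 := cl_1 u6 ⟨hn_6_0, hn_6_1, hn_6_2, hn_6_3⟩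
            have z_2_6 : T.a u2 u6 = 0 := cl_2 u6 ⟨hn_6_0, hn_6_1, hn_6_2, hn_6_3, hn_6_4⟩
            rcases Groth.Agent.Helper6.NT.edge5 T h2 (by norm_num) u3 u6 hn_6_3.symm e_3_6 with ⟨tw_3_6, tap_3_6, taq_3_6⟩ | ⟨tw_3_6, tap_3_6, taq_3_6⟩ | ⟨tw_3_6, tap_3_6, taq_3_6⟩ | ⟨tw_3_6, tap_3_6, taq_3_6⟩ | ⟨tw_3_6, tap_3_6, taq_3_6⟩
            · -- (3,6) S
              exfalso
              have key := Groth.Agent.Helper6.NT.negfun6 T h2 u0 u1 u2 u3 u5 u6 (by norm_num) 2 1 1 2 1 1 (by norm_num) (by norm_num)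
              linarith only [key, tap_0_1, taq_0_1, tap_0_2, taq_0_2, tap_0_3, taq_0_3, z_0_5, z_0_6, z_1_2, z_1_3, z_1_5, z_1_6, z_2_3, z_2_5, z_2_6, tap_3_5, taq_3_5, tap_3_6, taq_3_6, T.offDiag_nonneg u5 u6 hn_6_5.symm, T.w_pos u0, T.w_pos u1, T.w_pos u2, T.w_pos u3, T.w_pos u5, T.w_pos u6]
            · -- (3,6) Dp
              exfalso
              have key := Groth.Agent.Helper6.NT.negfun4 T h2 u0 u3 u5 u6 (by norm_num) 1 2 1 1 (by norm_num) (by norm_num)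
              linarith only [key, tap_0_3, taq_0_3, z_0_5, z_0_6, tap_3_5, taq_3_5, tap_3_6, taq_3_6, T.offDiag_nonneg u5 u6 hn_6_5.symm, T.w_pos u0, T.w_pos u3, T.w_pos u5, T.w_pos u6]
            · -- (3,6) Dm
              exfalso
              have key := Groth.Agent.Helper6.NT.negfun4 T h2 u0 u3 u5 u6 (by norm_num) 1 2 1 2 (by norm_num) (by norm_num)
              linarith only [key, tap_0_3, taq_0_3, z_0_5, z_0_6, tap_3_5, taq_3_5, tap_3_6, taq_3_6, T.offDiag_nonneg u5 u6 hn_6_5.symm, T.w_pos u0, T.w_pos u3, T.w_pos u5, T.w_pos u6]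
            · -- (3,6) Tp
              exfalso
              have key := Groth.Agent.Helper6.NT.negfun3 T h2 u3 u5 u6 (by norm_num) 2 1 1 (by norm_num) (by norm_num)
              linarith only [key, tap_3_5, taq_3_5, tap_3_6, taq_3_6, T.offDiag_nonneg u5 u6 hn_6_5.symm, T.w_pos u3, T.w_pos u5, T.w_pos u6]
            · -- (3,6) Tm
              exfalso
              have key := Groth.Agent.Helper6.NT.negfun3 T h2 u3 u5 u6 (by norm_num) 2 1 3 (by norm_num) (by norm_num)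
              linarith only [key, tap_3_5, taq_3_5, tap_3_6, taq_3_6, T.offDiag_nonneg u5 u6 hn_6_5.symm, T.w_pos u3, T.w_pos u5, T.w_pos u6]
          · push Not at hx
            have cl_3 := hx
            clear hx
            by_cases hx : ∃ j, (j ≠ u0 ∧ j ≠ u1 ∧ j ≠ u2 ∧ j ≠ u3 ∧ j ≠ u4 ∧ j ≠ u5) ∧ T.a u4 j ≠ 0
            · obtain ⟨u6, ⟨hn_6_0, hn_6_1, hn_6_2, hn_6_3, hn_6_4, hn_6_5⟩, e_4_6⟩ := hx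
              have z_0_6 : T.a u0 u6 = 0 := cl_0 u6 ⟨hn_6_0, hn_6_1, hn_6_2, hn_6_3⟩
              have z_1_6 : T.a u1 u6 = 0 := cl_1 u6 ⟨hn_6_0, hn_6_1, hn_6_2, hn_6_3⟩
              have z_2_6 : T.a u2 u6 = 0 := cl_2 u6 ⟨hn_6_0, hn_6_1, hn_6_2, hn_6_3, hn_6_4⟩
              have z_3_6 : T.a u3 u6 = 0 := cl_3 u6 ⟨hn_6_0, hn_6_1, hn_6_2, hn_6_3, hn_6_4, hn_6_5⟩
              rcases Groth.Agent.Helper6.NT.edge5 T h2 (by norm_num) u4 u6 hn_6_4.symm e_4_6 with ⟨tw_4_6, tap_4_6, taq_4_6⟩ | ⟨tw_4_6, tap_4_6, taq_4_6⟩ | ⟨tw_4_6, tap_4_6, taq_4_6⟩ | ⟨tw_4_6, tap_4_6, taq_4_6⟩ | ⟨tw_4_6, tap_4_6, taq_4_6⟩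
              · -- (4,6) S
                rcases eq_or_ne (T.a u5 u6) 0 with z_5_6 | nz_5_6
                · -- (5,6) zero
                  exact Groth.Agent.Helper6.G1.cut9_9 T h2 u0 u1 u2 u3 u4 u5 u6 hn_1_0 e_0_1 tw_0_1 tap_0_1 taq_0_1 hn_2_0 hn_2_1 e_0_2 tw_0_2 tap_0_2 taq_0_2 z_1_2 hn_3_0 hn_3_1 hn_3_2 e_0_3 tw_0_3 tap_0_3 taq_0_3 z_1_3 z_2_3 cl_0 cl_1 hn_4_0 hn_4_1 hn_4_2 hn_4_3 e_2_4 z_0_4 z_1_4 tw_2_4 tap_2_4 taq_2_4 z_3_4 cl_2 hn_5_0 hn_5_1 hn_5_2 hn_5_3 hn_5_4 e_3_5 z_0_5 z_1_5 z_2_5 tw_3_5 tap_3_5 taq_3_5 z_4_5 cl_3 hn_6_0 hn_6_1 hn_6_2 hn_6_3 hn_6_4 hn_6_5 e_4_6 z_0_6 z_1_6 z_2_6 z_3_6 tw_4_6 tap_4_6 taq_4_6 z_5_6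
                · -- (5,6) nonzero
                  obtain ⟨lbp_5_6, lbq_5_6⟩ := Groth.Agent.Helper6.NT.lb T u5 u6 hn_6_5.symm nz_5_6
                  exfalso
                  have key := Groth.Agent.Helper6.NT.negfun6 T h2 u0 u2 u3 u4 u5 u6 (by norm_num) 1 1 1 1 1 1 (by norm_num) (by norm_num)
                  linarith only [key, tap_0_2, taq_0_2, tap_0_3, taq_0_3, z_0_4, z_0_5, z_0_6, z_2_3, tap_2_4, taq_2_4, z_2_5, z_2_6, z_3_4, tap_3_5, taq_3_5, z_3_6, z_4_5, tap_4_6, taq_4_6, lbp_5_6, lbq_5_6, T.w_pos u0, T.w_pos u2, T.w_pos u3, T.w_pos u4, T.w_pos u5, T.w_pos u6]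
              · -- (4,6) Dp
                exfalso
                have key := Groth.Agent.Helper6.NT.negfun6 T h2 u0 u1 u2 u3 u4 u6 (by norm_num) 2 1 2 1 2 1 (by norm_num) (by norm_num)
                linarith only [key, tap_0_1, taq_0_1, tap_0_2, taq_0_2, tap_0_3, taq_0_3, z_0_4, z_0_6, z_1_2, z_1_3, z_1_4, z_1_6, z_2_3, tap_2_4, taq_2_4, z_2_6, z_3_4, z_3_6, tap_4_6, taq_4_6, T.w_pos u0, T.w_pos u1, T.w_pos u2, T.w_pos u3, T.w_pos u4, T.w_pos u6]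
              · -- (4,6) Dm
                exfalso
                have key := Groth.Agent.Helper6.NT.negfun6 T h2 u0 u1 u2 u3 u4 u6 (by norm_num) 2 1 2 1 2 2 (by norm_num) (by norm_num)
                linarith only [key, tap_0_1, taq_0_1, tap_0_2, taq_0_2, tap_0_3, taq_0_3, z_0_4, z_0_6, z_1_2, z_1_3, z_1_4, z_1_6, z_2_3, tap_2_4, taq_2_4, z_2_6, z_3_4, z_3_6, tap_4_6, taq_4_6, T.w_pos u0, T.w_pos u1, T.w_pos u2, T.w_pos u3, T.w_pos u4, T.w_pos u6]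
              · -- (4,6) Tp
                exfalso
                have key := Groth.Agent.Helper6.NT.negfun3 T h2 u2 u4 u6 (by norm_num) 1 2 1 (by norm_num) (by norm_num)
                linarith only [key, tap_2_4, taq_2_4, z_2_6, tap_4_6, taq_4_6, T.w_pos u2, T.w_pos u4, T.w_pos u6]
              · -- (4,6) Tm
                exfalso
                have key := Groth.Agent.Helper6.NT.negfun3 T h2 u2 u4 u6 (by norm_num) 1 2 3 (by norm_num) (by norm_num)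
                linarith only [key, tap_2_4, taq_2_4, z_2_6, tap_4_6, taq_4_6, T.w_pos u2, T.w_pos u4, T.w_pos u6]
            · push Not at hx
              have cl_4 := hx
              clear hx
              by_cases hx : ∃ j, (j ≠ u0 ∧ j ≠ u1 ∧ j ≠ u2 ∧ j ≠ u3 ∧ j ≠ u4 ∧ j ≠ u5) ∧ T.a u5 j ≠ 0
              · obtain ⟨u6, ⟨hn_6_0, hn_6_1, hn_6_2, hn_6_3, hn_6_4, hn_6_5⟩, e_5_6⟩ := hx
                have z_0_6 : T.a u0 u6 = 0 := cl_0 u6 ⟨hn_6_0, hn_6_1, hn_6_2, hn_6_3⟩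
                have z_1_6 : T.a u1 u6 = 0 := cl_1 u6 ⟨hn_6_0, hn_6_1, hn_6_2, hn_6_3⟩
                have z_2_6 : T.a u2 u6 = 0 := cl_2 u6 ⟨hn_6_0, hn_6_1, hn_6_2, hn_6_3, hn_6_4⟩
                have z_3_6 : T.a u3 u6 = 0 := cl_3 u6 ⟨hn_6_0, hn_6_1, hn_6_2, hn_6_3, hn_6_4, hn_6_5⟩
                have z_4_6 : T.a u4 u6 = 0 := cl_4 u6 ⟨hn_6_0, hn_6_1, hn_6_2, hn_6_3, hn_6_4, hn_6_5⟩
                rcases Groth.Agent.Helper6.NT.edge5 T h2 (by norm_num) u5 u6 hn_6_5.symm e_5_6 with ⟨tw_5_6, tap_5_6, taq_5_6⟩ | ⟨tw_5_6, tap_5_6, taq_5_6⟩ | ⟨tw_5_6, tap_5_6, taq_5_6⟩ | ⟨tw_5_6, tap_5_6, taq_5_6⟩ | ⟨tw_5_6, tap_5_6, taq_5_6⟩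
                · -- (5,6) S
                  exact Groth.Agent.Helper6.G1.cut9_10 T h2 u0 u1 u2 u3 u4 u5 u6 hn_1_0 e_0_1 tw_0_1 tap_0_1 taq_0_1 hn_2_0 hn_2_1 e_0_2 tw_0_2 tap_0_2 taq_0_2 z_1_2 hn_3_0 hn_3_1 hn_3_2 e_0_3 tw_0_3 tap_0_3 taq_0_3 z_1_3 z_2_3 cl_0 cl_1 hn_4_0 hn_4_1 hn_4_2 hn_4_3 e_2_4 z_0_4 z_1_4 tw_2_4 tap_2_4 taq_2_4 z_3_4 cl_2 hn_5_0 hn_5_1 hn_5_2 hn_5_3 hn_5_4 e_3_5 z_0_5 z_1_5 z_2_5 tw_3_5 tap_3_5 taq_3_5 z_4_5 cl_3 cl_4 hn_6_0 hn_6_1 hn_6_2 hn_6_3 hn_6_4 hn_6_5 e_5_6 z_0_6 z_1_6 z_2_6 z_3_6 z_4_6 tw_5_6 tap_5_6 taq_5_6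
                · -- (5,6) Dp
                  exfalso
                  have key := Groth.Agent.Helper6.NT.negfun6 T h2 u0 u1 u2 u3 u5 u6 (by norm_num) 2 1 1 2 2 1 (by norm_num) (by norm_num)
                  linarith only [key, tap_0_1, taq_0_1, tap_0_2, taq_0_2, tap_0_3, taq_0_3, z_0_5, z_0_6, z_1_2, z_1_3, z_1_5, z_1_6, z_2_3, z_2_5, z_2_6, tap_3_5, taq_3_5, z_3_6, tap_5_6, taq_5_6, T.w_pos u0, T.w_pos u1, T.w_pos u2, T.w_pos u3, T.w_pos u5, T.w_pos u6]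
                · -- (5,6) Dm
                  exfalso
                  have key := Groth.Agent.Helper6.NT.negfun6 T h2 u0 u1 u2 u3 u5 u6 (by norm_num) 2 1 1 2 2 2 (by norm_num) (by norm_num)
                  linarith only [key, tap_0_1, taq_0_1, tap_0_2, taq_0_2, tap_0_3, taq_0_3, z_0_5, z_0_6, z_1_2, z_1_3, z_1_5, z_1_6, z_2_3, z_2_5, z_2_6, tap_3_5, taq_3_5, z_3_6, tap_5_6, taq_5_6, T.w_pos u0, T.w_pos u1, T.w_pos u2, T.w_pos u3, T.w_pos u5, T.w_pos u6]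
                · -- (5,6) Tp
                  exfalso
                  have key := Groth.Agent.Helper6.NT.negfun3 T h2 u3 u5 u6 (by norm_num) 1 2 1 (by norm_num) (by norm_num)
                  linarith only [key, tap_3_5, taq_3_5, z_3_6, tap_5_6, taq_5_6, T.w_pos u3, T.w_pos u5, T.w_pos u6]
                · -- (5,6) Tm
                  exfalso
                  have key := Groth.Agent.Helper6.NT.negfun3 T h2 u3 u5 u6 (by norm_num) 1 2 3 (by norm_num) (by norm_num)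
                  linarith only [key, tap_3_5, taq_3_5, z_3_6, tap_5_6, taq_5_6, T.w_pos u3, T.w_pos u5, T.w_pos u6]
              · push Not at hx
                have cl_5 := hx
                clear hx
                exfalso
                refine Groth.Agent.Helper6.NT.closed_contra T [u0, u1, u2, u3, u4, u5] (by simp) (by simp) ?_
                intro i hi j hj
                simp only [List.mem_cons, List.not_mem_nil, or_false, not_or] at hi hj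
                rcases hi with rfl | rfl | rfl | rfl | rfl | rfl
                · exact cl_0 j ⟨hj.1, hj.2.1, hj.2.2.1, hj.2.2.2.1⟩
                · exact cl_1 j ⟨hj.1, hj.2.1, hj.2.2.1, hj.2.2.2.1⟩
                · exact cl_2 j ⟨hj.1, hj.2.1, hj.2.2.1, hj.2.2.2.1, hj.2.2.2.2.1⟩
                · exact cl_3 j ⟨hj.1, hj.2.1, hj.2.2.1, hj.2.2.2.1, hj.2.2.2.2.1, hj.2.2.2.2.2⟩
                · exact cl_4 j ⟨hj.1, hj.2.1, hj.2.2.1, hj.2.2.2.1, hj.2.2.2.2.1, hj.2.2.2.2.2⟩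
                · exact cl_5 j ⟨hj.1, hj.2.1, hj.2.2.1, hj.2.2.2.1, hj.2.2.2.2.1, hj.2.2.2.2.2⟩
        · -- (4,5) nonzero
          obtain ⟨lbp_4_5, lbq_4_5⟩ := Groth.Agent.Helper6.NT.lb T u4 u5 hn_5_4.symm nz_4_5
          exfalso
          have key := Groth.Agent.Helper6.NT.negfun5 T h2 u0 u2 u3 u4 u5 (by norm_num) 1 1 1 1 1 (by norm_num) (by norm_num)
          linarith only [key, tap_0_2, taq_0_2, tap_0_3, taq_0_3, z_0_4, z_0_5, z_2_3, tap_2_4, taq_2_4, z_2_5, z_3_4, tap_3_5, taq_3_5, lbp_4_5, lbq_4_5, T.w_pos u0, T.w_pos u2, T.w_pos u3, T.w_pos u4, T.w_pos u5]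
      · -- (3,5) Dp
        exfalso
        have key := Groth.Agent.Helper6.NT.negfun5 T h2 u0 u1 u2 u3 u5 (by norm_num) 2 1 1 2 1 (by norm_num) (by norm_num)
        linarith only [key, tap_0_1, taq_0_1, tap_0_2, taq_0_2, tap_0_3, taq_0_3, z_0_5, z_1_2, z_1_3, z_1_5, z_2_3, z_2_5, tap_3_5, taq_3_5, T.w_pos u0, T.w_pos u1, T.w_pos u2, T.w_pos u3, T.w_pos u5]
      · -- (3,5) Dm
        exfalso
        have key := Groth.Agent.Helper6.NT.negfun5 T h2 u0 u1 u2 u3 u5 (by norm_num) 2 1 1 2 2 (by norm_num) (by norm_num)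
        linarith only [key, tap_0_1, taq_0_1, tap_0_2, taq_0_2, tap_0_3, taq_0_3, z_0_5, z_1_2, z_1_3, z_1_5, z_2_3, z_2_5, tap_3_5, taq_3_5, T.w_pos u0, T.w_pos u1, T.w_pos u2, T.w_pos u3, T.w_pos u5]
      · -- (3,5) Tp
        exfalso
        have key := Groth.Agent.Helper6.NT.negfun3 T h2 u0 u3 u5 (by norm_num) 1 2 1 (by norm_num) (by norm_num)
        linarith only [key, tap_0_3, taq_0_3, z_0_5, tap_3_5, taq_3_5, T.w_pos u0, T.w_pos u3, T.w_pos u5]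
      · -- (3,5) Tm
        exfalso
        have key := Groth.Agent.Helper6.NT.negfun3 T h2 u0 u3 u5 (by norm_num) 1 2 3 (by norm_num) (by norm_num)
        linarith only [key, tap_0_3, taq_0_3, z_0_5, tap_3_5, taq_3_5, T.w_pos u0, T.w_pos u3, T.w_pos u5]
    · push Not at hx
      have cl_3 := hx
      clear hx
      by_cases hx : ∃ j, (j ≠ u0 ∧ j ≠ u1 ∧ j ≠ u2 ∧ j ≠ u3 ∧ j ≠ u4) ∧ T.a u4 j ≠ 0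
      · obtain ⟨u5, ⟨hn_5_0, hn_5_1, hn_5_2, hn_5_3, hn_5_4⟩, e_4_5⟩ := hx
        have z_0_5 : T.a u0 u5 = 0 := cl_0 u5 ⟨hn_5_0, hn_5_1, hn_5_2, hn_5_3⟩
        have z_1_5 : T.a u1 u5 = 0 := cl_1 u5 ⟨hn_5_0, hn_5_1, hn_5_2, hn_5_3⟩
        have z_2_5 : T.a u2 u5 = 0 := cl_2 u5 ⟨hn_5_0, hn_5_1, hn_5_2, hn_5_3, hn_5_4⟩
        have z_3_5 : T.a u3 u5 = 0 := cl_3 u5 ⟨hn_5_0, hn_5_1, hn_5_2, hn_5_3, hn_5_4⟩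
        rcases Groth.Agent.Helper6.NT.edge5 T h2 (by norm_num) u4 u5 hn_5_4.symm e_4_5 with ⟨tw_4_5, tap_4_5, taq_4_5⟩ | ⟨tw_4_5, tap_4_5, taq_4_5⟩ | ⟨tw_4_5, tap_4_5, taq_4_5⟩ | ⟨tw_4_5, tap_4_5, taq_4_5⟩ | ⟨tw_4_5, tap_4_5, taq_4_5⟩
        · -- (4,5) S
          by_cases hx : ∃ j, (j ≠ u0 ∧ j ≠ u1 ∧ j ≠ u2 ∧ j ≠ u3 ∧ j ≠ u4 ∧ j ≠ u5) ∧ T.a u4 j ≠ 0
          · obtain ⟨u6, ⟨hn_6_0, hn_6_1, hn_6_2, hn_6_3, hn_6_4, hn_6_5⟩, e_4_6⟩ := hx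
            have z_0_6 : T.a u0 u6 = 0 := cl_0 u6 ⟨hn_6_0, hn_6_1, hn_6_2, hn_6_3⟩
            have z_1_6 : T.a u1 u6 = 0 := cl_1 u6 ⟨hn_6_0, hn_6_1, hn_6_2, hn_6_3⟩
            have z_2_6 : T.a u2 u6 = 0 := cl_2 u6 ⟨hn_6_0, hn_6_1, hn_6_2, hn_6_3, hn_6_4⟩
            have z_3_6 : T.a u3 u6 = 0 := cl_3 u6 ⟨hn_6_0, hn_6_1, hn_6_2, hn_6_3, hn_6_4⟩
            rcases Groth.Agent.Helper6.NT.edge5 T h2 (by norm_num) u4 u6 hn_6_4.symm e_4_6 with ⟨tw_4_6, tap_4_6, taq_4_6⟩ | ⟨tw_4_6, tap_4_6, taq_4_6⟩ | ⟨tw_4_6, tap_4_6, taq_4_6⟩ | ⟨tw_4_6, tap_4_6, taq_4_6⟩ | ⟨tw_4_6, tap_4_6, taq_4_6⟩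
            · -- (4,6) S
              exfalso
              have key := Groth.Agent.Helper6.NT.negfun7 T h2 u0 u1 u2 u3 u4 u5 u6 (by norm_num) 2 1 2 1 2 1 1 (by norm_num) (by norm_num)
              linarith only [key, tap_0_1, taq_0_1, tap_0_2, taq_0_2, tap_0_3, taq_0_3, z_0_4, z_0_5, z_0_6, z_1_2, z_1_3, z_1_4, z_1_5, z_1_6, z_2_3, tap_2_4, taq_2_4, z_2_5, z_2_6, z_3_4, z_3_5, z_3_6, tap_4_5, taq_4_5, tap_4_6, taq_4_6, T.offDiag_nonneg u5 u6 hn_6_5.symm, T.w_pos u0, T.w_pos u1, T.w_pos u2, T.w_pos u3, T.w_pos u4, T.w_pos u5, T.w_pos u6]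
            · -- (4,6) Dp
              exfalso
              have key := Groth.Agent.Helper6.NT.negfun4 T h2 u2 u4 u5 u6 (by norm_num) 1 2 1 1 (by norm_num) (by norm_num)
              linarith only [key, tap_2_4, taq_2_4, z_2_5, z_2_6, tap_4_5, taq_4_5, tap_4_6, taq_4_6, T.offDiag_nonneg u5 u6 hn_6_5.symm, T.w_pos u2, T.w_pos u4, T.w_pos u5, T.w_pos u6]
            · -- (4,6) Dm
              exfalso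
              have key := Groth.Agent.Helper6.NT.negfun4 T h2 u2 u4 u5 u6 (by norm_num) 1 2 1 2 (by norm_num) (by norm_num)
              linarith only [key, tap_2_4, taq_2_4, z_2_5, z_2_6, tap_4_5, taq_4_5, tap_4_6, taq_4_6, T.offDiag_nonneg u5 u6 hn_6_5.symm, T.w_pos u2, T.w_pos u4, T.w_pos u5, T.w_pos u6]
            · -- (4,6) Tp
              exfalso
              have key := Groth.Agent.Helper6.NT.negfun3 T h2 u4 u5 u6 (by norm_num) 2 1 1 (by norm_num) (by norm_num)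
              linarith only [key, tap_4_5, taq_4_5, tap_4_6, taq_4_6, T.offDiag_nonneg u5 u6 hn_6_5.symm, T.w_pos u4, T.w_pos u5, T.w_pos u6]
            · -- (4,6) Tm
              exfalso
              have key := Groth.Agent.Helper6.NT.negfun3 T h2 u4 u5 u6 (by norm_num) 2 1 3 (by norm_num) (by norm_num)
              linarith only [key, tap_4_5, taq_4_5, tap_4_6, taq_4_6, T.offDiag_nonneg u5 u6 hn_6_5.symm, T.w_pos u4, T.w_pos u5, T.w_pos u6]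
          · push Not at hx
            have cl_4 := hx
            clear hx
            by_cases hx : ∃ j, (j ≠ u0 ∧ j ≠ u1 ∧ j ≠ u2 ∧ j ≠ u3 ∧ j ≠ u4 ∧ j ≠ u5) ∧ T.a u5 j ≠ 0
            · obtain ⟨u6, ⟨hn_6_0, hn_6_1, hn_6_2, hn_6_3, hn_6_4, hn_6_5⟩, e_5_6⟩ := hx
              have z_0_6 : T.a u0 u6 = 0 := cl_0 u6 ⟨hn_6_0, hn_6_1, hn_6_2, hn_6_3⟩
              have z_1_6 : T.a u1 u6 = 0 := cl_1 u6 ⟨hn_6_0, hn_6_1, hn_6_2, hn_6_3⟩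
              have z_2_6 : T.a u2 u6 = 0 := cl_2 u6 ⟨hn_6_0, hn_6_1, hn_6_2, hn_6_3, hn_6_4⟩
              have z_3_6 : T.a u3 u6 = 0 := cl_3 u6 ⟨hn_6_0, hn_6_1, hn_6_2, hn_6_3, hn_6_4⟩
              have z_4_6 : T.a u4 u6 = 0 := cl_4 u6 ⟨hn_6_0, hn_6_1, hn_6_2, hn_6_3, hn_6_4, hn_6_5⟩
              rcases Groth.Agent.Helper6.NT.edge5 T h2 (by norm_num) u5 u6 hn_6_5.symm e_5_6 with ⟨tw_5_6, tap_5_6, taq_5_6⟩ | ⟨tw_5_6, tap_5_6, taq_5_6⟩ | ⟨tw_5_6, tap_5_6, taq_5_6⟩ | ⟨tw_5_6, tap_5_6, taq_5_6⟩ | ⟨tw_5_6, tap_5_6, taq_5_6⟩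
              · -- (5,6) S
                exact Groth.Agent.Helper6.G1.cut9_11 T h2 u0 u1 u2 u3 u4 u5 u6 hn_1_0 e_0_1 tw_0_1 tap_0_1 taq_0_1 hn_2_0 hn_2_1 e_0_2 tw_0_2 tap_0_2 taq_0_2 z_1_2 hn_3_0 hn_3_1 hn_3_2 e_0_3 tw_0_3 tap_0_3 taq_0_3 z_1_3 z_2_3 cl_0 cl_1 hn_4_0 hn_4_1 hn_4_2 hn_4_3 e_2_4 z_0_4 z_1_4 tw_2_4 tap_2_4 taq_2_4 z_3_4 cl_2 cl_3 hn_5_0 hn_5_1 hn_5_2 hn_5_3 hn_5_4 e_4_5 z_0_5 z_1_5 z_2_5 z_3_5 tw_4_5 tap_4_5 taq_4_5 cl_4 hn_6_0 hn_6_1 hn_6_2 hn_6_3 hn_6_4 hn_6_5 e_5_6 z_0_6 z_1_6 z_2_6 z_3_6 z_4_6 tw_5_6 tap_5_6 taq_5_6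
              · -- (5,6) Dp
                exfalso
                have key := Groth.Agent.Helper6.NT.negfun7 T h2 u0 u1 u2 u3 u4 u5 u6 (by norm_num) 2 1 2 1 2 2 1 (by norm_num) (by norm_num)
                linarith only [key, tap_0_1, taq_0_1, tap_0_2, taq_0_2, tap_0_3, taq_0_3, z_0_4, z_0_5, z_0_6, z_1_2, z_1_3, z_1_4, z_1_5, z_1_6, z_2_3, tap_2_4, taq_2_4, z_2_5, z_2_6, z_3_4, z_3_5, z_3_6, tap_4_5, taq_4_5, z_4_6, tap_5_6, taq_5_6, T.w_pos u0, T.w_pos u1, T.w_pos u2, T.w_pos u3, T.w_pos u4, T.w_pos u5, T.w_pos u6]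
              · -- (5,6) Dm
                exfalso
                have key := Groth.Agent.Helper6.NT.negfun7 T h2 u0 u1 u2 u3 u4 u5 u6 (by norm_num) 2 1 2 1 2 2 2 (by norm_num) (by norm_num)
                linarith only [key, tap_0_1, taq_0_1, tap_0_2, taq_0_2, tap_0_3, taq_0_3, z_0_4, z_0_5, z_0_6, z_1_2, z_1_3, z_1_4, z_1_5, z_1_6, z_2_3, tap_2_4, taq_2_4, z_2_5, z_2_6, z_3_4, z_3_5, z_3_6, tap_4_5, taq_4_5, z_4_6, tap_5_6, taq_5_6, T.w_pos u0, T.w_pos u1, T.w_pos u2, T.w_pos u3, T.w_pos u4, T.w_pos u5, T.w_pos u6]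
              · -- (5,6) Tp
                exfalso
                have key := Groth.Agent.Helper6.NT.negfun3 T h2 u4 u5 u6 (by norm_num) 1 2 1 (by norm_num) (by norm_num)
                linarith only [key, tap_4_5, taq_4_5, z_4_6, tap_5_6, taq_5_6, T.w_pos u4, T.w_pos u5, T.w_pos u6]
              · -- (5,6) Tm
                exfalso
                have key := Groth.Agent.Helper6.NT.negfun3 T h2 u4 u5 u6 (by norm_num) 1 2 3 (by norm_num) (by norm_num)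
                linarith only [key, tap_4_5, taq_4_5, z_4_6, tap_5_6, taq_5_6, T.w_pos u4, T.w_pos u5, T.w_pos u6]
            · push Not at hx
              have cl_5 := hx
              clear hx
              exfalso
              refine Groth.Agent.Helper6.NT.closed_contra T [u0, u1, u2, u3, u4, u5] (by simp) (by simp) ?_
              intro i hi j hj
              simp only [List.mem_cons, List.not_mem_nil, or_false, not_or] at hi hj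
              rcases hi with rfl | rfl | rfl | rfl | rfl | rfl
              · exact cl_0 j ⟨hj.1, hj.2.1, hj.2.2.1, hj.2.2.2.1⟩
              · exact cl_1 j ⟨hj.1, hj.2.1, hj.2.2.1, hj.2.2.2.1⟩
              · exact cl_2 j ⟨hj.1, hj.2.1, hj.2.2.1, hj.2.2.2.1, hj.2.2.2.2.1⟩
              · exact cl_3 j ⟨hj.1, hj.2.1, hj.2.2.1, hj.2.2.2.1, hj.2.2.2.2.1⟩
              · exact cl_4 j ⟨hj.1, hj.2.1, hj.2.2.1, hj.2.2.2.1, hj.2.2.2.2.1, hj.2.2.2.2.2⟩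
              · exact cl_5 j ⟨hj.1, hj.2.1, hj.2.2.1, hj.2.2.2.1, hj.2.2.2.2.1, hj.2.2.2.2.2⟩
        · -- (4,5) Dp
          exfalso
          have key := Groth.Agent.Helper6.NT.negfun6 T h2 u0 u1 u2 u3 u4 u5 (by norm_num) 2 1 2 1 2 1 (by norm_num) (by norm_num)
          linarith only [key, tap_0_1, taq_0_1, tap_0_2, taq_0_2, tap_0_3, taq_0_3, z_0_4, z_0_5, z_1_2, z_1_3, z_1_4, z_1_5, z_2_3, tap_2_4, taq_2_4, z_2_5, z_3_4, z_3_5, tap_4_5, taq_4_5, T.w_pos u0, T.w_pos u1, T.w_pos u2, T.w_pos u3, T.w_pos u4, T.w_pos u5]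
        · -- (4,5) Dm
          exfalso
          have key := Groth.Agent.Helper6.NT.negfun6 T h2 u0 u1 u2 u3 u4 u5 (by norm_num) 2 1 2 1 2 2 (by norm_num) (by norm_num)
          linarith only [key, tap_0_1, taq_0_1, tap_0_2, taq_0_2, tap_0_3, taq_0_3, z_0_4, z_0_5, z_1_2, z_1_3, z_1_4, z_1_5, z_2_3, tap_2_4, taq_2_4, z_2_5, z_3_4, z_3_5, tap_4_5, taq_4_5, T.w_pos u0, T.w_pos u1, T.w_pos u2, T.w_pos u3, T.w_pos u4, T.w_pos u5]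
        · -- (4,5) Tp
          exfalso
          have key := Groth.Agent.Helper6.NT.negfun3 T h2 u2 u4 u5 (by norm_num) 1 2 1 (by norm_num) (by norm_num)
          linarith only [key, tap_2_4, taq_2_4, z_2_5, tap_4_5, taq_4_5, T.w_pos u2, T.w_pos u4, T.w_pos u5]
        · -- (4,5) Tm
          exfalso
          have key := Groth.Agent.Helper6.NT.negfun3 T h2 u2 u4 u5 (by norm_num) 1 2 3 (by norm_num) (by norm_num)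
          linarith only [key, tap_2_4, taq_2_4, z_2_5, tap_4_5, taq_4_5, T.w_pos u2, T.w_pos u4, T.w_pos u5]
      · push Not at hx
        have cl_4 := hx
        clear hx
        exfalso
        refine Groth.Agent.Helper6.NT.closed_contra T [u0, u1, u2, u3, u4] (by simp) (by simp) ?_
        intro i hi j hj
        simp only [List.mem_cons, List.not_mem_nil, or_false, not_or] at hi hj
        rcases hi with rfl | rfl | rfl | rfl | rfl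
        · exact cl_0 j ⟨hj.1, hj.2.1, hj.2.2.1, hj.2.2.2.1⟩
        · exact cl_1 j ⟨hj.1, hj.2.1, hj.2.2.1, hj.2.2.2.1⟩
        · exact cl_2 j ⟨hj.1, hj.2.1, hj.2.2.1, hj.2.2.2.1, hj.2.2.2.2⟩
        · exact cl_3 j ⟨hj.1, hj.2.1, hj.2.2.1, hj.2.2.2.1, hj.2.2.2.2⟩
        · exact cl_4 j ⟨hj.1, hj.2.1, hj.2.2.1, hj.2.2.2.1, hj.2.2.2.2⟩

theorem cut9_13 (T : Models.NumericalType 9) (h2 : ∀ i, T.IsMinusTwo i) (u0 u1 u2 u3 u4 u5 u6 : Fin 9)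
    (hn_1_0 : u1 ≠ u0)
    (e_0_1 : T.a u0 u1 ≠ 0)
    (tw_0_1 : T.w u1 = T.w u0)
    (tap_0_1 : T.a u0 u1 = T.w u0)
    (taq_0_1 : T.a u0 u1 = T.w u1)
    (hn_2_0 : u2 ≠ u0)
    (hn_2_1 : u2 ≠ u1)
    (e_0_2 : T.a u0 u2 ≠ 0)
    (tw_0_2 : T.w u2 = T.w u0)
    (tap_0_2 : T.a u0 u2 = T.w u0)
    (taq_0_2 : T.a u0 u2 = T.w u2)
    (z_1_2 : T.a u1 u2 = 0)
    (hn_3_0 : u3 ≠ u0)
    (hn_3_1 : u3 ≠ u1)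
    (hn_3_2 : u3 ≠ u2)
    (e_0_3 : T.a u0 u3 ≠ 0)
    (tw_0_3 : T.w u3 = T.w u0)
    (tap_0_3 : T.a u0 u3 = T.w u0)
    (taq_0_3 : T.a u0 u3 = T.w u3)
    (z_1_3 : T.a u1 u3 = 0)
    (z_2_3 : T.a u2 u3 = 0)
    (cl_0 : ∀ j : Fin 9, (j ≠ u0 ∧ j ≠ u1 ∧ j ≠ u2 ∧ j ≠ u3) → T.a u0 j = 0)
    (cl_1 : ∀ j : Fin 9, (j ≠ u0 ∧ j ≠ u1 ∧ j ≠ u2 ∧ j ≠ u3) → T.a u1 j = 0)
    (cl_2 : ∀ j : Fin 9, (j ≠ u0 ∧ j ≠ u1 ∧ j ≠ u2 ∧ j ≠ u3) → T.a u2 j = 0)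
    (hn_4_0 : u4 ≠ u0)
    (hn_4_1 : u4 ≠ u1)
    (hn_4_2 : u4 ≠ u2)
    (hn_4_3 : u4 ≠ u3)
    (e_3_4 : T.a u3 u4 ≠ 0)
    (z_0_4 : T.a u0 u4 = 0)
    (z_1_4 : T.a u1 u4 = 0)
    (z_2_4 : T.a u2 u4 = 0)
    (tw_3_4 : T.w u4 = T.w u3)
    (tap_3_4 : T.a u3 u4 = T.w u3)
    (taq_3_4 : T.a u3 u4 = T.w u4)
    (cl_3 : ∀ j : Fin 9, (j ≠ u0 ∧ j ≠ u1 ∧ j ≠ u2 ∧ j ≠ u3 ∧ j ≠ u4) → T.a u3 j = 0)
    (hn_5_0 : u5 ≠ u0)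
    (hn_5_1 : u5 ≠ u1)
    (hn_5_2 : u5 ≠ u2)
    (hn_5_3 : u5 ≠ u3)
    (hn_5_4 : u5 ≠ u4)
    (e_4_5 : T.a u4 u5 ≠ 0)
    (z_0_5 : T.a u0 u5 = 0)
    (z_1_5 : T.a u1 u5 = 0)
    (z_2_5 : T.a u2 u5 = 0)
    (z_3_5 : T.a u3 u5 = 0)
    (tw_4_5 : T.w u5 = T.w u4)
    (tap_4_5 : T.a u4 u5 = T.w u4)
    (taq_4_5 : T.a u4 u5 = T.w u5)
    (cl_4 : ∀ j : Fin 9, (j ≠ u0 ∧ j ≠ u1 ∧ j ≠ u2 ∧ j ≠ u3 ∧ j ≠ u4 ∧ j ≠ u5) → T.a u4 j = 0)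
    (hn_6_0 : u6 ≠ u0)
    (hn_6_1 : u6 ≠ u1)
    (hn_6_2 : u6 ≠ u2)
    (hn_6_3 : u6 ≠ u3)
    (hn_6_4 : u6 ≠ u4)
    (hn_6_5 : u6 ≠ u5)
    (e_5_6 : T.a u5 u6 ≠ 0)
    (z_0_6 : T.a u0 u6 = 0)
    (z_1_6 : T.a u1 u6 = 0)
    (z_2_6 : T.a u2 u6 = 0)
    (z_3_6 : T.a u3 u6 = 0)
    (z_4_6 : T.a u4 u6 = 0)
    (tw_5_6 : T.w u6 = T.w u5)
    (tap_5_6 : T.a u5 u6 = T.w u5)
    (taq_5_6 : T.a u5 u6 = T.w u6) :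
    ∃ (σ : Equiv.Perm (Fin 9)) (m w : ℤ), ((T.m (σ 0) = m ∧ T.m (σ 1) = m ∧ T.m (σ 2) = m ∧ T.m (σ 3) = m ∧ T.m (σ 4) = m ∧ T.m (σ 5) = m ∧ T.m (σ 6) = m ∧ T.m (σ 7) = m ∧ T.m (σ 8) = m ∧ T.w (σ 0) = w ∧ T.w (σ 1) = w ∧ T.w (σ 2) = w ∧ T.w (σ 3) = w ∧ T.w (σ 4) = w ∧ T.w (σ 5) = w ∧ T.w (σ 6) = w ∧ T.w (σ 7) = w ∧ T.w (σ 8) = w ∧ T.a (σ 0) (σ 0) = -2 * w ∧ T.a (σ 0) (σ 1) = w ∧ T.a (σ 0) (σ 2) = 0 ∧ T.a (σ 0) (σ 3) = 0 ∧ T.a (σ 0) (σ 4) = 0 ∧ T.a (σ 0) (σ 5) = 0 ∧ T.a (σ 0) (σ 6) = 0 ∧ T.a (σ 0) (σ 7) = 0 ∧ T.a (σ 0) (σ 8) = w ∧ T.a (σ 1) (σ 1) = -2 * w ∧ T.a (σ 1) (σ 2) = w ∧ T.a (σ 1) (σ 3) = 0 ∧ T.a (σ 1) (σ 4) = 0 ∧ T.a (σ 1) (σ 5) = 0 ∧ T.a (σ 1) (σ 6) = 0 ∧ T.a (σ 1) (σ 7) = 0 ∧ T.a (σ 1) (σ 8) = 0 ∧ T.a (σ 2) (σ 2) = -2 * w ∧ T.a (σ 2) (σ 3) = w ∧ T.a (σ 2) (σ 4) = 0 ∧ T.a (σ 2)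 (σ 5) = 0 ∧ T.a (σ 2) (σ 6) = 0 ∧ T.a (σ 2) (σ 7) = 0 ∧ T.a (σ 2) (σ 8) = 0 ∧ T.a (σ 3) (σ 3) = -2 * w ∧ T.a (σ 3) (σ 4) = w ∧ T.a (σ 3) (σ 5) = 0 ∧ T.a (σ 3) (σ 6) = 0 ∧ T.a (σ 3) (σ 7) = 0 ∧ T.a (σ 3) (σ 8) = 0 ∧ T.a (σ 4) (σ 4) = -2 * w ∧ T.a (σ 4) (σ 5) = w ∧ T.a (σ 4) (σ 6) = 0 ∧ T.a (σ 4) (σ 7) = 0 ∧ T.a (σ 4) (σ 8) = 0 ∧ T.a (σ 5) (σ 5) = -2 * w ∧ T.a (σ 5) (σ 6) = w ∧ T.a (σ 5) (σ 7) = 0 ∧ T.a (σ 5) (σ 8) = 0 ∧ T.a (σ 6) (σ 6) = -2 * w ∧ T.a (σ 6) (σ 7) = w ∧ T.a (σ 6) (σ 8) = 0 ∧ T.a (σ 7) (σ 7) = -2 * w ∧ T.a (σ 7) (σ 8) = w ∧ T.a (σ 8) (σ 8) = -2 * w) ∨ (T.m (σ 0) = 2 * m ∧ T.m (σ 1) = 2 * m ∧ T.m (σ 2) = 2 * m ∧ T.m (σ 3) = 2 * m ∧ T.m (σ 4) = 2 * m ∧ T.m (σ 5) = 2 * m ∧ T.m (σ 6) = 2 * m ∧ T.m (σ 7) = 2 * m ∧ T.m (σ 8) = m ∧ T.w (σ 0) = w ∧ T.w (σ 1) = 2 * w ∧ T.w (σ 2) =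 2 * w ∧ T.w (σ 3) = 2 * w ∧ T.w (σ 4) = 2 * w ∧ T.w (σ 5) = 2 * w ∧ T.w (σ 6) = 2 * w ∧ T.w (σ 7) = 2 * w ∧ T.w (σ 8) = 4 * w ∧ T.a (σ 0) (σ 0) = -2 * w ∧ T.a (σ 0) (σ 1) = 2 * w ∧ T.a (σ 0) (σ 2) = 0 ∧ T.a (σ 0) (σ 3) = 0 ∧ T.a (σ 0) (σ 4) = 0 ∧ T.a (σ 0) (σ 5) = 0 ∧ T.a (σ 0) (σ 6) = 0 ∧ T.a (σ 0) (σ 7) = 0 ∧ T.a (σ 0) (σ 8) = 0 ∧ T.a (σ 1) (σ 1) = -4 * w ∧ T.a (σ 1) (σ 2) = 2 * w ∧ T.a (σ 1) (σ 3) = 0 ∧ T.a (σ 1) (σ 4) = 0 ∧ T.a (σ 1) (σ 5) = 0 ∧ T.a (σ 1) (σ 6) = 0 ∧ T.a (σ 1) (σ 7) = 0 ∧ T.a (σ 1) (σ 8) = 0 ∧ T.a (σ 2) (σ 2) = -4 * w ∧ T.a (σ 2) (σ 3) = 2 * w ∧ T.a (σ 2) (σ 4) = 0 ∧ T.a (σ 2) (σ 5) = 0 ∧ T.a (σ 2) (σ 6) = 0 ∧ T.a (σ 2) (σ 7) = 0 ∧ T.a (σ 2) (σ 8) = 0 ∧ T.a (σ 3) (σ 3) = -4 * w ∧ T.a (σ 3) (σ 4) = 2 * w ∧ T.a (σ 3) (σ 5) = 0 ∧ T.a (σ 3) (σ 6) = 0 ∧ T.a (σ 3) (σ 7)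 = 0 ∧ T.a (σ 3) (σ 8) = 0 ∧ T.a (σ 4) (σ 4) = -4 * w ∧ T.a (σ 4) (σ 5) = 2 * w ∧ T.a (σ 4) (σ 6) = 0 ∧ T.a (σ 4) (σ 7) = 0 ∧ T.a (σ 4) (σ 8) = 0 ∧ T.a (σ 5) (σ 5) = -4 * w ∧ T.a (σ 5) (σ 6) = 2 * w ∧ T.a (σ 5) (σ 7) = 0 ∧ T.a (σ 5) (σ 8) = 0 ∧ T.a (σ 6) (σ 6) = -4 * w ∧ T.a (σ 6) (σ 7) = 2 * w ∧ T.a (σ 6) (σ 8) = 0 ∧ T.a (σ 7) (σ 7) = -4 * w ∧ T.a (σ 7) (σ 8) = 4 * w ∧ T.a (σ 8) (σ 8) = -8 * w) ∨ (T.m (σ 0) = m ∧ T.m (σ 1) = m ∧ T.m (σ 2) = m ∧ T.m (σ 3) = m ∧ T.m (σ 4) = m ∧ T.m (σ 5) = m ∧ T.m (σ 6) = m ∧ T.m (σ 7) = m ∧ T.m (σ 8) = m ∧ T.w (σ 0) = w ∧ T.w (σ 1) = 2 * w ∧ T.w (σ 2) = 2 * w ∧ T.w (σ 3) = 2 * w ∧ T.w (σ 4) = 2 * w ∧ T.w (σ 5) = 2 * w ∧ T.w (σ 6) = 2 * w ∧ T.w (σ 7) = 2 * w ∧ T.w (σ 8) = w ∧ T.a (σ 0) (σ 0) = -2 * w ∧ T.a (σ 0) (σ 1) = 2 * w ∧ T.a (σ 0) (σ 2) = 0 ∧ T.a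 (σ 0) (σ 3) = 0 ∧ T.a (σ 0) (σ 4) = 0 ∧ T.a (σ 0) (σ 5) = 0 ∧ T.a (σ 0) (σ 6) = 0 ∧ T.a (σ 0) (σ 7) = 0 ∧ T.a (σ 0) (σ 8) = 0 ∧ T.a (σ 1) (σ 1) = -4 * w ∧ T.a (σ 1) (σ 2) = 2 * w ∧ T.a (σ 1) (σ 3) = 0 ∧ T.a (σ 1) (σ 4) = 0 ∧ T.a (σ 1) (σ 5) = 0 ∧ T.a (σ 1) (σ 6) = 0 ∧ T.a (σ 1) (σ 7) = 0 ∧ T.a (σ 1) (σ 8) = 0 ∧ T.a (σ 2) (σ 2) = -4 * w ∧ T.a (σ 2) (σ 3) = 2 * w ∧ T.a (σ 2) (σ 4) = 0 ∧ T.a (σ 2) (σ 5) = 0 ∧ T.a (σ 2) (σ 6) = 0 ∧ T.a (σ 2) (σ 7) = 0 ∧ T.a (σ 2) (σ 8) = 0 ∧ T.a (σ 3) (σ 3) = -4 * w ∧ T.a (σ 3) (σ 4) = 2 * w ∧ T.a (σ 3) (σ 5) = 0 ∧ T.a (σ 3) (σ 6) = 0 ∧ T.a (σ 3) (σ 7) = 0 ∧ T.a (σ 3) (σ 8) = 0 ∧ T.a (σ 4) (σ 4) = -4 * w ∧ T.a (σ 4) (σ 5) = 2 * w ∧ T.a (σ 4) (σ 6) = 0 ∧ T.a (σ 4) (σ 7) = 0 ∧ T.a (σ 4) (σ 8) = 0 ∧ T.a (σ 5) (σ 5) = -4 * w ∧ T.a (σ 5) (σ 6) = 2 * w ∧ T.a (σ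 5) (σ 7) = 0 ∧ T.a (σ 5) (σ 8) = 0 ∧ T.a (σ 6) (σ 6) = -4 * w ∧ T.a (σ 6) (σ 7) = 2 * w ∧ T.a (σ 6) (σ 8) = 0 ∧ T.a (σ 7) (σ 7) = -4 * w ∧ T.a (σ 7) (σ 8) = 2 * w ∧ T.a (σ 8) (σ 8) = -2 * w) ∨ (T.m (σ 0) = m ∧ T.m (σ 1) = 2 * m ∧ T.m (σ 2) = 2 * m ∧ T.m (σ 3) = 2 * m ∧ T.m (σ 4) = 2 * m ∧ T.m (σ 5) = 2 * m ∧ T.m (σ 6) = 2 * m ∧ T.m (σ 7) = 2 * m ∧ T.m (σ 8) = m ∧ T.w (σ 0) = 2 * w ∧ T.w (σ 1) = w ∧ T.w (σ 2) = w ∧ T.w (σ 3) = w ∧ T.w (σ 4) = w ∧ T.w (σ 5) = w ∧ T.w (σ 6) = w ∧ T.w (σ 7) = w ∧ T.w (σ 8) = 2 * w ∧ T.a (σ 0) (σ 0) = -4 * w ∧ T.a (σ 0) (σ 1) = 2 * w ∧ T.a (σ 0) (σ 2) = 0 ∧ T.a (σ 0) (σ 3) = 0 ∧ T.a (σ 0) (σ 4) = 0 ∧ T.a (σ 0) (σ 5) = 0 ∧ T.a (σ 0) (σ 6) = 0 ∧ T.a (σ 0) (σ 7) = 0 ∧ T.a (σ 0) (σ 8) = 0 ∧ T.a (σ 1) (σ 1) = -2 * w ∧ T.a (σ 1) (σ 2) = w ∧ T.a (σ 1) (σ 3) = 0 ∧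 T.a (σ 1) (σ 4) = 0 ∧ T.a (σ 1) (σ 5) = 0 ∧ T.a (σ 1) (σ 6) = 0 ∧ T.a (σ 1) (σ 7) = 0 ∧ T.a (σ 1) (σ 8) = 0 ∧ T.a (σ 2) (σ 2) = -2 * w ∧ T.a (σ 2) (σ 3) = w ∧ T.a (σ 2) (σ 4) = 0 ∧ T.a (σ 2) (σ 5) = 0 ∧ T.a (σ 2) (σ 6) = 0 ∧ T.a (σ 2) (σ 7) = 0 ∧ T.a (σ 2) (σ 8) = 0 ∧ T.a (σ 3) (σ 3) = -2 * w ∧ T.a (σ 3) (σ 4) = w ∧ T.a (σ 3) (σ 5) = 0 ∧ T.a (σ 3) (σ 6) = 0 ∧ T.a (σ 3) (σ 7) = 0 ∧ T.a (σ 3) (σ 8) = 0 ∧ T.a (σ 4) (σ 4) = -2 * w ∧ T.a (σ 4) (σ 5) = w ∧ T.a (σ 4) (σ 6) = 0 ∧ T.a (σ 4) (σ 7) = 0 ∧ T.a (σ 4) (σ 8) = 0 ∧ T.a (σ 5) (σ 5) = -2 * w ∧ T.a (σ 5) (σ 6) = w ∧ T.a (σ 5) (σ 7) = 0 ∧ T.a (σ 5) (σ 8) = 0 ∧ T.a (σ 6) (σ 6) = -2 * w ∧ T.a (σ 6) (σ 7) = w ∧ T.a (σ 6) (σ 8) = 0 ∧ T.a (σ 7) (σ 7) = -2 * w ∧ T.a (σ 7) (σ 8) = 2 * w ∧ T.a (σ 8) (σ 8) = -4 * w) ∨ (T.m (σ 0) = m ∧ T.m (σ 1) = 2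 * m ∧ T.m (σ 2) = 2 * m ∧ T.m (σ 3) = 2 * m ∧ T.m (σ 4) = 2 * m ∧ T.m (σ 5) = 2 * m ∧ T.m (σ 6) = 2 * m ∧ T.m (σ 7) = m ∧ T.m (σ 8) = m ∧ T.w (σ 0) = 2 * w ∧ T.w (σ 1) = w ∧ T.w (σ 2) = w ∧ T.w (σ 3) = w ∧ T.w (σ 4) = w ∧ T.w (σ 5) = w ∧ T.w (σ 6) = w ∧ T.w (σ 7) = w ∧ T.w (σ 8) = w ∧ T.a (σ 0) (σ 0) = -4 * w ∧ T.a (σ 0) (σ 1) = 2 * w ∧ T.a (σ 0) (σ 2) = 0 ∧ T.a (σ 0) (σ 3) = 0 ∧ T.a (σ 0) (σ 4) = 0 ∧ T.a (σ 0) (σ 5) = 0 ∧ T.a (σ 0) (σ 6) = 0 ∧ T.a (σ 0) (σ 7) = 0 ∧ T.a (σ 0) (σ 8) = 0 ∧ T.a (σ 1) (σ 1) = -2 * w ∧ T.a (σ 1) (σ 2) = w ∧ T.a (σ 1) (σ 3) = 0 ∧ T.a (σ 1) (σ 4) = 0 ∧ T.a (σ 1) (σ 5) = 0 ∧ T.a (σ 1) (σ 6) = 0 ∧ T.a (σ 1) (σ 7) = 0 ∧ T.a (σ 1) (σ 8) = 0 ∧ T.a (σ 2) (σ 2) = -2 * w ∧ T.a (σ 2) (σ 3) = w ∧ T.a (σ 2) (σ 4) = 0 ∧ T.a (σ 2) (σ 5) = 0 ∧ T.a (σ 2) (σ 6) = 0 ∧ T.a (σ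 2) (σ 7) = 0 ∧ T.a (σ 2) (σ 8) = 0 ∧ T.a (σ 3) (σ 3) = -2 * w ∧ T.a (σ 3) (σ 4) = w ∧ T.a (σ 3) (σ 5) = 0 ∧ T.a (σ 3) (σ 6) = 0 ∧ T.a (σ 3) (σ 7) = 0 ∧ T.a (σ 3) (σ 8) = 0 ∧ T.a (σ 4) (σ 4) = -2 * w ∧ T.a (σ 4) (σ 5) = w ∧ T.a (σ 4) (σ 6) = 0 ∧ T.a (σ 4) (σ 7) = 0 ∧ T.a (σ 4) (σ 8) = 0 ∧ T.a (σ 5) (σ 5) = -2 * w ∧ T.a (σ 5) (σ 6) = w ∧ T.a (σ 5) (σ 7) = 0 ∧ T.a (σ 5) (σ 8) = 0 ∧ T.a (σ 6) (σ 6) = -2 * w ∧ T.a (σ 6) (σ 7) = w ∧ T.a (σ 6) (σ 8) = w ∧ T.a (σ 7) (σ 7) = -2 * w ∧ T.a (σ 7) (σ 8) = 0 ∧ T.a (σ 8) (σ 8) = -2 * w) ∨ (T.m (σ 0) = 2 * m ∧ T.m (σ 1) = 2 * m ∧ T.m (σ 2) = 2 * m ∧ T.m (σ 3) = 2 * m ∧ T.m (σ 4) = 2 * m ∧ T.m (σ 5) = 2 * m ∧ T.m (σ 6) = 2 * m ∧ T.m (σ 7) = m ∧ T.m (σ 8) = m ∧ T.w (σ 0) = w ∧ T.w (σ 1) = 2 * w ∧ T.w (σ 2) = 2 * w ∧ T.w (σ 3) = 2 * w ∧ T.w (σ 4) = 2 * w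 ∧ T.w (σ 5) = 2 * w ∧ T.w (σ 6) = 2 * w ∧ T.w (σ 7) = 2 * w ∧ T.w (σ 8) = 2 * w ∧ T.a (σ 0) (σ 0) = -2 * w ∧ T.a (σ 0) (σ 1) = 2 * w ∧ T.a (σ 0) (σ 2) = 0 ∧ T.a (σ 0) (σ 3) = 0 ∧ T.a (σ 0) (σ 4) = 0 ∧ T.a (σ 0) (σ 5) = 0 ∧ T.a (σ 0) (σ 6) = 0 ∧ T.a (σ 0) (σ 7) = 0 ∧ T.a (σ 0) (σ 8) = 0 ∧ T.a (σ 1) (σ 1) = -4 * w ∧ T.a (σ 1) (σ 2) = 2 * w ∧ T.a (σ 1) (σ 3) = 0 ∧ T.a (σ 1) (σ 4) = 0 ∧ T.a (σ 1) (σ 5) = 0 ∧ T.a (σ 1) (σ 6) = 0 ∧ T.a (σ 1) (σ 7) = 0 ∧ T.a (σ 1) (σ 8) = 0 ∧ T.a (σ 2) (σ 2) = -4 * w ∧ T.a (σ 2) (σ 3) = 2 * w ∧ T.a (σ 2) (σ 4) = 0 ∧ T.a (σ 2) (σ 5) = 0 ∧ T.a (σ 2) (σ 6) = 0 ∧ T.a (σ 2) (σ 7) = 0 ∧ T.a (σ 2) (σ 8) = 0 ∧ T.a (σ 3) (σ 3) = -4 * w ∧ T.a (σ 3) (σ 4) = 2 * w ∧ T.a (σ 3) (σ 5) = 0 ∧ T.a (σ 3) (σ 6) = 0 ∧ T.a (σ 3) (σ 7) = 0 ∧ T.a (σ 3) (σ 8) = 0 ∧ T.a (σ 4) (σ 4) =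 -4 * w ∧ T.a (σ 4) (σ 5) = 2 * w ∧ T.a (σ 4) (σ 6) = 0 ∧ T.a (σ 4) (σ 7) = 0 ∧ T.a (σ 4) (σ 8) = 0 ∧ T.a (σ 5) (σ 5) = -4 * w ∧ T.a (σ 5) (σ 6) = 2 * w ∧ T.a (σ 5) (σ 7) = 0 ∧ T.a (σ 5) (σ 8) = 0 ∧ T.a (σ 6) (σ 6) = -4 * w ∧ T.a (σ 6) (σ 7) = 2 * w ∧ T.a (σ 6) (σ 8) = 2 * w ∧ T.a (σ 7) (σ 7) = -4 * w ∧ T.a (σ 7) (σ 8) = 0 ∧ T.a (σ 8) (σ 8) = -4 * w) ∨ (T.m (σ 0) = m ∧ T.m (σ 1) = m ∧ T.m (σ 2) = 2 * m ∧ T.m (σ 3) = 2 * m ∧ T.m (σ 4) = 2 * m ∧ T.m (σ 5) = 2 * m ∧ T.m (σ 6) = 2 * m ∧ T.m (σ 7) = m ∧ T.m (σ 8) = m ∧ T.w (σ 0) = w ∧ T.w (σ 1) = w ∧ T.w (σ 2) = w ∧ T.w (σ 3) = w ∧ T.w (σ 4) = w ∧ T.w (σ 5) = w ∧ T.w (σ 6) = w ∧ T.w (σ 7) = w ∧ T.w (σ 8) = w ∧ T.a (σ 0) (σ 0) = -2 * w ∧ T.a (σ 0) (σ 1) = 0 ∧ T.a (σ 0) (σ 2) = w ∧ T.a (σ 0) (σ 3) = 0 ∧ T.a (σ 0) (σ 4) = 0 ∧ T.a (σ 0) (σ 5) =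 0 ∧ T.a (σ 0) (σ 6) = 0 ∧ T.a (σ 0) (σ 7) = 0 ∧ T.a (σ 0) (σ 8) = 0 ∧ T.a (σ 1) (σ 1) = -2 * w ∧ T.a (σ 1) (σ 2) = w ∧ T.a (σ 1) (σ 3) = 0 ∧ T.a (σ 1) (σ 4) = 0 ∧ T.a (σ 1) (σ 5) = 0 ∧ T.a (σ 1) (σ 6) = 0 ∧ T.a (σ 1) (σ 7) = 0 ∧ T.a (σ 1) (σ 8) = 0 ∧ T.a (σ 2) (σ 2) = -2 * w ∧ T.a (σ 2) (σ 3) = w ∧ T.a (σ 2) (σ 4) = 0 ∧ T.a (σ 2) (σ 5) = 0 ∧ T.a (σ 2) (σ 6) = 0 ∧ T.a (σ 2) (σ 7) = 0 ∧ T.a (σ 2) (σ 8) = 0 ∧ T.a (σ 3) (σ 3) = -2 * w ∧ T.a (σ 3) (σ 4) = w ∧ T.a (σ 3) (σ 5) = 0 ∧ T.a (σ 3) (σ 6) = 0 ∧ T.a (σ 3) (σ 7) = 0 ∧ T.a (σ 3) (σ 8) = 0 ∧ T.a (σ 4) (σ 4) = -2 * w ∧ T.a (σ 4) (σ 5) = w ∧ T.a (σ 4) (σ 6) = 0 ∧ T.a (σ 4) (σ 7) = 0 ∧ T.a (σ 4) (σ 8) = 0 ∧ T.a (σ 5) (σ 5) = -2 * w ∧ T.a (σ 5) (σ 6) = w ∧ T.a (σ 5) (σ 7) = 0 ∧ T.a (σ 5) (σ 8) = 0 ∧ T.a (σ 6) (σ 6) = -2 * w ∧ T.a (σ 6) (σ 7)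 = w ∧ T.a (σ 6) (σ 8) = w ∧ T.a (σ 7) (σ 7) = -2 * w ∧ T.a (σ 7) (σ 8) = 0 ∧ T.a (σ 8) (σ 8) = -2 * w) ∨ (T.m (σ 0) = m ∧ T.m (σ 1) = 2 * m ∧ T.m (σ 2) = 3 * m ∧ T.m (σ 3) = 4 * m ∧ T.m (σ 4) = 5 * m ∧ T.m (σ 5) = 6 * m ∧ T.m (σ 6) = 4 * m ∧ T.m (σ 7) = 2 * m ∧ T.m (σ 8) = 3 * m ∧ T.w (σ 0) = w ∧ T.w (σ 1) = w ∧ T.w (σ 2) = w ∧ T.w (σ 3) = w ∧ T.w (σ 4) = w ∧ T.w (σ 5) = w ∧ T.w (σ 6) = w ∧ T.w (σ 7) = w ∧ T.w (σ 8) = w ∧ T.a (σ 0) (σ 0) = -2 * w ∧ T.a (σ 0) (σ 1) = w ∧ T.a (σ 0) (σ 2) = 0 ∧ T.a (σ 0) (σ 3) = 0 ∧ T.a (σ 0) (σ 4) = 0 ∧ T.a (σ 0) (σ 5) = 0 ∧ T.a (σ 0) (σ 6) = 0 ∧ T.a (σ 0) (σ 7) = 0 ∧ T.a (σ 0) (σ 8) = 0 ∧ T.a (σ 1) (σ 1) = -2 * w ∧ T.a (σ 1) (σ 2) = w ∧ T.a (σ 1) (σ 3) = 0 ∧ T.a (σ 1) (σ 4) = 0 ∧ T.a (σ 1) (σ 5) = 0 ∧ T.a (σ 1) (σ 6) = 0 ∧ T.a (σ 1) (σ 7) = 0 ∧ T.a (σ 1)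 (σ 8) = 0 ∧ T.a (σ 2) (σ 2) = -2 * w ∧ T.a (σ 2) (σ 3) = w ∧ T.a (σ 2) (σ 4) = 0 ∧ T.a (σ 2) (σ 5) = 0 ∧ T.a (σ 2) (σ 6) = 0 ∧ T.a (σ 2) (σ 7) = 0 ∧ T.a (σ 2) (σ 8) = 0 ∧ T.a (σ 3) (σ 3) = -2 * w ∧ T.a (σ 3) (σ 4) = w ∧ T.a (σ 3) (σ 5) = 0 ∧ T.a (σ 3) (σ 6) = 0 ∧ T.a (σ 3) (σ 7) = 0 ∧ T.a (σ 3) (σ 8) = 0 ∧ T.a (σ 4) (σ 4) = -2 * w ∧ T.a (σ 4) (σ 5) = w ∧ T.a (σ 4) (σ 6) = 0 ∧ T.a (σ 4) (σ 7) = 0 ∧ T.a (σ 4) (σ 8) = 0 ∧ T.a (σ 5) (σ 5) = -2 * w ∧ T.a (σ 5) (σ 6) = w ∧ T.a (σ 5) (σ 7) = 0 ∧ T.a (σ 5) (σ 8) = w ∧ T.a (σ 6) (σ 6) = -2 * w ∧ T.a (σ 6) (σ 7) = w ∧ T.a (σ 6) (σ 8) = 0 ∧ T.a (σ 7) (σ 7) = -2 * w ∧ T.a (σ 7) (σ 8) = 0 ∧ T.a (σ 8) (σ 8) = -2 * w)) := by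
  by_cases hx : ∃ j, (j ≠ u0 ∧ j ≠ u1 ∧ j ≠ u2 ∧ j ≠ u3 ∧ j ≠ u4 ∧ j ≠ u5 ∧ j ≠ u6) ∧ T.a u5 j ≠ 0
  · obtain ⟨u7, ⟨hn_7_0, hn_7_1, hn_7_2, hn_7_3, hn_7_4, hn_7_5, hn_7_6⟩, e_5_7⟩ := hx
    have z_0_7 : T.a u0 u7 = 0 := cl_0 u7 ⟨hn_7_0, hn_7_1, hn_7_2, hn_7_3⟩
    have z_1_7 : T.a u1 u7 = 0 := cl_1 u7 ⟨hn_7_0, hn_7_1, hn_7_2, hn_7_3⟩
    have z_2_7 : T.a u2 u7 = 0 := cl_2 u7 ⟨hn_7_0, hn_7_1, hn_7_2, hn_7_3⟩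
    have z_3_7 : T.a u3 u7 = 0 := cl_3 u7 ⟨hn_7_0, hn_7_1, hn_7_2, hn_7_3, hn_7_4⟩
    have z_4_7 : T.a u4 u7 = 0 := cl_4 u7 ⟨hn_7_0, hn_7_1, hn_7_2, hn_7_3, hn_7_4, hn_7_5⟩
    rcases Groth.Agent.Helper6.NT.edge5 T h2 (by norm_num) u5 u7 hn_7_5.symm e_5_7 with ⟨tw_5_7, tap_5_7, taq_5_7⟩ | ⟨tw_5_7, tap_5_7, taq_5_7⟩ | ⟨tw_5_7, tap_5_7, taq_5_7⟩ | ⟨tw_5_7, tap_5_7, taq_5_7⟩ | ⟨tw_5_7, tap_5_7, taq_5_7⟩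
    · -- (5,7) S
      exfalso
      have key := Groth.Agent.Helper6.NT.negfun8 T h2 u0 u1 u2 u3 u4 u5 u6 u7 (by norm_num) 2 1 1 2 2 2 1 1 (by norm_num) (by norm_num)
      linarith only [key, tap_0_1, taq_0_1, tap_0_2, taq_0_2, tap_0_3, taq_0_3, z_0_4, z_0_5, z_0_6, z_0_7, z_1_2, z_1_3, z_1_4, z_1_5, z_1_6, z_1_7, z_2_3, z_2_4, z_2_5, z_2_6, z_2_7, tap_3_4, taq_3_4, z_3_5, z_3_6, z_3_7, tap_4_5, taq_4_5, z_4_6, z_4_7, tap_5_6, taq_5_6, tap_5_7, taq_5_7, T.offDiag_nonneg u6 u7 hn_7_6.symm, T.w_pos u0, T.w_pos u1, T.w_pos u2, T.w_pos u3, T.w_pos u4, T.w_pos u5, T.w_pos u6, T.w_pos u7]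
    · -- (5,7) Dp
      exfalso
      have key := Groth.Agent.Helper6.NT.negfun4 T h2 u4 u5 u6 u7 (by norm_num) 1 2 1 1 (by norm_num) (by norm_num)
      linarith only [key, tap_4_5, taq_4_5, z_4_6, z_4_7, tap_5_6, taq_5_6, tap_5_7, taq_5_7, T.offDiag_nonneg u6 u7 hn_7_6.symm, T.w_pos u4, T.w_pos u5, T.w_pos u6, T.w_pos u7]
    · -- (5,7) Dm
      exfalso
      have key := Groth.Agent.Helper6.NT.negfun4 T h2 u4 u5 u6 u7 (by norm_num) 1 2 1 2 (by norm_num) (by norm_num)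
      linarith only [key, tap_4_5, taq_4_5, z_4_6, z_4_7, tap_5_6, taq_5_6, tap_5_7, taq_5_7, T.offDiag_nonneg u6 u7 hn_7_6.symm, T.w_pos u4, T.w_pos u5, T.w_pos u6, T.w_pos u7]
    · -- (5,7) Tp
      exfalso
      have key := Groth.Agent.Helper6.NT.negfun3 T h2 u5 u6 u7 (by norm_num) 2 1 1 (by norm_num) (by norm_num)
      linarith only [key, tap_5_6, taq_5_6, tap_5_7, taq_5_7, T.offDiag_nonneg u6 u7 hn_7_6.symm, T.w_pos u5, T.w_pos u6, T.w_pos u7]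
    · -- (5,7) Tm
      exfalso
      have key := Groth.Agent.Helper6.NT.negfun3 T h2 u5 u6 u7 (by norm_num) 2 1 3 (by norm_num) (by norm_num)
      linarith only [key, tap_5_6, taq_5_6, tap_5_7, taq_5_7, T.offDiag_nonneg u6 u7 hn_7_6.symm, T.w_pos u5, T.w_pos u6, T.w_pos u7]
  · push Not at hx
    have cl_5 := hx
    clear hx
    by_cases hx : ∃ j, (j ≠ u0 ∧ j ≠ u1 ∧ j ≠ u2 ∧ j ≠ u3 ∧ j ≠ u4 ∧ j ≠ u5 ∧ j ≠ u6) ∧ T.a u6 j ≠ 0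
    · obtain ⟨u7, ⟨hn_7_0, hn_7_1, hn_7_2, hn_7_3, hn_7_4, hn_7_5, hn_7_6⟩, e_6_7⟩ := hx
      have z_0_7 : T.a u0 u7 = 0 := cl_0 u7 ⟨hn_7_0, hn_7_1, hn_7_2, hn_7_3⟩
      have z_1_7 : T.a u1 u7 = 0 := cl_1 u7 ⟨hn_7_0, hn_7_1, hn_7_2, hn_7_3⟩
      have z_2_7 : T.a u2 u7 = 0 := cl_2 u7 ⟨hn_7_0, hn_7_1, hn_7_2, hn_7_3⟩
      have z_3_7 : T.a u3 u7 = 0 := cl_3 u7 ⟨hn_7_0, hn_7_1, hn_7_2, hn_7_3, hn_7_4⟩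
      have z_4_7 : T.a u4 u7 = 0 := cl_4 u7 ⟨hn_7_0, hn_7_1, hn_7_2, hn_7_3, hn_7_4, hn_7_5⟩
      have z_5_7 : T.a u5 u7 = 0 := cl_5 u7 ⟨hn_7_0, hn_7_1, hn_7_2, hn_7_3, hn_7_4, hn_7_5, hn_7_6⟩
      rcases Groth.Agent.Helper6.NT.edge5 T h2 (by norm_num) u6 u7 hn_7_6.symm e_6_7 with ⟨tw_6_7, tap_6_7, taq_6_7⟩ | ⟨tw_6_7, tap_6_7, taq_6_7⟩ | ⟨tw_6_7, tap_6_7, taq_6_7⟩ | ⟨tw_6_7, tap_6_7, taq_6_7⟩ | ⟨tw_6_7, tap_6_7, taq_6_7⟩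
      · -- (6,7) S
        by_cases hx : ∃ j, (j ≠ u0 ∧ j ≠ u1 ∧ j ≠ u2 ∧ j ≠ u3 ∧ j ≠ u4 ∧ j ≠ u5 ∧ j ≠ u6 ∧ j ≠ u7) ∧ T.a u6 j ≠ 0
        · obtain ⟨u8, ⟨hn_8_0, hn_8_1, hn_8_2, hn_8_3, hn_8_4, hn_8_5, hn_8_6, hn_8_7⟩, e_6_8⟩ := hx
          have z_0_8 : T.a u0 u8 = 0 := cl_0 u8 ⟨hn_8_0, hn_8_1, hn_8_2, hn_8_3⟩
          have z_1_8 : T.a u1 u8 = 0 := cl_1 u8 ⟨hn_8_0, hn_8_1, hn_8_2, hn_8_3⟩
          have z_2_8 : T.a u2 u8 = 0 := cl_2 u8 ⟨hn_8_0, hn_8_1, hn_8_2, hn_8_3⟩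
          have z_3_8 : T.a u3 u8 = 0 := cl_3 u8 ⟨hn_8_0, hn_8_1, hn_8_2, hn_8_3, hn_8_4⟩
          have z_4_8 : T.a u4 u8 = 0 := cl_4 u8 ⟨hn_8_0, hn_8_1, hn_8_2, hn_8_3, hn_8_4, hn_8_5⟩
          have z_5_8 : T.a u5 u8 = 0 := cl_5 u8 ⟨hn_8_0, hn_8_1, hn_8_2, hn_8_3, hn_8_4, hn_8_5, hn_8_6⟩
          rcases Groth.Agent.Helper6.NT.edge5 T h2 (by norm_num) u6 u8 hn_8_6.symm e_6_8 with ⟨tw_6_8, tap_6_8, taq_6_8⟩ | ⟨tw_6_8, tap_6_8, taq_6_8⟩ | ⟨tw_6_8, tap_6_8, taq_6_8⟩ | ⟨tw_6_8, tap_6_8, taq_6_8⟩ | ⟨tw_6_8, tap_6_8, taq_6_8⟩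
          · -- (6,8) S
            rcases eq_or_ne (T.a u7 u8) 0 with z_7_8 | nz_7_8
            · -- (7,8) zero
              have hinj := Groth.Agent.Helper6.NT.inj9 u0 u1 u2 u3 u4 u5 u6 u7 u8 hn_1_0 hn_2_0 hn_2_1 hn_3_0 hn_3_1 hn_3_2 hn_4_0 hn_4_1 hn_4_2 hn_4_3 hn_5_0 hn_5_1 hn_5_2 hn_5_3 hn_5_4 hn_6_0 hn_6_1 hn_6_2 hn_6_3 hn_6_4 hn_6_5 hn_7_0 hn_7_1 hn_7_2 hn_7_3 hn_7_4 hn_7_5 hn_7_6 hn_8_0 hn_8_1 hn_8_2 hn_8_3 hn_8_4 hn_8_5 hn_8_6 hn_8_7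
              have r_0 : -2 * T.m u0 + 1 * T.m u1 + 1 * T.m u2 + 1 * T.m u3 = 0 := by
                have key := Groth.Agent.Helper6.NT.rowfun9 T u0 u1 u2 u3 u4 u5 u6 u7 u8 hinj u0
                rw [(h2 u0).2, tap_0_1, tap_0_2, tap_0_3, z_0_4, z_0_5, z_0_6, z_0_7, z_0_8] at key
                exact mul_left_cancel₀ (T.w_pos u0).ne' (by linarith only [key])
              have r_1 : 1 * T.m u0 + -2 * T.m u1 = 0 := by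
                have key := Groth.Agent.Helper6.NT.rowfun9 T u0 u1 u2 u3 u4 u5 u6 u7 u8 hinj u1
                rw [Groth.Agent.Helper6.NT.symm' T u1 u0, taq_0_1, (h2 u1).2, z_1_2, z_1_3, z_1_4, z_1_5, z_1_6, z_1_7, z_1_8] at key
                exact mul_left_cancel₀ (T.w_pos u1).ne' (by linarith only [key])
              have r_2 : 1 * T.m u0 + -2 * T.m u2 = 0 := by
                have key := Groth.Agent.Helper6.NT.rowfun9 T u0 u1 u2 u3 u4 u5 u6 u7 u8 hinj u2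
                rw [Groth.Agent.Helper6.NT.symm' T u2 u0, taq_0_2, Groth.Agent.Helper6.NT.symm' T u2 u1, z_1_2, (h2 u2).2, z_2_3, z_2_4, z_2_5, z_2_6, z_2_7, z_2_8] at key
                exact mul_left_cancel₀ (T.w_pos u2).ne' (by linarith only [key])
              have r_3 : 1 * T.m u0 + -2 * T.m u3 + 1 * T.m u4 = 0 := by
                have key := Groth.Agent.Helper6.NT.rowfun9 T u0 u1 u2 u3 u4 u5 u6 u7 u8 hinj u3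
                rw [Groth.Agent.Helper6.NT.symm' T u3 u0, taq_0_3, Groth.Agent.Helper6.NT.symm' T u3 u1, z_1_3, Groth.Agent.Helper6.NT.symm' T u3 u2, z_2_3, (h2 u3).2, tap_3_4, z_3_5, z_3_6, z_3_7, z_3_8] at key
                exact mul_left_cancel₀ (T.w_pos u3).ne' (by linarith only [key])
              have r_4 : 1 * T.m u3 + -2 * T.m u4 + 1 * T.m u5 = 0 := by
                have key := Groth.Agent.Helper6.NT.rowfun9 T u0 u1 u2 u3 u4 u5 u6 u7 u8 hinj u4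
                rw [Groth.Agent.Helper6.NT.symm' T u4 u0, z_0_4, Groth.Agent.Helper6.NT.symm' T u4 u1, z_1_4, Groth.Agent.Helper6.NT.symm' T u4 u2, z_2_4, Groth.Agent.Helper6.NT.symm' T u4 u3, taq_3_4, (h2 u4).2, tap_4_5, z_4_6, z_4_7, z_4_8] at key
                exact mul_left_cancel₀ (T.w_pos u4).ne' (by linarith only [key])
              have r_5 : 1 * T.m u4 + -2 * T.m u5 + 1 * T.m u6 = 0 := by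
                have key := Groth.Agent.Helper6.NT.rowfun9 T u0 u1 u2 u3 u4 u5 u6 u7 u8 hinj u5
                rw [Groth.Agent.Helper6.NT.symm' T u5 u0, z_0_5, Groth.Agent.Helper6.NT.symm' T u5 u1, z_1_5, Groth.Agent.Helper6.NT.symm' T u5 u2, z_2_5, Groth.Agent.Helper6.NT.symm' T u5 u3, z_3_5, Groth.Agent.Helper6.NT.symm' T u5 u4, taq_4_5, (h2 u5).2, tap_5_6, z_5_7, z_5_8] at key
                exact mul_left_cancel₀ (T.w_pos u5).ne' (by linarith only [key])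
              have r_6 : 1 * T.m u5 + -2 * T.m u6 + 1 * T.m u7 + 1 * T.m u8 = 0 := by
                have key := Groth.Agent.Helper6.NT.rowfun9 T u0 u1 u2 u3 u4 u5 u6 u7 u8 hinj u6
                rw [Groth.Agent.Helper6.NT.symm' T u6 u0, z_0_6, Groth.Agent.Helper6.NT.symm' T u6 u1, z_1_6, Groth.Agent.Helper6.NT.symm' T u6 u2, z_2_6, Groth.Agent.Helper6.NT.symm' T u6 u3, z_3_6, Groth.Agent.Helper6.NT.symm' T u6 u4, z_4_6, Groth.Agent.Helper6.NT.symm' T u6 u5, taq_5_6, (h2 u6).2, tap_6_7, tap_6_8] at key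
                exact mul_left_cancel₀ (T.w_pos u6).ne' (by linarith only [key])
              have r_7 : 1 * T.m u6 + -2 * T.m u7 = 0 := by
                have key := Groth.Agent.Helper6.NT.rowfun9 T u0 u1 u2 u3 u4 u5 u6 u7 u8 hinj u7
                rw [Groth.Agent.Helper6.NT.symm' T u7 u0, z_0_7, Groth.Agent.Helper6.NT.symm' T u7 u1, z_1_7, Groth.Agent.Helper6.NT.symm' T u7 u2, z_2_7, Groth.Agent.Helper6.NT.symm' T u7 u3, z_3_7, Groth.Agent.Helper6.NT.symm' T u7 u4, z_4_7, Groth.Agent.Helper6.NT.symm' T u7 u5, z_5_7, Groth.Agent.Helper6.NT.symm' T u7 u6, taq_6_7, (h2 u7).2, z_7_8] at key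
                exact mul_left_cancel₀ (T.w_pos u7).ne' (by linarith only [key])
              have r_8 : 1 * T.m u6 + -2 * T.m u8 = 0 := by
                have key := Groth.Agent.Helper6.NT.rowfun9 T u0 u1 u2 u3 u4 u5 u6 u7 u8 hinj u8
                rw [Groth.Agent.Helper6.NT.symm' T u8 u0, z_0_8, Groth.Agent.Helper6.NT.symm' T u8 u1, z_1_8, Groth.Agent.Helper6.NT.symm' T u8 u2, z_2_8, Groth.Agent.Helper6.NT.symm' T u8 u3, z_3_8, Groth.Agent.Helper6.NT.symm' T u8 u4, z_4_8, Groth.Agent.Helper6.NT.symm' T u8 u5, z_5_8, Groth.Agent.Helper6.NT.symm' T u8 u6, taq_6_8, Groth.Agent.Helper6.NT.symm' T u8 u7, z_7_8, (h2 u8).2] at key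
                exact mul_left_cancel₀ (T.w_pos u8).ne' (by linarith only [key])
              have f0 : T.m u1 = T.m u1 := rfl
              have f1 : T.m u2 = T.m u1 := by linarith only [r_0, r_1, r_2, r_3, r_4, r_5, r_6, r_7, r_8]
              have f2 : T.m u0 = 2 * T.m u1 := by linarith only [r_0, r_1, r_2, r_3, r_4, r_5, r_6, r_7, r_8]
              have f3 : T.m u3 = 2 * T.m u1 := by linarith only [r_0, r_1, r_2, r_3, r_4, r_5, r_6, r_7, r_8]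
              have f4 : T.m u4 = 2 * T.m u1 := by linarith only [r_0, r_1, r_2, r_3, r_4, r_5, r_6, r_7, r_8]
              have f5 : T.m u5 = 2 * T.m u1 := by linarith only [r_0, r_1, r_2, r_3, r_4, r_5, r_6, r_7, r_8]
              have f6 : T.m u6 = 2 * T.m u1 := by linarith only [r_0, r_1, r_2, r_3, r_4, r_5, r_6, r_7, r_8]
              have f7 : T.m u7 = T.m u1 := by linarith only [r_0, r_1, r_2, r_3, r_4, r_5, r_6, r_7, r_8]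
              have f8 : T.m u8 = T.m u1 := by linarith only [r_0, r_1, r_2, r_3, r_4, r_5, r_6, r_7, r_8]
              have f9 : T.w u1 = T.w u1 := rfl
              have f10 : T.w u2 = T.w u1 := by linarith only [tw_0_1, tw_0_2, tw_0_3, tw_3_4, tw_4_5, tw_5_6, tw_6_7, tw_6_8]
              have f11 : T.w u0 = T.w u1 := by linarith only [tw_0_1, tw_0_2, tw_0_3, tw_3_4, tw_4_5, tw_5_6, tw_6_7, tw_6_8]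
              have f12 : T.w u3 = T.w u1 := by linarith only [tw_0_1, tw_0_2, tw_0_3, tw_3_4, tw_4_5, tw_5_6, tw_6_7, tw_6_8]
              have f13 : T.w u4 = T.w u1 := by linarith only [tw_0_1, tw_0_2, tw_0_3, tw_3_4, tw_4_5, tw_5_6, tw_6_7, tw_6_8]
              have f14 : T.w u5 = T.w u1 := by linarith only [tw_0_1, tw_0_2, tw_0_3, tw_3_4, tw_4_5, tw_5_6, tw_6_7, tw_6_8]
              have f15 : T.w u6 = T.w u1 := by linarith only [tw_0_1, tw_0_2, tw_0_3, tw_3_4, tw_4_5, tw_5_6, tw_6_7, tw_6_8]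
              have f16 : T.w u7 = T.w u1 := by linarith only [tw_0_1, tw_0_2, tw_0_3, tw_3_4, tw_4_5, tw_5_6, tw_6_7, tw_6_8]
              have f17 : T.w u8 = T.w u1 := by linarith only [tw_0_1, tw_0_2, tw_0_3, tw_3_4, tw_4_5, tw_5_6, tw_6_7, tw_6_8]
              have f18 : T.a u1 u1 = -2 * T.w u1 := by have := (h2 u1).2; linarith only [this, tw_0_1, tw_0_2, tw_0_3, tw_3_4, tw_4_5, tw_5_6, tw_6_7, tw_6_8]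
              have f19 : T.a u1 u2 = 0 := by exact z_1_2
              have f20 : T.a u1 u0 = T.w u1 := by rw [Groth.Agent.Helper6.NT.symm' T u1 u0]; linarith only [tap_0_1, tw_0_1, tw_0_2, tw_0_3, tw_3_4, tw_4_5, tw_5_6, tw_6_7, tw_6_8]
              have f21 : T.a u1 u3 = 0 := by exact z_1_3
              have f22 : T.a u1 u4 = 0 := by exact z_1_4
              have f23 : T.a u1 u5 = 0 := by exact z_1_5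
              have f24 : T.a u1 u6 = 0 := by exact z_1_6
              have f25 : T.a u1 u7 = 0 := by exact z_1_7
              have f26 : T.a u1 u8 = 0 := by exact z_1_8
              have f27 : T.a u2 u2 = -2 * T.w u1 := by have := (h2 u2).2; linarith only [this, tw_0_1, tw_0_2, tw_0_3, tw_3_4, tw_4_5, tw_5_6, tw_6_7, tw_6_8]
              have f28 : T.a u2 u0 = T.w u1 := by rw [Groth.Agent.Helper6.NT.symm' T u2 u0]; linarith only [tap_0_2, tw_0_1, tw_0_2, tw_0_3, tw_3_4, tw_4_5, tw_5_6, tw_6_7, tw_6_8]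
              have f29 : T.a u2 u3 = 0 := by exact z_2_3
              have f30 : T.a u2 u4 = 0 := by exact z_2_4
              have f31 : T.a u2 u5 = 0 := by exact z_2_5
              have f32 : T.a u2 u6 = 0 := by exact z_2_6
              have f33 : T.a u2 u7 = 0 := by exact z_2_7
              have f34 : T.a u2 u8 = 0 := by exact z_2_8
              have f35 : T.a u0 u0 = -2 * T.w u1 := by have := (h2 u0).2; linarith only [this, tw_0_1, tw_0_2, tw_0_3, tw_3_4, tw_4_5, tw_5_6, tw_6_7, tw_6_8]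
              have f36 : T.a u0 u3 = T.w u1 := by linarith only [tap_0_3, tw_0_1, tw_0_2, tw_0_3, tw_3_4, tw_4_5, tw_5_6, tw_6_7, tw_6_8]
              have f37 : T.a u0 u4 = 0 := by exact z_0_4
              have f38 : T.a u0 u5 = 0 := by exact z_0_5
              have f39 : T.a u0 u6 = 0 := by exact z_0_6
              have f40 : T.a u0 u7 = 0 := by exact z_0_7
              have f41 : T.a u0 u8 = 0 := by exact z_0_8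
              have f42 : T.a u3 u3 = -2 * T.w u1 := by have := (h2 u3).2; linarith only [this, tw_0_1, tw_0_2, tw_0_3, tw_3_4, tw_4_5, tw_5_6, tw_6_7, tw_6_8]
              have f43 : T.a u3 u4 = T.w u1 := by linarith only [tap_3_4, tw_0_1, tw_0_2, tw_0_3, tw_3_4, tw_4_5, tw_5_6, tw_6_7, tw_6_8]
              have f44 : T.a u3 u5 = 0 := by exact z_3_5
              have f45 : T.a u3 u6 = 0 := by exact z_3_6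
              have f46 : T.a u3 u7 = 0 := by exact z_3_7
              have f47 : T.a u3 u8 = 0 := by exact z_3_8
              have f48 : T.a u4 u4 = -2 * T.w u1 := by have := (h2 u4).2; linarith only [this, tw_0_1, tw_0_2, tw_0_3, tw_3_4, tw_4_5, tw_5_6, tw_6_7, tw_6_8]
              have f49 : T.a u4 u5 = T.w u1 := by linarith only [tap_4_5, tw_0_1, tw_0_2, tw_0_3, tw_3_4, tw_4_5, tw_5_6, tw_6_7, tw_6_8]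
              have f50 : T.a u4 u6 = 0 := by exact z_4_6
              have f51 : T.a u4 u7 = 0 := by exact z_4_7
              have f52 : T.a u4 u8 = 0 := by exact z_4_8
              have f53 : T.a u5 u5 = -2 * T.w u1 := by have := (h2 u5).2; linarith only [this, tw_0_1, tw_0_2, tw_0_3, tw_3_4, tw_4_5, tw_5_6, tw_6_7, tw_6_8]
              have f54 : T.a u5 u6 = T.w u1 := by linarith only [tap_5_6, tw_0_1, tw_0_2, tw_0_3, tw_3_4, tw_4_5, tw_5_6, tw_6_7, tw_6_8]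
              have f55 : T.a u5 u7 = 0 := by exact z_5_7
              have f56 : T.a u5 u8 = 0 := by exact z_5_8
              have f57 : T.a u6 u6 = -2 * T.w u1 := by have := (h2 u6).2; linarith only [this, tw_0_1, tw_0_2, tw_0_3, tw_3_4, tw_4_5, tw_5_6, tw_6_7, tw_6_8]
              have f58 : T.a u6 u7 = T.w u1 := by linarith only [tap_6_7, tw_0_1, tw_0_2, tw_0_3, tw_3_4, tw_4_5, tw_5_6, tw_6_7, tw_6_8]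
              have f59 : T.a u6 u8 = T.w u1 := by linarith only [tap_6_8, tw_0_1, tw_0_2, tw_0_3, tw_3_4, tw_4_5, tw_5_6, tw_6_7, tw_6_8]
              have f60 : T.a u7 u7 = -2 * T.w u1 := by have := (h2 u7).2; linarith only [this, tw_0_1, tw_0_2, tw_0_3, tw_3_4, tw_4_5, tw_5_6, tw_6_7, tw_6_8]
              have f61 : T.a u7 u8 = 0 := by exact z_7_8
              have f62 : T.a u8 u8 = -2 * T.w u1 := by have := (h2 u8).2; linarith only [this, tw_0_1, tw_0_2, tw_0_3, tw_3_4, tw_4_5, tw_5_6, tw_6_7, tw_6_8]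
              have hsig := Groth.Agent.Helper6.NT.inj9 u1 u2 u0 u3 u4 u5 u6 u7 u8 hn_2_1 hn_1_0.symm hn_2_0.symm hn_3_1 hn_3_2 hn_3_0 hn_4_1 hn_4_2 hn_4_0 hn_4_3 hn_5_1 hn_5_2 hn_5_0 hn_5_3 hn_5_4 hn_6_1 hn_6_2 hn_6_0 hn_6_3 hn_6_4 hn_6_5 hn_7_1 hn_7_2 hn_7_0 hn_7_3 hn_7_4 hn_7_5 hn_7_6 hn_8_1 hn_8_2 hn_8_0 hn_8_3 hn_8_4 hn_8_5 hn_8_6 hn_8_7
              exact ⟨Equiv.ofBijective _ (Finite.injective_iff_bijective.1 hsig), T.m u1, T.w u1, Or.inr (Or.inr (Or.inr (Or.inr (Or.inr (Or.inr (Or.inl ⟨f0, f1, f2, f3, f4, f5, f6, f7, f8, f9, f10, f11, f12, f13, f14, f15, f16, f17, f18, f19, f20, f21, f22, f23, f24, f25, f26, f27, f28, f29, f30, f31, f32, f33, f34, f35, f36, f37, f38, f39, f40, f41, f42, f43, f44, f45, f46, f47, f48, f49, f50, f51, f52, f53, f54, f55, f56, f57, f58, f59, f60, f61,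 f62⟩))))))⟩
            · -- (7,8) nonzero
              obtain ⟨lbp_7_8, lbq_7_8⟩ := Groth.Agent.Helper6.NT.lb T u7 u8 hn_8_7.symm nz_7_8
              exfalso
              have key := Groth.Agent.Helper6.NT.negfun3 T h2 u6 u7 u8 (by norm_num) 1 1 1 (by norm_num) (by norm_num)
              linarith only [key, tap_6_7, taq_6_7, tap_6_8, taq_6_8, lbp_7_8, lbq_7_8, T.w_pos u6, T.w_pos u7, T.w_pos u8]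
          · -- (6,8) Dp
            exfalso
            have key := Groth.Agent.Helper6.NT.negfun4 T h2 u5 u6 u7 u8 (by norm_num) 1 2 1 1 (by norm_num) (by norm_num)
            linarith only [key, tap_5_6, taq_5_6, z_5_7, z_5_8, tap_6_7, taq_6_7, tap_6_8, taq_6_8, T.offDiag_nonneg u7 u8 hn_8_7.symm, T.w_pos u5, T.w_pos u6, T.w_pos u7, T.w_pos u8]
          · -- (6,8) Dm
            exfalso
            have key := Groth.Agent.Helper6.NT.negfun4 T h2 u5 u6 u7 u8 (by norm_num) 1 2 1 2 (by norm_num) (by norm_num)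
            linarith only [key, tap_5_6, taq_5_6, z_5_7, z_5_8, tap_6_7, taq_6_7, tap_6_8, taq_6_8, T.offDiag_nonneg u7 u8 hn_8_7.symm, T.w_pos u5, T.w_pos u6, T.w_pos u7, T.w_pos u8]
          · -- (6,8) Tp
            exfalso
            have key := Groth.Agent.Helper6.NT.negfun3 T h2 u6 u7 u8 (by norm_num) 2 1 1 (by norm_num) (by norm_num)
            linarith only [key, tap_6_7, taq_6_7, tap_6_8, taq_6_8, T.offDiag_nonneg u7 u8 hn_8_7.symm, T.w_pos u6, T.w_pos u7, T.w_pos u8]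
          · -- (6,8) Tm
            exfalso
            have key := Groth.Agent.Helper6.NT.negfun3 T h2 u6 u7 u8 (by norm_num) 2 1 3 (by norm_num) (by norm_num)
            linarith only [key, tap_6_7, taq_6_7, tap_6_8, taq_6_8, T.offDiag_nonneg u7 u8 hn_8_7.symm, T.w_pos u6, T.w_pos u7, T.w_pos u8]
        · push Not at hx
          have cl_6 := hx
          clear hx
          by_cases hx : ∃ j, (j ≠ u0 ∧ j ≠ u1 ∧ j ≠ u2 ∧ j ≠ u3 ∧ j ≠ u4 ∧ j ≠ u5 ∧ j ≠ u6 ∧ j ≠ u7) ∧ T.a u7 j ≠ 0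
          · obtain ⟨u8, ⟨hn_8_0, hn_8_1, hn_8_2, hn_8_3, hn_8_4, hn_8_5, hn_8_6, hn_8_7⟩, e_7_8⟩ := hx
            have z_0_8 : T.a u0 u8 = 0 := cl_0 u8 ⟨hn_8_0, hn_8_1, hn_8_2, hn_8_3⟩
            have z_1_8 : T.a u1 u8 = 0 := cl_1 u8 ⟨hn_8_0, hn_8_1, hn_8_2, hn_8_3⟩
            have z_2_8 : T.a u2 u8 = 0 := cl_2 u8 ⟨hn_8_0, hn_8_1, hn_8_2, hn_8_3⟩
            have z_3_8 : T.a u3 u8 = 0 := cl_3 u8 ⟨hn_8_0, hn_8_1, hn_8_2, hn_8_3, hn_8_4⟩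
            have z_4_8 : T.a u4 u8 = 0 := cl_4 u8 ⟨hn_8_0, hn_8_1, hn_8_2, hn_8_3, hn_8_4, hn_8_5⟩
            have z_5_8 : T.a u5 u8 = 0 := cl_5 u8 ⟨hn_8_0, hn_8_1, hn_8_2, hn_8_3, hn_8_4, hn_8_5, hn_8_6⟩
            have z_6_8 : T.a u6 u8 = 0 := cl_6 u8 ⟨hn_8_0, hn_8_1, hn_8_2, hn_8_3, hn_8_4, hn_8_5, hn_8_6, hn_8_7⟩
            rcases Groth.Agent.Helper6.NT.edge5 T h2 (by norm_num) u7 u8 hn_8_7.symm e_7_8 with ⟨tw_7_8, tap_7_8, taq_7_8⟩ | ⟨tw_7_8, tap_7_8, taq_7_8⟩ | ⟨tw_7_8, tap_7_8, taq_7_8⟩ | ⟨tw_7_8, tap_7_8, taq_7_8⟩ | ⟨tw_7_8, tap_7_8, taq_7_8⟩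
            · -- (7,8) S
              have hinj := Groth.Agent.Helper6.NT.inj9 u0 u1 u2 u3 u4 u5 u6 u7 u8 hn_1_0 hn_2_0 hn_2_1 hn_3_0 hn_3_1 hn_3_2 hn_4_0 hn_4_1 hn_4_2 hn_4_3 hn_5_0 hn_5_1 hn_5_2 hn_5_3 hn_5_4 hn_6_0 hn_6_1 hn_6_2 hn_6_3 hn_6_4 hn_6_5 hn_7_0 hn_7_1 hn_7_2 hn_7_3 hn_7_4 hn_7_5 hn_7_6 hn_8_0 hn_8_1 hn_8_2 hn_8_3 hn_8_4 hn_8_5 hn_8_6 hn_8_7
              have r_0 : -2 * T.m u0 + 1 * T.m u1 + 1 * T.m u2 + 1 * T.m u3 = 0 := by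
                have key := Groth.Agent.Helper6.NT.rowfun9 T u0 u1 u2 u3 u4 u5 u6 u7 u8 hinj u0
                rw [(h2 u0).2, tap_0_1, tap_0_2, tap_0_3, z_0_4, z_0_5, z_0_6, z_0_7, z_0_8] at key
                exact mul_left_cancel₀ (T.w_pos u0).ne' (by linarith only [key])
              have r_1 : 1 * T.m u0 + -2 * T.m u1 = 0 := by
                have key := Groth.Agent.Helper6.NT.rowfun9 T u0 u1 u2 u3 u4 u5 u6 u7 u8 hinj u1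
                rw [Groth.Agent.Helper6.NT.symm' T u1 u0, taq_0_1, (h2 u1).2, z_1_2, z_1_3, z_1_4, z_1_5, z_1_6, z_1_7, z_1_8] at key
                exact mul_left_cancel₀ (T.w_pos u1).ne' (by linarith only [key])
              have r_2 : 1 * T.m u0 + -2 * T.m u2 = 0 := by
                have key := Groth.Agent.Helper6.NT.rowfun9 T u0 u1 u2 u3 u4 u5 u6 u7 u8 hinj u2
                rw [Groth.Agent.Helper6.NT.symm' T u2 u0, taq_0_2, Groth.Agent.Helper6.NT.symm' T u2 u1, z_1_2, (h2 u2).2, z_2_3, z_2_4, z_2_5, z_2_6, z_2_7, z_2_8] at key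
                exact mul_left_cancel₀ (T.w_pos u2).ne' (by linarith only [key])
              have r_3 : 1 * T.m u0 + -2 * T.m u3 + 1 * T.m u4 = 0 := by
                have key := Groth.Agent.Helper6.NT.rowfun9 T u0 u1 u2 u3 u4 u5 u6 u7 u8 hinj u3
                rw [Groth.Agent.Helper6.NT.symm' T u3 u0, taq_0_3, Groth.Agent.Helper6.NT.symm' T u3 u1, z_1_3, Groth.Agent.Helper6.NT.symm' T u3 u2, z_2_3, (h2 u3).2, tap_3_4, z_3_5, z_3_6, z_3_7, z_3_8] at key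
                exact mul_left_cancel₀ (T.w_pos u3).ne' (by linarith only [key])
              have r_4 : 1 * T.m u3 + -2 * T.m u4 + 1 * T.m u5 = 0 := by
                have key := Groth.Agent.Helper6.NT.rowfun9 T u0 u1 u2 u3 u4 u5 u6 u7 u8 hinj u4
                rw [Groth.Agent.Helper6.NT.symm' T u4 u0, z_0_4, Groth.Agent.Helper6.NT.symm' T u4 u1, z_1_4, Groth.Agent.Helper6.NT.symm' T u4 u2, z_2_4, Groth.Agent.Helper6.NT.symm' T u4 u3, taq_3_4, (h2 u4).2, tap_4_5, z_4_6, z_4_7, z_4_8] at key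
                exact mul_left_cancel₀ (T.w_pos u4).ne' (by linarith only [key])
              have r_5 : 1 * T.m u4 + -2 * T.m u5 + 1 * T.m u6 = 0 := by
                have key := Groth.Agent.Helper6.NT.rowfun9 T u0 u1 u2 u3 u4 u5 u6 u7 u8 hinj u5
                rw [Groth.Agent.Helper6.NT.symm' T u5 u0, z_0_5, Groth.Agent.Helper6.NT.symm' T u5 u1, z_1_5, Groth.Agent.Helper6.NT.symm' T u5 u2, z_2_5, Groth.Agent.Helper6.NT.symm' T u5 u3, z_3_5, Groth.Agent.Helper6.NT.symm' T u5 u4, taq_4_5, (h2 u5).2, tap_5_6, z_5_7, z_5_8] at key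
                exact mul_left_cancel₀ (T.w_pos u5).ne' (by linarith only [key])
              have r_6 : 1 * T.m u5 + -2 * T.m u6 + 1 * T.m u7 = 0 := by
                have key := Groth.Agent.Helper6.NT.rowfun9 T u0 u1 u2 u3 u4 u5 u6 u7 u8 hinj u6
                rw [Groth.Agent.Helper6.NT.symm' T u6 u0, z_0_6, Groth.Agent.Helper6.NT.symm' T u6 u1, z_1_6, Groth.Agent.Helper6.NT.symm' T u6 u2, z_2_6, Groth.Agent.Helper6.NT.symm' T u6 u3, z_3_6, Groth.Agent.Helper6.NT.symm' T u6 u4, z_4_6, Groth.Agent.Helper6.NT.symm' T u6 u5, taq_5_6, (h2 u6).2, tap_6_7, z_6_8] at key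
                exact mul_left_cancel₀ (T.w_pos u6).ne' (by linarith only [key])
              have r_7 : 1 * T.m u6 + -2 * T.m u7 + 1 * T.m u8 = 0 := by
                have key := Groth.Agent.Helper6.NT.rowfun9 T u0 u1 u2 u3 u4 u5 u6 u7 u8 hinj u7
                rw [Groth.Agent.Helper6.NT.symm' T u7 u0, z_0_7, Groth.Agent.Helper6.NT.symm' T u7 u1, z_1_7, Groth.Agent.Helper6.NT.symm' T u7 u2, z_2_7, Groth.Agent.Helper6.NT.symm' T u7 u3, z_3_7, Groth.Agent.Helper6.NT.symm' T u7 u4, z_4_7, Groth.Agent.Helper6.NT.symm' T u7 u5, z_5_7, Groth.Agent.Helper6.NT.symm' T u7 u6, taq_6_7, (h2 u7).2, tap_7_8] at key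
                exact mul_left_cancel₀ (T.w_pos u7).ne' (by linarith only [key])
              have r_8 : 1 * T.m u7 + -2 * T.m u8 = 0 := by
                have key := Groth.Agent.Helper6.NT.rowfun9 T u0 u1 u2 u3 u4 u5 u6 u7 u8 hinj u8
                rw [Groth.Agent.Helper6.NT.symm' T u8 u0, z_0_8, Groth.Agent.Helper6.NT.symm' T u8 u1, z_1_8, Groth.Agent.Helper6.NT.symm' T u8 u2, z_2_8, Groth.Agent.Helper6.NT.symm' T u8 u3, z_3_8, Groth.Agent.Helper6.NT.symm' T u8 u4, z_4_8, Groth.Agent.Helper6.NT.symm' T u8 u5, z_5_8, Groth.Agent.Helper6.NT.symm' T u8 u6, z_6_8, Groth.Agent.Helper6.NT.symm' T u8 u7, taq_7_8, (h2 u8).2] at key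
                exact mul_left_cancel₀ (T.w_pos u8).ne' (by linarith only [key])
              exfalso
              linarith only [r_0, r_1, r_2, r_3, r_4, r_5, r_6, r_7, r_8, T.m_pos u0, T.m_pos u1, T.m_pos u2, T.m_pos u3, T.m_pos u4, T.m_pos u5, T.m_pos u6, T.m_pos u7, T.m_pos u8]
            · -- (7,8) Dp
              have hinj := Groth.Agent.Helper6.NT.inj9 u0 u1 u2 u3 u4 u5 u6 u7 u8 hn_1_0 hn_2_0 hn_2_1 hn_3_0 hn_3_1 hn_3_2 hn_4_0 hn_4_1 hn_4_2 hn_4_3 hn_5_0 hn_5_1 hn_5_2 hn_5_3 hn_5_4 hn_6_0 hn_6_1 hn_6_2 hn_6_3 hn_6_4 hn_6_5 hn_7_0 hn_7_1 hn_7_2 hn_7_3 hn_7_4 hn_7_5 hn_7_6 hn_8_0 hn_8_1 hn_8_2 hn_8_3 hn_8_4 hn_8_5 hn_8_6 hn_8_7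
              have r_0 : -2 * T.m u0 + 1 * T.m u1 + 1 * T.m u2 + 1 * T.m u3 = 0 := by
                have key := Groth.Agent.Helper6.NT.rowfun9 T u0 u1 u2 u3 u4 u5 u6 u7 u8 hinj u0
                rw [(h2 u0).2, tap_0_1, tap_0_2, tap_0_3, z_0_4, z_0_5, z_0_6, z_0_7, z_0_8] at key
                exact mul_left_cancel₀ (T.w_pos u0).ne' (by linarith only [key])
              have r_1 : 1 * T.m u0 + -2 * T.m u1 = 0 := by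
                have key := Groth.Agent.Helper6.NT.rowfun9 T u0 u1 u2 u3 u4 u5 u6 u7 u8 hinj u1
                rw [Groth.Agent.Helper6.NT.symm' T u1 u0, taq_0_1, (h2 u1).2, z_1_2, z_1_3, z_1_4, z_1_5, z_1_6, z_1_7, z_1_8] at key
                exact mul_left_cancel₀ (T.w_pos u1).ne' (by linarith only [key])
              have r_2 : 1 * T.m u0 + -2 * T.m u2 = 0 := by
                have key := Groth.Agent.Helper6.NT.rowfun9 T u0 u1 u2 u3 u4 u5 u6 u7 u8 hinj u2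
                rw [Groth.Agent.Helper6.NT.symm' T u2 u0, taq_0_2, Groth.Agent.Helper6.NT.symm' T u2 u1, z_1_2, (h2 u2).2, z_2_3, z_2_4, z_2_5, z_2_6, z_2_7, z_2_8] at key
                exact mul_left_cancel₀ (T.w_pos u2).ne' (by linarith only [key])
              have r_3 : 1 * T.m u0 + -2 * T.m u3 + 1 * T.m u4 = 0 := by
                have key := Groth.Agent.Helper6.NT.rowfun9 T u0 u1 u2 u3 u4 u5 u6 u7 u8 hinj u3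
                rw [Groth.Agent.Helper6.NT.symm' T u3 u0, taq_0_3, Groth.Agent.Helper6.NT.symm' T u3 u1, z_1_3, Groth.Agent.Helper6.NT.symm' T u3 u2, z_2_3, (h2 u3).2, tap_3_4, z_3_5, z_3_6, z_3_7, z_3_8] at key
                exact mul_left_cancel₀ (T.w_pos u3).ne' (by linarith only [key])
              have r_4 : 1 * T.m u3 + -2 * T.m u4 + 1 * T.m u5 = 0 := by
                have key := Groth.Agent.Helper6.NT.rowfun9 T u0 u1 u2 u3 u4 u5 u6 u7 u8 hinj u4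
                rw [Groth.Agent.Helper6.NT.symm' T u4 u0, z_0_4, Groth.Agent.Helper6.NT.symm' T u4 u1, z_1_4, Groth.Agent.Helper6.NT.symm' T u4 u2, z_2_4, Groth.Agent.Helper6.NT.symm' T u4 u3, taq_3_4, (h2 u4).2, tap_4_5, z_4_6, z_4_7, z_4_8] at key
                exact mul_left_cancel₀ (T.w_pos u4).ne' (by linarith only [key])
              have r_5 : 1 * T.m u4 + -2 * T.m u5 + 1 * T.m u6 = 0 := by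
                have key := Groth.Agent.Helper6.NT.rowfun9 T u0 u1 u2 u3 u4 u5 u6 u7 u8 hinj u5
                rw [Groth.Agent.Helper6.NT.symm' T u5 u0, z_0_5, Groth.Agent.Helper6.NT.symm' T u5 u1, z_1_5, Groth.Agent.Helper6.NT.symm' T u5 u2, z_2_5, Groth.Agent.Helper6.NT.symm' T u5 u3, z_3_5, Groth.Agent.Helper6.NT.symm' T u5 u4, taq_4_5, (h2 u5).2, tap_5_6, z_5_7, z_5_8] at key
                exact mul_left_cancel₀ (T.w_pos u5).ne' (by linarith only [key])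
              have r_6 : 1 * T.m u5 + -2 * T.m u6 + 1 * T.m u7 = 0 := by
                have key := Groth.Agent.Helper6.NT.rowfun9 T u0 u1 u2 u3 u4 u5 u6 u7 u8 hinj u6
                rw [Groth.Agent.Helper6.NT.symm' T u6 u0, z_0_6, Groth.Agent.Helper6.NT.symm' T u6 u1, z_1_6, Groth.Agent.Helper6.NT.symm' T u6 u2, z_2_6, Groth.Agent.Helper6.NT.symm' T u6 u3, z_3_6, Groth.Agent.Helper6.NT.symm' T u6 u4, z_4_6, Groth.Agent.Helper6.NT.symm' T u6 u5, taq_5_6, (h2 u6).2, tap_6_7, z_6_8] at key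
                exact mul_left_cancel₀ (T.w_pos u6).ne' (by linarith only [key])
              have r_7 : 1 * T.m u6 + -2 * T.m u7 + 2 * T.m u8 = 0 := by
                have key := Groth.Agent.Helper6.NT.rowfun9 T u0 u1 u2 u3 u4 u5 u6 u7 u8 hinj u7
                rw [Groth.Agent.Helper6.NT.symm' T u7 u0, z_0_7, Groth.Agent.Helper6.NT.symm' T u7 u1, z_1_7, Groth.Agent.Helper6.NT.symm' T u7 u2, z_2_7, Groth.Agent.Helper6.NT.symm' T u7 u3, z_3_7, Groth.Agent.Helper6.NT.symm' T u7 u4, z_4_7, Groth.Agent.Helper6.NT.symm' T u7 u5, z_5_7, Groth.Agent.Helper6.NT.symm' T u7 u6, taq_6_7, (h2 u7).2, tap_7_8] at key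
                exact mul_left_cancel₀ (T.w_pos u7).ne' (by linarith only [key])
              have r_8 : 1 * T.m u7 + -2 * T.m u8 = 0 := by
                have key := Groth.Agent.Helper6.NT.rowfun9 T u0 u1 u2 u3 u4 u5 u6 u7 u8 hinj u8
                rw [Groth.Agent.Helper6.NT.symm' T u8 u0, z_0_8, Groth.Agent.Helper6.NT.symm' T u8 u1, z_1_8, Groth.Agent.Helper6.NT.symm' T u8 u2, z_2_8, Groth.Agent.Helper6.NT.symm' T u8 u3, z_3_8, Groth.Agent.Helper6.NT.symm' T u8 u4, z_4_8, Groth.Agent.Helper6.NT.symm' T u8 u5, z_5_8, Groth.Agent.Helper6.NT.symm' T u8 u6, z_6_8, Groth.Agent.Helper6.NT.symm' T u8 u7, taq_7_8, (h2 u8).2] at key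
                exact mul_left_cancel₀ (T.w_pos u8).ne' (by linarith only [key])
              have f0 : T.m u8 = T.m u8 := rfl
              have f1 : T.m u7 = 2 * T.m u8 := by linarith only [r_0, r_1, r_2, r_3, r_4, r_5, r_6, r_7, r_8]
              have f2 : T.m u6 = 2 * T.m u8 := by linarith only [r_0, r_1, r_2, r_3, r_4, r_5, r_6, r_7, r_8]
              have f3 : T.m u5 = 2 * T.m u8 := by linarith only [r_0, r_1, r_2, r_3, r_4, r_5, r_6, r_7, r_8]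
              have f4 : T.m u4 = 2 * T.m u8 := by linarith only [r_0, r_1, r_2, r_3, r_4, r_5, r_6, r_7, r_8]
              have f5 : T.m u3 = 2 * T.m u8 := by linarith only [r_0, r_1, r_2, r_3, r_4, r_5, r_6, r_7, r_8]
              have f6 : T.m u0 = 2 * T.m u8 := by linarith only [r_0, r_1, r_2, r_3, r_4, r_5, r_6, r_7, r_8]
              have f7 : T.m u1 = T.m u8 := by linarith only [r_0, r_1, r_2, r_3, r_4, r_5, r_6, r_7, r_8]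
              have f8 : T.m u2 = T.m u8 := by linarith only [r_0, r_1, r_2, r_3, r_4, r_5, r_6, r_7, r_8]
              have f9 : T.w u8 = 2 * T.w u7 := by linarith only [tw_0_1, tw_0_2, tw_0_3, tw_3_4, tw_4_5, tw_5_6, tw_6_7, tw_7_8]
              have f10 : T.w u7 = T.w u7 := rfl
              have f11 : T.w u6 = T.w u7 := by linarith only [tw_0_1, tw_0_2, tw_0_3, tw_3_4, tw_4_5, tw_5_6, tw_6_7, tw_7_8]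
              have f12 : T.w u5 = T.w u7 := by linarith only [tw_0_1, tw_0_2, tw_0_3, tw_3_4, tw_4_5, tw_5_6, tw_6_7, tw_7_8]
              have f13 : T.w u4 = T.w u7 := by linarith only [tw_0_1, tw_0_2, tw_0_3, tw_3_4, tw_4_5, tw_5_6, tw_6_7, tw_7_8]
              have f14 : T.w u3 = T.w u7 := by linarith only [tw_0_1, tw_0_2, tw_0_3, tw_3_4, tw_4_5, tw_5_6, tw_6_7, tw_7_8]
              have f15 : T.w u0 = T.w u7 := by linarith only [tw_0_1, tw_0_2, tw_0_3, tw_3_4, tw_4_5, tw_5_6, tw_6_7, tw_7_8]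
              have f16 : T.w u1 = T.w u7 := by linarith only [tw_0_1, tw_0_2, tw_0_3, tw_3_4, tw_4_5, tw_5_6, tw_6_7, tw_7_8]
              have f17 : T.w u2 = T.w u7 := by linarith only [tw_0_1, tw_0_2, tw_0_3, tw_3_4, tw_4_5, tw_5_6, tw_6_7, tw_7_8]
              have f18 : T.a u8 u8 = -4 * T.w u7 := by have := (h2 u8).2; linarith only [this, tw_0_1, tw_0_2, tw_0_3, tw_3_4, tw_4_5, tw_5_6, tw_6_7, tw_7_8]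
              have f19 : T.a u8 u7 = 2 * T.w u7 := by rw [Groth.Agent.Helper6.NT.symm' T u8 u7]; linarith only [tap_7_8, tw_0_1, tw_0_2, tw_0_3, tw_3_4, tw_4_5, tw_5_6, tw_6_7, tw_7_8]
              have f20 : T.a u8 u6 = 0 := by rw [Groth.Agent.Helper6.NT.symm' T u8 u6]; exact z_6_8
              have f21 : T.a u8 u5 = 0 := by rw [Groth.Agent.Helper6.NT.symm' T u8 u5]; exact z_5_8
              have f22 : T.a u8 u4 = 0 := by rw [Groth.Agent.Helper6.NT.symm' T u8 u4]; exact z_4_8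
              have f23 : T.a u8 u3 = 0 := by rw [Groth.Agent.Helper6.NT.symm' T u8 u3]; exact z_3_8
              have f24 : T.a u8 u0 = 0 := by rw [Groth.Agent.Helper6.NT.symm' T u8 u0]; exact z_0_8
              have f25 : T.a u8 u1 = 0 := by rw [Groth.Agent.Helper6.NT.symm' T u8 u1]; exact z_1_8
              have f26 : T.a u8 u2 = 0 := by rw [Groth.Agent.Helper6.NT.symm' T u8 u2]; exact z_2_8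
              have f27 : T.a u7 u7 = -2 * T.w u7 := by have := (h2 u7).2; linarith only [this, tw_0_1, tw_0_2, tw_0_3, tw_3_4, tw_4_5, tw_5_6, tw_6_7, tw_7_8]
              have f28 : T.a u7 u6 = T.w u7 := by rw [Groth.Agent.Helper6.NT.symm' T u7 u6]; linarith only [tap_6_7, tw_0_1, tw_0_2, tw_0_3, tw_3_4, tw_4_5, tw_5_6, tw_6_7, tw_7_8]
              have f29 : T.a u7 u5 = 0 := by rw [Groth.Agent.Helper6.NT.symm' T u7 u5]; exact z_5_7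
              have f30 : T.a u7 u4 = 0 := by rw [Groth.Agent.Helper6.NT.symm' T u7 u4]; exact z_4_7
              have f31 : T.a u7 u3 = 0 := by rw [Groth.Agent.Helper6.NT.symm' T u7 u3]; exact z_3_7
              have f32 : T.a u7 u0 = 0 := by rw [Groth.Agent.Helper6.NT.symm' T u7 u0]; exact z_0_7
              have f33 : T.a u7 u1 = 0 := by rw [Groth.Agent.Helper6.NT.symm' T u7 u1]; exact z_1_7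
              have f34 : T.a u7 u2 = 0 := by rw [Groth.Agent.Helper6.NT.symm' T u7 u2]; exact z_2_7
              have f35 : T.a u6 u6 = -2 * T.w u7 := by have := (h2 u6).2; linarith only [this, tw_0_1, tw_0_2, tw_0_3, tw_3_4, tw_4_5, tw_5_6, tw_6_7, tw_7_8]
              have f36 : T.a u6 u5 = T.w u7 := by rw [Groth.Agent.Helper6.NT.symm' T u6 u5]; linarith only [tap_5_6, tw_0_1, tw_0_2, tw_0_3, tw_3_4, tw_4_5, tw_5_6, tw_6_7, tw_7_8]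
              have f37 : T.a u6 u4 = 0 := by rw [Groth.Agent.Helper6.NT.symm' T u6 u4]; exact z_4_6
              have f38 : T.a u6 u3 = 0 := by rw [Groth.Agent.Helper6.NT.symm' T u6 u3]; exact z_3_6
              have f39 : T.a u6 u0 = 0 := by rw [Groth.Agent.Helper6.NT.symm' T u6 u0]; exact z_0_6
              have f40 : T.a u6 u1 = 0 := by rw [Groth.Agent.Helper6.NT.symm' T u6 u1]; exact z_1_6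
              have f41 : T.a u6 u2 = 0 := by rw [Groth.Agent.Helper6.NT.symm' T u6 u2]; exact z_2_6
              have f42 : T.a u5 u5 = -2 * T.w u7 := by have := (h2 u5).2; linarith only [this, tw_0_1, tw_0_2, tw_0_3, tw_3_4, tw_4_5, tw_5_6, tw_6_7, tw_7_8]
              have f43 : T.a u5 u4 = T.w u7 := by rw [Groth.Agent.Helper6.NT.symm' T u5 u4]; linarith only [tap_4_5, tw_0_1, tw_0_2, tw_0_3, tw_3_4, tw_4_5, tw_5_6, tw_6_7, tw_7_8]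
              have f44 : T.a u5 u3 = 0 := by rw [Groth.Agent.Helper6.NT.symm' T u5 u3]; exact z_3_5
              have f45 : T.a u5 u0 = 0 := by rw [Groth.Agent.Helper6.NT.symm' T u5 u0]; exact z_0_5
              have f46 : T.a u5 u1 = 0 := by rw [Groth.Agent.Helper6.NT.symm' T u5 u1]; exact z_1_5
              have f47 : T.a u5 u2 = 0 := by rw [Groth.Agent.Helper6.NT.symm' T u5 u2]; exact z_2_5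
              have f48 : T.a u4 u4 = -2 * T.w u7 := by have := (h2 u4).2; linarith only [this, tw_0_1, tw_0_2, tw_0_3, tw_3_4, tw_4_5, tw_5_6, tw_6_7, tw_7_8]
              have f49 : T.a u4 u3 = T.w u7 := by rw [Groth.Agent.Helper6.NT.symm' T u4 u3]; linarith only [tap_3_4, tw_0_1, tw_0_2, tw_0_3, tw_3_4, tw_4_5, tw_5_6, tw_6_7, tw_7_8]
              have f50 : T.a u4 u0 = 0 := by rw [Groth.Agent.Helper6.NT.symm' T u4 u0]; exact z_0_4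
              have f51 : T.a u4 u1 = 0 := by rw [Groth.Agent.Helper6.NT.symm' T u4 u1]; exact z_1_4
              have f52 : T.a u4 u2 = 0 := by rw [Groth.Agent.Helper6.NT.symm' T u4 u2]; exact z_2_4
              have f53 : T.a u3 u3 = -2 * T.w u7 := by have := (h2 u3).2; linarith only [this, tw_0_1, tw_0_2, tw_0_3, tw_3_4, tw_4_5, tw_5_6, tw_6_7, tw_7_8]
              have f54 : T.a u3 u0 = T.w u7 := by rw [Groth.Agent.Helper6.NT.symm' T u3 u0]; linarith only [tap_0_3, tw_0_1, tw_0_2, tw_0_3, tw_3_4, tw_4_5, tw_5_6, tw_6_7, tw_7_8]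
              have f55 : T.a u3 u1 = 0 := by rw [Groth.Agent.Helper6.NT.symm' T u3 u1]; exact z_1_3
              have f56 : T.a u3 u2 = 0 := by rw [Groth.Agent.Helper6.NT.symm' T u3 u2]; exact z_2_3
              have f57 : T.a u0 u0 = -2 * T.w u7 := by have := (h2 u0).2; linarith only [this, tw_0_1, tw_0_2, tw_0_3, tw_3_4, tw_4_5, tw_5_6, tw_6_7, tw_7_8]
              have f58 : T.a u0 u1 = T.w u7 := by linarith only [tap_0_1, tw_0_1, tw_0_2, tw_0_3, tw_3_4, tw_4_5, tw_5_6, tw_6_7, tw_7_8]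
              have f59 : T.a u0 u2 = T.w u7 := by linarith only [tap_0_2, tw_0_1, tw_0_2, tw_0_3, tw_3_4, tw_4_5, tw_5_6, tw_6_7, tw_7_8]
              have f60 : T.a u1 u1 = -2 * T.w u7 := by have := (h2 u1).2; linarith only [this, tw_0_1, tw_0_2, tw_0_3, tw_3_4, tw_4_5, tw_5_6, tw_6_7, tw_7_8]
              have f61 : T.a u1 u2 = 0 := by exact z_1_2
              have f62 : T.a u2 u2 = -2 * T.w u7 := by have := (h2 u2).2; linarith only [this, tw_0_1, tw_0_2, tw_0_3, tw_3_4, tw_4_5, tw_5_6, tw_6_7, tw_7_8]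
              have hsig := Groth.Agent.Helper6.NT.inj9 u8 u7 u6 u5 u4 u3 u0 u1 u2 hn_8_7.symm hn_8_6.symm hn_7_6.symm hn_8_5.symm hn_7_5.symm hn_6_5.symm hn_8_4.symm hn_7_4.symm hn_6_4.symm hn_5_4.symm hn_8_3.symm hn_7_3.symm hn_6_3.symm hn_5_3.symm hn_4_3.symm hn_8_0.symm hn_7_0.symm hn_6_0.symm hn_5_0.symm hn_4_0.symm hn_3_0.symm hn_8_1.symm hn_7_1.symm hn_6_1.symm hn_5_1.symm hn_4_1.symm hn_3_1.symm hn_1_0 hn_8_2.symm hn_7_2.symm hn_6_2.symm hn_5_2.symm hn_4_2.symm hn_3_2.symm hn_2_0 hn_2_1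
              exact ⟨Equiv.ofBijective _ (Finite.injective_iff_bijective.1 hsig), T.m u8, T.w u7, Or.inr (Or.inr (Or.inr (Or.inr (Or.inl ⟨f0, f1, f2, f3, f4, f5, f6, f7, f8, f9, f10, f11, f12, f13, f14, f15, f16, f17, f18, f19, f20, f21, f22, f23, f24, f25, f26, f27, f28, f29, f30, f31, f32, f33, f34, f35, f36, f37, f38, f39, f40, f41, f42, f43, f44, f45, f46, f47, f48, f49, f50, f51, f52, f53, f54, f55, f56, f57, f58, f59, f60, f61, f62⟩))))⟩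
            · -- (7,8) Dm
              have hinj := Groth.Agent.Helper6.NT.inj9 u0 u1 u2 u3 u4 u5 u6 u7 u8 hn_1_0 hn_2_0 hn_2_1 hn_3_0 hn_3_1 hn_3_2 hn_4_0 hn_4_1 hn_4_2 hn_4_3 hn_5_0 hn_5_1 hn_5_2 hn_5_3 hn_5_4 hn_6_0 hn_6_1 hn_6_2 hn_6_3 hn_6_4 hn_6_5 hn_7_0 hn_7_1 hn_7_2 hn_7_3 hn_7_4 hn_7_5 hn_7_6 hn_8_0 hn_8_1 hn_8_2 hn_8_3 hn_8_4 hn_8_5 hn_8_6 hn_8_7
              have r_0 : -2 * T.m u0 + 1 * T.m u1 + 1 * T.m u2 + 1 * T.m u3 = 0 := by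
                have key := Groth.Agent.Helper6.NT.rowfun9 T u0 u1 u2 u3 u4 u5 u6 u7 u8 hinj u0
                rw [(h2 u0).2, tap_0_1, tap_0_2, tap_0_3, z_0_4, z_0_5, z_0_6, z_0_7, z_0_8] at key
                exact mul_left_cancel₀ (T.w_pos u0).ne' (by linarith only [key])
              have r_1 : 1 * T.m u0 + -2 * T.m u1 = 0 := by
                have key := Groth.Agent.Helper6.NT.rowfun9 T u0 u1 u2 u3 u4 u5 u6 u7 u8 hinj u1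
                rw [Groth.Agent.Helper6.NT.symm' T u1 u0, taq_0_1, (h2 u1).2, z_1_2, z_1_3, z_1_4, z_1_5, z_1_6, z_1_7, z_1_8] at key
                exact mul_left_cancel₀ (T.w_pos u1).ne' (by linarith only [key])
              have r_2 : 1 * T.m u0 + -2 * T.m u2 = 0 := by
                have key := Groth.Agent.Helper6.NT.rowfun9 T u0 u1 u2 u3 u4 u5 u6 u7 u8 hinj u2
                rw [Groth.Agent.Helper6.NT.symm' T u2 u0, taq_0_2, Groth.Agent.Helper6.NT.symm' T u2 u1, z_1_2, (h2 u2).2, z_2_3, z_2_4, z_2_5, z_2_6, z_2_7, z_2_8] at key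
                exact mul_left_cancel₀ (T.w_pos u2).ne' (by linarith only [key])
              have r_3 : 1 * T.m u0 + -2 * T.m u3 + 1 * T.m u4 = 0 := by
                have key := Groth.Agent.Helper6.NT.rowfun9 T u0 u1 u2 u3 u4 u5 u6 u7 u8 hinj u3
                rw [Groth.Agent.Helper6.NT.symm' T u3 u0, taq_0_3, Groth.Agent.Helper6.NT.symm' T u3 u1, z_1_3, Groth.Agent.Helper6.NT.symm' T u3 u2, z_2_3, (h2 u3).2, tap_3_4, z_3_5, z_3_6, z_3_7, z_3_8] at key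
                exact mul_left_cancel₀ (T.w_pos u3).ne' (by linarith only [key])
              have r_4 : 1 * T.m u3 + -2 * T.m u4 + 1 * T.m u5 = 0 := by
                have key := Groth.Agent.Helper6.NT.rowfun9 T u0 u1 u2 u3 u4 u5 u6 u7 u8 hinj u4
                rw [Groth.Agent.Helper6.NT.symm' T u4 u0, z_0_4, Groth.Agent.Helper6.NT.symm' T u4 u1, z_1_4, Groth.Agent.Helper6.NT.symm' T u4 u2, z_2_4, Groth.Agent.Helper6.NT.symm' T u4 u3, taq_3_4, (h2 u4).2, tap_4_5, z_4_6, z_4_7, z_4_8] at key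
                exact mul_left_cancel₀ (T.w_pos u4).ne' (by linarith only [key])
              have r_5 : 1 * T.m u4 + -2 * T.m u5 + 1 * T.m u6 = 0 := by
                have key := Groth.Agent.Helper6.NT.rowfun9 T u0 u1 u2 u3 u4 u5 u6 u7 u8 hinj u5
                rw [Groth.Agent.Helper6.NT.symm' T u5 u0, z_0_5, Groth.Agent.Helper6.NT.symm' T u5 u1, z_1_5, Groth.Agent.Helper6.NT.symm' T u5 u2, z_2_5, Groth.Agent.Helper6.NT.symm' T u5 u3, z_3_5, Groth.Agent.Helper6.NT.symm' T u5 u4, taq_4_5, (h2 u5).2, tap_5_6, z_5_7, z_5_8] at key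
                exact mul_left_cancel₀ (T.w_pos u5).ne' (by linarith only [key])
              have r_6 : 1 * T.m u5 + -2 * T.m u6 + 1 * T.m u7 = 0 := by
                have key := Groth.Agent.Helper6.NT.rowfun9 T u0 u1 u2 u3 u4 u5 u6 u7 u8 hinj u6
                rw [Groth.Agent.Helper6.NT.symm' T u6 u0, z_0_6, Groth.Agent.Helper6.NT.symm' T u6 u1, z_1_6, Groth.Agent.Helper6.NT.symm' T u6 u2, z_2_6, Groth.Agent.Helper6.NT.symm' T u6 u3, z_3_6, Groth.Agent.Helper6.NT.symm' T u6 u4, z_4_6, Groth.Agent.Helper6.NT.symm' T u6 u5, taq_5_6, (h2 u6).2, tap_6_7, z_6_8] at key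
                exact mul_left_cancel₀ (T.w_pos u6).ne' (by linarith only [key])
              have r_7 : 1 * T.m u6 + -2 * T.m u7 + 1 * T.m u8 = 0 := by
                have key := Groth.Agent.Helper6.NT.rowfun9 T u0 u1 u2 u3 u4 u5 u6 u7 u8 hinj u7
                rw [Groth.Agent.Helper6.NT.symm' T u7 u0, z_0_7, Groth.Agent.Helper6.NT.symm' T u7 u1, z_1_7, Groth.Agent.Helper6.NT.symm' T u7 u2, z_2_7, Groth.Agent.Helper6.NT.symm' T u7 u3, z_3_7, Groth.Agent.Helper6.NT.symm' T u7 u4, z_4_7, Groth.Agent.Helper6.NT.symm' T u7 u5, z_5_7, Groth.Agent.Helper6.NT.symm' T u7 u6, taq_6_7, (h2 u7).2, tap_7_8] at key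
                exact mul_left_cancel₀ (T.w_pos u7).ne' (by linarith only [key])
              have r_8 : 2 * T.m u7 + -2 * T.m u8 = 0 := by
                have key := Groth.Agent.Helper6.NT.rowfun9 T u0 u1 u2 u3 u4 u5 u6 u7 u8 hinj u8
                rw [Groth.Agent.Helper6.NT.symm' T u8 u0, z_0_8, Groth.Agent.Helper6.NT.symm' T u8 u1, z_1_8, Groth.Agent.Helper6.NT.symm' T u8 u2, z_2_8, Groth.Agent.Helper6.NT.symm' T u8 u3, z_3_8, Groth.Agent.Helper6.NT.symm' T u8 u4, z_4_8, Groth.Agent.Helper6.NT.symm' T u8 u5, z_5_8, Groth.Agent.Helper6.NT.symm' T u8 u6, z_6_8, Groth.Agent.Helper6.NT.symm' T u8 u7, taq_7_8, (h2 u8).2] at key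
                exact mul_left_cancel₀ (T.w_pos u8).ne' (by linarith only [key])
              have f0 : T.m u8 = 2 * T.m u1 := by linarith only [r_0, r_1, r_2, r_3, r_4, r_5, r_6, r_7, r_8]
              have f1 : T.m u7 = 2 * T.m u1 := by linarith only [r_0, r_1, r_2, r_3, r_4, r_5, r_6, r_7, r_8]
              have f2 : T.m u6 = 2 * T.m u1 := by linarith only [r_0, r_1, r_2, r_3, r_4, r_5, r_6, r_7, r_8]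
              have f3 : T.m u5 = 2 * T.m u1 := by linarith only [r_0, r_1, r_2, r_3, r_4, r_5, r_6, r_7, r_8]
              have f4 : T.m u4 = 2 * T.m u1 := by linarith only [r_0, r_1, r_2, r_3, r_4, r_5, r_6, r_7, r_8]
              have f5 : T.m u3 = 2 * T.m u1 := by linarith only [r_0, r_1, r_2, r_3, r_4, r_5, r_6, r_7, r_8]
              have f6 : T.m u0 = 2 * T.m u1 := by linarith only [r_0, r_1, r_2, r_3, r_4, r_5, r_6, r_7, r_8]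
              have f7 : T.m u1 = T.m u1 := rfl
              have f8 : T.m u2 = T.m u1 := by linarith only [r_0, r_1, r_2, r_3, r_4, r_5, r_6, r_7, r_8]
              have f9 : T.w u8 = T.w u8 := rfl
              have f10 : T.w u7 = 2 * T.w u8 := by linarith only [tw_0_1, tw_0_2, tw_0_3, tw_3_4, tw_4_5, tw_5_6, tw_6_7, tw_7_8]
              have f11 : T.w u6 = 2 * T.w u8 := by linarith only [tw_0_1, tw_0_2, tw_0_3, tw_3_4, tw_4_5, tw_5_6, tw_6_7, tw_7_8]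
              have f12 : T.w u5 = 2 * T.w u8 := by linarith only [tw_0_1, tw_0_2, tw_0_3, tw_3_4, tw_4_5, tw_5_6, tw_6_7, tw_7_8]
              have f13 : T.w u4 = 2 * T.w u8 := by linarith only [tw_0_1, tw_0_2, tw_0_3, tw_3_4, tw_4_5, tw_5_6, tw_6_7, tw_7_8]
              have f14 : T.w u3 = 2 * T.w u8 := by linarith only [tw_0_1, tw_0_2, tw_0_3, tw_3_4, tw_4_5, tw_5_6, tw_6_7, tw_7_8]
              have f15 : T.w u0 = 2 * T.w u8 := by linarith only [tw_0_1, tw_0_2, tw_0_3, tw_3_4, tw_4_5, tw_5_6, tw_6_7, tw_7_8]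
              have f16 : T.w u1 = 2 * T.w u8 := by linarith only [tw_0_1, tw_0_2, tw_0_3, tw_3_4, tw_4_5, tw_5_6, tw_6_7, tw_7_8]
              have f17 : T.w u2 = 2 * T.w u8 := by linarith only [tw_0_1, tw_0_2, tw_0_3, tw_3_4, tw_4_5, tw_5_6, tw_6_7, tw_7_8]
              have f18 : T.a u8 u8 = -2 * T.w u8 := by have := (h2 u8).2; linarith only [this, tw_0_1, tw_0_2, tw_0_3, tw_3_4, tw_4_5, tw_5_6, tw_6_7, tw_7_8]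
              have f19 : T.a u8 u7 = 2 * T.w u8 := by rw [Groth.Agent.Helper6.NT.symm' T u8 u7]; linarith only [tap_7_8, tw_0_1, tw_0_2, tw_0_3, tw_3_4, tw_4_5, tw_5_6, tw_6_7, tw_7_8]
              have f20 : T.a u8 u6 = 0 := by rw [Groth.Agent.Helper6.NT.symm' T u8 u6]; exact z_6_8
              have f21 : T.a u8 u5 = 0 := by rw [Groth.Agent.Helper6.NT.symm' T u8 u5]; exact z_5_8
              have f22 : T.a u8 u4 = 0 := by rw [Groth.Agent.Helper6.NT.symm' T u8 u4]; exact z_4_8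
              have f23 : T.a u8 u3 = 0 := by rw [Groth.Agent.Helper6.NT.symm' T u8 u3]; exact z_3_8
              have f24 : T.a u8 u0 = 0 := by rw [Groth.Agent.Helper6.NT.symm' T u8 u0]; exact z_0_8
              have f25 : T.a u8 u1 = 0 := by rw [Groth.Agent.Helper6.NT.symm' T u8 u1]; exact z_1_8
              have f26 : T.a u8 u2 = 0 := by rw [Groth.Agent.Helper6.NT.symm' T u8 u2]; exact z_2_8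
              have f27 : T.a u7 u7 = -4 * T.w u8 := by have := (h2 u7).2; linarith only [this, tw_0_1, tw_0_2, tw_0_3, tw_3_4, tw_4_5, tw_5_6, tw_6_7, tw_7_8]
              have f28 : T.a u7 u6 = 2 * T.w u8 := by rw [Groth.Agent.Helper6.NT.symm' T u7 u6]; linarith only [tap_6_7, tw_0_1, tw_0_2, tw_0_3, tw_3_4, tw_4_5, tw_5_6, tw_6_7, tw_7_8]
              have f29 : T.a u7 u5 = 0 := by rw [Groth.Agent.Helper6.NT.symm' T u7 u5]; exact z_5_7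
              have f30 : T.a u7 u4 = 0 := by rw [Groth.Agent.Helper6.NT.symm' T u7 u4]; exact z_4_7
              have f31 : T.a u7 u3 = 0 := by rw [Groth.Agent.Helper6.NT.symm' T u7 u3]; exact z_3_7
              have f32 : T.a u7 u0 = 0 := by rw [Groth.Agent.Helper6.NT.symm' T u7 u0]; exact z_0_7
              have f33 : T.a u7 u1 = 0 := by rw [Groth.Agent.Helper6.NT.symm' T u7 u1]; exact z_1_7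
              have f34 : T.a u7 u2 = 0 := by rw [Groth.Agent.Helper6.NT.symm' T u7 u2]; exact z_2_7
              have f35 : T.a u6 u6 = -4 * T.w u8 := by have := (h2 u6).2; linarith only [this, tw_0_1, tw_0_2, tw_0_3, tw_3_4, tw_4_5, tw_5_6, tw_6_7, tw_7_8]
              have f36 : T.a u6 u5 = 2 * T.w u8 := by rw [Groth.Agent.Helper6.NT.symm' T u6 u5]; linarith only [tap_5_6, tw_0_1, tw_0_2, tw_0_3, tw_3_4, tw_4_5, tw_5_6, tw_6_7, tw_7_8]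
              have f37 : T.a u6 u4 = 0 := by rw [Groth.Agent.Helper6.NT.symm' T u6 u4]; exact z_4_6
              have f38 : T.a u6 u3 = 0 := by rw [Groth.Agent.Helper6.NT.symm' T u6 u3]; exact z_3_6
              have f39 : T.a u6 u0 = 0 := by rw [Groth.Agent.Helper6.NT.symm' T u6 u0]; exact z_0_6
              have f40 : T.a u6 u1 = 0 := by rw [Groth.Agent.Helper6.NT.symm' T u6 u1]; exact z_1_6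
              have f41 : T.a u6 u2 = 0 := by rw [Groth.Agent.Helper6.NT.symm' T u6 u2]; exact z_2_6
              have f42 : T.a u5 u5 = -4 * T.w u8 := by have := (h2 u5).2; linarith only [this, tw_0_1, tw_0_2, tw_0_3, tw_3_4, tw_4_5, tw_5_6, tw_6_7, tw_7_8]
              have f43 : T.a u5 u4 = 2 * T.w u8 := by rw [Groth.Agent.Helper6.NT.symm' T u5 u4]; linarith only [tap_4_5, tw_0_1, tw_0_2, tw_0_3, tw_3_4, tw_4_5, tw_5_6, tw_6_7, tw_7_8]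
              have f44 : T.a u5 u3 = 0 := by rw [Groth.Agent.Helper6.NT.symm' T u5 u3]; exact z_3_5
              have f45 : T.a u5 u0 = 0 := by rw [Groth.Agent.Helper6.NT.symm' T u5 u0]; exact z_0_5
              have f46 : T.a u5 u1 = 0 := by rw [Groth.Agent.Helper6.NT.symm' T u5 u1]; exact z_1_5
              have f47 : T.a u5 u2 = 0 := by rw [Groth.Agent.Helper6.NT.symm' T u5 u2]; exact z_2_5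
              have f48 : T.a u4 u4 = -4 * T.w u8 := by have := (h2 u4).2; linarith only [this, tw_0_1, tw_0_2, tw_0_3, tw_3_4, tw_4_5, tw_5_6, tw_6_7, tw_7_8]
              have f49 : T.a u4 u3 = 2 * T.w u8 := by rw [Groth.Agent.Helper6.NT.symm' T u4 u3]; linarith only [tap_3_4, tw_0_1, tw_0_2, tw_0_3, tw_3_4, tw_4_5, tw_5_6, tw_6_7, tw_7_8]
              have f50 : T.a u4 u0 = 0 := by rw [Groth.Agent.Helper6.NT.symm' T u4 u0]; exact z_0_4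
              have f51 : T.a u4 u1 = 0 := by rw [Groth.Agent.Helper6.NT.symm' T u4 u1]; exact z_1_4
              have f52 : T.a u4 u2 = 0 := by rw [Groth.Agent.Helper6.NT.symm' T u4 u2]; exact z_2_4
              have f53 : T.a u3 u3 = -4 * T.w u8 := by have := (h2 u3).2; linarith only [this, tw_0_1, tw_0_2, tw_0_3, tw_3_4, tw_4_5, tw_5_6, tw_6_7, tw_7_8]
              have f54 : T.a u3 u0 = 2 * T.w u8 := by rw [Groth.Agent.Helper6.NT.symm' T u3 u0]; linarith only [tap_0_3, tw_0_1, tw_0_2, tw_0_3, tw_3_4, tw_4_5, tw_5_6, tw_6_7, tw_7_8]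
              have f55 : T.a u3 u1 = 0 := by rw [Groth.Agent.Helper6.NT.symm' T u3 u1]; exact z_1_3
              have f56 : T.a u3 u2 = 0 := by rw [Groth.Agent.Helper6.NT.symm' T u3 u2]; exact z_2_3
              have f57 : T.a u0 u0 = -4 * T.w u8 := by have := (h2 u0).2; linarith only [this, tw_0_1, tw_0_2, tw_0_3, tw_3_4, tw_4_5, tw_5_6, tw_6_7, tw_7_8]
              have f58 : T.a u0 u1 = 2 * T.w u8 := by linarith only [tap_0_1, tw_0_1, tw_0_2, tw_0_3, tw_3_4, tw_4_5, tw_5_6, tw_6_7, tw_7_8]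
              have f59 : T.a u0 u2 = 2 * T.w u8 := by linarith only [tap_0_2, tw_0_1, tw_0_2, tw_0_3, tw_3_4, tw_4_5, tw_5_6, tw_6_7, tw_7_8]
              have f60 : T.a u1 u1 = -4 * T.w u8 := by have := (h2 u1).2; linarith only [this, tw_0_1, tw_0_2, tw_0_3, tw_3_4, tw_4_5, tw_5_6, tw_6_7, tw_7_8]
              have f61 : T.a u1 u2 = 0 := by exact z_1_2
              have f62 : T.a u2 u2 = -4 * T.w u8 := by have := (h2 u2).2; linarith only [this, tw_0_1, tw_0_2, tw_0_3, tw_3_4, tw_4_5, tw_5_6, tw_6_7, tw_7_8]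
              have hsig := Groth.Agent.Helper6.NT.inj9 u8 u7 u6 u5 u4 u3 u0 u1 u2 hn_8_7.symm hn_8_6.symm hn_7_6.symm hn_8_5.symm hn_7_5.symm hn_6_5.symm hn_8_4.symm hn_7_4.symm hn_6_4.symm hn_5_4.symm hn_8_3.symm hn_7_3.symm hn_6_3.symm hn_5_3.symm hn_4_3.symm hn_8_0.symm hn_7_0.symm hn_6_0.symm hn_5_0.symm hn_4_0.symm hn_3_0.symm hn_8_1.symm hn_7_1.symm hn_6_1.symm hn_5_1.symm hn_4_1.symm hn_3_1.symm hn_1_0 hn_8_2.symm hn_7_2.symm hn_6_2.symm hn_5_2.symm hn_4_2.symm hn_3_2.symm hn_2_0 hn_2_1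
              exact ⟨Equiv.ofBijective _ (Finite.injective_iff_bijective.1 hsig), T.m u1, T.w u8, Or.inr (Or.inr (Or.inr (Or.inr (Or.inr (Or.inl ⟨f0, f1, f2, f3, f4, f5, f6, f7, f8, f9, f10, f11, f12, f13, f14, f15, f16, f17, f18, f19, f20, f21, f22, f23, f24, f25, f26, f27, f28, f29, f30, f31, f32, f33, f34, f35, f36, f37, f38, f39, f40, f41, f42, f43, f44, f45, f46, f47, f48, f49, f50, f51, f52, f53, f54, f55, f56, f57, f58, f59, f60, f61, f62⟩)))))⟩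
            · -- (7,8) Tp
              exfalso
              have key := Groth.Agent.Helper6.NT.negfun3 T h2 u6 u7 u8 (by norm_num) 1 2 1 (by norm_num) (by norm_num)
              linarith only [key, tap_6_7, taq_6_7, z_6_8, tap_7_8, taq_7_8, T.w_pos u6, T.w_pos u7, T.w_pos u8]
            · -- (7,8) Tm
              exfalso
              have key := Groth.Agent.Helper6.NT.negfun3 T h2 u6 u7 u8 (by norm_num) 1 2 3 (by norm_num) (by norm_num)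
              linarith only [key, tap_6_7, taq_6_7, z_6_8, tap_7_8, taq_7_8, T.w_pos u6, T.w_pos u7, T.w_pos u8]
          · push Not at hx
            have cl_7 := hx
            clear hx
            exfalso
            refine Groth.Agent.Helper6.NT.closed_contra T [u0, u1, u2, u3, u4, u5, u6, u7] (by simp) (by simp) ?_
            intro i hi j hj
            simp only [List.mem_cons, List.not_mem_nil, or_false, not_or] at hi hj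
            rcases hi with rfl | rfl | rfl | rfl | rfl | rfl | rfl | rfl
            · exact cl_0 j ⟨hj.1, hj.2.1, hj.2.2.1, hj.2.2.2.1⟩
            · exact cl_1 j ⟨hj.1, hj.2.1, hj.2.2.1, hj.2.2.2.1⟩
            · exact cl_2 j ⟨hj.1, hj.2.1, hj.2.2.1, hj.2.2.2.1⟩
            · exact cl_3 j ⟨hj.1, hj.2.1, hj.2.2.1, hj.2.2.2.1, hj.2.2.2.2.1⟩
            · exact cl_4 j ⟨hj.1, hj.2.1, hj.2.2.1, hj.2.2.2.1, hj.2.2.2.2.1, hj.2.2.2.2.2.1⟩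
            · exact cl_5 j ⟨hj.1, hj.2.1, hj.2.2.1, hj.2.2.2.1, hj.2.2.2.2.1, hj.2.2.2.2.2.1, hj.2.2.2.2.2.2.1⟩
            · exact cl_6 j ⟨hj.1, hj.2.1, hj.2.2.1, hj.2.2.2.1, hj.2.2.2.2.1, hj.2.2.2.2.2.1, hj.2.2.2.2.2.2.1, hj.2.2.2.2.2.2.2⟩
            · exact cl_7 j ⟨hj.1, hj.2.1, hj.2.2.1, hj.2.2.2.1, hj.2.2.2.2.1, hj.2.2.2.2.2.1, hj.2.2.2.2.2.2.1, hj.2.2.2.2.2.2.2⟩
      · -- (6,7) Dp
        exfalso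
        have key := Groth.Agent.Helper6.NT.negfun8 T h2 u0 u1 u2 u3 u4 u5 u6 u7 (by norm_num) 2 1 1 2 2 2 2 1 (by norm_num) (by norm_num)
        linarith only [key, tap_0_1, taq_0_1, tap_0_2, taq_0_2, tap_0_3, taq_0_3, z_0_4, z_0_5, z_0_6, z_0_7, z_1_2, z_1_3, z_1_4, z_1_5, z_1_6, z_1_7, z_2_3, z_2_4, z_2_5, z_2_6, z_2_7, tap_3_4, taq_3_4, z_3_5, z_3_6, z_3_7, tap_4_5, taq_4_5, z_4_6, z_4_7, tap_5_6, taq_5_6, z_5_7, tap_6_7, taq_6_7, T.w_pos u0, T.w_pos u1, T.w_pos u2, T.w_pos u3, T.w_pos u4, T.w_pos u5, T.w_pos u6, T.w_pos u7]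
      · -- (6,7) Dm
        exfalso
        have key := Groth.Agent.Helper6.NT.negfun8 T h2 u0 u1 u2 u3 u4 u5 u6 u7 (by norm_num) 2 1 1 2 2 2 2 2 (by norm_num) (by norm_num)
        linarith only [key, tap_0_1, taq_0_1, tap_0_2, taq_0_2, tap_0_3, taq_0_3, z_0_4, z_0_5, z_0_6, z_0_7, z_1_2, z_1_3, z_1_4, z_1_5, z_1_6, z_1_7, z_2_3, z_2_4, z_2_5, z_2_6, z_2_7, tap_3_4, taq_3_4, z_3_5, z_3_6, z_3_7, tap_4_5, taq_4_5, z_4_6, z_4_7, tap_5_6, taq_5_6, z_5_7, tap_6_7, taq_6_7, T.w_pos u0, T.w_pos u1, T.w_pos u2, T.w_pos u3, T.w_pos u4, T.w_pos u5, T.w_pos u6, T.w_pos u7]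
      · -- (6,7) Tp
        exfalso
        have key := Groth.Agent.Helper6.NT.negfun3 T h2 u5 u6 u7 (by norm_num) 1 2 1 (by norm_num) (by norm_num)
        linarith only [key, tap_5_6, taq_5_6, z_5_7, tap_6_7, taq_6_7, T.w_pos u5, T.w_pos u6, T.w_pos u7]
      · -- (6,7) Tm
        exfalso
        have key := Groth.Agent.Helper6.NT.negfun3 T h2 u5 u6 u7 (by norm_num) 1 2 3 (by norm_num) (by norm_num)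
        linarith only [key, tap_5_6, taq_5_6, z_5_7, tap_6_7, taq_6_7, T.w_pos u5, T.w_pos u6, T.w_pos u7]
    · push Not at hx
      have cl_6 := hx
      clear hx
      exfalso
      refine Groth.Agent.Helper6.NT.closed_contra T [u0, u1, u2, u3, u4, u5, u6] (by simp) (by simp) ?_
      intro i hi j hj
      simp only [List.mem_cons, List.not_mem_nil, or_false, not_or] at hi hj
      rcases hi with rfl | rfl | rfl | rfl | rfl | rfl | rfl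
      · exact cl_0 j ⟨hj.1, hj.2.1, hj.2.2.1, hj.2.2.2.1⟩
      · exact cl_1 j ⟨hj.1, hj.2.1, hj.2.2.1, hj.2.2.2.1⟩
      · exact cl_2 j ⟨hj.1, hj.2.1, hj.2.2.1, hj.2.2.2.1⟩
      · exact cl_3 j ⟨hj.1, hj.2.1, hj.2.2.1, hj.2.2.2.1, hj.2.2.2.2.1⟩
      · exact cl_4 j ⟨hj.1, hj.2.1, hj.2.2.1, hj.2.2.2.1, hj.2.2.2.2.1, hj.2.2.2.2.2.1⟩
      · exact cl_5 j ⟨hj.1, hj.2.1, hj.2.2.1, hj.2.2.2.1, hj.2.2.2.2.1, hj.2.2.2.2.2.1, hj.2.2.2.2.2.2⟩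
      · exact cl_6 j ⟨hj.1, hj.2.1, hj.2.2.1, hj.2.2.2.1, hj.2.2.2.2.1, hj.2.2.2.2.2.1, hj.2.2.2.2.2.2⟩

theorem cut9_12 (T : Models.NumericalType 9) (h2 : ∀ i, T.IsMinusTwo i) (u0 u1 u2 u3 u4 : Fin 9)
    (hn_1_0 : u1 ≠ u0)
    (e_0_1 : T.a u0 u1 ≠ 0)
    (tw_0_1 : T.w u1 = T.w u0)
    (tap_0_1 : T.a u0 u1 = T.w u0)
    (taq_0_1 : T.a u0 u1 = T.w u1)
    (hn_2_0 : u2 ≠ u0)
    (hn_2_1 : u2 ≠ u1)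
    (e_0_2 : T.a u0 u2 ≠ 0)
    (tw_0_2 : T.w u2 = T.w u0)
    (tap_0_2 : T.a u0 u2 = T.w u0)
    (taq_0_2 : T.a u0 u2 = T.w u2)
    (z_1_2 : T.a u1 u2 = 0)
    (hn_3_0 : u3 ≠ u0)
    (hn_3_1 : u3 ≠ u1)
    (hn_3_2 : u3 ≠ u2)
    (e_0_3 : T.a u0 u3 ≠ 0)
    (tw_0_3 : T.w u3 = T.w u0)
    (tap_0_3 : T.a u0 u3 = T.w u0)
    (taq_0_3 : T.a u0 u3 = T.w u3)
    (z_1_3 : T.a u1 u3 = 0)
    (z_2_3 : T.a u2 u3 = 0)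
    (cl_0 : ∀ j : Fin 9, (j ≠ u0 ∧ j ≠ u1 ∧ j ≠ u2 ∧ j ≠ u3) → T.a u0 j = 0)
    (cl_1 : ∀ j : Fin 9, (j ≠ u0 ∧ j ≠ u1 ∧ j ≠ u2 ∧ j ≠ u3) → T.a u1 j = 0)
    (cl_2 : ∀ j : Fin 9, (j ≠ u0 ∧ j ≠ u1 ∧ j ≠ u2 ∧ j ≠ u3) → T.a u2 j = 0)
    (hn_4_0 : u4 ≠ u0)
    (hn_4_1 : u4 ≠ u1)
    (hn_4_2 : u4 ≠ u2)
    (hn_4_3 : u4 ≠ u3)
    (e_3_4 : T.a u3 u4 ≠ 0)
    (z_0_4 : T.a u0 u4 = 0)
    (z_1_4 : T.a u1 u4 = 0)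
    (z_2_4 : T.a u2 u4 = 0)
    (tw_3_4 : T.w u4 = T.w u3)
    (tap_3_4 : T.a u3 u4 = T.w u3)
    (taq_3_4 : T.a u3 u4 = T.w u4) :
    ∃ (σ : Equiv.Perm (Fin 9)) (m w : ℤ), ((T.m (σ 0) = m ∧ T.m (σ 1) = m ∧ T.m (σ 2) = m ∧ T.m (σ 3) = m ∧ T.m (σ 4) = m ∧ T.m (σ 5) = m ∧ T.m (σ 6) = m ∧ T.m (σ 7) = m ∧ T.m (σ 8) = m ∧ T.w (σ 0) = w ∧ T.w (σ 1) = w ∧ T.w (σ 2) = w ∧ T.w (σ 3) = w ∧ T.w (σ 4) = w ∧ T.w (σ 5) = w ∧ T.w (σ 6) = w ∧ T.w (σ 7) = w ∧ T.w (σ 8) = w ∧ T.a (σ 0) (σ 0) = -2 * w ∧ T.a (σ 0) (σ 1) = w ∧ T.a (σ 0) (σ 2) = 0 ∧ T.a (σ 0) (σ 3) = 0 ∧ T.a (σ 0) (σ 4) = 0 ∧ T.a (σ 0) (σ 5) = 0 ∧ T.a (σ 0) (σ 6) = 0 ∧ T.a (σ 0) (σ 7) = 0 ∧ T.a (σ 0) (σ 8) = w ∧ T.a (σ 1) (σ 1) = -2 * w ∧ T.a (σ 1) (σ 2) = w ∧ T.a (σ 1) (σ 3) = 0 ∧ T.a (σ 1) (σ 4) = 0 ∧ T.a (σ 1) (σ 5) = 0 ∧ T.a (σ 1) (σ 6)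 = 0 ∧ T.a (σ 1) (σ 7) = 0 ∧ T.a (σ 1) (σ 8) = 0 ∧ T.a (σ 2) (σ 2) = -2 * w ∧ T.a (σ 2) (σ 3) = w ∧ T.a (σ 2) (σ 4) = 0 ∧ T.a (σ 2) (σ 5) = 0 ∧ T.a (σ 2) (σ 6) = 0 ∧ T.a (σ 2) (σ 7) = 0 ∧ T.a (σ 2) (σ 8) = 0 ∧ T.a (σ 3) (σ 3) = -2 * w ∧ T.a (σ 3) (σ 4) = w ∧ T.a (σ 3) (σ 5) = 0 ∧ T.a (σ 3) (σ 6) = 0 ∧ T.a (σ 3) (σ 7) = 0 ∧ T.a (σ 3) (σ 8) = 0 ∧ T.a (σ 4) (σ 4) = -2 * w ∧ T.a (σ 4) (σ 5) = w ∧ T.a (σ 4) (σ 6) = 0 ∧ T.a (σ 4) (σ 7) = 0 ∧ T.a (σ 4) (σ 8) = 0 ∧ T.a (σ 5) (σ 5) = -2 * w ∧ T.a (σ 5) (σ 6) = w ∧ T.a (σ 5) (σ 7) = 0 ∧ T.a (σ 5) (σ 8) = 0 ∧ T.a (σ 6) (σ 6) = -2 * w ∧ T.a (σ 6) (σ 7) = w ∧ T.a (σ 6) (σ 8) = 0 ∧ T.a (σ 7) (σ 7) = -2 * w ∧ T.a (σ 7) (σ 8) = w ∧ T.a (σ 8) (σ 8) = -2 * w) ∨ (T.m (σ 0) = 2 * m ∧ T.m (σ 1) = 2 * m ∧ T.m (σ 2) = 2 * m ∧ T.m (σ 3) = 2 * m ∧ T.m (σ 4) = 2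 * m ∧ T.m (σ 5) = 2 * m ∧ T.m (σ 6) = 2 * m ∧ T.m (σ 7) = 2 * m ∧ T.m (σ 8) = m ∧ T.w (σ 0) = w ∧ T.w (σ 1) = 2 * w ∧ T.w (σ 2) = 2 * w ∧ T.w (σ 3) = 2 * w ∧ T.w (σ 4) = 2 * w ∧ T.w (σ 5) = 2 * w ∧ T.w (σ 6) = 2 * w ∧ T.w (σ 7) = 2 * w ∧ T.w (σ 8) = 4 * w ∧ T.a (σ 0) (σ 0) = -2 * w ∧ T.a (σ 0) (σ 1) = 2 * w ∧ T.a (σ 0) (σ 2) = 0 ∧ T.a (σ 0) (σ 3) = 0 ∧ T.a (σ 0) (σ 4) = 0 ∧ T.a (σ 0) (σ 5) = 0 ∧ T.a (σ 0) (σ 6) = 0 ∧ T.a (σ 0) (σ 7) = 0 ∧ T.a (σ 0) (σ 8) = 0 ∧ T.a (σ 1) (σ 1) = -4 * w ∧ T.a (σ 1) (σ 2) = 2 * w ∧ T.a (σ 1) (σ 3) = 0 ∧ T.a (σ 1) (σ 4) = 0 ∧ T.a (σ 1) (σ 5) = 0 ∧ T.a (σ 1) (σ 6) = 0 ∧ T.a (σ 1) (σ 7) = 0 ∧ T.a (σ 1) (σ 8) = 0 ∧ T.a (σ 2) (σ 2) = -4 * w ∧ T.a (σ 2) (σ 3) = 2 * w ∧ T.a (σ 2) (σ 4) = 0 ∧ T.a (σ 2) (σ 5) = 0 ∧ T.a (σ 2) (σ 6) = 0 ∧ T.a (σ 2) (σ 7) = 0 ∧ T.a (σ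 2) (σ 8) = 0 ∧ T.a (σ 3) (σ 3) = -4 * w ∧ T.a (σ 3) (σ 4) = 2 * w ∧ T.a (σ 3) (σ 5) = 0 ∧ T.a (σ 3) (σ 6) = 0 ∧ T.a (σ 3) (σ 7) = 0 ∧ T.a (σ 3) (σ 8) = 0 ∧ T.a (σ 4) (σ 4) = -4 * w ∧ T.a (σ 4) (σ 5) = 2 * w ∧ T.a (σ 4) (σ 6) = 0 ∧ T.a (σ 4) (σ 7) = 0 ∧ T.a (σ 4) (σ 8) = 0 ∧ T.a (σ 5) (σ 5) = -4 * w ∧ T.a (σ 5) (σ 6) = 2 * w ∧ T.a (σ 5) (σ 7) = 0 ∧ T.a (σ 5) (σ 8) = 0 ∧ T.a (σ 6) (σ 6) = -4 * w ∧ T.a (σ 6) (σ 7) = 2 * w ∧ T.a (σ 6) (σ 8) = 0 ∧ T.a (σ 7) (σ 7) = -4 * w ∧ T.a (σ 7) (σ 8) = 4 * w ∧ T.a (σ 8) (σ 8) = -8 * w) ∨ (T.m (σ 0) = m ∧ T.m (σ 1) = m ∧ T.m (σ 2) = m ∧ T.m (σ 3) = m ∧ T.m (σ 4) = m ∧ T.m (σ 5) = m ∧ T.m (σ 6) = m ∧ T.m (σ 7) = m ∧ T.m (σ 8) = m ∧ T.w (σ 0) = w ∧ T.w (σ 1) = 2 * w ∧ T.w (σ 2) = 2 * w ∧ T.w (σ 3) = 2 * w ∧ T.w (σ 4) = 2 * w ∧ T.w (σ 5) = 2 * w ∧ T.w (σ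 6) = 2 * w ∧ T.w (σ 7) = 2 * w ∧ T.w (σ 8) = w ∧ T.a (σ 0) (σ 0) = -2 * w ∧ T.a (σ 0) (σ 1) = 2 * w ∧ T.a (σ 0) (σ 2) = 0 ∧ T.a (σ 0) (σ 3) = 0 ∧ T.a (σ 0) (σ 4) = 0 ∧ T.a (σ 0) (σ 5) = 0 ∧ T.a (σ 0) (σ 6) = 0 ∧ T.a (σ 0) (σ 7) = 0 ∧ T.a (σ 0) (σ 8) = 0 ∧ T.a (σ 1) (σ 1) = -4 * w ∧ T.a (σ 1) (σ 2) = 2 * w ∧ T.a (σ 1) (σ 3) = 0 ∧ T.a (σ 1) (σ 4) = 0 ∧ T.a (σ 1) (σ 5) = 0 ∧ T.a (σ 1) (σ 6) = 0 ∧ T.a (σ 1) (σ 7) = 0 ∧ T.a (σ 1) (σ 8) = 0 ∧ T.a (σ 2) (σ 2) = -4 * w ∧ T.a (σ 2) (σ 3) = 2 * w ∧ T.a (σ 2) (σ 4) = 0 ∧ T.a (σ 2) (σ 5) = 0 ∧ T.a (σ 2) (σ 6) = 0 ∧ T.a (σ 2) (σ 7) = 0 ∧ T.a (σ 2) (σ 8) = 0 ∧ T.a (σ 3) (σ 3) = -4 * w ∧ T.a (σ 3) (σ 4) = 2 * w ∧ T.a (σ 3) (σ 5) = 0 ∧ T.a (σ 3) (σ 6) = 0 ∧ T.a (σ 3) (σ 7) = 0 ∧ T.a (σ 3) (σ 8) = 0 ∧ T.a (σ 4) (σ 4) = -4 * w ∧ T.a (σ 4) (σ 5) = 2 * w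 ∧ T.a (σ 4) (σ 6) = 0 ∧ T.a (σ 4) (σ 7) = 0 ∧ T.a (σ 4) (σ 8) = 0 ∧ T.a (σ 5) (σ 5) = -4 * w ∧ T.a (σ 5) (σ 6) = 2 * w ∧ T.a (σ 5) (σ 7) = 0 ∧ T.a (σ 5) (σ 8) = 0 ∧ T.a (σ 6) (σ 6) = -4 * w ∧ T.a (σ 6) (σ 7) = 2 * w ∧ T.a (σ 6) (σ 8) = 0 ∧ T.a (σ 7) (σ 7) = -4 * w ∧ T.a (σ 7) (σ 8) = 2 * w ∧ T.a (σ 8) (σ 8) = -2 * w) ∨ (T.m (σ 0) = m ∧ T.m (σ 1) = 2 * m ∧ T.m (σ 2) = 2 * m ∧ T.m (σ 3) = 2 * m ∧ T.m (σ 4) = 2 * m ∧ T.m (σ 5) = 2 * m ∧ T.m (σ 6) = 2 * m ∧ T.m (σ 7) = 2 * m ∧ T.m (σ 8) = m ∧ T.w (σ 0) = 2 * w ∧ T.w (σ 1) = w ∧ T.w (σ 2) = w ∧ T.w (σ 3) = w ∧ T.w (σ 4) = w ∧ T.w (σ 5) = w ∧ T.w (σ 6) = w ∧ T.w (σ 7) = w ∧ T.w (σ 8) = 2 * w ∧ T.a (σ 0) (σ 0) = -4 * w ∧ T.a (σ 0) (σ 1) = 2 * w ∧ T.a (σ 0) (σ 2) = 0 ∧ T.a (σ 0) (σ 3) = 0 ∧ T.a (σ 0) (σ 4) = 0 ∧ T.a (σ 0) (σ 5) = 0 ∧ T.a (σ 0)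 (σ 6) = 0 ∧ T.a (σ 0) (σ 7) = 0 ∧ T.a (σ 0) (σ 8) = 0 ∧ T.a (σ 1) (σ 1) = -2 * w ∧ T.a (σ 1) (σ 2) = w ∧ T.a (σ 1) (σ 3) = 0 ∧ T.a (σ 1) (σ 4) = 0 ∧ T.a (σ 1) (σ 5) = 0 ∧ T.a (σ 1) (σ 6) = 0 ∧ T.a (σ 1) (σ 7) = 0 ∧ T.a (σ 1) (σ 8) = 0 ∧ T.a (σ 2) (σ 2) = -2 * w ∧ T.a (σ 2) (σ 3) = w ∧ T.a (σ 2) (σ 4) = 0 ∧ T.a (σ 2) (σ 5) = 0 ∧ T.a (σ 2) (σ 6) = 0 ∧ T.a (σ 2) (σ 7) = 0 ∧ T.a (σ 2) (σ 8) = 0 ∧ T.a (σ 3) (σ 3) = -2 * w ∧ T.a (σ 3) (σ 4) = w ∧ T.a (σ 3) (σ 5) = 0 ∧ T.a (σ 3) (σ 6) = 0 ∧ T.a (σ 3) (σ 7) = 0 ∧ T.a (σ 3) (σ 8) = 0 ∧ T.a (σ 4) (σ 4) = -2 * w ∧ T.a (σ 4) (σ 5) = w ∧ T.a (σ 4) (σ 6) = 0 ∧ T.a (σ 4) (σ 7) = 0 ∧ T.a (σ 4) (σ 8) = 0 ∧ T.a (σ 5) (σ 5) = -2 * w ∧ T.a (σ 5) (σ 6) = w ∧ T.a (σ 5) (σ 7) = 0 ∧ T.a (σ 5) (σ 8) = 0 ∧ T.a (σ 6) (σ 6) = -2 * w ∧ T.a (σ 6) (σ 7) = w ∧ T.a (σ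 6) (σ 8) = 0 ∧ T.a (σ 7) (σ 7) = -2 * w ∧ T.a (σ 7) (σ 8) = 2 * w ∧ T.a (σ 8) (σ 8) = -4 * w) ∨ (T.m (σ 0) = m ∧ T.m (σ 1) = 2 * m ∧ T.m (σ 2) = 2 * m ∧ T.m (σ 3) = 2 * m ∧ T.m (σ 4) = 2 * m ∧ T.m (σ 5) = 2 * m ∧ T.m (σ 6) = 2 * m ∧ T.m (σ 7) = m ∧ T.m (σ 8) = m ∧ T.w (σ 0) = 2 * w ∧ T.w (σ 1) = w ∧ T.w (σ 2) = w ∧ T.w (σ 3) = w ∧ T.w (σ 4) = w ∧ T.w (σ 5) = w ∧ T.w (σ 6) = w ∧ T.w (σ 7) = w ∧ T.w (σ 8) = w ∧ T.a (σ 0) (σ 0) = -4 * w ∧ T.a (σ 0) (σ 1) = 2 * w ∧ T.a (σ 0) (σ 2) = 0 ∧ T.a (σ 0) (σ 3) = 0 ∧ T.a (σ 0) (σ 4) = 0 ∧ T.a (σ 0) (σ 5) = 0 ∧ T.a (σ 0) (σ 6) = 0 ∧ T.a (σ 0) (σ 7) = 0 ∧ T.a (σ 0) (σ 8) = 0 ∧ T.a (σ 1) (σ 1) = -2 * w ∧ T.a (σ 1) (σ 2) = w ∧ T.a (σ 1) (σ 3) = 0 ∧ T.a (σ 1) (σ 4) = 0 ∧ T.a (σ 1) (σ 5) = 0 ∧ T.a (σ 1) (σ 6) = 0 ∧ T.a (σ 1) (σ 7) = 0 ∧ T.a (σ 1) (σ 8) =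 0 ∧ T.a (σ 2) (σ 2) = -2 * w ∧ T.a (σ 2) (σ 3) = w ∧ T.a (σ 2) (σ 4) = 0 ∧ T.a (σ 2) (σ 5) = 0 ∧ T.a (σ 2) (σ 6) = 0 ∧ T.a (σ 2) (σ 7) = 0 ∧ T.a (σ 2) (σ 8) = 0 ∧ T.a (σ 3) (σ 3) = -2 * w ∧ T.a (σ 3) (σ 4) = w ∧ T.a (σ 3) (σ 5) = 0 ∧ T.a (σ 3) (σ 6) = 0 ∧ T.a (σ 3) (σ 7) = 0 ∧ T.a (σ 3) (σ 8) = 0 ∧ T.a (σ 4) (σ 4) = -2 * w ∧ T.a (σ 4) (σ 5) = w ∧ T.a (σ 4) (σ 6) = 0 ∧ T.a (σ 4) (σ 7) = 0 ∧ T.a (σ 4) (σ 8) = 0 ∧ T.a (σ 5) (σ 5) = -2 * w ∧ T.a (σ 5) (σ 6) = w ∧ T.a (σ 5) (σ 7) = 0 ∧ T.a (σ 5) (σ 8) = 0 ∧ T.a (σ 6) (σ 6) = -2 * w ∧ T.a (σ 6) (σ 7) = w ∧ T.a (σ 6) (σ 8) = w ∧ T.a (σ 7) (σ 7) = -2 * w ∧ T.a (σ 7) (σ 8) = 0 ∧ T.a (σ 8) (σ 8) = -2 * w) ∨ (T.m (σ 0) = 2 * m ∧ T.m (σ 1) = 2 * m ∧ T.m (σ 2) = 2 * m ∧ T.m (σ 3) = 2 * m ∧ T.m (σ 4) = 2 * m ∧ T.m (σ 5) = 2 * m ∧ T.m (σ 6) = 2 * m ∧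 T.m (σ 7) = m ∧ T.m (σ 8) = m ∧ T.w (σ 0) = w ∧ T.w (σ 1) = 2 * w ∧ T.w (σ 2) = 2 * w ∧ T.w (σ 3) = 2 * w ∧ T.w (σ 4) = 2 * w ∧ T.w (σ 5) = 2 * w ∧ T.w (σ 6) = 2 * w ∧ T.w (σ 7) = 2 * w ∧ T.w (σ 8) = 2 * w ∧ T.a (σ 0) (σ 0) = -2 * w ∧ T.a (σ 0) (σ 1) = 2 * w ∧ T.a (σ 0) (σ 2) = 0 ∧ T.a (σ 0) (σ 3) = 0 ∧ T.a (σ 0) (σ 4) = 0 ∧ T.a (σ 0) (σ 5) = 0 ∧ T.a (σ 0) (σ 6) = 0 ∧ T.a (σ 0) (σ 7) = 0 ∧ T.a (σ 0) (σ 8) = 0 ∧ T.a (σ 1) (σ 1) = -4 * w ∧ T.a (σ 1) (σ 2) = 2 * w ∧ T.a (σ 1) (σ 3) = 0 ∧ T.a (σ 1) (σ 4) = 0 ∧ T.a (σ 1) (σ 5) = 0 ∧ T.a (σ 1) (σ 6) = 0 ∧ T.a (σ 1) (σ 7) = 0 ∧ T.a (σ 1) (σ 8) = 0 ∧ T.a (σ 2) (σ 2) = -4 * w ∧ T.a (σ 2) (σ 3) = 2 * w ∧ T.a (σ 2) (σ 4) = 0 ∧ T.a (σ 2) (σ 5) = 0 ∧ T.a (σ 2) (σ 6) = 0 ∧ T.a (σ 2) (σ 7) = 0 ∧ T.a (σ 2) (σ 8) = 0 ∧ T.a (σ 3) (σ 3) = -4 * w ∧ T.a (σ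 3) (σ 4) = 2 * w ∧ T.a (σ 3) (σ 5) = 0 ∧ T.a (σ 3) (σ 6) = 0 ∧ T.a (σ 3) (σ 7) = 0 ∧ T.a (σ 3) (σ 8) = 0 ∧ T.a (σ 4) (σ 4) = -4 * w ∧ T.a (σ 4) (σ 5) = 2 * w ∧ T.a (σ 4) (σ 6) = 0 ∧ T.a (σ 4) (σ 7) = 0 ∧ T.a (σ 4) (σ 8) = 0 ∧ T.a (σ 5) (σ 5) = -4 * w ∧ T.a (σ 5) (σ 6) = 2 * w ∧ T.a (σ 5) (σ 7) = 0 ∧ T.a (σ 5) (σ 8) = 0 ∧ T.a (σ 6) (σ 6) = -4 * w ∧ T.a (σ 6) (σ 7) = 2 * w ∧ T.a (σ 6) (σ 8) = 2 * w ∧ T.a (σ 7) (σ 7) = -4 * w ∧ T.a (σ 7) (σ 8) = 0 ∧ T.a (σ 8) (σ 8) = -4 * w) ∨ (T.m (σ 0) = m ∧ T.m (σ 1) = m ∧ T.m (σ 2) = 2 * m ∧ T.m (σ 3) = 2 * m ∧ T.m (σ 4) = 2 * m ∧ T.m (σ 5) = 2 * m ∧ T.m (σ 6) = 2 * m ∧ T.m (σ 7) = m ∧ T.m (σ 8) = m ∧ T.w (σ 0) = w ∧ T.w (σ 1) = w ∧ T.w (σ 2) = w ∧ T.w (σ 3) = w ∧ T.w (σ 4) = w ∧ T.w (σ 5) = w ∧ T.w (σ 6) = w ∧ T.w (σ 7) = w ∧ T.w (σ 8) = w ∧ T.a (σ 0)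 (σ 0) = -2 * w ∧ T.a (σ 0) (σ 1) = 0 ∧ T.a (σ 0) (σ 2) = w ∧ T.a (σ 0) (σ 3) = 0 ∧ T.a (σ 0) (σ 4) = 0 ∧ T.a (σ 0) (σ 5) = 0 ∧ T.a (σ 0) (σ 6) = 0 ∧ T.a (σ 0) (σ 7) = 0 ∧ T.a (σ 0) (σ 8) = 0 ∧ T.a (σ 1) (σ 1) = -2 * w ∧ T.a (σ 1) (σ 2) = w ∧ T.a (σ 1) (σ 3) = 0 ∧ T.a (σ 1) (σ 4) = 0 ∧ T.a (σ 1) (σ 5) = 0 ∧ T.a (σ 1) (σ 6) = 0 ∧ T.a (σ 1) (σ 7) = 0 ∧ T.a (σ 1) (σ 8) = 0 ∧ T.a (σ 2) (σ 2) = -2 * w ∧ T.a (σ 2) (σ 3) = w ∧ T.a (σ 2) (σ 4) = 0 ∧ T.a (σ 2) (σ 5) = 0 ∧ T.a (σ 2) (σ 6) = 0 ∧ T.a (σ 2) (σ 7) = 0 ∧ T.a (σ 2) (σ 8) = 0 ∧ T.a (σ 3) (σ 3) = -2 * w ∧ T.a (σ 3) (σ 4) = w ∧ T.a (σ 3) (σ 5) = 0 ∧ T.a (σ 3) (σ 6) = 0 ∧ T.a (σ 3) (σ 7) = 0 ∧ T.a (σ 3) (σ 8) = 0 ∧ T.a (σ 4) (σ 4) = -2 * w ∧ T.a (σ 4) (σ 5) = w ∧ T.a (σ 4) (σ 6) = 0 ∧ T.a (σ 4) (σ 7) = 0 ∧ T.a (σ 4) (σ 8) = 0 ∧ T.a (σ 5) (σ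 5) = -2 * w ∧ T.a (σ 5) (σ 6) = w ∧ T.a (σ 5) (σ 7) = 0 ∧ T.a (σ 5) (σ 8) = 0 ∧ T.a (σ 6) (σ 6) = -2 * w ∧ T.a (σ 6) (σ 7) = w ∧ T.a (σ 6) (σ 8) = w ∧ T.a (σ 7) (σ 7) = -2 * w ∧ T.a (σ 7) (σ 8) = 0 ∧ T.a (σ 8) (σ 8) = -2 * w) ∨ (T.m (σ 0) = m ∧ T.m (σ 1) = 2 * m ∧ T.m (σ 2) = 3 * m ∧ T.m (σ 3) = 4 * m ∧ T.m (σ 4) = 5 * m ∧ T.m (σ 5) = 6 * m ∧ T.m (σ 6) = 4 * m ∧ T.m (σ 7) = 2 * m ∧ T.m (σ 8) = 3 * m ∧ T.w (σ 0) = w ∧ T.w (σ 1) = w ∧ T.w (σ 2) = w ∧ T.w (σ 3) = w ∧ T.w (σ 4) = w ∧ T.w (σ 5) = w ∧ T.w (σ 6) = w ∧ T.w (σ 7) = w ∧ T.w (σ 8) = w ∧ T.a (σ 0) (σ 0) = -2 * w ∧ T.a (σ 0) (σ 1) = w ∧ T.a (σ 0) (σ 2) = 0 ∧ T.a (σ 0) (σ 3) = 0 ∧ T.a (σ 0) (σ 4) = 0 ∧ T.a (σ 0) (σ 5) = 0 ∧ T.a (σ 0) (σ 6) = 0 ∧ T.a (σ 0) (σ 7) = 0 ∧ T.a (σ 0) (σ 8) = 0 ∧ T.a (σ 1) (σ 1) = -2 * w ∧ T.a (σ 1) (σ 2) =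 w ∧ T.a (σ 1) (σ 3) = 0 ∧ T.a (σ 1) (σ 4) = 0 ∧ T.a (σ 1) (σ 5) = 0 ∧ T.a (σ 1) (σ 6) = 0 ∧ T.a (σ 1) (σ 7) = 0 ∧ T.a (σ 1) (σ 8) = 0 ∧ T.a (σ 2) (σ 2) = -2 * w ∧ T.a (σ 2) (σ 3) = w ∧ T.a (σ 2) (σ 4) = 0 ∧ T.a (σ 2) (σ 5) = 0 ∧ T.a (σ 2) (σ 6) = 0 ∧ T.a (σ 2) (σ 7) = 0 ∧ T.a (σ 2) (σ 8) = 0 ∧ T.a (σ 3) (σ 3) = -2 * w ∧ T.a (σ 3) (σ 4) = w ∧ T.a (σ 3) (σ 5) = 0 ∧ T.a (σ 3) (σ 6) = 0 ∧ T.a (σ 3) (σ 7) = 0 ∧ T.a (σ 3) (σ 8) = 0 ∧ T.a (σ 4) (σ 4) = -2 * w ∧ T.a (σ 4) (σ 5) = w ∧ T.a (σ 4) (σ 6) = 0 ∧ T.a (σ 4) (σ 7) = 0 ∧ T.a (σ 4) (σ 8) = 0 ∧ T.a (σ 5) (σ 5) = -2 * w ∧ T.a (σ 5) (σ 6) = w ∧ T.a (σ 5) (σ 7) = 0 ∧ T.a (σ 5) (σ 8) = w ∧ T.a (σ 6) (σ 6) = -2 * w ∧ T.a (σ 6) (σ 7) = w ∧ T.a (σ 6) (σ 8) = 0 ∧ T.a (σ 7) (σ 7) = -2 * w ∧ T.a (σ 7) (σ 8) = 0 ∧ T.a (σ 8) (σ 8) = -2 * w)) := by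
  by_cases hx : ∃ j, (j ≠ u0 ∧ j ≠ u1 ∧ j ≠ u2 ∧ j ≠ u3 ∧ j ≠ u4) ∧ T.a u3 j ≠ 0
  · obtain ⟨u5, ⟨hn_5_0, hn_5_1, hn_5_2, hn_5_3, hn_5_4⟩, e_3_5⟩ := hx
    have z_0_5 : T.a u0 u5 = 0 := cl_0 u5 ⟨hn_5_0, hn_5_1, hn_5_2, hn_5_3⟩
    have z_1_5 : T.a u1 u5 = 0 := cl_1 u5 ⟨hn_5_0, hn_5_1, hn_5_2, hn_5_3⟩
    have z_2_5 : T.a u2 u5 = 0 := cl_2 u5 ⟨hn_5_0, hn_5_1, hn_5_2, hn_5_3⟩
    rcases Groth.Agent.Helper6.NT.edge5 T h2 (by norm_num) u3 u5 hn_5_3.symm e_3_5 with ⟨tw_3_5, tap_3_5, taq_3_5⟩ | ⟨tw_3_5, tap_3_5, taq_3_5⟩ | ⟨tw_3_5, tap_3_5, taq_3_5⟩ | ⟨tw_3_5, tap_3_5, taq_3_5⟩ | ⟨tw_3_5, tap_3_5, taq_3_5⟩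
    · -- (3,5) S
      exfalso
      have key := Groth.Agent.Helper6.NT.negfun6 T h2 u0 u1 u2 u3 u4 u5 (by norm_num) 2 1 1 2 1 1 (by norm_num) (by norm_num)
      linarith only [key, tap_0_1, taq_0_1, tap_0_2, taq_0_2, tap_0_3, taq_0_3, z_0_4, z_0_5, z_1_2, z_1_3, z_1_4, z_1_5, z_2_3, z_2_4, z_2_5, tap_3_4, taq_3_4, tap_3_5, taq_3_5, T.offDiag_nonneg u4 u5 hn_5_4.symm, T.w_pos u0, T.w_pos u1, T.w_pos u2, T.w_pos u3, T.w_pos u4, T.w_pos u5]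
    · -- (3,5) Dp
      exfalso
      have key := Groth.Agent.Helper6.NT.negfun4 T h2 u0 u3 u4 u5 (by norm_num) 1 2 1 1 (by norm_num) (by norm_num)
      linarith only [key, tap_0_3, taq_0_3, z_0_4, z_0_5, tap_3_4, taq_3_4, tap_3_5, taq_3_5, T.offDiag_nonneg u4 u5 hn_5_4.symm, T.w_pos u0, T.w_pos u3, T.w_pos u4, T.w_pos u5]
    · -- (3,5) Dm
      exfalso
      have key := Groth.Agent.Helper6.NT.negfun4 T h2 u0 u3 u4 u5 (by norm_num) 1 2 1 2 (by norm_num) (by norm_num)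
      linarith only [key, tap_0_3, taq_0_3, z_0_4, z_0_5, tap_3_4, taq_3_4, tap_3_5, taq_3_5, T.offDiag_nonneg u4 u5 hn_5_4.symm, T.w_pos u0, T.w_pos u3, T.w_pos u4, T.w_pos u5]
    · -- (3,5) Tp
      exfalso
      have key := Groth.Agent.Helper6.NT.negfun3 T h2 u3 u4 u5 (by norm_num) 2 1 1 (by norm_num) (by norm_num)
      linarith only [key, tap_3_4, taq_3_4, tap_3_5, taq_3_5, T.offDiag_nonneg u4 u5 hn_5_4.symm, T.w_pos u3, T.w_pos u4, T.w_pos u5]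
    · -- (3,5) Tm
      exfalso
      have key := Groth.Agent.Helper6.NT.negfun3 T h2 u3 u4 u5 (by norm_num) 2 1 3 (by norm_num) (by norm_num)
      linarith only [key, tap_3_4, taq_3_4, tap_3_5, taq_3_5, T.offDiag_nonneg u4 u5 hn_5_4.symm, T.w_pos u3, T.w_pos u4, T.w_pos u5]
  · push Not at hx
    have cl_3 := hx
    clear hx
    by_cases hx : ∃ j, (j ≠ u0 ∧ j ≠ u1 ∧ j ≠ u2 ∧ j ≠ u3 ∧ j ≠ u4) ∧ T.a u4 j ≠ 0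
    · obtain ⟨u5, ⟨hn_5_0, hn_5_1, hn_5_2, hn_5_3, hn_5_4⟩, e_4_5⟩ := hx
      have z_0_5 : T.a u0 u5 = 0 := cl_0 u5 ⟨hn_5_0, hn_5_1, hn_5_2, hn_5_3⟩
      have z_1_5 : T.a u1 u5 = 0 := cl_1 u5 ⟨hn_5_0, hn_5_1, hn_5_2, hn_5_3⟩
      have z_2_5 : T.a u2 u5 = 0 := cl_2 u5 ⟨hn_5_0, hn_5_1, hn_5_2, hn_5_3⟩
      have z_3_5 : T.a u3 u5 = 0 := cl_3 u5 ⟨hn_5_0, hn_5_1, hn_5_2, hn_5_3, hn_5_4⟩
      rcases Groth.Agent.Helper6.NT.edge5 T h2 (by norm_num) u4 u5 hn_5_4.symm e_4_5 with ⟨tw_4_5, tap_4_5, taq_4_5⟩ | ⟨tw_4_5, tap_4_5, taq_4_5⟩ | ⟨tw_4_5, tap_4_5, taq_4_5⟩ | ⟨tw_4_5, tap_4_5, taq_4_5⟩ | ⟨tw_4_5, tap_4_5, taq_4_5⟩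
      · -- (4,5) S
        by_cases hx : ∃ j, (j ≠ u0 ∧ j ≠ u1 ∧ j ≠ u2 ∧ j ≠ u3 ∧ j ≠ u4 ∧ j ≠ u5) ∧ T.a u4 j ≠ 0
        · obtain ⟨u6, ⟨hn_6_0, hn_6_1, hn_6_2, hn_6_3, hn_6_4, hn_6_5⟩, e_4_6⟩ := hx
          have z_0_6 : T.a u0 u6 = 0 := cl_0 u6 ⟨hn_6_0, hn_6_1, hn_6_2, hn_6_3⟩
          have z_1_6 : T.a u1 u6 = 0 := cl_1 u6 ⟨hn_6_0, hn_6_1, hn_6_2, hn_6_3⟩
          have z_2_6 : T.a u2 u6 = 0 := cl_2 u6 ⟨hn_6_0, hn_6_1, hn_6_2, hn_6_3⟩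
          have z_3_6 : T.a u3 u6 = 0 := cl_3 u6 ⟨hn_6_0, hn_6_1, hn_6_2, hn_6_3, hn_6_4⟩
          rcases Groth.Agent.Helper6.NT.edge5 T h2 (by norm_num) u4 u6 hn_6_4.symm e_4_6 with ⟨tw_4_6, tap_4_6, taq_4_6⟩ | ⟨tw_4_6, tap_4_6, taq_4_6⟩ | ⟨tw_4_6, tap_4_6, taq_4_6⟩ | ⟨tw_4_6, tap_4_6, taq_4_6⟩ | ⟨tw_4_6, tap_4_6, taq_4_6⟩
          · -- (4,6) S
            exfalso
            have key := Groth.Agent.Helper6.NT.negfun7 T h2 u0 u1 u2 u3 u4 u5 u6 (by norm_num) 2 1 1 2 2 1 1 (by norm_num) (by norm_num)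
            linarith only [key, tap_0_1, taq_0_1, tap_0_2, taq_0_2, tap_0_3, taq_0_3, z_0_4, z_0_5, z_0_6, z_1_2, z_1_3, z_1_4, z_1_5, z_1_6, z_2_3, z_2_4, z_2_5, z_2_6, tap_3_4, taq_3_4, z_3_5, z_3_6, tap_4_5, taq_4_5, tap_4_6, taq_4_6, T.offDiag_nonneg u5 u6 hn_6_5.symm, T.w_pos u0, T.w_pos u1, T.w_pos u2, T.w_pos u3, T.w_pos u4, T.w_pos u5, T.w_pos u6]
          · -- (4,6) Dp
            exfalso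
            have key := Groth.Agent.Helper6.NT.negfun4 T h2 u3 u4 u5 u6 (by norm_num) 1 2 1 1 (by norm_num) (by norm_num)
            linarith only [key, tap_3_4, taq_3_4, z_3_5, z_3_6, tap_4_5, taq_4_5, tap_4_6, taq_4_6, T.offDiag_nonneg u5 u6 hn_6_5.symm, T.w_pos u3, T.w_pos u4, T.w_pos u5, T.w_pos u6]
          · -- (4,6) Dm
            exfalso
            have key := Groth.Agent.Helper6.NT.negfun4 T h2 u3 u4 u5 u6 (by norm_num) 1 2 1 2 (by norm_num) (by norm_num)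
            linarith only [key, tap_3_4, taq_3_4, z_3_5, z_3_6, tap_4_5, taq_4_5, tap_4_6, taq_4_6, T.offDiag_nonneg u5 u6 hn_6_5.symm, T.w_pos u3, T.w_pos u4, T.w_pos u5, T.w_pos u6]
          · -- (4,6) Tp
            exfalso
            have key := Groth.Agent.Helper6.NT.negfun3 T h2 u4 u5 u6 (by norm_num) 2 1 1 (by norm_num) (by norm_num)
            linarith only [key, tap_4_5, taq_4_5, tap_4_6, taq_4_6, T.offDiag_nonneg u5 u6 hn_6_5.symm, T.w_pos u4, T.w_pos u5, T.w_pos u6]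
          · -- (4,6) Tm
            exfalso
            have key := Groth.Agent.Helper6.NT.negfun3 T h2 u4 u5 u6 (by norm_num) 2 1 3 (by norm_num) (by norm_num)
            linarith only [key, tap_4_5, taq_4_5, tap_4_6, taq_4_6, T.offDiag_nonneg u5 u6 hn_6_5.symm, T.w_pos u4, T.w_pos u5, T.w_pos u6]
        · push Not at hx
          have cl_4 := hx
          clear hx
          by_cases hx : ∃ j, (j ≠ u0 ∧ j ≠ u1 ∧ j ≠ u2 ∧ j ≠ u3 ∧ j ≠ u4 ∧ j ≠ u5) ∧ T.a u5 j ≠ 0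
          · obtain ⟨u6, ⟨hn_6_0, hn_6_1, hn_6_2, hn_6_3, hn_6_4, hn_6_5⟩, e_5_6⟩ := hx
            have z_0_6 : T.a u0 u6 = 0 := cl_0 u6 ⟨hn_6_0, hn_6_1, hn_6_2, hn_6_3⟩
            have z_1_6 : T.a u1 u6 = 0 := cl_1 u6 ⟨hn_6_0, hn_6_1, hn_6_2, hn_6_3⟩
            have z_2_6 : T.a u2 u6 = 0 := cl_2 u6 ⟨hn_6_0, hn_6_1, hn_6_2, hn_6_3⟩
            have z_3_6 : T.a u3 u6 = 0 := cl_3 u6 ⟨hn_6_0, hn_6_1, hn_6_2, hn_6_3, hn_6_4⟩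
            have z_4_6 : T.a u4 u6 = 0 := cl_4 u6 ⟨hn_6_0, hn_6_1, hn_6_2, hn_6_3, hn_6_4, hn_6_5⟩
            rcases Groth.Agent.Helper6.NT.edge5 T h2 (by norm_num) u5 u6 hn_6_5.symm e_5_6 with ⟨tw_5_6, tap_5_6, taq_5_6⟩ | ⟨tw_5_6, tap_5_6, taq_5_6⟩ | ⟨tw_5_6, tap_5_6, taq_5_6⟩ | ⟨tw_5_6, tap_5_6, taq_5_6⟩ | ⟨tw_5_6, tap_5_6, taq_5_6⟩
            · -- (5,6) S
              exact Groth.Agent.Helper6.G1.cut9_13 T h2 u0 u1 u2 u3 u4 u5 u6 hn_1_0 e_0_1 tw_0_1 tap_0_1 taq_0_1 hn_2_0 hn_2_1 e_0_2 tw_0_2 tap_0_2 taq_0_2 z_1_2 hn_3_0 hn_3_1 hn_3_2 e_0_3 tw_0_3 tap_0_3 taq_0_3 z_1_3 z_2_3 cl_0 cl_1 cl_2 hn_4_0 hn_4_1 hn_4_2 hn_4_3 e_3_4 z_0_4 z_1_4 z_2_4 tw_3_4 tap_3_4 taq_3_4 cl_3 hn_5_0 hn_5_1 hn_5_2 hn_5_3 hn_5_4 e_4_5 z_0_5 z_1_5 z_2_5 z_3_5 tw_4_5 tap_4_5 taq_4_5 cl_4 hn_6_0 hn_6_1 hn_6_2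 hn_6_3 hn_6_4 hn_6_5 e_5_6 z_0_6 z_1_6 z_2_6 z_3_6 z_4_6 tw_5_6 tap_5_6 taq_5_6
            · -- (5,6) Dp
              exfalso
              have key := Groth.Agent.Helper6.NT.negfun7 T h2 u0 u1 u2 u3 u4 u5 u6 (by norm_num) 2 1 1 2 2 2 1 (by norm_num) (by norm_num)
              linarith only [key, tap_0_1, taq_0_1, tap_0_2, taq_0_2, tap_0_3, taq_0_3, z_0_4, z_0_5, z_0_6, z_1_2, z_1_3, z_1_4, z_1_5, z_1_6, z_2_3, z_2_4, z_2_5, z_2_6, tap_3_4, taq_3_4, z_3_5, z_3_6, tap_4_5, taq_4_5, z_4_6, tap_5_6, taq_5_6, T.w_pos u0, T.w_pos u1, T.w_pos u2, T.w_pos u3, T.w_pos u4, T.w_pos u5, T.w_pos u6]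
            · -- (5,6) Dm
              exfalso
              have key := Groth.Agent.Helper6.NT.negfun7 T h2 u0 u1 u2 u3 u4 u5 u6 (by norm_num) 2 1 1 2 2 2 2 (by norm_num) (by norm_num)
              linarith only [key, tap_0_1, taq_0_1, tap_0_2, taq_0_2, tap_0_3, taq_0_3, z_0_4, z_0_5, z_0_6, z_1_2, z_1_3, z_1_4, z_1_5, z_1_6, z_2_3, z_2_4, z_2_5, z_2_6, tap_3_4, taq_3_4, z_3_5, z_3_6, tap_4_5, taq_4_5, z_4_6, tap_5_6, taq_5_6, T.w_pos u0, T.w_pos u1, T.w_pos u2, T.w_pos u3, T.w_pos u4, T.w_pos u5, T.w_pos u6]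
            · -- (5,6) Tp
              exfalso
              have key := Groth.Agent.Helper6.NT.negfun3 T h2 u4 u5 u6 (by norm_num) 1 2 1 (by norm_num) (by norm_num)
              linarith only [key, tap_4_5, taq_4_5, z_4_6, tap_5_6, taq_5_6, T.w_pos u4, T.w_pos u5, T.w_pos u6]
            · -- (5,6) Tm
              exfalso
              have key := Groth.Agent.Helper6.NT.negfun3 T h2 u4 u5 u6 (by norm_num) 1 2 3 (by norm_num) (by norm_num)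
              linarith only [key, tap_4_5, taq_4_5, z_4_6, tap_5_6, taq_5_6, T.w_pos u4, T.w_pos u5, T.w_pos u6]
          · push Not at hx
            have cl_5 := hx
            clear hx
            exfalso
            refine Groth.Agent.Helper6.NT.closed_contra T [u0, u1, u2, u3, u4, u5] (by simp) (by simp) ?_
            intro i hi j hj
            simp only [List.mem_cons, List.not_mem_nil, or_false, not_or] at hi hj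
            rcases hi with rfl | rfl | rfl | rfl | rfl | rfl
            · exact cl_0 j ⟨hj.1, hj.2.1, hj.2.2.1, hj.2.2.2.1⟩
            · exact cl_1 j ⟨hj.1, hj.2.1, hj.2.2.1, hj.2.2.2.1⟩
            · exact cl_2 j ⟨hj.1, hj.2.1, hj.2.2.1, hj.2.2.2.1⟩
            · exact cl_3 j ⟨hj.1, hj.2.1, hj.2.2.1, hj.2.2.2.1, hj.2.2.2.2.1⟩
            · exact cl_4 j ⟨hj.1, hj.2.1, hj.2.2.1, hj.2.2.2.1, hj.2.2.2.2.1, hj.2.2.2.2.2⟩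
            · exact cl_5 j ⟨hj.1, hj.2.1, hj.2.2.1, hj.2.2.2.1, hj.2.2.2.2.1, hj.2.2.2.2.2⟩
      · -- (4,5) Dp
        exfalso
        have key := Groth.Agent.Helper6.NT.negfun6 T h2 u0 u1 u2 u3 u4 u5 (by norm_num) 2 1 1 2 2 1 (by norm_num) (by norm_num)
        linarith only [key, tap_0_1, taq_0_1, tap_0_2, taq_0_2, tap_0_3, taq_0_3, z_0_4, z_0_5, z_1_2, z_1_3, z_1_4, z_1_5, z_2_3, z_2_4, z_2_5, tap_3_4, taq_3_4, z_3_5, tap_4_5, taq_4_5, T.w_pos u0, T.w_pos u1, T.w_pos u2, T.w_pos u3, T.w_pos u4, T.w_pos u5]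
      · -- (4,5) Dm
        exfalso
        have key := Groth.Agent.Helper6.NT.negfun6 T h2 u0 u1 u2 u3 u4 u5 (by norm_num) 2 1 1 2 2 2 (by norm_num) (by norm_num)
        linarith only [key, tap_0_1, taq_0_1, tap_0_2, taq_0_2, tap_0_3, taq_0_3, z_0_4, z_0_5, z_1_2, z_1_3, z_1_4, z_1_5, z_2_3, z_2_4, z_2_5, tap_3_4, taq_3_4, z_3_5, tap_4_5, taq_4_5, T.w_pos u0, T.w_pos u1, T.w_pos u2, T.w_pos u3, T.w_pos u4, T.w_pos u5]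
      · -- (4,5) Tp
        exfalso
        have key := Groth.Agent.Helper6.NT.negfun3 T h2 u3 u4 u5 (by norm_num) 1 2 1 (by norm_num) (by norm_num)
        linarith only [key, tap_3_4, taq_3_4, z_3_5, tap_4_5, taq_4_5, T.w_pos u3, T.w_pos u4, T.w_pos u5]
      · -- (4,5) Tm
        exfalso
        have key := Groth.Agent.Helper6.NT.negfun3 T h2 u3 u4 u5 (by norm_num) 1 2 3 (by norm_num) (by norm_num)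
        linarith only [key, tap_3_4, taq_3_4, z_3_5, tap_4_5, taq_4_5, T.w_pos u3, T.w_pos u4, T.w_pos u5]
    · push Not at hx
      have cl_4 := hx
      clear hx
      exfalso
      refine Groth.Agent.Helper6.NT.closed_contra T [u0, u1, u2, u3, u4] (by simp) (by simp) ?_
      intro i hi j hj
      simp only [List.mem_cons, List.not_mem_nil, or_false, not_or] at hi hj
      rcases hi with rfl | rfl | rfl | rfl | rfl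
      · exact cl_0 j ⟨hj.1, hj.2.1, hj.2.2.1, hj.2.2.2.1⟩
      · exact cl_1 j ⟨hj.1, hj.2.1, hj.2.2.1, hj.2.2.2.1⟩
      · exact cl_2 j ⟨hj.1, hj.2.1, hj.2.2.1, hj.2.2.2.1⟩
      · exact cl_3 j ⟨hj.1, hj.2.1, hj.2.2.1, hj.2.2.2.1, hj.2.2.2.2⟩
      · exact cl_4 j ⟨hj.1, hj.2.1, hj.2.2.1, hj.2.2.2.1, hj.2.2.2.2⟩

theorem cut9_15 (T : Models.NumericalType 9) (h2 : ∀ i, T.IsMinusTwo i) (u0 u1 u2 u3 u4 u5 u6 : Fin 9)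
    (hn_1_0 : u1 ≠ u0)
    (e_0_1 : T.a u0 u1 ≠ 0)
    (tw_0_1 : T.w u1 = T.w u0)
    (tap_0_1 : T.a u0 u1 = T.w u0)
    (taq_0_1 : T.a u0 u1 = T.w u1)
    (hn_2_0 : u2 ≠ u0)
    (hn_2_1 : u2 ≠ u1)
    (e_0_2 : T.a u0 u2 ≠ 0)
    (tw_0_2 : T.w u2 = T.w u0)
    (tap_0_2 : T.a u0 u2 = T.w u0)
    (taq_0_2 : T.a u0 u2 = T.w u2)
    (z_1_2 : T.a u1 u2 = 0)
    (cl_0 : ∀ j : Fin 9, (j ≠ u0 ∧ j ≠ u1 ∧ j ≠ u2) → T.a u0 j = 0)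
    (hn_3_0 : u3 ≠ u0)
    (hn_3_1 : u3 ≠ u1)
    (hn_3_2 : u3 ≠ u2)
    (e_1_3 : T.a u1 u3 ≠ 0)
    (z_0_3 : T.a u0 u3 = 0)
    (tw_1_3 : T.w u3 = T.w u1)
    (tap_1_3 : T.a u1 u3 = T.w u1)
    (taq_1_3 : T.a u1 u3 = T.w u3)
    (z_2_3 : T.a u2 u3 = 0)
    (hn_4_0 : u4 ≠ u0)
    (hn_4_1 : u4 ≠ u1)
    (hn_4_2 : u4 ≠ u2)
    (hn_4_3 : u4 ≠ u3)
    (e_1_4 : T.a u1 u4 ≠ 0)
    (z_0_4 : T.a u0 u4 = 0)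
    (tw_1_4 : T.w u4 = T.w u1)
    (tap_1_4 : T.a u1 u4 = T.w u1)
    (taq_1_4 : T.a u1 u4 = T.w u4)
    (z_2_4 : T.a u2 u4 = 0)
    (z_3_4 : T.a u3 u4 = 0)
    (cl_1 : ∀ j : Fin 9, (j ≠ u0 ∧ j ≠ u1 ∧ j ≠ u2 ∧ j ≠ u3 ∧ j ≠ u4) → T.a u1 j = 0)
    (hn_5_0 : u5 ≠ u0)
    (hn_5_1 : u5 ≠ u1)
    (hn_5_2 : u5 ≠ u2)
    (hn_5_3 : u5 ≠ u3)
    (hn_5_4 : u5 ≠ u4)
    (e_2_5 : T.a u2 u5 ≠ 0)
    (z_0_5 : T.a u0 u5 = 0)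
    (z_1_5 : T.a u1 u5 = 0)
    (tw_2_5 : T.w u5 = T.w u2)
    (tap_2_5 : T.a u2 u5 = T.w u2)
    (taq_2_5 : T.a u2 u5 = T.w u5)
    (z_3_5 : T.a u3 u5 = 0)
    (z_4_5 : T.a u4 u5 = 0)
    (cl_2 : ∀ j : Fin 9, (j ≠ u0 ∧ j ≠ u1 ∧ j ≠ u2 ∧ j ≠ u3 ∧ j ≠ u4 ∧ j ≠ u5) → T.a u2 j = 0)
    (hn_6_0 : u6 ≠ u0)
    (hn_6_1 : u6 ≠ u1)
    (hn_6_2 : u6 ≠ u2)
    (hn_6_3 : u6 ≠ u3)
    (hn_6_4 : u6 ≠ u4)
    (hn_6_5 : u6 ≠ u5)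
    (e_3_6 : T.a u3 u6 ≠ 0)
    (z_0_6 : T.a u0 u6 = 0)
    (z_1_6 : T.a u1 u6 = 0)
    (z_2_6 : T.a u2 u6 = 0)
    (tw_3_6 : T.w u6 = T.w u3)
    (tap_3_6 : T.a u3 u6 = T.w u3)
    (taq_3_6 : T.a u3 u6 = T.w u6)
    (z_4_6 : T.a u4 u6 = 0)
    (z_5_6 : T.a u5 u6 = 0) :
    ∃ (σ : Equiv.Perm (Fin 9)) (m w : ℤ), ((T.m (σ 0) = m ∧ T.m (σ 1) = m ∧ T.m (σ 2) = m ∧ T.m (σ 3) = m ∧ T.m (σ 4) = m ∧ T.m (σ 5) = m ∧ T.m (σ 6) = m ∧ T.m (σ 7) = m ∧ T.m (σ 8) = m ∧ T.w (σ 0) = w ∧ T.w (σ 1) = w ∧ T.w (σ 2) = w ∧ T.w (σ 3) = w ∧ T.w (σ 4) = w ∧ T.w (σ 5) = w ∧ T.w (σ 6) = w ∧ T.w (σ 7) = w ∧ T.w (σ 8) = w ∧ T.a (σ 0) (σ 0) = -2 * w ∧ T.a (σ 0) (σ 1) = w ∧ T.a (σ 0) (σ 2) = 0 ∧ T.a (σ 0) (σ 3) = 0 ∧ T.a (σ 0) (σ 4) = 0 ∧ T.a (σ 0) (σ 5) = 0 ∧ T.a (σ 0) (σ 6) = 0 ∧ T.a (σ 0) (σ 7) = 0 ∧ T.a (σ 0) (σ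 8) = w ∧ T.a (σ 1) (σ 1) = -2 * w ∧ T.a (σ 1) (σ 2) = w ∧ T.a (σ 1) (σ 3) = 0 ∧ T.a (σ 1) (σ 4) = 0 ∧ T.a (σ 1) (σ 5) = 0 ∧ T.a (σ 1) (σ 6) = 0 ∧ T.a (σ 1) (σ 7) = 0 ∧ T.a (σ 1) (σ 8) = 0 ∧ T.a (σ 2) (σ 2) = -2 * w ∧ T.a (σ 2) (σ 3) = w ∧ T.a (σ 2) (σ 4) = 0 ∧ T.a (σ 2) (σ 5) = 0 ∧ T.a (σ 2) (σ 6) = 0 ∧ T.a (σ 2) (σ 7) = 0 ∧ T.a (σ 2) (σ 8) = 0 ∧ T.a (σ 3) (σ 3) = -2 * w ∧ T.a (σ 3) (σ 4) = w ∧ T.a (σ 3) (σ 5) = 0 ∧ T.a (σ 3) (σ 6) = 0 ∧ T.a (σ 3) (σ 7) = 0 ∧ T.a (σ 3) (σ 8) = 0 ∧ T.a (σ 4) (σ 4) = -2 * w ∧ T.a (σ 4) (σ 5) = w ∧ T.a (σ 4) (σ 6) = 0 ∧ T.a (σ 4) (σ 7) = 0 ∧ T.a (σ 4) (σ 8) = 0 ∧ T.a (σ 5) (σ 5) = -2 * w ∧ T.a (σ 5) (σ 6) = w ∧ T.a (σ 5) (σ 7) = 0 ∧ T.a (σ 5) (σ 8) = 0 ∧ T.a (σ 6) (σ 6) = -2 * w ∧ T.a (σ 6) (σ 7) = w ∧ T.a (σ 6) (σ 8) = 0 ∧ T.a (σ 7) (σ 7) = -2 * w ∧ T.a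 (σ 7) (σ 8) = w ∧ T.a (σ 8) (σ 8) = -2 * w) ∨ (T.m (σ 0) = 2 * m ∧ T.m (σ 1) = 2 * m ∧ T.m (σ 2) = 2 * m ∧ T.m (σ 3) = 2 * m ∧ T.m (σ 4) = 2 * m ∧ T.m (σ 5) = 2 * m ∧ T.m (σ 6) = 2 * m ∧ T.m (σ 7) = 2 * m ∧ T.m (σ 8) = m ∧ T.w (σ 0) = w ∧ T.w (σ 1) = 2 * w ∧ T.w (σ 2) = 2 * w ∧ T.w (σ 3) = 2 * w ∧ T.w (σ 4) = 2 * w ∧ T.w (σ 5) = 2 * w ∧ T.w (σ 6) = 2 * w ∧ T.w (σ 7) = 2 * w ∧ T.w (σ 8) = 4 * w ∧ T.a (σ 0) (σ 0) = -2 * w ∧ T.a (σ 0) (σ 1) = 2 * w ∧ T.a (σ 0) (σ 2) = 0 ∧ T.a (σ 0) (σ 3) = 0 ∧ T.a (σ 0) (σ 4) = 0 ∧ T.a (σ 0) (σ 5) = 0 ∧ T.a (σ 0) (σ 6) = 0 ∧ T.a (σ 0) (σ 7) = 0 ∧ T.a (σ 0) (σ 8) = 0 ∧ T.a (σ 1) (σ 1) = -4 * w ∧ T.a (σ 1) (σ 2) = 2 * w ∧ T.a (σ 1) (σ 3) = 0 ∧ T.a (σ 1) (σ 4) = 0 ∧ T.a (σ 1) (σ 5) = 0 ∧ T.a (σ 1) (σ 6) = 0 ∧ T.a (σ 1) (σ 7) = 0 ∧ T.a (σ 1) (σ 8) = 0 ∧ T.a (σ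 2) (σ 2) = -4 * w ∧ T.a (σ 2) (σ 3) = 2 * w ∧ T.a (σ 2) (σ 4) = 0 ∧ T.a (σ 2) (σ 5) = 0 ∧ T.a (σ 2) (σ 6) = 0 ∧ T.a (σ 2) (σ 7) = 0 ∧ T.a (σ 2) (σ 8) = 0 ∧ T.a (σ 3) (σ 3) = -4 * w ∧ T.a (σ 3) (σ 4) = 2 * w ∧ T.a (σ 3) (σ 5) = 0 ∧ T.a (σ 3) (σ 6) = 0 ∧ T.a (σ 3) (σ 7) = 0 ∧ T.a (σ 3) (σ 8) = 0 ∧ T.a (σ 4) (σ 4) = -4 * w ∧ T.a (σ 4) (σ 5) = 2 * w ∧ T.a (σ 4) (σ 6) = 0 ∧ T.a (σ 4) (σ 7) = 0 ∧ T.a (σ 4) (σ 8) = 0 ∧ T.a (σ 5) (σ 5) = -4 * w ∧ T.a (σ 5) (σ 6) = 2 * w ∧ T.a (σ 5) (σ 7) = 0 ∧ T.a (σ 5) (σ 8) = 0 ∧ T.a (σ 6) (σ 6) = -4 * w ∧ T.a (σ 6) (σ 7) = 2 * w ∧ T.a (σ 6) (σ 8) = 0 ∧ T.a (σ 7) (σ 7) = -4 * w ∧ T.a (σ 7) (σ 8) = 4 * w ∧ T.a (σ 8) (σ 8) = -8 * w) ∨ (T.m (σ 0) = m ∧ T.m (σ 1) = m ∧ T.m (σ 2) = m ∧ T.m (σ 3) = m ∧ T.m (σ 4) = m ∧ T.m (σ 5) = m ∧ T.m (σ 6) = m ∧ T.m (σ 7) = m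 ∧ T.m (σ 8) = m ∧ T.w (σ 0) = w ∧ T.w (σ 1) = 2 * w ∧ T.w (σ 2) = 2 * w ∧ T.w (σ 3) = 2 * w ∧ T.w (σ 4) = 2 * w ∧ T.w (σ 5) = 2 * w ∧ T.w (σ 6) = 2 * w ∧ T.w (σ 7) = 2 * w ∧ T.w (σ 8) = w ∧ T.a (σ 0) (σ 0) = -2 * w ∧ T.a (σ 0) (σ 1) = 2 * w ∧ T.a (σ 0) (σ 2) = 0 ∧ T.a (σ 0) (σ 3) = 0 ∧ T.a (σ 0) (σ 4) = 0 ∧ T.a (σ 0) (σ 5) = 0 ∧ T.a (σ 0) (σ 6) = 0 ∧ T.a (σ 0) (σ 7) = 0 ∧ T.a (σ 0) (σ 8) = 0 ∧ T.a (σ 1) (σ 1) = -4 * w ∧ T.a (σ 1) (σ 2) = 2 * w ∧ T.a (σ 1) (σ 3) = 0 ∧ T.a (σ 1) (σ 4) = 0 ∧ T.a (σ 1) (σ 5) = 0 ∧ T.a (σ 1) (σ 6) = 0 ∧ T.a (σ 1) (σ 7) = 0 ∧ T.a (σ 1) (σ 8) = 0 ∧ T.a (σ 2) (σ 2) = -4 * w ∧ T.a (σ 2) (σ 3) = 2 * w ∧ T.a (σ 2) (σ 4) = 0 ∧ T.a (σ 2) (σ 5) = 0 ∧ T.a (σ 2) (σ 6) = 0 ∧ T.a (σ 2) (σ 7) = 0 ∧ T.a (σ 2) (σ 8) = 0 ∧ T.a (σ 3) (σ 3) = -4 * w ∧ T.a (σ 3) (σ 4) = 2 * w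 ∧ T.a (σ 3) (σ 5) = 0 ∧ T.a (σ 3) (σ 6) = 0 ∧ T.a (σ 3) (σ 7) = 0 ∧ T.a (σ 3) (σ 8) = 0 ∧ T.a (σ 4) (σ 4) = -4 * w ∧ T.a (σ 4) (σ 5) = 2 * w ∧ T.a (σ 4) (σ 6) = 0 ∧ T.a (σ 4) (σ 7) = 0 ∧ T.a (σ 4) (σ 8) = 0 ∧ T.a (σ 5) (σ 5) = -4 * w ∧ T.a (σ 5) (σ 6) = 2 * w ∧ T.a (σ 5) (σ 7) = 0 ∧ T.a (σ 5) (σ 8) = 0 ∧ T.a (σ 6) (σ 6) = -4 * w ∧ T.a (σ 6) (σ 7) = 2 * w ∧ T.a (σ 6) (σ 8) = 0 ∧ T.a (σ 7) (σ 7) = -4 * w ∧ T.a (σ 7) (σ 8) = 2 * w ∧ T.a (σ 8) (σ 8) = -2 * w) ∨ (T.m (σ 0) = m ∧ T.m (σ 1) = 2 * m ∧ T.m (σ 2) = 2 * m ∧ T.m (σ 3) = 2 * m ∧ T.m (σ 4) = 2 * m ∧ T.m (σ 5) = 2 * m ∧ T.m (σ 6) = 2 * m ∧ T.m (σ 7) = 2 * m ∧ T.m (σ 8) = m ∧ T.w (σ 0) = 2 * w ∧ T.w (σ 1) = w ∧ T.w (σ 2) = w ∧ T.w (σ 3) = w ∧ T.w (σ 4) = w ∧ T.w (σ 5) = w ∧ T.w (σ 6) = w ∧ T.w (σ 7) = w ∧ T.w (σ 8) = 2 * w ∧ T.a (σ 0)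 (σ 0) = -4 * w ∧ T.a (σ 0) (σ 1) = 2 * w ∧ T.a (σ 0) (σ 2) = 0 ∧ T.a (σ 0) (σ 3) = 0 ∧ T.a (σ 0) (σ 4) = 0 ∧ T.a (σ 0) (σ 5) = 0 ∧ T.a (σ 0) (σ 6) = 0 ∧ T.a (σ 0) (σ 7) = 0 ∧ T.a (σ 0) (σ 8) = 0 ∧ T.a (σ 1) (σ 1) = -2 * w ∧ T.a (σ 1) (σ 2) = w ∧ T.a (σ 1) (σ 3) = 0 ∧ T.a (σ 1) (σ 4) = 0 ∧ T.a (σ 1) (σ 5) = 0 ∧ T.a (σ 1) (σ 6) = 0 ∧ T.a (σ 1) (σ 7) = 0 ∧ T.a (σ 1) (σ 8) = 0 ∧ T.a (σ 2) (σ 2) = -2 * w ∧ T.a (σ 2) (σ 3) = w ∧ T.a (σ 2) (σ 4) = 0 ∧ T.a (σ 2) (σ 5) = 0 ∧ T.a (σ 2) (σ 6) = 0 ∧ T.a (σ 2) (σ 7) = 0 ∧ T.a (σ 2) (σ 8) = 0 ∧ T.a (σ 3) (σ 3) = -2 * w ∧ T.a (σ 3) (σ 4) = w ∧ T.a (σ 3) (σ 5) = 0 ∧ T.a (σ 3) (σ 6) = 0 ∧ T.a (σ 3) (σ 7) = 0 ∧ T.a (σ 3) (σ 8) = 0 ∧ T.a (σ 4) (σ 4) = -2 * w ∧ T.a (σ 4) (σ 5) = w ∧ T.a (σ 4) (σ 6) = 0 ∧ T.a (σ 4) (σ 7) = 0 ∧ T.a (σ 4) (σ 8) = 0 ∧ T.a (σ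 5) (σ 5) = -2 * w ∧ T.a (σ 5) (σ 6) = w ∧ T.a (σ 5) (σ 7) = 0 ∧ T.a (σ 5) (σ 8) = 0 ∧ T.a (σ 6) (σ 6) = -2 * w ∧ T.a (σ 6) (σ 7) = w ∧ T.a (σ 6) (σ 8) = 0 ∧ T.a (σ 7) (σ 7) = -2 * w ∧ T.a (σ 7) (σ 8) = 2 * w ∧ T.a (σ 8) (σ 8) = -4 * w) ∨ (T.m (σ 0) = m ∧ T.m (σ 1) = 2 * m ∧ T.m (σ 2) = 2 * m ∧ T.m (σ 3) = 2 * m ∧ T.m (σ 4) = 2 * m ∧ T.m (σ 5) = 2 * m ∧ T.m (σ 6) = 2 * m ∧ T.m (σ 7) = m ∧ T.m (σ 8) = m ∧ T.w (σ 0) = 2 * w ∧ T.w (σ 1) = w ∧ T.w (σ 2) = w ∧ T.w (σ 3) = w ∧ T.w (σ 4) = w ∧ T.w (σ 5) = w ∧ T.w (σ 6) = w ∧ T.w (σ 7) = w ∧ T.w (σ 8) = w ∧ T.a (σ 0) (σ 0) = -4 * w ∧ T.a (σ 0) (σ 1) = 2 * w ∧ T.a (σ 0) (σ 2) = 0 ∧ T.a (σ 0) (σ 3) = 0 ∧ T.a (σ 0) (σ 4) = 0 ∧ T.a (σ 0) (σ 5) = 0 ∧ T.a (σ 0) (σ 6) = 0 ∧ T.a (σ 0) (σ 7) = 0 ∧ T.a (σ 0) (σ 8) = 0 ∧ T.a (σ 1) (σ 1) = -2 * w ∧ T.a (σ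 1) (σ 2) = w ∧ T.a (σ 1) (σ 3) = 0 ∧ T.a (σ 1) (σ 4) = 0 ∧ T.a (σ 1) (σ 5) = 0 ∧ T.a (σ 1) (σ 6) = 0 ∧ T.a (σ 1) (σ 7) = 0 ∧ T.a (σ 1) (σ 8) = 0 ∧ T.a (σ 2) (σ 2) = -2 * w ∧ T.a (σ 2) (σ 3) = w ∧ T.a (σ 2) (σ 4) = 0 ∧ T.a (σ 2) (σ 5) = 0 ∧ T.a (σ 2) (σ 6) = 0 ∧ T.a (σ 2) (σ 7) = 0 ∧ T.a (σ 2) (σ 8) = 0 ∧ T.a (σ 3) (σ 3) = -2 * w ∧ T.a (σ 3) (σ 4) = w ∧ T.a (σ 3) (σ 5) = 0 ∧ T.a (σ 3) (σ 6) = 0 ∧ T.a (σ 3) (σ 7) = 0 ∧ T.a (σ 3) (σ 8) = 0 ∧ T.a (σ 4) (σ 4) = -2 * w ∧ T.a (σ 4) (σ 5) = w ∧ T.a (σ 4) (σ 6) = 0 ∧ T.a (σ 4) (σ 7) = 0 ∧ T.a (σ 4) (σ 8) = 0 ∧ T.a (σ 5) (σ 5) = -2 * w ∧ T.a (σ 5) (σ 6) = w ∧ T.a (σ 5) (σ 7) = 0 ∧ T.a (σ 5) (σ 8) = 0 ∧ T.a (σ 6) (σ 6) = -2 * w ∧ T.a (σ 6) (σ 7) = w ∧ T.a (σ 6) (σ 8) = w ∧ T.a (σ 7) (σ 7) = -2 * w ∧ T.a (σ 7) (σ 8) = 0 ∧ T.a (σ 8) (σ 8) = -2 * w)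 ∨ (T.m (σ 0) = 2 * m ∧ T.m (σ 1) = 2 * m ∧ T.m (σ 2) = 2 * m ∧ T.m (σ 3) = 2 * m ∧ T.m (σ 4) = 2 * m ∧ T.m (σ 5) = 2 * m ∧ T.m (σ 6) = 2 * m ∧ T.m (σ 7) = m ∧ T.m (σ 8) = m ∧ T.w (σ 0) = w ∧ T.w (σ 1) = 2 * w ∧ T.w (σ 2) = 2 * w ∧ T.w (σ 3) = 2 * w ∧ T.w (σ 4) = 2 * w ∧ T.w (σ 5) = 2 * w ∧ T.w (σ 6) = 2 * w ∧ T.w (σ 7) = 2 * w ∧ T.w (σ 8) = 2 * w ∧ T.a (σ 0) (σ 0) = -2 * w ∧ T.a (σ 0) (σ 1) = 2 * w ∧ T.a (σ 0) (σ 2) = 0 ∧ T.a (σ 0) (σ 3) = 0 ∧ T.a (σ 0) (σ 4) = 0 ∧ T.a (σ 0) (σ 5) = 0 ∧ T.a (σ 0) (σ 6) = 0 ∧ T.a (σ 0) (σ 7) = 0 ∧ T.a (σ 0) (σ 8) = 0 ∧ T.a (σ 1) (σ 1) = -4 * w ∧ T.a (σ 1) (σ 2) = 2 * w ∧ T.a (σ 1) (σ 3) = 0 ∧ T.a (σ 1) (σ 4) = 0 ∧ T.a (σ 1) (σ 5) = 0 ∧ T.a (σ 1) (σ 6) = 0 ∧ T.a (σ 1) (σ 7) = 0 ∧ T.a (σ 1) (σ 8) = 0 ∧ T.a (σ 2) (σ 2) = -4 * w ∧ T.a (σ 2) (σ 3) = 2 * w ∧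 T.a (σ 2) (σ 4) = 0 ∧ T.a (σ 2) (σ 5) = 0 ∧ T.a (σ 2) (σ 6) = 0 ∧ T.a (σ 2) (σ 7) = 0 ∧ T.a (σ 2) (σ 8) = 0 ∧ T.a (σ 3) (σ 3) = -4 * w ∧ T.a (σ 3) (σ 4) = 2 * w ∧ T.a (σ 3) (σ 5) = 0 ∧ T.a (σ 3) (σ 6) = 0 ∧ T.a (σ 3) (σ 7) = 0 ∧ T.a (σ 3) (σ 8) = 0 ∧ T.a (σ 4) (σ 4) = -4 * w ∧ T.a (σ 4) (σ 5) = 2 * w ∧ T.a (σ 4) (σ 6) = 0 ∧ T.a (σ 4) (σ 7) = 0 ∧ T.a (σ 4) (σ 8) = 0 ∧ T.a (σ 5) (σ 5) = -4 * w ∧ T.a (σ 5) (σ 6) = 2 * w ∧ T.a (σ 5) (σ 7) = 0 ∧ T.a (σ 5) (σ 8) = 0 ∧ T.a (σ 6) (σ 6) = -4 * w ∧ T.a (σ 6) (σ 7) = 2 * w ∧ T.a (σ 6) (σ 8) = 2 * w ∧ T.a (σ 7) (σ 7) = -4 * w ∧ T.a (σ 7) (σ 8) = 0 ∧ T.a (σ 8) (σ 8) = -4 * w) ∨ (T.m (σ 0) = m ∧ T.m (σ 1) = m ∧ T.m (σ 2) = 2 * m ∧ T.m (σ 3) = 2 * m ∧ T.m (σ 4) = 2 * m ∧ T.m (σ 5) = 2 * m ∧ T.m (σ 6) = 2 * m ∧ T.m (σ 7) = m ∧ T.m (σ 8) = m ∧ T.w (σ 0)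 = w ∧ T.w (σ 1) = w ∧ T.w (σ 2) = w ∧ T.w (σ 3) = w ∧ T.w (σ 4) = w ∧ T.w (σ 5) = w ∧ T.w (σ 6) = w ∧ T.w (σ 7) = w ∧ T.w (σ 8) = w ∧ T.a (σ 0) (σ 0) = -2 * w ∧ T.a (σ 0) (σ 1) = 0 ∧ T.a (σ 0) (σ 2) = w ∧ T.a (σ 0) (σ 3) = 0 ∧ T.a (σ 0) (σ 4) = 0 ∧ T.a (σ 0) (σ 5) = 0 ∧ T.a (σ 0) (σ 6) = 0 ∧ T.a (σ 0) (σ 7) = 0 ∧ T.a (σ 0) (σ 8) = 0 ∧ T.a (σ 1) (σ 1) = -2 * w ∧ T.a (σ 1) (σ 2) = w ∧ T.a (σ 1) (σ 3) = 0 ∧ T.a (σ 1) (σ 4) = 0 ∧ T.a (σ 1) (σ 5) = 0 ∧ T.a (σ 1) (σ 6) = 0 ∧ T.a (σ 1) (σ 7) = 0 ∧ T.a (σ 1) (σ 8) = 0 ∧ T.a (σ 2) (σ 2) = -2 * w ∧ T.a (σ 2) (σ 3) = w ∧ T.a (σ 2) (σ 4) = 0 ∧ T.a (σ 2) (σ 5) = 0 ∧ T.a (σ 2) (σ 6) = 0 ∧ T.a (σ 2) (σ 7) = 0 ∧ T.a (σ 2) (σ 8) = 0 ∧ T.a (σ 3) (σ 3) = -2 * w ∧ T.a (σ 3) (σ 4) = w ∧ T.a (σ 3) (σ 5) = 0 ∧ T.a (σ 3) (σ 6) = 0 ∧ T.a (σ 3) (σ 7) = 0 ∧ T.a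 (σ 3) (σ 8) = 0 ∧ T.a (σ 4) (σ 4) = -2 * w ∧ T.a (σ 4) (σ 5) = w ∧ T.a (σ 4) (σ 6) = 0 ∧ T.a (σ 4) (σ 7) = 0 ∧ T.a (σ 4) (σ 8) = 0 ∧ T.a (σ 5) (σ 5) = -2 * w ∧ T.a (σ 5) (σ 6) = w ∧ T.a (σ 5) (σ 7) = 0 ∧ T.a (σ 5) (σ 8) = 0 ∧ T.a (σ 6) (σ 6) = -2 * w ∧ T.a (σ 6) (σ 7) = w ∧ T.a (σ 6) (σ 8) = w ∧ T.a (σ 7) (σ 7) = -2 * w ∧ T.a (σ 7) (σ 8) = 0 ∧ T.a (σ 8) (σ 8) = -2 * w) ∨ (T.m (σ 0) = m ∧ T.m (σ 1) = 2 * m ∧ T.m (σ 2) = 3 * m ∧ T.m (σ 3) = 4 * m ∧ T.m (σ 4) = 5 * m ∧ T.m (σ 5) = 6 * m ∧ T.m (σ 6) = 4 * m ∧ T.m (σ 7) = 2 * m ∧ T.m (σ 8) = 3 * m ∧ T.w (σ 0) = w ∧ T.w (σ 1) = w ∧ T.w (σ 2) = w ∧ T.w (σ 3) = w ∧ T.w (σ 4) = w ∧ T.w (σ 5) = w ∧ T.w (σ 6) = w ∧ T.w (σ 7) = w ∧ T.w (σ 8) = w ∧ T.a (σ 0) (σ 0) = -2 * w ∧ T.a (σ 0) (σ 1) = w ∧ T.a (σ 0) (σ 2) = 0 ∧ T.a (σ 0) (σ 3) = 0 ∧ T.a (σ 0)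 (σ 4) = 0 ∧ T.a (σ 0) (σ 5) = 0 ∧ T.a (σ 0) (σ 6) = 0 ∧ T.a (σ 0) (σ 7) = 0 ∧ T.a (σ 0) (σ 8) = 0 ∧ T.a (σ 1) (σ 1) = -2 * w ∧ T.a (σ 1) (σ 2) = w ∧ T.a (σ 1) (σ 3) = 0 ∧ T.a (σ 1) (σ 4) = 0 ∧ T.a (σ 1) (σ 5) = 0 ∧ T.a (σ 1) (σ 6) = 0 ∧ T.a (σ 1) (σ 7) = 0 ∧ T.a (σ 1) (σ 8) = 0 ∧ T.a (σ 2) (σ 2) = -2 * w ∧ T.a (σ 2) (σ 3) = w ∧ T.a (σ 2) (σ 4) = 0 ∧ T.a (σ 2) (σ 5) = 0 ∧ T.a (σ 2) (σ 6) = 0 ∧ T.a (σ 2) (σ 7) = 0 ∧ T.a (σ 2) (σ 8) = 0 ∧ T.a (σ 3) (σ 3) = -2 * w ∧ T.a (σ 3) (σ 4) = w ∧ T.a (σ 3) (σ 5) = 0 ∧ T.a (σ 3) (σ 6) = 0 ∧ T.a (σ 3) (σ 7) = 0 ∧ T.a (σ 3) (σ 8) = 0 ∧ T.a (σ 4) (σ 4) = -2 * w ∧ T.a (σ 4) (σ 5) = w ∧ T.a (σ 4) (σ 6) = 0 ∧ T.a (σ 4) (σ 7) = 0 ∧ T.a (σ 4) (σ 8) = 0 ∧ T.a (σ 5) (σ 5) = -2 * w ∧ T.a (σ 5) (σ 6) = w ∧ T.a (σ 5) (σ 7) = 0 ∧ T.a (σ 5) (σ 8) = w ∧ T.a (σ 6) (σ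 6) = -2 * w ∧ T.a (σ 6) (σ 7) = w ∧ T.a (σ 6) (σ 8) = 0 ∧ T.a (σ 7) (σ 7) = -2 * w ∧ T.a (σ 7) (σ 8) = 0 ∧ T.a (σ 8) (σ 8) = -2 * w)) := by
  by_cases hx : ∃ j, (j ≠ u0 ∧ j ≠ u1 ∧ j ≠ u2 ∧ j ≠ u3 ∧ j ≠ u4 ∧ j ≠ u5 ∧ j ≠ u6) ∧ T.a u3 j ≠ 0
  · obtain ⟨u7, ⟨hn_7_0, hn_7_1, hn_7_2, hn_7_3, hn_7_4, hn_7_5, hn_7_6⟩, e_3_7⟩ := hx
    have z_0_7 : T.a u0 u7 = 0 := cl_0 u7 ⟨hn_7_0, hn_7_1, hn_7_2⟩
    have z_1_7 : T.a u1 u7 = 0 := cl_1 u7 ⟨hn_7_0, hn_7_1, hn_7_2, hn_7_3, hn_7_4⟩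
    have z_2_7 : T.a u2 u7 = 0 := cl_2 u7 ⟨hn_7_0, hn_7_1, hn_7_2, hn_7_3, hn_7_4, hn_7_5⟩
    rcases Groth.Agent.Helper6.NT.edge5 T h2 (by norm_num) u3 u7 hn_7_3.symm e_3_7 with ⟨tw_3_7, tap_3_7, taq_3_7⟩ | ⟨tw_3_7, tap_3_7, taq_3_7⟩ | ⟨tw_3_7, tap_3_7, taq_3_7⟩ | ⟨tw_3_7, tap_3_7, taq_3_7⟩ | ⟨tw_3_7, tap_3_7, taq_3_7⟩
    · -- (3,7) S
      exfalso
      have key := Groth.Agent.Helper6.NT.negfun6 T h2 u0 u1 u3 u4 u6 u7 (by norm_num) 1 2 2 1 1 1 (by norm_num) (by norm_num)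
      linarith only [key, tap_0_1, taq_0_1, z_0_3, z_0_4, z_0_6, z_0_7, tap_1_3, taq_1_3, tap_1_4, taq_1_4, z_1_6, z_1_7, z_3_4, tap_3_6, taq_3_6, tap_3_7, taq_3_7, z_4_6, T.offDiag_nonneg u4 u7 hn_7_4.symm, T.offDiag_nonneg u6 u7 hn_7_6.symm, T.w_pos u0, T.w_pos u1, T.w_pos u3, T.w_pos u4, T.w_pos u6, T.w_pos u7]
    · -- (3,7) Dp
      exfalso
      have key := Groth.Agent.Helper6.NT.negfun4 T h2 u1 u3 u6 u7 (by norm_num) 1 2 1 1 (by norm_num) (by norm_num)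
      linarith only [key, tap_1_3, taq_1_3, z_1_6, z_1_7, tap_3_6, taq_3_6, tap_3_7, taq_3_7, T.offDiag_nonneg u6 u7 hn_7_6.symm, T.w_pos u1, T.w_pos u3, T.w_pos u6, T.w_pos u7]
    · -- (3,7) Dm
      exfalso
      have key := Groth.Agent.Helper6.NT.negfun4 T h2 u1 u3 u6 u7 (by norm_num) 1 2 1 2 (by norm_num) (by norm_num)
      linarith only [key, tap_1_3, taq_1_3, z_1_6, z_1_7, tap_3_6, taq_3_6, tap_3_7, taq_3_7, T.offDiag_nonneg u6 u7 hn_7_6.symm, T.w_pos u1, T.w_pos u3, T.w_pos u6, T.w_pos u7]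
    · -- (3,7) Tp
      exfalso
      have key := Groth.Agent.Helper6.NT.negfun3 T h2 u3 u6 u7 (by norm_num) 2 1 1 (by norm_num) (by norm_num)
      linarith only [key, tap_3_6, taq_3_6, tap_3_7, taq_3_7, T.offDiag_nonneg u6 u7 hn_7_6.symm, T.w_pos u3, T.w_pos u6, T.w_pos u7]
    · -- (3,7) Tm
      exfalso
      have key := Groth.Agent.Helper6.NT.negfun3 T h2 u3 u6 u7 (by norm_num) 2 1 3 (by norm_num) (by norm_num)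
      linarith only [key, tap_3_6, taq_3_6, tap_3_7, taq_3_7, T.offDiag_nonneg u6 u7 hn_7_6.symm, T.w_pos u3, T.w_pos u6, T.w_pos u7]
  · push Not at hx
    have cl_3 := hx
    clear hx
    by_cases hx : ∃ j, (j ≠ u0 ∧ j ≠ u1 ∧ j ≠ u2 ∧ j ≠ u3 ∧ j ≠ u4 ∧ j ≠ u5 ∧ j ≠ u6) ∧ T.a u4 j ≠ 0
    · obtain ⟨u7, ⟨hn_7_0, hn_7_1, hn_7_2, hn_7_3, hn_7_4, hn_7_5, hn_7_6⟩, e_4_7⟩ := hx
      have z_0_7 : T.a u0 u7 = 0 := cl_0 u7 ⟨hn_7_0, hn_7_1, hn_7_2⟩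
      have z_1_7 : T.a u1 u7 = 0 := cl_1 u7 ⟨hn_7_0, hn_7_1, hn_7_2, hn_7_3, hn_7_4⟩
      have z_2_7 : T.a u2 u7 = 0 := cl_2 u7 ⟨hn_7_0, hn_7_1, hn_7_2, hn_7_3, hn_7_4, hn_7_5⟩
      have z_3_7 : T.a u3 u7 = 0 := cl_3 u7 ⟨hn_7_0, hn_7_1, hn_7_2, hn_7_3, hn_7_4, hn_7_5, hn_7_6⟩
      rcases Groth.Agent.Helper6.NT.edge5 T h2 (by norm_num) u4 u7 hn_7_4.symm e_4_7 with ⟨tw_4_7, tap_4_7, taq_4_7⟩ | ⟨tw_4_7, tap_4_7, taq_4_7⟩ | ⟨tw_4_7, tap_4_7, taq_4_7⟩ | ⟨tw_4_7, tap_4_7, taq_4_7⟩ | ⟨tw_4_7, tap_4_7, taq_4_7⟩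
      · -- (4,7) S
        exfalso
        have key := Groth.Agent.Helper6.NT.negfun7 T h2 u0 u1 u2 u3 u4 u6 u7 (by norm_num) 2 3 1 2 2 1 1 (by norm_num) (by norm_num)
        linarith only [key, tap_0_1, taq_0_1, tap_0_2, taq_0_2, z_0_3, z_0_4, z_0_6, z_0_7, z_1_2, tap_1_3, taq_1_3, tap_1_4, taq_1_4, z_1_6, z_1_7, z_2_3, z_2_4, z_2_6, z_2_7, z_3_4, tap_3_6, taq_3_6, z_3_7, z_4_6, tap_4_7, taq_4_7, T.offDiag_nonneg u6 u7 hn_7_6.symm, T.w_pos u0, T.w_pos u1, T.w_pos u2, T.w_pos u3, T.w_pos u4, T.w_pos u6, T.w_pos u7]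
      · -- (4,7) Dp
        exfalso
        have key := Groth.Agent.Helper6.NT.negfun5 T h2 u0 u1 u3 u4 u7 (by norm_num) 1 2 1 2 1 (by norm_num) (by norm_num)
        linarith only [key, tap_0_1, taq_0_1, z_0_3, z_0_4, z_0_7, tap_1_3, taq_1_3, tap_1_4, taq_1_4, z_1_7, z_3_4, z_3_7, tap_4_7, taq_4_7, T.w_pos u0, T.w_pos u1, T.w_pos u3, T.w_pos u4, T.w_pos u7]
      · -- (4,7) Dm
        exfalso
        have key := Groth.Agent.Helper6.NT.negfun5 T h2 u0 u1 u3 u4 u7 (by norm_num) 1 2 1 2 2 (by norm_num) (by norm_num)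
        linarith only [key, tap_0_1, taq_0_1, z_0_3, z_0_4, z_0_7, tap_1_3, taq_1_3, tap_1_4, taq_1_4, z_1_7, z_3_4, z_3_7, tap_4_7, taq_4_7, T.w_pos u0, T.w_pos u1, T.w_pos u3, T.w_pos u4, T.w_pos u7]
      · -- (4,7) Tp
        exfalso
        have key := Groth.Agent.Helper6.NT.negfun3 T h2 u1 u4 u7 (by norm_num) 1 2 1 (by norm_num) (by norm_num)
        linarith only [key, tap_1_4, taq_1_4, z_1_7, tap_4_7, taq_4_7, T.w_pos u1, T.w_pos u4, T.w_pos u7]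
      · -- (4,7) Tm
        exfalso
        have key := Groth.Agent.Helper6.NT.negfun3 T h2 u1 u4 u7 (by norm_num) 1 2 3 (by norm_num) (by norm_num)
        linarith only [key, tap_1_4, taq_1_4, z_1_7, tap_4_7, taq_4_7, T.w_pos u1, T.w_pos u4, T.w_pos u7]
    · push Not at hx
      have cl_4 := hx
      clear hx
      by_cases hx : ∃ j, (j ≠ u0 ∧ j ≠ u1 ∧ j ≠ u2 ∧ j ≠ u3 ∧ j ≠ u4 ∧ j ≠ u5 ∧ j ≠ u6) ∧ T.a u5 j ≠ 0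
      · obtain ⟨u7, ⟨hn_7_0, hn_7_1, hn_7_2, hn_7_3, hn_7_4, hn_7_5, hn_7_6⟩, e_5_7⟩ := hx
        have z_0_7 : T.a u0 u7 = 0 := cl_0 u7 ⟨hn_7_0, hn_7_1, hn_7_2⟩
        have z_1_7 : T.a u1 u7 = 0 := cl_1 u7 ⟨hn_7_0, hn_7_1, hn_7_2, hn_7_3, hn_7_4⟩
        have z_2_7 : T.a u2 u7 = 0 := cl_2 u7 ⟨hn_7_0, hn_7_1, hn_7_2, hn_7_3, hn_7_4, hn_7_5⟩
        have z_3_7 : T.a u3 u7 = 0 := cl_3 u7 ⟨hn_7_0, hn_7_1, hn_7_2, hn_7_3, hn_7_4, hn_7_5, hn_7_6⟩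
        have z_4_7 : T.a u4 u7 = 0 := cl_4 u7 ⟨hn_7_0, hn_7_1, hn_7_2, hn_7_3, hn_7_4, hn_7_5, hn_7_6⟩
        rcases Groth.Agent.Helper6.NT.edge5 T h2 (by norm_num) u5 u7 hn_7_5.symm e_5_7 with ⟨tw_5_7, tap_5_7, taq_5_7⟩ | ⟨tw_5_7, tap_5_7, taq_5_7⟩ | ⟨tw_5_7, tap_5_7, taq_5_7⟩ | ⟨tw_5_7, tap_5_7, taq_5_7⟩ | ⟨tw_5_7, tap_5_7, taq_5_7⟩
        · -- (5,7) S
          rcases eq_or_ne (T.a u6 u7) 0 with z_6_7 | nz_6_7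
          · -- (6,7) zero
            by_cases hx : ∃ j, (j ≠ u0 ∧ j ≠ u1 ∧ j ≠ u2 ∧ j ≠ u3 ∧ j ≠ u4 ∧ j ≠ u5 ∧ j ≠ u6 ∧ j ≠ u7) ∧ T.a u5 j ≠ 0
            · obtain ⟨u8, ⟨hn_8_0, hn_8_1, hn_8_2, hn_8_3, hn_8_4, hn_8_5, hn_8_6, hn_8_7⟩, e_5_8⟩ := hx
              have z_0_8 : T.a u0 u8 = 0 := cl_0 u8 ⟨hn_8_0, hn_8_1, hn_8_2⟩
              have z_1_8 : T.a u1 u8 = 0 := cl_1 u8 ⟨hn_8_0, hn_8_1, hn_8_2, hn_8_3, hn_8_4⟩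
              have z_2_8 : T.a u2 u8 = 0 := cl_2 u8 ⟨hn_8_0, hn_8_1, hn_8_2, hn_8_3, hn_8_4, hn_8_5⟩
              have z_3_8 : T.a u3 u8 = 0 := cl_3 u8 ⟨hn_8_0, hn_8_1, hn_8_2, hn_8_3, hn_8_4, hn_8_5, hn_8_6⟩
              have z_4_8 : T.a u4 u8 = 0 := cl_4 u8 ⟨hn_8_0, hn_8_1, hn_8_2, hn_8_3, hn_8_4, hn_8_5, hn_8_6⟩
              rcases Groth.Agent.Helper6.NT.edge5 T h2 (by norm_num) u5 u8 hn_8_5.symm e_5_8 with ⟨tw_5_8, tap_5_8, taq_5_8⟩ | ⟨tw_5_8, tap_5_8, taq_5_8⟩ | ⟨tw_5_8, tap_5_8, taq_5_8⟩ | ⟨tw_5_8, tap_5_8, taq_5_8⟩ | ⟨tw_5_8, tap_5_8, taq_5_8⟩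
              · -- (5,8) S
                exfalso
                have key := Groth.Agent.Helper6.NT.negfun8 T h2 u0 u1 u2 u3 u4 u5 u7 u8 (by norm_num) 2 2 2 1 1 2 1 1 (by norm_num) (by norm_num)
                linarith only [key, tap_0_1, taq_0_1, tap_0_2, taq_0_2, z_0_3, z_0_4, z_0_5, z_0_7, z_0_8, z_1_2, tap_1_3, taq_1_3, tap_1_4, taq_1_4, z_1_5, z_1_7, z_1_8, z_2_3, z_2_4, tap_2_5, taq_2_5, z_2_7, z_2_8, z_3_4, z_3_5, z_3_7, z_3_8, z_4_5, z_4_7, z_4_8, tap_5_7, taq_5_7, tap_5_8, taq_5_8, T.offDiag_nonneg u7 u8 hn_8_7.symm, T.w_pos u0, T.w_pos u1, T.w_pos u2, T.w_pos u3, T.w_pos u4, T.w_pos u5, T.w_pos u7, T.w_pos u8]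
              · -- (5,8) Dp
                exfalso
                have key := Groth.Agent.Helper6.NT.negfun4 T h2 u2 u5 u7 u8 (by norm_num) 1 2 1 1 (by norm_num) (by norm_num)
                linarith only [key, tap_2_5, taq_2_5, z_2_7, z_2_8, tap_5_7, taq_5_7, tap_5_8, taq_5_8, T.offDiag_nonneg u7 u8 hn_8_7.symm, T.w_pos u2, T.w_pos u5, T.w_pos u7, T.w_pos u8]
              · -- (5,8) Dm
                exfalso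
                have key := Groth.Agent.Helper6.NT.negfun4 T h2 u2 u5 u7 u8 (by norm_num) 1 2 1 2 (by norm_num) (by norm_num)
                linarith only [key, tap_2_5, taq_2_5, z_2_7, z_2_8, tap_5_7, taq_5_7, tap_5_8, taq_5_8, T.offDiag_nonneg u7 u8 hn_8_7.symm, T.w_pos u2, T.w_pos u5, T.w_pos u7, T.w_pos u8]
              · -- (5,8) Tp
                exfalso
                have key := Groth.Agent.Helper6.NT.negfun3 T h2 u5 u7 u8 (by norm_num) 2 1 1 (by norm_num) (by norm_num)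
                linarith only [key, tap_5_7, taq_5_7, tap_5_8, taq_5_8, T.offDiag_nonneg u7 u8 hn_8_7.symm, T.w_pos u5, T.w_pos u7, T.w_pos u8]
              · -- (5,8) Tm
                exfalso
                have key := Groth.Agent.Helper6.NT.negfun3 T h2 u5 u7 u8 (by norm_num) 2 1 3 (by norm_num) (by norm_num)
                linarith only [key, tap_5_7, taq_5_7, tap_5_8, taq_5_8, T.offDiag_nonneg u7 u8 hn_8_7.symm, T.w_pos u5, T.w_pos u7, T.w_pos u8]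
            · push Not at hx
              have cl_5 := hx
              clear hx
              by_cases hx : ∃ j, (j ≠ u0 ∧ j ≠ u1 ∧ j ≠ u2 ∧ j ≠ u3 ∧ j ≠ u4 ∧ j ≠ u5 ∧ j ≠ u6 ∧ j ≠ u7) ∧ T.a u6 j ≠ 0
              · obtain ⟨u8, ⟨hn_8_0, hn_8_1, hn_8_2, hn_8_3, hn_8_4, hn_8_5, hn_8_6, hn_8_7⟩, e_6_8⟩ := hx
                have z_0_8 : T.a u0 u8 = 0 := cl_0 u8 ⟨hn_8_0, hn_8_1, hn_8_2⟩
                have z_1_8 : T.a u1 u8 = 0 := cl_1 u8 ⟨hn_8_0, hn_8_1, hn_8_2, hn_8_3, hn_8_4⟩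
                have z_2_8 : T.a u2 u8 = 0 := cl_2 u8 ⟨hn_8_0, hn_8_1, hn_8_2, hn_8_3, hn_8_4, hn_8_5⟩
                have z_3_8 : T.a u3 u8 = 0 := cl_3 u8 ⟨hn_8_0, hn_8_1, hn_8_2, hn_8_3, hn_8_4, hn_8_5, hn_8_6⟩
                have z_4_8 : T.a u4 u8 = 0 := cl_4 u8 ⟨hn_8_0, hn_8_1, hn_8_2, hn_8_3, hn_8_4, hn_8_5, hn_8_6⟩
                have z_5_8 : T.a u5 u8 = 0 := cl_5 u8 ⟨hn_8_0, hn_8_1, hn_8_2, hn_8_3, hn_8_4, hn_8_5, hn_8_6, hn_8_7⟩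
                rcases Groth.Agent.Helper6.NT.edge5 T h2 (by norm_num) u6 u8 hn_8_6.symm e_6_8 with ⟨tw_6_8, tap_6_8, taq_6_8⟩ | ⟨tw_6_8, tap_6_8, taq_6_8⟩ | ⟨tw_6_8, tap_6_8, taq_6_8⟩ | ⟨tw_6_8, tap_6_8, taq_6_8⟩ | ⟨tw_6_8, tap_6_8, taq_6_8⟩
                · -- (6,8) S
                  exfalso
                  have key := Groth.Agent.Helper6.NT.negfun8 T h2 u0 u1 u2 u3 u4 u5 u6 u8 (by norm_num) 3 4 2 3 2 1 2 1 (by norm_num) (by norm_num)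
                  linarith only [key, tap_0_1, taq_0_1, tap_0_2, taq_0_2, z_0_3, z_0_4, z_0_5, z_0_6, z_0_8, z_1_2, tap_1_3, taq_1_3, tap_1_4, taq_1_4, z_1_5, z_1_6, z_1_8, z_2_3, z_2_4, tap_2_5, taq_2_5, z_2_6, z_2_8, z_3_4, z_3_5, tap_3_6, taq_3_6, z_3_8, z_4_5, z_4_6, z_4_8, z_5_6, z_5_8, tap_6_8, taq_6_8, T.w_pos u0, T.w_pos u1, T.w_pos u2, T.w_pos u3, T.w_pos u4, T.w_pos u5, T.w_pos u6, T.w_pos u8]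
                · -- (6,8) Dp
                  exfalso
                  have key := Groth.Agent.Helper6.NT.negfun6 T h2 u0 u1 u3 u4 u6 u8 (by norm_num) 1 2 2 1 2 1 (by norm_num) (by norm_num)
                  linarith only [key, tap_0_1, taq_0_1, z_0_3, z_0_4, z_0_6, z_0_8, tap_1_3, taq_1_3, tap_1_4, taq_1_4, z_1_6, z_1_8, z_3_4, tap_3_6, taq_3_6, z_3_8, z_4_6, z_4_8, tap_6_8, taq_6_8, T.w_pos u0, T.w_pos u1, T.w_pos u3, T.w_pos u4, T.w_pos u6, T.w_pos u8]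
                · -- (6,8) Dm
                  exfalso
                  have key := Groth.Agent.Helper6.NT.negfun6 T h2 u0 u1 u3 u4 u6 u8 (by norm_num) 1 2 2 1 2 2 (by norm_num) (by norm_num)
                  linarith only [key, tap_0_1, taq_0_1, z_0_3, z_0_4, z_0_6, z_0_8, tap_1_3, taq_1_3, tap_1_4, taq_1_4, z_1_6, z_1_8, z_3_4, tap_3_6, taq_3_6, z_3_8, z_4_6, z_4_8, tap_6_8, taq_6_8, T.w_pos u0, T.w_pos u1, T.w_pos u3, T.w_pos u4, T.w_pos u6, T.w_pos u8]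
                · -- (6,8) Tp
                  exfalso
                  have key := Groth.Agent.Helper6.NT.negfun3 T h2 u3 u6 u8 (by norm_num) 1 2 1 (by norm_num) (by norm_num)
                  linarith only [key, tap_3_6, taq_3_6, z_3_8, tap_6_8, taq_6_8, T.w_pos u3, T.w_pos u6, T.w_pos u8]
                · -- (6,8) Tm
                  exfalso
                  have key := Groth.Agent.Helper6.NT.negfun3 T h2 u3 u6 u8 (by norm_num) 1 2 3 (by norm_num) (by norm_num)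
                  linarith only [key, tap_3_6, taq_3_6, z_3_8, tap_6_8, taq_6_8, T.w_pos u3, T.w_pos u6, T.w_pos u8]
              · push Not at hx
                have cl_6 := hx
                clear hx
                by_cases hx : ∃ j, (j ≠ u0 ∧ j ≠ u1 ∧ j ≠ u2 ∧ j ≠ u3 ∧ j ≠ u4 ∧ j ≠ u5 ∧ j ≠ u6 ∧ j ≠ u7) ∧ T.a u7 j ≠ 0
                · obtain ⟨u8, ⟨hn_8_0, hn_8_1, hn_8_2, hn_8_3, hn_8_4, hn_8_5, hn_8_6, hn_8_7⟩, e_7_8⟩ := hx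
                  have z_0_8 : T.a u0 u8 = 0 := cl_0 u8 ⟨hn_8_0, hn_8_1, hn_8_2⟩
                  have z_1_8 : T.a u1 u8 = 0 := cl_1 u8 ⟨hn_8_0, hn_8_1, hn_8_2, hn_8_3, hn_8_4⟩
                  have z_2_8 : T.a u2 u8 = 0 := cl_2 u8 ⟨hn_8_0, hn_8_1, hn_8_2, hn_8_3, hn_8_4, hn_8_5⟩
                  have z_3_8 : T.a u3 u8 = 0 := cl_3 u8 ⟨hn_8_0, hn_8_1, hn_8_2, hn_8_3, hn_8_4, hn_8_5, hn_8_6⟩
                  have z_4_8 : T.a u4 u8 = 0 := cl_4 u8 ⟨hn_8_0, hn_8_1, hn_8_2, hn_8_3, hn_8_4, hn_8_5, hn_8_6⟩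
                  have z_5_8 : T.a u5 u8 = 0 := cl_5 u8 ⟨hn_8_0, hn_8_1, hn_8_2, hn_8_3, hn_8_4, hn_8_5, hn_8_6, hn_8_7⟩
                  have z_6_8 : T.a u6 u8 = 0 := cl_6 u8 ⟨hn_8_0, hn_8_1, hn_8_2, hn_8_3, hn_8_4, hn_8_5, hn_8_6, hn_8_7⟩
                  rcases Groth.Agent.Helper6.NT.edge5 T h2 (by norm_num) u7 u8 hn_8_7.symm e_7_8 with ⟨tw_7_8, tap_7_8, taq_7_8⟩ | ⟨tw_7_8, tap_7_8, taq_7_8⟩ | ⟨tw_7_8, tap_7_8, taq_7_8⟩ | ⟨tw_7_8, tap_7_8, taq_7_8⟩ | ⟨tw_7_8, tap_7_8, taq_7_8⟩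
                  · -- (7,8) S
                    have hinj := Groth.Agent.Helper6.NT.inj9 u0 u1 u2 u3 u4 u5 u6 u7 u8 hn_1_0 hn_2_0 hn_2_1 hn_3_0 hn_3_1 hn_3_2 hn_4_0 hn_4_1 hn_4_2 hn_4_3 hn_5_0 hn_5_1 hn_5_2 hn_5_3 hn_5_4 hn_6_0 hn_6_1 hn_6_2 hn_6_3 hn_6_4 hn_6_5 hn_7_0 hn_7_1 hn_7_2 hn_7_3 hn_7_4 hn_7_5 hn_7_6 hn_8_0 hn_8_1 hn_8_2 hn_8_3 hn_8_4 hn_8_5 hn_8_6 hn_8_7
                    have r_0 : -2 * T.m u0 + 1 * T.m u1 + 1 * T.m u2 = 0 := by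
                      have key := Groth.Agent.Helper6.NT.rowfun9 T u0 u1 u2 u3 u4 u5 u6 u7 u8 hinj u0
                      rw [(h2 u0).2, tap_0_1, tap_0_2, z_0_3, z_0_4, z_0_5, z_0_6, z_0_7, z_0_8] at key
                      exact mul_left_cancel₀ (T.w_pos u0).ne' (by linarith only [key])
                    have r_1 : 1 * T.m u0 + -2 * T.m u1 + 1 * T.m u3 + 1 * T.m u4 = 0 := by
                      have key := Groth.Agent.Helper6.NT.rowfun9 T u0 u1 u2 u3 u4 u5 u6 u7 u8 hinj u1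
                      rw [Groth.Agent.Helper6.NT.symm' T u1 u0, taq_0_1, (h2 u1).2, z_1_2, tap_1_3, tap_1_4, z_1_5, z_1_6, z_1_7, z_1_8] at key
                      exact mul_left_cancel₀ (T.w_pos u1).ne' (by linarith only [key])
                    have r_2 : 1 * T.m u0 + -2 * T.m u2 + 1 * T.m u5 = 0 := by
                      have key := Groth.Agent.Helper6.NT.rowfun9 T u0 u1 u2 u3 u4 u5 u6 u7 u8 hinj u2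
                      rw [Groth.Agent.Helper6.NT.symm' T u2 u0, taq_0_2, Groth.Agent.Helper6.NT.symm' T u2 u1, z_1_2, (h2 u2).2, z_2_3, z_2_4, tap_2_5, z_2_6, z_2_7, z_2_8] at key
                      exact mul_left_cancel₀ (T.w_pos u2).ne' (by linarith only [key])
                    have r_3 : 1 * T.m u1 + -2 * T.m u3 + 1 * T.m u6 = 0 := by
                      have key := Groth.Agent.Helper6.NT.rowfun9 T u0 u1 u2 u3 u4 u5 u6 u7 u8 hinj u3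
                      rw [Groth.Agent.Helper6.NT.symm' T u3 u0, z_0_3, Groth.Agent.Helper6.NT.symm' T u3 u1, taq_1_3, Groth.Agent.Helper6.NT.symm' T u3 u2, z_2_3, (h2 u3).2, z_3_4, z_3_5, tap_3_6, z_3_7, z_3_8] at key
                      exact mul_left_cancel₀ (T.w_pos u3).ne' (by linarith only [key])
                    have r_4 : 1 * T.m u1 + -2 * T.m u4 = 0 := by
                      have key := Groth.Agent.Helper6.NT.rowfun9 T u0 u1 u2 u3 u4 u5 u6 u7 u8 hinj u4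
                      rw [Groth.Agent.Helper6.NT.symm' T u4 u0, z_0_4, Groth.Agent.Helper6.NT.symm' T u4 u1, taq_1_4, Groth.Agent.Helper6.NT.symm' T u4 u2, z_2_4, Groth.Agent.Helper6.NT.symm' T u4 u3, z_3_4, (h2 u4).2, z_4_5, z_4_6, z_4_7, z_4_8] at key
                      exact mul_left_cancel₀ (T.w_pos u4).ne' (by linarith only [key])
                    have r_5 : 1 * T.m u2 + -2 * T.m u5 + 1 * T.m u7 = 0 := by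
                      have key := Groth.Agent.Helper6.NT.rowfun9 T u0 u1 u2 u3 u4 u5 u6 u7 u8 hinj u5
                      rw [Groth.Agent.Helper6.NT.symm' T u5 u0, z_0_5, Groth.Agent.Helper6.NT.symm' T u5 u1, z_1_5, Groth.Agent.Helper6.NT.symm' T u5 u2, taq_2_5, Groth.Agent.Helper6.NT.symm' T u5 u3, z_3_5, Groth.Agent.Helper6.NT.symm' T u5 u4, z_4_5, (h2 u5).2, z_5_6, tap_5_7, z_5_8] at key
                      exact mul_left_cancel₀ (T.w_pos u5).ne' (by linarith only [key])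
                    have r_6 : 1 * T.m u3 + -2 * T.m u6 = 0 := by
                      have key := Groth.Agent.Helper6.NT.rowfun9 T u0 u1 u2 u3 u4 u5 u6 u7 u8 hinj u6
                      rw [Groth.Agent.Helper6.NT.symm' T u6 u0, z_0_6, Groth.Agent.Helper6.NT.symm' T u6 u1, z_1_6, Groth.Agent.Helper6.NT.symm' T u6 u2, z_2_6, Groth.Agent.Helper6.NT.symm' T u6 u3, taq_3_6, Groth.Agent.Helper6.NT.symm' T u6 u4, z_4_6, Groth.Agent.Helper6.NT.symm' T u6 u5, z_5_6, (h2 u6).2, z_6_7, z_6_8] at key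
                      exact mul_left_cancel₀ (T.w_pos u6).ne' (by linarith only [key])
                    have r_7 : 1 * T.m u5 + -2 * T.m u7 + 1 * T.m u8 = 0 := by
                      have key := Groth.Agent.Helper6.NT.rowfun9 T u0 u1 u2 u3 u4 u5 u6 u7 u8 hinj u7
                      rw [Groth.Agent.Helper6.NT.symm' T u7 u0, z_0_7, Groth.Agent.Helper6.NT.symm' T u7 u1, z_1_7, Groth.Agent.Helper6.NT.symm' T u7 u2, z_2_7, Groth.Agent.Helper6.NT.symm' T u7 u3, z_3_7, Groth.Agent.Helper6.NT.symm' T u7 u4, z_4_7, Groth.Agent.Helper6.NT.symm' T u7 u5, taq_5_7, Groth.Agent.Helper6.NT.symm' T u7 u6, z_6_7, (h2 u7).2, tap_7_8] at key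
                      exact mul_left_cancel₀ (T.w_pos u7).ne' (by linarith only [key])
                    have r_8 : 1 * T.m u7 + -2 * T.m u8 = 0 := by
                      have key := Groth.Agent.Helper6.NT.rowfun9 T u0 u1 u2 u3 u4 u5 u6 u7 u8 hinj u8
                      rw [Groth.Agent.Helper6.NT.symm' T u8 u0, z_0_8, Groth.Agent.Helper6.NT.symm' T u8 u1, z_1_8, Groth.Agent.Helper6.NT.symm' T u8 u2, z_2_8, Groth.Agent.Helper6.NT.symm' T u8 u3, z_3_8, Groth.Agent.Helper6.NT.symm' T u8 u4, z_4_8, Groth.Agent.Helper6.NT.symm' T u8 u5, z_5_8, Groth.Agent.Helper6.NT.symm' T u8 u6, z_6_8, Groth.Agent.Helper6.NT.symm' T u8 u7, taq_7_8, (h2 u8).2] at key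
                      exact mul_left_cancel₀ (T.w_pos u8).ne' (by linarith only [key])
                    have f0 : T.m u8 = T.m u8 := rfl
                    have f1 : T.m u7 = 2 * T.m u8 := by linarith only [r_0, r_1, r_2, r_3, r_4, r_5, r_6, r_7, r_8]
                    have f2 : T.m u5 = 3 * T.m u8 := by linarith only [r_0, r_1, r_2, r_3, r_4, r_5, r_6, r_7, r_8]
                    have f3 : T.m u2 = 4 * T.m u8 := by linarith only [r_0, r_1, r_2, r_3, r_4, r_5, r_6, r_7, r_8]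
                    have f4 : T.m u0 = 5 * T.m u8 := by linarith only [r_0, r_1, r_2, r_3, r_4, r_5, r_6, r_7, r_8]
                    have f5 : T.m u1 = 6 * T.m u8 := by linarith only [r_0, r_1, r_2, r_3, r_4, r_5, r_6, r_7, r_8]
                    have f6 : T.m u3 = 4 * T.m u8 := by linarith only [r_0, r_1, r_2, r_3, r_4, r_5, r_6, r_7, r_8]
                    have f7 : T.m u6 = 2 * T.m u8 := by linarith only [r_0, r_1, r_2, r_3, r_4, r_5, r_6, r_7, r_8]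
                    have f8 : T.m u4 = 3 * T.m u8 := by linarith only [r_0, r_1, r_2, r_3, r_4, r_5, r_6, r_7, r_8]
                    have f9 : T.w u8 = T.w u8 := rfl
                    have f10 : T.w u7 = T.w u8 := by linarith only [tw_0_1, tw_0_2, tw_1_3, tw_1_4, tw_2_5, tw_3_6, tw_5_7, tw_7_8]
                    have f11 : T.w u5 = T.w u8 := by linarith only [tw_0_1, tw_0_2, tw_1_3, tw_1_4, tw_2_5, tw_3_6, tw_5_7, tw_7_8]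
                    have f12 : T.w u2 = T.w u8 := by linarith only [tw_0_1, tw_0_2, tw_1_3, tw_1_4, tw_2_5, tw_3_6, tw_5_7, tw_7_8]
                    have f13 : T.w u0 = T.w u8 := by linarith only [tw_0_1, tw_0_2, tw_1_3, tw_1_4, tw_2_5, tw_3_6, tw_5_7, tw_7_8]
                    have f14 : T.w u1 = T.w u8 := by linarith only [tw_0_1, tw_0_2, tw_1_3, tw_1_4, tw_2_5, tw_3_6, tw_5_7, tw_7_8]
                    have f15 : T.w u3 = T.w u8 := by linarith only [tw_0_1, tw_0_2, tw_1_3, tw_1_4, tw_2_5, tw_3_6, tw_5_7, tw_7_8]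
                    have f16 : T.w u6 = T.w u8 := by linarith only [tw_0_1, tw_0_2, tw_1_3, tw_1_4, tw_2_5, tw_3_6, tw_5_7, tw_7_8]
                    have f17 : T.w u4 = T.w u8 := by linarith only [tw_0_1, tw_0_2, tw_1_3, tw_1_4, tw_2_5, tw_3_6, tw_5_7, tw_7_8]
                    have f18 : T.a u8 u8 = -2 * T.w u8 := by have := (h2 u8).2; linarith only [this, tw_0_1, tw_0_2, tw_1_3, tw_1_4, tw_2_5, tw_3_6, tw_5_7, tw_7_8]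
                    have f19 : T.a u8 u7 = T.w u8 := by rw [Groth.Agent.Helper6.NT.symm' T u8 u7]; linarith only [tap_7_8, tw_0_1, tw_0_2, tw_1_3, tw_1_4, tw_2_5, tw_3_6, tw_5_7, tw_7_8]
                    have f20 : T.a u8 u5 = 0 := by rw [Groth.Agent.Helper6.NT.symm' T u8 u5]; exact z_5_8
                    have f21 : T.a u8 u2 = 0 := by rw [Groth.Agent.Helper6.NT.symm' T u8 u2]; exact z_2_8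
                    have f22 : T.a u8 u0 = 0 := by rw [Groth.Agent.Helper6.NT.symm' T u8 u0]; exact z_0_8
                    have f23 : T.a u8 u1 = 0 := by rw [Groth.Agent.Helper6.NT.symm' T u8 u1]; exact z_1_8
                    have f24 : T.a u8 u3 = 0 := by rw [Groth.Agent.Helper6.NT.symm' T u8 u3]; exact z_3_8
                    have f25 : T.a u8 u6 = 0 := by rw [Groth.Agent.Helper6.NT.symm' T u8 u6]; exact z_6_8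
                    have f26 : T.a u8 u4 = 0 := by rw [Groth.Agent.Helper6.NT.symm' T u8 u4]; exact z_4_8
                    have f27 : T.a u7 u7 = -2 * T.w u8 := by have := (h2 u7).2; linarith only [this, tw_0_1, tw_0_2, tw_1_3, tw_1_4, tw_2_5, tw_3_6, tw_5_7, tw_7_8]
                    have f28 : T.a u7 u5 = T.w u8 := by rw [Groth.Agent.Helper6.NT.symm' T u7 u5]; linarith only [tap_5_7, tw_0_1, tw_0_2, tw_1_3, tw_1_4, tw_2_5, tw_3_6, tw_5_7, tw_7_8]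
                    have f29 : T.a u7 u2 = 0 := by rw [Groth.Agent.Helper6.NT.symm' T u7 u2]; exact z_2_7
                    have f30 : T.a u7 u0 = 0 := by rw [Groth.Agent.Helper6.NT.symm' T u7 u0]; exact z_0_7
                    have f31 : T.a u7 u1 = 0 := by rw [Groth.Agent.Helper6.NT.symm' T u7 u1]; exact z_1_7
                    have f32 : T.a u7 u3 = 0 := by rw [Groth.Agent.Helper6.NT.symm' T u7 u3]; exact z_3_7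
                    have f33 : T.a u7 u6 = 0 := by rw [Groth.Agent.Helper6.NT.symm' T u7 u6]; exact z_6_7
                    have f34 : T.a u7 u4 = 0 := by rw [Groth.Agent.Helper6.NT.symm' T u7 u4]; exact z_4_7
                    have f35 : T.a u5 u5 = -2 * T.w u8 := by have := (h2 u5).2; linarith only [this, tw_0_1, tw_0_2, tw_1_3, tw_1_4, tw_2_5, tw_3_6, tw_5_7, tw_7_8]
                    have f36 : T.a u5 u2 = T.w u8 := by rw [Groth.Agent.Helper6.NT.symm' T u5 u2]; linarith only [tap_2_5, tw_0_1, tw_0_2, tw_1_3, tw_1_4, tw_2_5, tw_3_6, tw_5_7, tw_7_8]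
                    have f37 : T.a u5 u0 = 0 := by rw [Groth.Agent.Helper6.NT.symm' T u5 u0]; exact z_0_5
                    have f38 : T.a u5 u1 = 0 := by rw [Groth.Agent.Helper6.NT.symm' T u5 u1]; exact z_1_5
                    have f39 : T.a u5 u3 = 0 := by rw [Groth.Agent.Helper6.NT.symm' T u5 u3]; exact z_3_5
                    have f40 : T.a u5 u6 = 0 := by exact z_5_6
                    have f41 : T.a u5 u4 = 0 := by rw [Groth.Agent.Helper6.NT.symm' T u5 u4]; exact z_4_5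
                    have f42 : T.a u2 u2 = -2 * T.w u8 := by have := (h2 u2).2; linarith only [this, tw_0_1, tw_0_2, tw_1_3, tw_1_4, tw_2_5, tw_3_6, tw_5_7, tw_7_8]
                    have f43 : T.a u2 u0 = T.w u8 := by rw [Groth.Agent.Helper6.NT.symm' T u2 u0]; linarith only [tap_0_2, tw_0_1, tw_0_2, tw_1_3, tw_1_4, tw_2_5, tw_3_6, tw_5_7, tw_7_8]
                    have f44 : T.a u2 u1 = 0 := by rw [Groth.Agent.Helper6.NT.symm' T u2 u1]; exact z_1_2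
                    have f45 : T.a u2 u3 = 0 := by exact z_2_3
                    have f46 : T.a u2 u6 = 0 := by exact z_2_6
                    have f47 : T.a u2 u4 = 0 := by exact z_2_4
                    have f48 : T.a u0 u0 = -2 * T.w u8 := by have := (h2 u0).2; linarith only [this, tw_0_1, tw_0_2, tw_1_3, tw_1_4, tw_2_5, tw_3_6, tw_5_7, tw_7_8]
                    have f49 : T.a u0 u1 = T.w u8 := by linarith only [tap_0_1, tw_0_1, tw_0_2, tw_1_3, tw_1_4, tw_2_5, tw_3_6, tw_5_7, tw_7_8]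
                    have f50 : T.a u0 u3 = 0 := by exact z_0_3
                    have f51 : T.a u0 u6 = 0 := by exact z_0_6
                    have f52 : T.a u0 u4 = 0 := by exact z_0_4
                    have f53 : T.a u1 u1 = -2 * T.w u8 := by have := (h2 u1).2; linarith only [this, tw_0_1, tw_0_2, tw_1_3, tw_1_4, tw_2_5, tw_3_6, tw_5_7, tw_7_8]
                    have f54 : T.a u1 u3 = T.w u8 := by linarith only [tap_1_3, tw_0_1, tw_0_2, tw_1_3, tw_1_4, tw_2_5, tw_3_6, tw_5_7, tw_7_8]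
                    have f55 : T.a u1 u6 = 0 := by exact z_1_6
                    have f56 : T.a u1 u4 = T.w u8 := by linarith only [tap_1_4, tw_0_1, tw_0_2, tw_1_3, tw_1_4, tw_2_5, tw_3_6, tw_5_7, tw_7_8]
                    have f57 : T.a u3 u3 = -2 * T.w u8 := by have := (h2 u3).2; linarith only [this, tw_0_1, tw_0_2, tw_1_3, tw_1_4, tw_2_5, tw_3_6, tw_5_7, tw_7_8]
                    have f58 : T.a u3 u6 = T.w u8 := by linarith only [tap_3_6, tw_0_1, tw_0_2, tw_1_3, tw_1_4, tw_2_5, tw_3_6, tw_5_7, tw_7_8]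
                    have f59 : T.a u3 u4 = 0 := by exact z_3_4
                    have f60 : T.a u6 u6 = -2 * T.w u8 := by have := (h2 u6).2; linarith only [this, tw_0_1, tw_0_2, tw_1_3, tw_1_4, tw_2_5, tw_3_6, tw_5_7, tw_7_8]
                    have f61 : T.a u6 u4 = 0 := by rw [Groth.Agent.Helper6.NT.symm' T u6 u4]; exact z_4_6
                    have f62 : T.a u4 u4 = -2 * T.w u8 := by have := (h2 u4).2; linarith only [this, tw_0_1, tw_0_2, tw_1_3, tw_1_4, tw_2_5, tw_3_6, tw_5_7, tw_7_8]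
                    have hsig := Groth.Agent.Helper6.NT.inj9 u8 u7 u5 u2 u0 u1 u3 u6 u4 hn_8_7.symm hn_8_5.symm hn_7_5.symm hn_8_2.symm hn_7_2.symm hn_5_2.symm hn_8_0.symm hn_7_0.symm hn_5_0.symm hn_2_0.symm hn_8_1.symm hn_7_1.symm hn_5_1.symm hn_2_1.symm hn_1_0 hn_8_3.symm hn_7_3.symm hn_5_3.symm hn_3_2 hn_3_0 hn_3_1 hn_8_6.symm hn_7_6.symm hn_6_5 hn_6_2 hn_6_0 hn_6_1 hn_6_3 hn_8_4.symm hn_7_4.symm hn_5_4.symm hn_4_2 hn_4_0 hn_4_1 hn_4_3 hn_6_4.symm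
                    exact ⟨Equiv.ofBijective _ (Finite.injective_iff_bijective.1 hsig), T.m u8, T.w u8, Or.inr (Or.inr (Or.inr (Or.inr (Or.inr (Or.inr (Or.inr (⟨f0, f1, f2, f3, f4, f5, f6, f7, f8, f9, f10, f11, f12, f13, f14, f15, f16, f17, f18, f19, f20, f21, f22, f23, f24, f25, f26, f27, f28, f29, f30, f31, f32, f33, f34, f35, f36, f37, f38, f39, f40, f41, f42, f43, f44, f45, f46, f47, f48, f49, f50, f51, f52, f53, f54, f55, f56, f57, f58, f59, f60, f61, f62⟩)))))))⟩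
                  · -- (7,8) Dp
                    exfalso
                    have key := Groth.Agent.Helper6.NT.negfun8 T h2 u0 u1 u2 u3 u4 u5 u7 u8 (by norm_num) 2 2 2 1 1 2 2 1 (by norm_num) (by norm_num)
                    linarith only [key, tap_0_1, taq_0_1, tap_0_2, taq_0_2, z_0_3, z_0_4, z_0_5, z_0_7, z_0_8, z_1_2, tap_1_3, taq_1_3, tap_1_4, taq_1_4, z_1_5, z_1_7, z_1_8, z_2_3, z_2_4, tap_2_5, taq_2_5, z_2_7, z_2_8, z_3_4, z_3_5, z_3_7, z_3_8, z_4_5, z_4_7, z_4_8, tap_5_7, taq_5_7, z_5_8, tap_7_8, taq_7_8, T.w_pos u0, T.w_pos u1, T.w_pos u2, T.w_pos u3, T.w_pos u4, T.w_pos u5, T.w_pos u7, T.w_pos u8]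
                  · -- (7,8) Dm
                    exfalso
                    have key := Groth.Agent.Helper6.NT.negfun8 T h2 u0 u1 u2 u3 u4 u5 u7 u8 (by norm_num) 2 2 2 1 1 2 2 2 (by norm_num) (by norm_num)
                    linarith only [key, tap_0_1, taq_0_1, tap_0_2, taq_0_2, z_0_3, z_0_4, z_0_5, z_0_7, z_0_8, z_1_2, tap_1_3, taq_1_3, tap_1_4, taq_1_4, z_1_5, z_1_7, z_1_8, z_2_3, z_2_4, tap_2_5, taq_2_5, z_2_7, z_2_8, z_3_4, z_3_5, z_3_7, z_3_8, z_4_5, z_4_7, z_4_8, tap_5_7, taq_5_7, z_5_8, tap_7_8, taq_7_8, T.w_pos u0, T.w_pos u1, T.w_pos u2, T.w_pos u3, T.w_pos u4, T.w_pos u5, T.w_pos u7, T.w_pos u8]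
                  · -- (7,8) Tp
                    exfalso
                    have key := Groth.Agent.Helper6.NT.negfun3 T h2 u5 u7 u8 (by norm_num) 1 2 1 (by norm_num) (by norm_num)
                    linarith only [key, tap_5_7, taq_5_7, z_5_8, tap_7_8, taq_7_8, T.w_pos u5, T.w_pos u7, T.w_pos u8]
                  · -- (7,8) Tm
                    exfalso
                    have key := Groth.Agent.Helper6.NT.negfun3 T h2 u5 u7 u8 (by norm_num) 1 2 3 (by norm_num) (by norm_num)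
                    linarith only [key, tap_5_7, taq_5_7, z_5_8, tap_7_8, taq_7_8, T.w_pos u5, T.w_pos u7, T.w_pos u8]
                · push Not at hx
                  have cl_7 := hx
                  clear hx
                  exfalso
                  refine Groth.Agent.Helper6.NT.closed_contra T [u0, u1, u2, u3, u4, u5, u6, u7] (by simp) (by simp) ?_
                  intro i hi j hj
                  simp only [List.mem_cons, List.not_mem_nil, or_false, not_or] at hi hj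
                  rcases hi with rfl | rfl | rfl | rfl | rfl | rfl | rfl | rfl
                  · exact cl_0 j ⟨hj.1, hj.2.1, hj.2.2.1⟩
                  · exact cl_1 j ⟨hj.1, hj.2.1, hj.2.2.1, hj.2.2.2.1, hj.2.2.2.2.1⟩
                  · exact cl_2 j ⟨hj.1, hj.2.1, hj.2.2.1, hj.2.2.2.1, hj.2.2.2.2.1, hj.2.2.2.2.2.1⟩
                  · exact cl_3 j ⟨hj.1, hj.2.1, hj.2.2.1, hj.2.2.2.1, hj.2.2.2.2.1, hj.2.2.2.2.2.1, hj.2.2.2.2.2.2.1⟩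
                  · exact cl_4 j ⟨hj.1, hj.2.1, hj.2.2.1, hj.2.2.2.1, hj.2.2.2.2.1, hj.2.2.2.2.2.1, hj.2.2.2.2.2.2.1⟩
                  · exact cl_5 j ⟨hj.1, hj.2.1, hj.2.2.1, hj.2.2.2.1, hj.2.2.2.2.1, hj.2.2.2.2.2.1, hj.2.2.2.2.2.2.1, hj.2.2.2.2.2.2.2⟩
                  · exact cl_6 j ⟨hj.1, hj.2.1, hj.2.2.1, hj.2.2.2.1, hj.2.2.2.2.1, hj.2.2.2.2.2.1, hj.2.2.2.2.2.2.1, hj.2.2.2.2.2.2.2⟩
                  · exact cl_7 j ⟨hj.1, hj.2.1, hj.2.2.1, hj.2.2.2.1, hj.2.2.2.2.1, hj.2.2.2.2.2.1, hj.2.2.2.2.2.2.1, hj.2.2.2.2.2.2.2⟩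
          · -- (6,7) nonzero
            obtain ⟨lbp_6_7, lbq_6_7⟩ := Groth.Agent.Helper6.NT.lb T u6 u7 hn_7_6.symm nz_6_7
            exfalso
            have key := Groth.Agent.Helper6.NT.negfun7 T h2 u0 u1 u2 u3 u5 u6 u7 (by norm_num) 1 1 1 1 1 1 1 (by norm_num) (by norm_num)
            linarith only [key, tap_0_1, taq_0_1, tap_0_2, taq_0_2, z_0_3, z_0_5, z_0_6, z_0_7, z_1_2, tap_1_3, taq_1_3, z_1_5, z_1_6, z_1_7, z_2_3, tap_2_5, taq_2_5, z_2_6, z_2_7, z_3_5, tap_3_6, taq_3_6, z_3_7, z_5_6, tap_5_7, taq_5_7, lbp_6_7, lbq_6_7, T.w_pos u0, T.w_pos u1, T.w_pos u2, T.w_pos u3, T.w_pos u5, T.w_pos u6, T.w_pos u7]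
        · -- (5,7) Dp
          exfalso
          have key := Groth.Agent.Helper6.NT.negfun7 T h2 u0 u1 u2 u3 u4 u5 u7 (by norm_num) 2 2 2 1 1 2 1 (by norm_num) (by norm_num)
          linarith only [key, tap_0_1, taq_0_1, tap_0_2, taq_0_2, z_0_3, z_0_4, z_0_5, z_0_7, z_1_2, tap_1_3, taq_1_3, tap_1_4, taq_1_4, z_1_5, z_1_7, z_2_3, z_2_4, tap_2_5, taq_2_5, z_2_7, z_3_4, z_3_5, z_3_7, z_4_5, z_4_7, tap_5_7, taq_5_7, T.w_pos u0, T.w_pos u1, T.w_pos u2, T.w_pos u3, T.w_pos u4, T.w_pos u5, T.w_pos u7]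
        · -- (5,7) Dm
          exfalso
          have key := Groth.Agent.Helper6.NT.negfun7 T h2 u0 u1 u2 u3 u4 u5 u7 (by norm_num) 2 2 2 1 1 2 2 (by norm_num) (by norm_num)
          linarith only [key, tap_0_1, taq_0_1, tap_0_2, taq_0_2, z_0_3, z_0_4, z_0_5, z_0_7, z_1_2, tap_1_3, taq_1_3, tap_1_4, taq_1_4, z_1_5, z_1_7, z_2_3, z_2_4, tap_2_5, taq_2_5, z_2_7, z_3_4, z_3_5, z_3_7, z_4_5, z_4_7, tap_5_7, taq_5_7, T.w_pos u0, T.w_pos u1, T.w_pos u2, T.w_pos u3, T.w_pos u4, T.w_pos u5, T.w_pos u7]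
        · -- (5,7) Tp
          exfalso
          have key := Groth.Agent.Helper6.NT.negfun3 T h2 u2 u5 u7 (by norm_num) 1 2 1 (by norm_num) (by norm_num)
          linarith only [key, tap_2_5, taq_2_5, z_2_7, tap_5_7, taq_5_7, T.w_pos u2, T.w_pos u5, T.w_pos u7]
        · -- (5,7) Tm
          exfalso
          have key := Groth.Agent.Helper6.NT.negfun3 T h2 u2 u5 u7 (by norm_num) 1 2 3 (by norm_num) (by norm_num)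
          linarith only [key, tap_2_5, taq_2_5, z_2_7, tap_5_7, taq_5_7, T.w_pos u2, T.w_pos u5, T.w_pos u7]
      · push Not at hx
        have cl_5 := hx
        clear hx
        by_cases hx : ∃ j, (j ≠ u0 ∧ j ≠ u1 ∧ j ≠ u2 ∧ j ≠ u3 ∧ j ≠ u4 ∧ j ≠ u5 ∧ j ≠ u6) ∧ T.a u6 j ≠ 0
        · obtain ⟨u7, ⟨hn_7_0, hn_7_1, hn_7_2, hn_7_3, hn_7_4, hn_7_5, hn_7_6⟩, e_6_7⟩ := hx
          have z_0_7 : T.a u0 u7 = 0 := cl_0 u7 ⟨hn_7_0, hn_7_1, hn_7_2⟩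
          have z_1_7 : T.a u1 u7 = 0 := cl_1 u7 ⟨hn_7_0, hn_7_1, hn_7_2, hn_7_3, hn_7_4⟩
          have z_2_7 : T.a u2 u7 = 0 := cl_2 u7 ⟨hn_7_0, hn_7_1, hn_7_2, hn_7_3, hn_7_4, hn_7_5⟩
          have z_3_7 : T.a u3 u7 = 0 := cl_3 u7 ⟨hn_7_0, hn_7_1, hn_7_2, hn_7_3, hn_7_4, hn_7_5, hn_7_6⟩
          have z_4_7 : T.a u4 u7 = 0 := cl_4 u7 ⟨hn_7_0, hn_7_1, hn_7_2, hn_7_3, hn_7_4, hn_7_5, hn_7_6⟩
          have z_5_7 : T.a u5 u7 = 0 := cl_5 u7 ⟨hn_7_0, hn_7_1, hn_7_2, hn_7_3, hn_7_4, hn_7_5, hn_7_6⟩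
          rcases Groth.Agent.Helper6.NT.edge5 T h2 (by norm_num) u6 u7 hn_7_6.symm e_6_7 with ⟨tw_6_7, tap_6_7, taq_6_7⟩ | ⟨tw_6_7, tap_6_7, taq_6_7⟩ | ⟨tw_6_7, tap_6_7, taq_6_7⟩ | ⟨tw_6_7, tap_6_7, taq_6_7⟩ | ⟨tw_6_7, tap_6_7, taq_6_7⟩
          · -- (6,7) S
            exfalso
            have key := Groth.Agent.Helper6.NT.negfun8 T h2 u0 u1 u2 u3 u4 u5 u6 u7 (by norm_num) 3 4 2 3 2 1 2 1 (by norm_num) (by norm_num)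
            linarith only [key, tap_0_1, taq_0_1, tap_0_2, taq_0_2, z_0_3, z_0_4, z_0_5, z_0_6, z_0_7, z_1_2, tap_1_3, taq_1_3, tap_1_4, taq_1_4, z_1_5, z_1_6, z_1_7, z_2_3, z_2_4, tap_2_5, taq_2_5, z_2_6, z_2_7, z_3_4, z_3_5, tap_3_6, taq_3_6, z_3_7, z_4_5, z_4_6, z_4_7, z_5_6, z_5_7, tap_6_7, taq_6_7, T.w_pos u0, T.w_pos u1, T.w_pos u2, T.w_pos u3, T.w_pos u4, T.w_pos u5, T.w_pos u6, T.w_pos u7]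
          · -- (6,7) Dp
            exfalso
            have key := Groth.Agent.Helper6.NT.negfun6 T h2 u0 u1 u3 u4 u6 u7 (by norm_num) 1 2 2 1 2 1 (by norm_num) (by norm_num)
            linarith only [key, tap_0_1, taq_0_1, z_0_3, z_0_4, z_0_6, z_0_7, tap_1_3, taq_1_3, tap_1_4, taq_1_4, z_1_6, z_1_7, z_3_4, tap_3_6, taq_3_6, z_3_7, z_4_6, z_4_7, tap_6_7, taq_6_7, T.w_pos u0, T.w_pos u1, T.w_pos u3, T.w_pos u4, T.w_pos u6, T.w_pos u7]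
          · -- (6,7) Dm
            exfalso
            have key := Groth.Agent.Helper6.NT.negfun6 T h2 u0 u1 u3 u4 u6 u7 (by norm_num) 1 2 2 1 2 2 (by norm_num) (by norm_num)
            linarith only [key, tap_0_1, taq_0_1, z_0_3, z_0_4, z_0_6, z_0_7, tap_1_3, taq_1_3, tap_1_4, taq_1_4, z_1_6, z_1_7, z_3_4, tap_3_6, taq_3_6, z_3_7, z_4_6, z_4_7, tap_6_7, taq_6_7, T.w_pos u0, T.w_pos u1, T.w_pos u3, T.w_pos u4, T.w_pos u6, T.w_pos u7]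
          · -- (6,7) Tp
            exfalso
            have key := Groth.Agent.Helper6.NT.negfun3 T h2 u3 u6 u7 (by norm_num) 1 2 1 (by norm_num) (by norm_num)
            linarith only [key, tap_3_6, taq_3_6, z_3_7, tap_6_7, taq_6_7, T.w_pos u3, T.w_pos u6, T.w_pos u7]
          · -- (6,7) Tm
            exfalso
            have key := Groth.Agent.Helper6.NT.negfun3 T h2 u3 u6 u7 (by norm_num) 1 2 3 (by norm_num) (by norm_num)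
            linarith only [key, tap_3_6, taq_3_6, z_3_7, tap_6_7, taq_6_7, T.w_pos u3, T.w_pos u6, T.w_pos u7]
        · push Not at hx
          have cl_6 := hx
          clear hx
          exfalso
          refine Groth.Agent.Helper6.NT.closed_contra T [u0, u1, u2, u3, u4, u5, u6] (by simp) (by simp) ?_
          intro i hi j hj
          simp only [List.mem_cons, List.not_mem_nil, or_false, not_or] at hi hj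
          rcases hi with rfl | rfl | rfl | rfl | rfl | rfl | rfl
          · exact cl_0 j ⟨hj.1, hj.2.1, hj.2.2.1⟩
          · exact cl_1 j ⟨hj.1, hj.2.1, hj.2.2.1, hj.2.2.2.1, hj.2.2.2.2.1⟩
          · exact cl_2 j ⟨hj.1, hj.2.1, hj.2.2.1, hj.2.2.2.1, hj.2.2.2.2.1, hj.2.2.2.2.2.1⟩
          · exact cl_3 j ⟨hj.1, hj.2.1, hj.2.2.1, hj.2.2.2.1, hj.2.2.2.2.1, hj.2.2.2.2.2.1, hj.2.2.2.2.2.2⟩
          · exact cl_4 j ⟨hj.1, hj.2.1, hj.2.2.1, hj.2.2.2.1, hj.2.2.2.2.1, hj.2.2.2.2.2.1, hj.2.2.2.2.2.2⟩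
          · exact cl_5 j ⟨hj.1, hj.2.1, hj.2.2.1, hj.2.2.2.1, hj.2.2.2.2.1, hj.2.2.2.2.2.1, hj.2.2.2.2.2.2⟩
          · exact cl_6 j ⟨hj.1, hj.2.1, hj.2.2.1, hj.2.2.2.1, hj.2.2.2.2.1, hj.2.2.2.2.2.1, hj.2.2.2.2.2.2⟩

theorem cut9_16 (T : Models.NumericalType 9) (h2 : ∀ i, T.IsMinusTwo i) (u0 u1 u2 u3 u4 u5 u6 : Fin 9)
    (hn_1_0 : u1 ≠ u0)
    (e_0_1 : T.a u0 u1 ≠ 0)
    (tw_0_1 : T.w u1 = T.w u0)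
    (tap_0_1 : T.a u0 u1 = T.w u0)
    (taq_0_1 : T.a u0 u1 = T.w u1)
    (hn_2_0 : u2 ≠ u0)
    (hn_2_1 : u2 ≠ u1)
    (e_0_2 : T.a u0 u2 ≠ 0)
    (tw_0_2 : T.w u2 = T.w u0)
    (tap_0_2 : T.a u0 u2 = T.w u0)
    (taq_0_2 : T.a u0 u2 = T.w u2)
    (z_1_2 : T.a u1 u2 = 0)
    (cl_0 : ∀ j : Fin 9, (j ≠ u0 ∧ j ≠ u1 ∧ j ≠ u2) → T.a u0 j = 0)
    (hn_3_0 : u3 ≠ u0)
    (hn_3_1 : u3 ≠ u1)
    (hn_3_2 : u3 ≠ u2)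
    (e_1_3 : T.a u1 u3 ≠ 0)
    (z_0_3 : T.a u0 u3 = 0)
    (tw_1_3 : T.w u3 = T.w u1)
    (tap_1_3 : T.a u1 u3 = T.w u1)
    (taq_1_3 : T.a u1 u3 = T.w u3)
    (z_2_3 : T.a u2 u3 = 0)
    (hn_4_0 : u4 ≠ u0)
    (hn_4_1 : u4 ≠ u1)
    (hn_4_2 : u4 ≠ u2)
    (hn_4_3 : u4 ≠ u3)
    (e_1_4 : T.a u1 u4 ≠ 0)
    (z_0_4 : T.a u0 u4 = 0)
    (tw_1_4 : T.w u4 = T.w u1)
    (tap_1_4 : T.a u1 u4 = T.w u1)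
    (taq_1_4 : T.a u1 u4 = T.w u4)
    (z_2_4 : T.a u2 u4 = 0)
    (z_3_4 : T.a u3 u4 = 0)
    (cl_1 : ∀ j : Fin 9, (j ≠ u0 ∧ j ≠ u1 ∧ j ≠ u2 ∧ j ≠ u3 ∧ j ≠ u4) → T.a u1 j = 0)
    (hn_5_0 : u5 ≠ u0)
    (hn_5_1 : u5 ≠ u1)
    (hn_5_2 : u5 ≠ u2)
    (hn_5_3 : u5 ≠ u3)
    (hn_5_4 : u5 ≠ u4)
    (e_2_5 : T.a u2 u5 ≠ 0)
    (z_0_5 : T.a u0 u5 = 0)
    (z_1_5 : T.a u1 u5 = 0)
    (tw_2_5 : T.w u5 = T.w u2)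
    (tap_2_5 : T.a u2 u5 = T.w u2)
    (taq_2_5 : T.a u2 u5 = T.w u5)
    (z_3_5 : T.a u3 u5 = 0)
    (z_4_5 : T.a u4 u5 = 0)
    (cl_2 : ∀ j : Fin 9, (j ≠ u0 ∧ j ≠ u1 ∧ j ≠ u2 ∧ j ≠ u3 ∧ j ≠ u4 ∧ j ≠ u5) → T.a u2 j = 0)
    (cl_3 : ∀ j : Fin 9, (j ≠ u0 ∧ j ≠ u1 ∧ j ≠ u2 ∧ j ≠ u3 ∧ j ≠ u4 ∧ j ≠ u5) → T.a u3 j = 0)
    (hn_6_0 : u6 ≠ u0)
    (hn_6_1 : u6 ≠ u1)
    (hn_6_2 : u6 ≠ u2)
    (hn_6_3 : u6 ≠ u3)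
    (hn_6_4 : u6 ≠ u4)
    (hn_6_5 : u6 ≠ u5)
    (e_4_6 : T.a u4 u6 ≠ 0)
    (z_0_6 : T.a u0 u6 = 0)
    (z_1_6 : T.a u1 u6 = 0)
    (z_2_6 : T.a u2 u6 = 0)
    (z_3_6 : T.a u3 u6 = 0)
    (tw_4_6 : T.w u6 = T.w u4)
    (tap_4_6 : T.a u4 u6 = T.w u4)
    (taq_4_6 : T.a u4 u6 = T.w u6)
    (z_5_6 : T.a u5 u6 = 0) :
    ∃ (σ : Equiv.Perm (Fin 9)) (m w : ℤ), ((T.m (σ 0) = m ∧ T.m (σ 1) = m ∧ T.m (σ 2) = m ∧ T.m (σ 3) = m ∧ T.m (σ 4) = m ∧ T.m (σ 5) = m ∧ T.m (σ 6) = m ∧ T.m (σ 7) = m ∧ T.m (σ 8) = m ∧ T.w (σ 0) = w ∧ T.w (σ 1) = w ∧ T.w (σ 2) = w ∧ T.w (σ 3) = w ∧ T.w (σ 4) = w ∧ T.w (σ 5) = w ∧ T.w (σ 6) = w ∧ T.w (σ 7) = w ∧ T.w (σ 8) = w ∧ T.a (σ 0) (σ 0) = -2 * w ∧ T.a (σ 0) (σ 1) = w ∧ T.a (σ 0) (σ 2) = 0 ∧ T.a (σ 0) (σ 3) = 0 ∧ T.a (σ 0) (σ 4) = 0 ∧ T.a (σ 0) (σ 5) = 0 ∧ T.a (σ 0)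 (σ 6) = 0 ∧ T.a (σ 0) (σ 7) = 0 ∧ T.a (σ 0) (σ 8) = w ∧ T.a (σ 1) (σ 1) = -2 * w ∧ T.a (σ 1) (σ 2) = w ∧ T.a (σ 1) (σ 3) = 0 ∧ T.a (σ 1) (σ 4) = 0 ∧ T.a (σ 1) (σ 5) = 0 ∧ T.a (σ 1) (σ 6) = 0 ∧ T.a (σ 1) (σ 7) = 0 ∧ T.a (σ 1) (σ 8) = 0 ∧ T.a (σ 2) (σ 2) = -2 * w ∧ T.a (σ 2) (σ 3) = w ∧ T.a (σ 2) (σ 4) = 0 ∧ T.a (σ 2) (σ 5) = 0 ∧ T.a (σ 2) (σ 6) = 0 ∧ T.a (σ 2) (σ 7) = 0 ∧ T.a (σ 2) (σ 8) = 0 ∧ T.a (σ 3) (σ 3) = -2 * w ∧ T.a (σ 3) (σ 4) = w ∧ T.a (σ 3) (σ 5) = 0 ∧ T.a (σ 3) (σ 6) = 0 ∧ T.a (σ 3) (σ 7) = 0 ∧ T.a (σ 3) (σ 8) = 0 ∧ T.a (σ 4) (σ 4) = -2 * w ∧ T.a (σ 4) (σ 5) = w ∧ T.a (σ 4) (σ 6) = 0 ∧ T.a (σ 4) (σ 7) = 0 ∧ T.a (σ 4) (σ 8) = 0 ∧ T.a (σ 5) (σ 5) = -2 * w ∧ T.a (σ 5) (σ 6) = w ∧ T.a (σ 5) (σ 7) = 0 ∧ T.a (σ 5) (σ 8) = 0 ∧ T.a (σ 6) (σ 6) = -2 * w ∧ T.a (σ 6) (σ 7) = w ∧ T.a (σ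 6) (σ 8) = 0 ∧ T.a (σ 7) (σ 7) = -2 * w ∧ T.a (σ 7) (σ 8) = w ∧ T.a (σ 8) (σ 8) = -2 * w) ∨ (T.m (σ 0) = 2 * m ∧ T.m (σ 1) = 2 * m ∧ T.m (σ 2) = 2 * m ∧ T.m (σ 3) = 2 * m ∧ T.m (σ 4) = 2 * m ∧ T.m (σ 5) = 2 * m ∧ T.m (σ 6) = 2 * m ∧ T.m (σ 7) = 2 * m ∧ T.m (σ 8) = m ∧ T.w (σ 0) = w ∧ T.w (σ 1) = 2 * w ∧ T.w (σ 2) = 2 * w ∧ T.w (σ 3) = 2 * w ∧ T.w (σ 4) = 2 * w ∧ T.w (σ 5) = 2 * w ∧ T.w (σ 6) = 2 * w ∧ T.w (σ 7) = 2 * w ∧ T.w (σ 8) = 4 * w ∧ T.a (σ 0) (σ 0) = -2 * w ∧ T.a (σ 0) (σ 1) = 2 * w ∧ T.a (σ 0) (σ 2) = 0 ∧ T.a (σ 0) (σ 3) = 0 ∧ T.a (σ 0) (σ 4) = 0 ∧ T.a (σ 0) (σ 5) = 0 ∧ T.a (σ 0) (σ 6) = 0 ∧ T.a (σ 0) (σ 7) = 0 ∧ T.a (σ 0) (σ 8) = 0 ∧ T.a (σ 1) (σ 1) = -4 * w ∧ T.a (σ 1) (σ 2) = 2 * w ∧ T.a (σ 1) (σ 3) = 0 ∧ T.a (σ 1) (σ 4) = 0 ∧ T.a (σ 1) (σ 5) = 0 ∧ T.a (σ 1) (σ 6) = 0 ∧ T.a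 (σ 1) (σ 7) = 0 ∧ T.a (σ 1) (σ 8) = 0 ∧ T.a (σ 2) (σ 2) = -4 * w ∧ T.a (σ 2) (σ 3) = 2 * w ∧ T.a (σ 2) (σ 4) = 0 ∧ T.a (σ 2) (σ 5) = 0 ∧ T.a (σ 2) (σ 6) = 0 ∧ T.a (σ 2) (σ 7) = 0 ∧ T.a (σ 2) (σ 8) = 0 ∧ T.a (σ 3) (σ 3) = -4 * w ∧ T.a (σ 3) (σ 4) = 2 * w ∧ T.a (σ 3) (σ 5) = 0 ∧ T.a (σ 3) (σ 6) = 0 ∧ T.a (σ 3) (σ 7) = 0 ∧ T.a (σ 3) (σ 8) = 0 ∧ T.a (σ 4) (σ 4) = -4 * w ∧ T.a (σ 4) (σ 5) = 2 * w ∧ T.a (σ 4) (σ 6) = 0 ∧ T.a (σ 4) (σ 7) = 0 ∧ T.a (σ 4) (σ 8) = 0 ∧ T.a (σ 5) (σ 5) = -4 * w ∧ T.a (σ 5) (σ 6) = 2 * w ∧ T.a (σ 5) (σ 7) = 0 ∧ T.a (σ 5) (σ 8) = 0 ∧ T.a (σ 6) (σ 6) = -4 * w ∧ T.a (σ 6) (σ 7) = 2 * w ∧ T.a (σ 6) (σ 8) = 0 ∧ T.a (σ 7) (σ 7) = -4 * w ∧ T.a (σ 7) (σ 8) = 4 * w ∧ T.a (σ 8) (σ 8) = -8 * w) ∨ (T.m (σ 0) = m ∧ T.m (σ 1) = m ∧ T.m (σ 2) = m ∧ T.m (σ 3) = m ∧ T.m (σ 4) = m ∧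 T.m (σ 5) = m ∧ T.m (σ 6) = m ∧ T.m (σ 7) = m ∧ T.m (σ 8) = m ∧ T.w (σ 0) = w ∧ T.w (σ 1) = 2 * w ∧ T.w (σ 2) = 2 * w ∧ T.w (σ 3) = 2 * w ∧ T.w (σ 4) = 2 * w ∧ T.w (σ 5) = 2 * w ∧ T.w (σ 6) = 2 * w ∧ T.w (σ 7) = 2 * w ∧ T.w (σ 8) = w ∧ T.a (σ 0) (σ 0) = -2 * w ∧ T.a (σ 0) (σ 1) = 2 * w ∧ T.a (σ 0) (σ 2) = 0 ∧ T.a (σ 0) (σ 3) = 0 ∧ T.a (σ 0) (σ 4) = 0 ∧ T.a (σ 0) (σ 5) = 0 ∧ T.a (σ 0) (σ 6) = 0 ∧ T.a (σ 0) (σ 7) = 0 ∧ T.a (σ 0) (σ 8) = 0 ∧ T.a (σ 1) (σ 1) = -4 * w ∧ T.a (σ 1) (σ 2) = 2 * w ∧ T.a (σ 1) (σ 3) = 0 ∧ T.a (σ 1) (σ 4) = 0 ∧ T.a (σ 1) (σ 5) = 0 ∧ T.a (σ 1) (σ 6) = 0 ∧ T.a (σ 1) (σ 7) = 0 ∧ T.a (σ 1) (σ 8) = 0 ∧ T.a (σ 2) (σ 2) = -4 * w ∧ T.a (σ 2) (σ 3) = 2 * w ∧ T.a (σ 2) (σ 4) = 0 ∧ T.a (σ 2) (σ 5) = 0 ∧ T.a (σ 2) (σ 6) = 0 ∧ T.a (σ 2) (σ 7) = 0 ∧ T.a (σ 2) (σ 8) = 0 ∧ T.a (σ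 3) (σ 3) = -4 * w ∧ T.a (σ 3) (σ 4) = 2 * w ∧ T.a (σ 3) (σ 5) = 0 ∧ T.a (σ 3) (σ 6) = 0 ∧ T.a (σ 3) (σ 7) = 0 ∧ T.a (σ 3) (σ 8) = 0 ∧ T.a (σ 4) (σ 4) = -4 * w ∧ T.a (σ 4) (σ 5) = 2 * w ∧ T.a (σ 4) (σ 6) = 0 ∧ T.a (σ 4) (σ 7) = 0 ∧ T.a (σ 4) (σ 8) = 0 ∧ T.a (σ 5) (σ 5) = -4 * w ∧ T.a (σ 5) (σ 6) = 2 * w ∧ T.a (σ 5) (σ 7) = 0 ∧ T.a (σ 5) (σ 8) = 0 ∧ T.a (σ 6) (σ 6) = -4 * w ∧ T.a (σ 6) (σ 7) = 2 * w ∧ T.a (σ 6) (σ 8) = 0 ∧ T.a (σ 7) (σ 7) = -4 * w ∧ T.a (σ 7) (σ 8) = 2 * w ∧ T.a (σ 8) (σ 8) = -2 * w) ∨ (T.m (σ 0) = m ∧ T.m (σ 1) = 2 * m ∧ T.m (σ 2) = 2 * m ∧ T.m (σ 3) = 2 * m ∧ T.m (σ 4) = 2 * m ∧ T.m (σ 5) = 2 * m ∧ T.m (σ 6) = 2 * m ∧ T.m (σ 7) = 2 * m ∧ T.m (σ 8) = m ∧ T.w (σ 0) = 2 * w ∧ T.w (σ 1) = w ∧ T.w (σ 2) = w ∧ T.w (σ 3) = w ∧ T.w (σ 4) = w ∧ T.w (σ 5) = w ∧ T.w (σ 6) = w ∧ T.w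 (σ 7) = w ∧ T.w (σ 8) = 2 * w ∧ T.a (σ 0) (σ 0) = -4 * w ∧ T.a (σ 0) (σ 1) = 2 * w ∧ T.a (σ 0) (σ 2) = 0 ∧ T.a (σ 0) (σ 3) = 0 ∧ T.a (σ 0) (σ 4) = 0 ∧ T.a (σ 0) (σ 5) = 0 ∧ T.a (σ 0) (σ 6) = 0 ∧ T.a (σ 0) (σ 7) = 0 ∧ T.a (σ 0) (σ 8) = 0 ∧ T.a (σ 1) (σ 1) = -2 * w ∧ T.a (σ 1) (σ 2) = w ∧ T.a (σ 1) (σ 3) = 0 ∧ T.a (σ 1) (σ 4) = 0 ∧ T.a (σ 1) (σ 5) = 0 ∧ T.a (σ 1) (σ 6) = 0 ∧ T.a (σ 1) (σ 7) = 0 ∧ T.a (σ 1) (σ 8) = 0 ∧ T.a (σ 2) (σ 2) = -2 * w ∧ T.a (σ 2) (σ 3) = w ∧ T.a (σ 2) (σ 4) = 0 ∧ T.a (σ 2) (σ 5) = 0 ∧ T.a (σ 2) (σ 6) = 0 ∧ T.a (σ 2) (σ 7) = 0 ∧ T.a (σ 2) (σ 8) = 0 ∧ T.a (σ 3) (σ 3) = -2 * w ∧ T.a (σ 3) (σ 4) = w ∧ T.a (σ 3) (σ 5) = 0 ∧ T.a (σ 3) (σ 6) = 0 ∧ T.a (σ 3) (σ 7) = 0 ∧ T.a (σ 3) (σ 8) = 0 ∧ T.a (σ 4) (σ 4) = -2 * w ∧ T.a (σ 4) (σ 5) = w ∧ T.a (σ 4) (σ 6) = 0 ∧ T.a (σ 4)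 (σ 7) = 0 ∧ T.a (σ 4) (σ 8) = 0 ∧ T.a (σ 5) (σ 5) = -2 * w ∧ T.a (σ 5) (σ 6) = w ∧ T.a (σ 5) (σ 7) = 0 ∧ T.a (σ 5) (σ 8) = 0 ∧ T.a (σ 6) (σ 6) = -2 * w ∧ T.a (σ 6) (σ 7) = w ∧ T.a (σ 6) (σ 8) = 0 ∧ T.a (σ 7) (σ 7) = -2 * w ∧ T.a (σ 7) (σ 8) = 2 * w ∧ T.a (σ 8) (σ 8) = -4 * w) ∨ (T.m (σ 0) = m ∧ T.m (σ 1) = 2 * m ∧ T.m (σ 2) = 2 * m ∧ T.m (σ 3) = 2 * m ∧ T.m (σ 4) = 2 * m ∧ T.m (σ 5) = 2 * m ∧ T.m (σ 6) = 2 * m ∧ T.m (σ 7) = m ∧ T.m (σ 8) = m ∧ T.w (σ 0) = 2 * w ∧ T.w (σ 1) = w ∧ T.w (σ 2) = w ∧ T.w (σ 3) = w ∧ T.w (σ 4) = w ∧ T.w (σ 5) = w ∧ T.w (σ 6) = w ∧ T.w (σ 7) = w ∧ T.w (σ 8) = w ∧ T.a (σ 0) (σ 0) = -4 * w ∧ T.a (σ 0) (σ 1) = 2 * w ∧ T.a (σ 0) (σ 2) = 0 ∧ T.a (σ 0) (σ 3) = 0 ∧ T.a (σ 0) (σ 4) = 0 ∧ T.a (σ 0) (σ 5) = 0 ∧ T.a (σ 0) (σ 6) = 0 ∧ T.a (σ 0) (σ 7) = 0 ∧ T.a (σ 0) (σ 8)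 = 0 ∧ T.a (σ 1) (σ 1) = -2 * w ∧ T.a (σ 1) (σ 2) = w ∧ T.a (σ 1) (σ 3) = 0 ∧ T.a (σ 1) (σ 4) = 0 ∧ T.a (σ 1) (σ 5) = 0 ∧ T.a (σ 1) (σ 6) = 0 ∧ T.a (σ 1) (σ 7) = 0 ∧ T.a (σ 1) (σ 8) = 0 ∧ T.a (σ 2) (σ 2) = -2 * w ∧ T.a (σ 2) (σ 3) = w ∧ T.a (σ 2) (σ 4) = 0 ∧ T.a (σ 2) (σ 5) = 0 ∧ T.a (σ 2) (σ 6) = 0 ∧ T.a (σ 2) (σ 7) = 0 ∧ T.a (σ 2) (σ 8) = 0 ∧ T.a (σ 3) (σ 3) = -2 * w ∧ T.a (σ 3) (σ 4) = w ∧ T.a (σ 3) (σ 5) = 0 ∧ T.a (σ 3) (σ 6) = 0 ∧ T.a (σ 3) (σ 7) = 0 ∧ T.a (σ 3) (σ 8) = 0 ∧ T.a (σ 4) (σ 4) = -2 * w ∧ T.a (σ 4) (σ 5) = w ∧ T.a (σ 4) (σ 6) = 0 ∧ T.a (σ 4) (σ 7) = 0 ∧ T.a (σ 4) (σ 8) = 0 ∧ T.a (σ 5) (σ 5) = -2 * w ∧ T.a (σ 5) (σ 6) = w ∧ T.a (σ 5) (σ 7) = 0 ∧ T.a (σ 5) (σ 8) = 0 ∧ T.a (σ 6) (σ 6) = -2 * w ∧ T.a (σ 6) (σ 7) = w ∧ T.a (σ 6) (σ 8) = w ∧ T.a (σ 7) (σ 7) = -2 * w ∧ T.a (σ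 7) (σ 8) = 0 ∧ T.a (σ 8) (σ 8) = -2 * w) ∨ (T.m (σ 0) = 2 * m ∧ T.m (σ 1) = 2 * m ∧ T.m (σ 2) = 2 * m ∧ T.m (σ 3) = 2 * m ∧ T.m (σ 4) = 2 * m ∧ T.m (σ 5) = 2 * m ∧ T.m (σ 6) = 2 * m ∧ T.m (σ 7) = m ∧ T.m (σ 8) = m ∧ T.w (σ 0) = w ∧ T.w (σ 1) = 2 * w ∧ T.w (σ 2) = 2 * w ∧ T.w (σ 3) = 2 * w ∧ T.w (σ 4) = 2 * w ∧ T.w (σ 5) = 2 * w ∧ T.w (σ 6) = 2 * w ∧ T.w (σ 7) = 2 * w ∧ T.w (σ 8) = 2 * w ∧ T.a (σ 0) (σ 0) = -2 * w ∧ T.a (σ 0) (σ 1) = 2 * w ∧ T.a (σ 0) (σ 2) = 0 ∧ T.a (σ 0) (σ 3) = 0 ∧ T.a (σ 0) (σ 4) = 0 ∧ T.a (σ 0) (σ 5) = 0 ∧ T.a (σ 0) (σ 6) = 0 ∧ T.a (σ 0) (σ 7) = 0 ∧ T.a (σ 0) (σ 8) = 0 ∧ T.a (σ 1) (σ 1) = -4 * w ∧ T.a (σ 1) (σ 2) = 2 * w ∧ T.a (σ 1) (σ 3) = 0 ∧ T.a (σ 1) (σ 4) = 0 ∧ T.a (σ 1) (σ 5) = 0 ∧ T.a (σ 1) (σ 6) = 0 ∧ T.a (σ 1) (σ 7) = 0 ∧ T.a (σ 1) (σ 8) = 0 ∧ T.a (σ 2) (σ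 2) = -4 * w ∧ T.a (σ 2) (σ 3) = 2 * w ∧ T.a (σ 2) (σ 4) = 0 ∧ T.a (σ 2) (σ 5) = 0 ∧ T.a (σ 2) (σ 6) = 0 ∧ T.a (σ 2) (σ 7) = 0 ∧ T.a (σ 2) (σ 8) = 0 ∧ T.a (σ 3) (σ 3) = -4 * w ∧ T.a (σ 3) (σ 4) = 2 * w ∧ T.a (σ 3) (σ 5) = 0 ∧ T.a (σ 3) (σ 6) = 0 ∧ T.a (σ 3) (σ 7) = 0 ∧ T.a (σ 3) (σ 8) = 0 ∧ T.a (σ 4) (σ 4) = -4 * w ∧ T.a (σ 4) (σ 5) = 2 * w ∧ T.a (σ 4) (σ 6) = 0 ∧ T.a (σ 4) (σ 7) = 0 ∧ T.a (σ 4) (σ 8) = 0 ∧ T.a (σ 5) (σ 5) = -4 * w ∧ T.a (σ 5) (σ 6) = 2 * w ∧ T.a (σ 5) (σ 7) = 0 ∧ T.a (σ 5) (σ 8) = 0 ∧ T.a (σ 6) (σ 6) = -4 * w ∧ T.a (σ 6) (σ 7) = 2 * w ∧ T.a (σ 6) (σ 8) = 2 * w ∧ T.a (σ 7) (σ 7) = -4 * w ∧ T.a (σ 7) (σ 8) = 0 ∧ T.a (σ 8) (σ 8) = -4 * w) ∨ (T.m (σ 0) = m ∧ T.m (σ 1) = m ∧ T.m (σ 2) = 2 * m ∧ T.m (σ 3) = 2 * m ∧ T.m (σ 4) = 2 * m ∧ T.m (σ 5) = 2 * m ∧ T.m (σ 6) = 2 * m ∧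 T.m (σ 7) = m ∧ T.m (σ 8) = m ∧ T.w (σ 0) = w ∧ T.w (σ 1) = w ∧ T.w (σ 2) = w ∧ T.w (σ 3) = w ∧ T.w (σ 4) = w ∧ T.w (σ 5) = w ∧ T.w (σ 6) = w ∧ T.w (σ 7) = w ∧ T.w (σ 8) = w ∧ T.a (σ 0) (σ 0) = -2 * w ∧ T.a (σ 0) (σ 1) = 0 ∧ T.a (σ 0) (σ 2) = w ∧ T.a (σ 0) (σ 3) = 0 ∧ T.a (σ 0) (σ 4) = 0 ∧ T.a (σ 0) (σ 5) = 0 ∧ T.a (σ 0) (σ 6) = 0 ∧ T.a (σ 0) (σ 7) = 0 ∧ T.a (σ 0) (σ 8) = 0 ∧ T.a (σ 1) (σ 1) = -2 * w ∧ T.a (σ 1) (σ 2) = w ∧ T.a (σ 1) (σ 3) = 0 ∧ T.a (σ 1) (σ 4) = 0 ∧ T.a (σ 1) (σ 5) = 0 ∧ T.a (σ 1) (σ 6) = 0 ∧ T.a (σ 1) (σ 7) = 0 ∧ T.a (σ 1) (σ 8) = 0 ∧ T.a (σ 2) (σ 2) = -2 * w ∧ T.a (σ 2) (σ 3) = w ∧ T.a (σ 2) (σ 4) = 0 ∧ T.a (σ 2) (σ 5) = 0 ∧ T.a (σ 2) (σ 6) = 0 ∧ T.a (σ 2) (σ 7) = 0 ∧ T.a (σ 2) (σ 8) = 0 ∧ T.a (σ 3) (σ 3) = -2 * w ∧ T.a (σ 3) (σ 4) = w ∧ T.a (σ 3) (σ 5) = 0 ∧ T.a (σ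 3) (σ 6) = 0 ∧ T.a (σ 3) (σ 7) = 0 ∧ T.a (σ 3) (σ 8) = 0 ∧ T.a (σ 4) (σ 4) = -2 * w ∧ T.a (σ 4) (σ 5) = w ∧ T.a (σ 4) (σ 6) = 0 ∧ T.a (σ 4) (σ 7) = 0 ∧ T.a (σ 4) (σ 8) = 0 ∧ T.a (σ 5) (σ 5) = -2 * w ∧ T.a (σ 5) (σ 6) = w ∧ T.a (σ 5) (σ 7) = 0 ∧ T.a (σ 5) (σ 8) = 0 ∧ T.a (σ 6) (σ 6) = -2 * w ∧ T.a (σ 6) (σ 7) = w ∧ T.a (σ 6) (σ 8) = w ∧ T.a (σ 7) (σ 7) = -2 * w ∧ T.a (σ 7) (σ 8) = 0 ∧ T.a (σ 8) (σ 8) = -2 * w) ∨ (T.m (σ 0) = m ∧ T.m (σ 1) = 2 * m ∧ T.m (σ 2) = 3 * m ∧ T.m (σ 3) = 4 * m ∧ T.m (σ 4) = 5 * m ∧ T.m (σ 5) = 6 * m ∧ T.m (σ 6) = 4 * m ∧ T.m (σ 7) = 2 * m ∧ T.m (σ 8) = 3 * m ∧ T.w (σ 0) = w ∧ T.w (σ 1) = w ∧ T.w (σ 2) = w ∧ T.w (σ 3) = w ∧ T.w (σ 4) = w ∧ T.w (σ 5) = w ∧ T.w (σ 6) = w ∧ T.w (σ 7) = w ∧ T.w (σ 8) = w ∧ T.a (σ 0) (σ 0) = -2 * w ∧ T.a (σ 0) (σ 1) = w ∧ T.a (σ 0) (σ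 2) = 0 ∧ T.a (σ 0) (σ 3) = 0 ∧ T.a (σ 0) (σ 4) = 0 ∧ T.a (σ 0) (σ 5) = 0 ∧ T.a (σ 0) (σ 6) = 0 ∧ T.a (σ 0) (σ 7) = 0 ∧ T.a (σ 0) (σ 8) = 0 ∧ T.a (σ 1) (σ 1) = -2 * w ∧ T.a (σ 1) (σ 2) = w ∧ T.a (σ 1) (σ 3) = 0 ∧ T.a (σ 1) (σ 4) = 0 ∧ T.a (σ 1) (σ 5) = 0 ∧ T.a (σ 1) (σ 6) = 0 ∧ T.a (σ 1) (σ 7) = 0 ∧ T.a (σ 1) (σ 8) = 0 ∧ T.a (σ 2) (σ 2) = -2 * w ∧ T.a (σ 2) (σ 3) = w ∧ T.a (σ 2) (σ 4) = 0 ∧ T.a (σ 2) (σ 5) = 0 ∧ T.a (σ 2) (σ 6) = 0 ∧ T.a (σ 2) (σ 7) = 0 ∧ T.a (σ 2) (σ 8) = 0 ∧ T.a (σ 3) (σ 3) = -2 * w ∧ T.a (σ 3) (σ 4) = w ∧ T.a (σ 3) (σ 5) = 0 ∧ T.a (σ 3) (σ 6) = 0 ∧ T.a (σ 3) (σ 7) = 0 ∧ T.a (σ 3) (σ 8) = 0 ∧ T.a (σ 4) (σ 4) = -2 * w ∧ T.a (σ 4) (σ 5) = w ∧ T.a (σ 4) (σ 6) = 0 ∧ T.a (σ 4) (σ 7) = 0 ∧ T.a (σ 4) (σ 8) = 0 ∧ T.a (σ 5) (σ 5) = -2 * w ∧ T.a (σ 5) (σ 6) = w ∧ T.a (σ 5) (σ 7)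 = 0 ∧ T.a (σ 5) (σ 8) = w ∧ T.a (σ 6) (σ 6) = -2 * w ∧ T.a (σ 6) (σ 7) = w ∧ T.a (σ 6) (σ 8) = 0 ∧ T.a (σ 7) (σ 7) = -2 * w ∧ T.a (σ 7) (σ 8) = 0 ∧ T.a (σ 8) (σ 8) = -2 * w)) := by
  by_cases hx : ∃ j, (j ≠ u0 ∧ j ≠ u1 ∧ j ≠ u2 ∧ j ≠ u3 ∧ j ≠ u4 ∧ j ≠ u5 ∧ j ≠ u6) ∧ T.a u4 j ≠ 0
  · obtain ⟨u7, ⟨hn_7_0, hn_7_1, hn_7_2, hn_7_3, hn_7_4, hn_7_5, hn_7_6⟩, e_4_7⟩ := hx
    have z_0_7 : T.a u0 u7 = 0 := cl_0 u7 ⟨hn_7_0, hn_7_1, hn_7_2⟩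
    have z_1_7 : T.a u1 u7 = 0 := cl_1 u7 ⟨hn_7_0, hn_7_1, hn_7_2, hn_7_3, hn_7_4⟩
    have z_2_7 : T.a u2 u7 = 0 := cl_2 u7 ⟨hn_7_0, hn_7_1, hn_7_2, hn_7_3, hn_7_4, hn_7_5⟩
    have z_3_7 : T.a u3 u7 = 0 := cl_3 u7 ⟨hn_7_0, hn_7_1, hn_7_2, hn_7_3, hn_7_4, hn_7_5⟩
    rcases Groth.Agent.Helper6.NT.edge5 T h2 (by norm_num) u4 u7 hn_7_4.symm e_4_7 with ⟨tw_4_7, tap_4_7, taq_4_7⟩ | ⟨tw_4_7, tap_4_7, taq_4_7⟩ | ⟨tw_4_7, tap_4_7, taq_4_7⟩ | ⟨tw_4_7, tap_4_7, taq_4_7⟩ | ⟨tw_4_7, tap_4_7, taq_4_7⟩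
    · -- (4,7) S
      exfalso
      have key := Groth.Agent.Helper6.NT.negfun6 T h2 u0 u1 u3 u4 u6 u7 (by norm_num) 1 2 1 2 1 1 (by norm_num) (by norm_num)
      linarith only [key, tap_0_1, taq_0_1, z_0_3, z_0_4, z_0_6, z_0_7, tap_1_3, taq_1_3, tap_1_4, taq_1_4, z_1_6, z_1_7, z_3_4, z_3_6, z_3_7, tap_4_6, taq_4_6, tap_4_7, taq_4_7, T.offDiag_nonneg u6 u7 hn_7_6.symm, T.w_pos u0, T.w_pos u1, T.w_pos u3, T.w_pos u4, T.w_pos u6, T.w_pos u7]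
    · -- (4,7) Dp
      exfalso
      have key := Groth.Agent.Helper6.NT.negfun4 T h2 u1 u4 u6 u7 (by norm_num) 1 2 1 1 (by norm_num) (by norm_num)
      linarith only [key, tap_1_4, taq_1_4, z_1_6, z_1_7, tap_4_6, taq_4_6, tap_4_7, taq_4_7, T.offDiag_nonneg u6 u7 hn_7_6.symm, T.w_pos u1, T.w_pos u4, T.w_pos u6, T.w_pos u7]
    · -- (4,7) Dm
      exfalso
      have key := Groth.Agent.Helper6.NT.negfun4 T h2 u1 u4 u6 u7 (by norm_num) 1 2 1 2 (by norm_num) (by norm_num)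
      linarith only [key, tap_1_4, taq_1_4, z_1_6, z_1_7, tap_4_6, taq_4_6, tap_4_7, taq_4_7, T.offDiag_nonneg u6 u7 hn_7_6.symm, T.w_pos u1, T.w_pos u4, T.w_pos u6, T.w_pos u7]
    · -- (4,7) Tp
      exfalso
      have key := Groth.Agent.Helper6.NT.negfun3 T h2 u4 u6 u7 (by norm_num) 2 1 1 (by norm_num) (by norm_num)
      linarith only [key, tap_4_6, taq_4_6, tap_4_7, taq_4_7, T.offDiag_nonneg u6 u7 hn_7_6.symm, T.w_pos u4, T.w_pos u6, T.w_pos u7]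
    · -- (4,7) Tm
      exfalso
      have key := Groth.Agent.Helper6.NT.negfun3 T h2 u4 u6 u7 (by norm_num) 2 1 3 (by norm_num) (by norm_num)
      linarith only [key, tap_4_6, taq_4_6, tap_4_7, taq_4_7, T.offDiag_nonneg u6 u7 hn_7_6.symm, T.w_pos u4, T.w_pos u6, T.w_pos u7]
  · push Not at hx
    have cl_4 := hx
    clear hx
    by_cases hx : ∃ j, (j ≠ u0 ∧ j ≠ u1 ∧ j ≠ u2 ∧ j ≠ u3 ∧ j ≠ u4 ∧ j ≠ u5 ∧ j ≠ u6) ∧ T.a u5 j ≠ 0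
    · obtain ⟨u7, ⟨hn_7_0, hn_7_1, hn_7_2, hn_7_3, hn_7_4, hn_7_5, hn_7_6⟩, e_5_7⟩ := hx
      have z_0_7 : T.a u0 u7 = 0 := cl_0 u7 ⟨hn_7_0, hn_7_1, hn_7_2⟩
      have z_1_7 : T.a u1 u7 = 0 := cl_1 u7 ⟨hn_7_0, hn_7_1, hn_7_2, hn_7_3, hn_7_4⟩
      have z_2_7 : T.a u2 u7 = 0 := cl_2 u7 ⟨hn_7_0, hn_7_1, hn_7_2, hn_7_3, hn_7_4, hn_7_5⟩
      have z_3_7 : T.a u3 u7 = 0 := cl_3 u7 ⟨hn_7_0, hn_7_1, hn_7_2, hn_7_3, hn_7_4, hn_7_5⟩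
      have z_4_7 : T.a u4 u7 = 0 := cl_4 u7 ⟨hn_7_0, hn_7_1, hn_7_2, hn_7_3, hn_7_4, hn_7_5, hn_7_6⟩
      rcases Groth.Agent.Helper6.NT.edge5 T h2 (by norm_num) u5 u7 hn_7_5.symm e_5_7 with ⟨tw_5_7, tap_5_7, taq_5_7⟩ | ⟨tw_5_7, tap_5_7, taq_5_7⟩ | ⟨tw_5_7, tap_5_7, taq_5_7⟩ | ⟨tw_5_7, tap_5_7, taq_5_7⟩ | ⟨tw_5_7, tap_5_7, taq_5_7⟩
      · -- (5,7) S
        rcases eq_or_ne (T.a u6 u7) 0 with z_6_7 | nz_6_7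
        · -- (6,7) zero
          by_cases hx : ∃ j, (j ≠ u0 ∧ j ≠ u1 ∧ j ≠ u2 ∧ j ≠ u3 ∧ j ≠ u4 ∧ j ≠ u5 ∧ j ≠ u6 ∧ j ≠ u7) ∧ T.a u5 j ≠ 0
          · obtain ⟨u8, ⟨hn_8_0, hn_8_1, hn_8_2, hn_8_3, hn_8_4, hn_8_5, hn_8_6, hn_8_7⟩, e_5_8⟩ := hx
            have z_0_8 : T.a u0 u8 = 0 := cl_0 u8 ⟨hn_8_0, hn_8_1, hn_8_2⟩
            have z_1_8 : T.a u1 u8 = 0 := cl_1 u8 ⟨hn_8_0, hn_8_1, hn_8_2, hn_8_3, hn_8_4⟩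
            have z_2_8 : T.a u2 u8 = 0 := cl_2 u8 ⟨hn_8_0, hn_8_1, hn_8_2, hn_8_3, hn_8_4, hn_8_5⟩
            have z_3_8 : T.a u3 u8 = 0 := cl_3 u8 ⟨hn_8_0, hn_8_1, hn_8_2, hn_8_3, hn_8_4, hn_8_5⟩
            have z_4_8 : T.a u4 u8 = 0 := cl_4 u8 ⟨hn_8_0, hn_8_1, hn_8_2, hn_8_3, hn_8_4, hn_8_5, hn_8_6⟩
            rcases Groth.Agent.Helper6.NT.edge5 T h2 (by norm_num) u5 u8 hn_8_5.symm e_5_8 with ⟨tw_5_8, tap_5_8, taq_5_8⟩ | ⟨tw_5_8, tap_5_8, taq_5_8⟩ | ⟨tw_5_8, tap_5_8, taq_5_8⟩ | ⟨tw_5_8, tap_5_8, taq_5_8⟩ | ⟨tw_5_8, tap_5_8, taq_5_8⟩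
            · -- (5,8) S
              exfalso
              have key := Groth.Agent.Helper6.NT.negfun8 T h2 u0 u1 u2 u3 u4 u5 u7 u8 (by norm_num) 2 2 2 1 1 2 1 1 (by norm_num) (by norm_num)
              linarith only [key, tap_0_1, taq_0_1, tap_0_2, taq_0_2, z_0_3, z_0_4, z_0_5, z_0_7, z_0_8, z_1_2, tap_1_3, taq_1_3, tap_1_4, taq_1_4, z_1_5, z_1_7, z_1_8, z_2_3, z_2_4, tap_2_5, taq_2_5, z_2_7, z_2_8, z_3_4, z_3_5, z_3_7, z_3_8, z_4_5, z_4_7, z_4_8, tap_5_7, taq_5_7, tap_5_8, taq_5_8, T.offDiag_nonneg u7 u8 hn_8_7.symm, T.w_pos u0, T.w_pos u1, T.w_pos u2, T.w_pos u3, T.w_pos u4, T.w_pos u5, T.w_pos u7, T.w_pos u8]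
            · -- (5,8) Dp
              exfalso
              have key := Groth.Agent.Helper6.NT.negfun4 T h2 u2 u5 u7 u8 (by norm_num) 1 2 1 1 (by norm_num) (by norm_num)
              linarith only [key, tap_2_5, taq_2_5, z_2_7, z_2_8, tap_5_7, taq_5_7, tap_5_8, taq_5_8, T.offDiag_nonneg u7 u8 hn_8_7.symm, T.w_pos u2, T.w_pos u5, T.w_pos u7, T.w_pos u8]
            · -- (5,8) Dm
              exfalso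
              have key := Groth.Agent.Helper6.NT.negfun4 T h2 u2 u5 u7 u8 (by norm_num) 1 2 1 2 (by norm_num) (by norm_num)
              linarith only [key, tap_2_5, taq_2_5, z_2_7, z_2_8, tap_5_7, taq_5_7, tap_5_8, taq_5_8, T.offDiag_nonneg u7 u8 hn_8_7.symm, T.w_pos u2, T.w_pos u5, T.w_pos u7, T.w_pos u8]
            · -- (5,8) Tp
              exfalso
              have key := Groth.Agent.Helper6.NT.negfun3 T h2 u5 u7 u8 (by norm_num) 2 1 1 (by norm_num) (by norm_num)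
              linarith only [key, tap_5_7, taq_5_7, tap_5_8, taq_5_8, T.offDiag_nonneg u7 u8 hn_8_7.symm, T.w_pos u5, T.w_pos u7, T.w_pos u8]
            · -- (5,8) Tm
              exfalso
              have key := Groth.Agent.Helper6.NT.negfun3 T h2 u5 u7 u8 (by norm_num) 2 1 3 (by norm_num) (by norm_num)
              linarith only [key, tap_5_7, taq_5_7, tap_5_8, taq_5_8, T.offDiag_nonneg u7 u8 hn_8_7.symm, T.w_pos u5, T.w_pos u7, T.w_pos u8]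
          · push Not at hx
            have cl_5 := hx
            clear hx
            by_cases hx : ∃ j, (j ≠ u0 ∧ j ≠ u1 ∧ j ≠ u2 ∧ j ≠ u3 ∧ j ≠ u4 ∧ j ≠ u5 ∧ j ≠ u6 ∧ j ≠ u7) ∧ T.a u6 j ≠ 0
            · obtain ⟨u8, ⟨hn_8_0, hn_8_1, hn_8_2, hn_8_3, hn_8_4, hn_8_5, hn_8_6, hn_8_7⟩, e_6_8⟩ := hx
              have z_0_8 : T.a u0 u8 = 0 := cl_0 u8 ⟨hn_8_0, hn_8_1, hn_8_2⟩
              have z_1_8 : T.a u1 u8 = 0 := cl_1 u8 ⟨hn_8_0, hn_8_1, hn_8_2, hn_8_3, hn_8_4⟩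
              have z_2_8 : T.a u2 u8 = 0 := cl_2 u8 ⟨hn_8_0, hn_8_1, hn_8_2, hn_8_3, hn_8_4, hn_8_5⟩
              have z_3_8 : T.a u3 u8 = 0 := cl_3 u8 ⟨hn_8_0, hn_8_1, hn_8_2, hn_8_3, hn_8_4, hn_8_5⟩
              have z_4_8 : T.a u4 u8 = 0 := cl_4 u8 ⟨hn_8_0, hn_8_1, hn_8_2, hn_8_3, hn_8_4, hn_8_5, hn_8_6⟩
              have z_5_8 : T.a u5 u8 = 0 := cl_5 u8 ⟨hn_8_0, hn_8_1, hn_8_2, hn_8_3, hn_8_4, hn_8_5, hn_8_6, hn_8_7⟩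
              rcases Groth.Agent.Helper6.NT.edge5 T h2 (by norm_num) u6 u8 hn_8_6.symm e_6_8 with ⟨tw_6_8, tap_6_8, taq_6_8⟩ | ⟨tw_6_8, tap_6_8, taq_6_8⟩ | ⟨tw_6_8, tap_6_8, taq_6_8⟩ | ⟨tw_6_8, tap_6_8, taq_6_8⟩ | ⟨tw_6_8, tap_6_8, taq_6_8⟩
              · -- (6,8) S
                exfalso
                have key := Groth.Agent.Helper6.NT.negfun8 T h2 u0 u1 u2 u3 u4 u5 u6 u8 (by norm_num) 3 4 2 2 3 1 2 1 (by norm_num) (by norm_num)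
                linarith only [key, tap_0_1, taq_0_1, tap_0_2, taq_0_2, z_0_3, z_0_4, z_0_5, z_0_6, z_0_8, z_1_2, tap_1_3, taq_1_3, tap_1_4, taq_1_4, z_1_5, z_1_6, z_1_8, z_2_3, z_2_4, tap_2_5, taq_2_5, z_2_6, z_2_8, z_3_4, z_3_5, z_3_6, z_3_8, z_4_5, tap_4_6, taq_4_6, z_4_8, z_5_6, z_5_8, tap_6_8, taq_6_8, T.w_pos u0, T.w_pos u1, T.w_pos u2, T.w_pos u3, T.w_pos u4, T.w_pos u5, T.w_pos u6, T.w_pos u8]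
              · -- (6,8) Dp
                exfalso
                have key := Groth.Agent.Helper6.NT.negfun6 T h2 u0 u1 u3 u4 u6 u8 (by norm_num) 1 2 1 2 2 1 (by norm_num) (by norm_num)
                linarith only [key, tap_0_1, taq_0_1, z_0_3, z_0_4, z_0_6, z_0_8, tap_1_3, taq_1_3, tap_1_4, taq_1_4, z_1_6, z_1_8, z_3_4, z_3_6, z_3_8, tap_4_6, taq_4_6, z_4_8, tap_6_8, taq_6_8, T.w_pos u0, T.w_pos u1, T.w_pos u3, T.w_pos u4, T.w_pos u6, T.w_pos u8]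
              · -- (6,8) Dm
                exfalso
                have key := Groth.Agent.Helper6.NT.negfun6 T h2 u0 u1 u3 u4 u6 u8 (by norm_num) 1 2 1 2 2 2 (by norm_num) (by norm_num)
                linarith only [key, tap_0_1, taq_0_1, z_0_3, z_0_4, z_0_6, z_0_8, tap_1_3, taq_1_3, tap_1_4, taq_1_4, z_1_6, z_1_8, z_3_4, z_3_6, z_3_8, tap_4_6, taq_4_6, z_4_8, tap_6_8, taq_6_8, T.w_pos u0, T.w_pos u1, T.w_pos u3, T.w_pos u4, T.w_pos u6, T.w_pos u8]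
              · -- (6,8) Tp
                exfalso
                have key := Groth.Agent.Helper6.NT.negfun3 T h2 u4 u6 u8 (by norm_num) 1 2 1 (by norm_num) (by norm_num)
                linarith only [key, tap_4_6, taq_4_6, z_4_8, tap_6_8, taq_6_8, T.w_pos u4, T.w_pos u6, T.w_pos u8]
              · -- (6,8) Tm
                exfalso
                have key := Groth.Agent.Helper6.NT.negfun3 T h2 u4 u6 u8 (by norm_num) 1 2 3 (by norm_num) (by norm_num)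
                linarith only [key, tap_4_6, taq_4_6, z_4_8, tap_6_8, taq_6_8, T.w_pos u4, T.w_pos u6, T.w_pos u8]
            · push Not at hx
              have cl_6 := hx
              clear hx
              by_cases hx : ∃ j, (j ≠ u0 ∧ j ≠ u1 ∧ j ≠ u2 ∧ j ≠ u3 ∧ j ≠ u4 ∧ j ≠ u5 ∧ j ≠ u6 ∧ j ≠ u7) ∧ T.a u7 j ≠ 0
              · obtain ⟨u8, ⟨hn_8_0, hn_8_1, hn_8_2, hn_8_3, hn_8_4, hn_8_5, hn_8_6, hn_8_7⟩, e_7_8⟩ := hx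
                have z_0_8 : T.a u0 u8 = 0 := cl_0 u8 ⟨hn_8_0, hn_8_1, hn_8_2⟩
                have z_1_8 : T.a u1 u8 = 0 := cl_1 u8 ⟨hn_8_0, hn_8_1, hn_8_2, hn_8_3, hn_8_4⟩
                have z_2_8 : T.a u2 u8 = 0 := cl_2 u8 ⟨hn_8_0, hn_8_1, hn_8_2, hn_8_3, hn_8_4, hn_8_5⟩
                have z_3_8 : T.a u3 u8 = 0 := cl_3 u8 ⟨hn_8_0, hn_8_1, hn_8_2, hn_8_3, hn_8_4, hn_8_5⟩
                have z_4_8 : T.a u4 u8 = 0 := cl_4 u8 ⟨hn_8_0, hn_8_1, hn_8_2, hn_8_3, hn_8_4, hn_8_5, hn_8_6⟩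
                have z_5_8 : T.a u5 u8 = 0 := cl_5 u8 ⟨hn_8_0, hn_8_1, hn_8_2, hn_8_3, hn_8_4, hn_8_5, hn_8_6, hn_8_7⟩
                have z_6_8 : T.a u6 u8 = 0 := cl_6 u8 ⟨hn_8_0, hn_8_1, hn_8_2, hn_8_3, hn_8_4, hn_8_5, hn_8_6, hn_8_7⟩
                rcases Groth.Agent.Helper6.NT.edge5 T h2 (by norm_num) u7 u8 hn_8_7.symm e_7_8 with ⟨tw_7_8, tap_7_8, taq_7_8⟩ | ⟨tw_7_8, tap_7_8, taq_7_8⟩ | ⟨tw_7_8, tap_7_8, taq_7_8⟩ | ⟨tw_7_8, tap_7_8, taq_7_8⟩ | ⟨tw_7_8, tap_7_8, taq_7_8⟩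
                · -- (7,8) S
                  have hinj := Groth.Agent.Helper6.NT.inj9 u0 u1 u2 u3 u4 u5 u6 u7 u8 hn_1_0 hn_2_0 hn_2_1 hn_3_0 hn_3_1 hn_3_2 hn_4_0 hn_4_1 hn_4_2 hn_4_3 hn_5_0 hn_5_1 hn_5_2 hn_5_3 hn_5_4 hn_6_0 hn_6_1 hn_6_2 hn_6_3 hn_6_4 hn_6_5 hn_7_0 hn_7_1 hn_7_2 hn_7_3 hn_7_4 hn_7_5 hn_7_6 hn_8_0 hn_8_1 hn_8_2 hn_8_3 hn_8_4 hn_8_5 hn_8_6 hn_8_7
                  have r_0 : -2 * T.m u0 + 1 * T.m u1 + 1 * T.m u2 = 0 := by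
                    have key := Groth.Agent.Helper6.NT.rowfun9 T u0 u1 u2 u3 u4 u5 u6 u7 u8 hinj u0
                    rw [(h2 u0).2, tap_0_1, tap_0_2, z_0_3, z_0_4, z_0_5, z_0_6, z_0_7, z_0_8] at key
                    exact mul_left_cancel₀ (T.w_pos u0).ne' (by linarith only [key])
                  have r_1 : 1 * T.m u0 + -2 * T.m u1 + 1 * T.m u3 + 1 * T.m u4 = 0 := by
                    have key := Groth.Agent.Helper6.NT.rowfun9 T u0 u1 u2 u3 u4 u5 u6 u7 u8 hinj u1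
                    rw [Groth.Agent.Helper6.NT.symm' T u1 u0, taq_0_1, (h2 u1).2, z_1_2, tap_1_3, tap_1_4, z_1_5, z_1_6, z_1_7, z_1_8] at key
                    exact mul_left_cancel₀ (T.w_pos u1).ne' (by linarith only [key])
                  have r_2 : 1 * T.m u0 + -2 * T.m u2 + 1 * T.m u5 = 0 := by
                    have key := Groth.Agent.Helper6.NT.rowfun9 T u0 u1 u2 u3 u4 u5 u6 u7 u8 hinj u2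
                    rw [Groth.Agent.Helper6.NT.symm' T u2 u0, taq_0_2, Groth.Agent.Helper6.NT.symm' T u2 u1, z_1_2, (h2 u2).2, z_2_3, z_2_4, tap_2_5, z_2_6, z_2_7, z_2_8] at key
                    exact mul_left_cancel₀ (T.w_pos u2).ne' (by linarith only [key])
                  have r_3 : 1 * T.m u1 + -2 * T.m u3 = 0 := by
                    have key := Groth.Agent.Helper6.NT.rowfun9 T u0 u1 u2 u3 u4 u5 u6 u7 u8 hinj u3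
                    rw [Groth.Agent.Helper6.NT.symm' T u3 u0, z_0_3, Groth.Agent.Helper6.NT.symm' T u3 u1, taq_1_3, Groth.Agent.Helper6.NT.symm' T u3 u2, z_2_3, (h2 u3).2, z_3_4, z_3_5, z_3_6, z_3_7, z_3_8] at key
                    exact mul_left_cancel₀ (T.w_pos u3).ne' (by linarith only [key])
                  have r_4 : 1 * T.m u1 + -2 * T.m u4 + 1 * T.m u6 = 0 := by
                    have key := Groth.Agent.Helper6.NT.rowfun9 T u0 u1 u2 u3 u4 u5 u6 u7 u8 hinj u4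
                    rw [Groth.Agent.Helper6.NT.symm' T u4 u0, z_0_4, Groth.Agent.Helper6.NT.symm' T u4 u1, taq_1_4, Groth.Agent.Helper6.NT.symm' T u4 u2, z_2_4, Groth.Agent.Helper6.NT.symm' T u4 u3, z_3_4, (h2 u4).2, z_4_5, tap_4_6, z_4_7, z_4_8] at key
                    exact mul_left_cancel₀ (T.w_pos u4).ne' (by linarith only [key])
                  have r_5 : 1 * T.m u2 + -2 * T.m u5 + 1 * T.m u7 = 0 := by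
                    have key := Groth.Agent.Helper6.NT.rowfun9 T u0 u1 u2 u3 u4 u5 u6 u7 u8 hinj u5
                    rw [Groth.Agent.Helper6.NT.symm' T u5 u0, z_0_5, Groth.Agent.Helper6.NT.symm' T u5 u1, z_1_5, Groth.Agent.Helper6.NT.symm' T u5 u2, taq_2_5, Groth.Agent.Helper6.NT.symm' T u5 u3, z_3_5, Groth.Agent.Helper6.NT.symm' T u5 u4, z_4_5, (h2 u5).2, z_5_6, tap_5_7, z_5_8] at key
                    exact mul_left_cancel₀ (T.w_pos u5).ne' (by linarith only [key])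
                  have r_6 : 1 * T.m u4 + -2 * T.m u6 = 0 := by
                    have key := Groth.Agent.Helper6.NT.rowfun9 T u0 u1 u2 u3 u4 u5 u6 u7 u8 hinj u6
                    rw [Groth.Agent.Helper6.NT.symm' T u6 u0, z_0_6, Groth.Agent.Helper6.NT.symm' T u6 u1, z_1_6, Groth.Agent.Helper6.NT.symm' T u6 u2, z_2_6, Groth.Agent.Helper6.NT.symm' T u6 u3, z_3_6, Groth.Agent.Helper6.NT.symm' T u6 u4, taq_4_6, Groth.Agent.Helper6.NT.symm' T u6 u5, z_5_6, (h2 u6).2, z_6_7, z_6_8] at key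
                    exact mul_left_cancel₀ (T.w_pos u6).ne' (by linarith only [key])
                  have r_7 : 1 * T.m u5 + -2 * T.m u7 + 1 * T.m u8 = 0 := by
                    have key := Groth.Agent.Helper6.NT.rowfun9 T u0 u1 u2 u3 u4 u5 u6 u7 u8 hinj u7
                    rw [Groth.Agent.Helper6.NT.symm' T u7 u0, z_0_7, Groth.Agent.Helper6.NT.symm' T u7 u1, z_1_7, Groth.Agent.Helper6.NT.symm' T u7 u2, z_2_7, Groth.Agent.Helper6.NT.symm' T u7 u3, z_3_7, Groth.Agent.Helper6.NT.symm' T u7 u4, z_4_7, Groth.Agent.Helper6.NT.symm' T u7 u5, taq_5_7, Groth.Agent.Helper6.NT.symm' T u7 u6, z_6_7, (h2 u7).2, tap_7_8] at key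
                    exact mul_left_cancel₀ (T.w_pos u7).ne' (by linarith only [key])
                  have r_8 : 1 * T.m u7 + -2 * T.m u8 = 0 := by
                    have key := Groth.Agent.Helper6.NT.rowfun9 T u0 u1 u2 u3 u4 u5 u6 u7 u8 hinj u8
                    rw [Groth.Agent.Helper6.NT.symm' T u8 u0, z_0_8, Groth.Agent.Helper6.NT.symm' T u8 u1, z_1_8, Groth.Agent.Helper6.NT.symm' T u8 u2, z_2_8, Groth.Agent.Helper6.NT.symm' T u8 u3, z_3_8, Groth.Agent.Helper6.NT.symm' T u8 u4, z_4_8, Groth.Agent.Helper6.NT.symm' T u8 u5, z_5_8, Groth.Agent.Helper6.NT.symm' T u8 u6, z_6_8, Groth.Agent.Helper6.NT.symm' T u8 u7, taq_7_8, (h2 u8).2] at key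
                    exact mul_left_cancel₀ (T.w_pos u8).ne' (by linarith only [key])
                  have f0 : T.m u8 = T.m u8 := rfl
                  have f1 : T.m u7 = 2 * T.m u8 := by linarith only [r_0, r_1, r_2, r_3, r_4, r_5, r_6, r_7, r_8]
                  have f2 : T.m u5 = 3 * T.m u8 := by linarith only [r_0, r_1, r_2, r_3, r_4, r_5, r_6, r_7, r_8]
                  have f3 : T.m u2 = 4 * T.m u8 := by linarith only [r_0, r_1, r_2, r_3, r_4, r_5, r_6, r_7, r_8]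
                  have f4 : T.m u0 = 5 * T.m u8 := by linarith only [r_0, r_1, r_2, r_3, r_4, r_5, r_6, r_7, r_8]
                  have f5 : T.m u1 = 6 * T.m u8 := by linarith only [r_0, r_1, r_2, r_3, r_4, r_5, r_6, r_7, r_8]
                  have f6 : T.m u4 = 4 * T.m u8 := by linarith only [r_0, r_1, r_2, r_3, r_4, r_5, r_6, r_7, r_8]
                  have f7 : T.m u6 = 2 * T.m u8 := by linarith only [r_0, r_1, r_2, r_3, r_4, r_5, r_6, r_7, r_8]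
                  have f8 : T.m u3 = 3 * T.m u8 := by linarith only [r_0, r_1, r_2, r_3, r_4, r_5, r_6, r_7, r_8]
                  have f9 : T.w u8 = T.w u8 := rfl
                  have f10 : T.w u7 = T.w u8 := by linarith only [tw_0_1, tw_0_2, tw_1_3, tw_1_4, tw_2_5, tw_4_6, tw_5_7, tw_7_8]
                  have f11 : T.w u5 = T.w u8 := by linarith only [tw_0_1, tw_0_2, tw_1_3, tw_1_4, tw_2_5, tw_4_6, tw_5_7, tw_7_8]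
                  have f12 : T.w u2 = T.w u8 := by linarith only [tw_0_1, tw_0_2, tw_1_3, tw_1_4, tw_2_5, tw_4_6, tw_5_7, tw_7_8]
                  have f13 : T.w u0 = T.w u8 := by linarith only [tw_0_1, tw_0_2, tw_1_3, tw_1_4, tw_2_5, tw_4_6, tw_5_7, tw_7_8]
                  have f14 : T.w u1 = T.w u8 := by linarith only [tw_0_1, tw_0_2, tw_1_3, tw_1_4, tw_2_5, tw_4_6, tw_5_7, tw_7_8]
                  have f15 : T.w u4 = T.w u8 := by linarith only [tw_0_1, tw_0_2, tw_1_3, tw_1_4, tw_2_5, tw_4_6, tw_5_7, tw_7_8]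
                  have f16 : T.w u6 = T.w u8 := by linarith only [tw_0_1, tw_0_2, tw_1_3, tw_1_4, tw_2_5, tw_4_6, tw_5_7, tw_7_8]
                  have f17 : T.w u3 = T.w u8 := by linarith only [tw_0_1, tw_0_2, tw_1_3, tw_1_4, tw_2_5, tw_4_6, tw_5_7, tw_7_8]
                  have f18 : T.a u8 u8 = -2 * T.w u8 := by have := (h2 u8).2; linarith only [this, tw_0_1, tw_0_2, tw_1_3, tw_1_4, tw_2_5, tw_4_6, tw_5_7, tw_7_8]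
                  have f19 : T.a u8 u7 = T.w u8 := by rw [Groth.Agent.Helper6.NT.symm' T u8 u7]; linarith only [tap_7_8, tw_0_1, tw_0_2, tw_1_3, tw_1_4, tw_2_5, tw_4_6, tw_5_7, tw_7_8]
                  have f20 : T.a u8 u5 = 0 := by rw [Groth.Agent.Helper6.NT.symm' T u8 u5]; exact z_5_8
                  have f21 : T.a u8 u2 = 0 := by rw [Groth.Agent.Helper6.NT.symm' T u8 u2]; exact z_2_8
                  have f22 : T.a u8 u0 = 0 := by rw [Groth.Agent.Helper6.NT.symm' T u8 u0]; exact z_0_8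
                  have f23 : T.a u8 u1 = 0 := by rw [Groth.Agent.Helper6.NT.symm' T u8 u1]; exact z_1_8
                  have f24 : T.a u8 u4 = 0 := by rw [Groth.Agent.Helper6.NT.symm' T u8 u4]; exact z_4_8
                  have f25 : T.a u8 u6 = 0 := by rw [Groth.Agent.Helper6.NT.symm' T u8 u6]; exact z_6_8
                  have f26 : T.a u8 u3 = 0 := by rw [Groth.Agent.Helper6.NT.symm' T u8 u3]; exact z_3_8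
                  have f27 : T.a u7 u7 = -2 * T.w u8 := by have := (h2 u7).2; linarith only [this, tw_0_1, tw_0_2, tw_1_3, tw_1_4, tw_2_5, tw_4_6, tw_5_7, tw_7_8]
                  have f28 : T.a u7 u5 = T.w u8 := by rw [Groth.Agent.Helper6.NT.symm' T u7 u5]; linarith only [tap_5_7, tw_0_1, tw_0_2, tw_1_3, tw_1_4, tw_2_5, tw_4_6, tw_5_7, tw_7_8]
                  have f29 : T.a u7 u2 = 0 := by rw [Groth.Agent.Helper6.NT.symm' T u7 u2]; exact z_2_7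
                  have f30 : T.a u7 u0 = 0 := by rw [Groth.Agent.Helper6.NT.symm' T u7 u0]; exact z_0_7
                  have f31 : T.a u7 u1 = 0 := by rw [Groth.Agent.Helper6.NT.symm' T u7 u1]; exact z_1_7
                  have f32 : T.a u7 u4 = 0 := by rw [Groth.Agent.Helper6.NT.symm' T u7 u4]; exact z_4_7
                  have f33 : T.a u7 u6 = 0 := by rw [Groth.Agent.Helper6.NT.symm' T u7 u6]; exact z_6_7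
                  have f34 : T.a u7 u3 = 0 := by rw [Groth.Agent.Helper6.NT.symm' T u7 u3]; exact z_3_7
                  have f35 : T.a u5 u5 = -2 * T.w u8 := by have := (h2 u5).2; linarith only [this, tw_0_1, tw_0_2, tw_1_3, tw_1_4, tw_2_5, tw_4_6, tw_5_7, tw_7_8]
                  have f36 : T.a u5 u2 = T.w u8 := by rw [Groth.Agent.Helper6.NT.symm' T u5 u2]; linarith only [tap_2_5, tw_0_1, tw_0_2, tw_1_3, tw_1_4, tw_2_5, tw_4_6, tw_5_7, tw_7_8]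
                  have f37 : T.a u5 u0 = 0 := by rw [Groth.Agent.Helper6.NT.symm' T u5 u0]; exact z_0_5
                  have f38 : T.a u5 u1 = 0 := by rw [Groth.Agent.Helper6.NT.symm' T u5 u1]; exact z_1_5
                  have f39 : T.a u5 u4 = 0 := by rw [Groth.Agent.Helper6.NT.symm' T u5 u4]; exact z_4_5
                  have f40 : T.a u5 u6 = 0 := by exact z_5_6
                  have f41 : T.a u5 u3 = 0 := by rw [Groth.Agent.Helper6.NT.symm' T u5 u3]; exact z_3_5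
                  have f42 : T.a u2 u2 = -2 * T.w u8 := by have := (h2 u2).2; linarith only [this, tw_0_1, tw_0_2, tw_1_3, tw_1_4, tw_2_5, tw_4_6, tw_5_7, tw_7_8]
                  have f43 : T.a u2 u0 = T.w u8 := by rw [Groth.Agent.Helper6.NT.symm' T u2 u0]; linarith only [tap_0_2, tw_0_1, tw_0_2, tw_1_3, tw_1_4, tw_2_5, tw_4_6, tw_5_7, tw_7_8]
                  have f44 : T.a u2 u1 = 0 := by rw [Groth.Agent.Helper6.NT.symm' T u2 u1]; exact z_1_2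
                  have f45 : T.a u2 u4 = 0 := by exact z_2_4
                  have f46 : T.a u2 u6 = 0 := by exact z_2_6
                  have f47 : T.a u2 u3 = 0 := by exact z_2_3
                  have f48 : T.a u0 u0 = -2 * T.w u8 := by have := (h2 u0).2; linarith only [this, tw_0_1, tw_0_2, tw_1_3, tw_1_4, tw_2_5, tw_4_6, tw_5_7, tw_7_8]
                  have f49 : T.a u0 u1 = T.w u8 := by linarith only [tap_0_1, tw_0_1, tw_0_2, tw_1_3, tw_1_4, tw_2_5, tw_4_6, tw_5_7, tw_7_8]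
                  have f50 : T.a u0 u4 = 0 := by exact z_0_4
                  have f51 : T.a u0 u6 = 0 := by exact z_0_6
                  have f52 : T.a u0 u3 = 0 := by exact z_0_3
                  have f53 : T.a u1 u1 = -2 * T.w u8 := by have := (h2 u1).2; linarith only [this, tw_0_1, tw_0_2, tw_1_3, tw_1_4, tw_2_5, tw_4_6, tw_5_7, tw_7_8]
                  have f54 : T.a u1 u4 = T.w u8 := by linarith only [tap_1_4, tw_0_1, tw_0_2, tw_1_3, tw_1_4, tw_2_5, tw_4_6, tw_5_7, tw_7_8]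
                  have f55 : T.a u1 u6 = 0 := by exact z_1_6
                  have f56 : T.a u1 u3 = T.w u8 := by linarith only [tap_1_3, tw_0_1, tw_0_2, tw_1_3, tw_1_4, tw_2_5, tw_4_6, tw_5_7, tw_7_8]
                  have f57 : T.a u4 u4 = -2 * T.w u8 := by have := (h2 u4).2; linarith only [this, tw_0_1, tw_0_2, tw_1_3, tw_1_4, tw_2_5, tw_4_6, tw_5_7, tw_7_8]
                  have f58 : T.a u4 u6 = T.w u8 := by linarith only [tap_4_6, tw_0_1, tw_0_2, tw_1_3, tw_1_4, tw_2_5, tw_4_6, tw_5_7, tw_7_8]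
                  have f59 : T.a u4 u3 = 0 := by rw [Groth.Agent.Helper6.NT.symm' T u4 u3]; exact z_3_4
                  have f60 : T.a u6 u6 = -2 * T.w u8 := by have := (h2 u6).2; linarith only [this, tw_0_1, tw_0_2, tw_1_3, tw_1_4, tw_2_5, tw_4_6, tw_5_7, tw_7_8]
                  have f61 : T.a u6 u3 = 0 := by rw [Groth.Agent.Helper6.NT.symm' T u6 u3]; exact z_3_6
                  have f62 : T.a u3 u3 = -2 * T.w u8 := by have := (h2 u3).2; linarith only [this, tw_0_1, tw_0_2, tw_1_3, tw_1_4, tw_2_5, tw_4_6, tw_5_7, tw_7_8]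
                  have hsig := Groth.Agent.Helper6.NT.inj9 u8 u7 u5 u2 u0 u1 u4 u6 u3 hn_8_7.symm hn_8_5.symm hn_7_5.symm hn_8_2.symm hn_7_2.symm hn_5_2.symm hn_8_0.symm hn_7_0.symm hn_5_0.symm hn_2_0.symm hn_8_1.symm hn_7_1.symm hn_5_1.symm hn_2_1.symm hn_1_0 hn_8_4.symm hn_7_4.symm hn_5_4.symm hn_4_2 hn_4_0 hn_4_1 hn_8_6.symm hn_7_6.symm hn_6_5 hn_6_2 hn_6_0 hn_6_1 hn_6_4 hn_8_3.symm hn_7_3.symm hn_5_3.symm hn_3_2 hn_3_0 hn_3_1 hn_4_3.symm hn_6_3.symm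
                  exact ⟨Equiv.ofBijective _ (Finite.injective_iff_bijective.1 hsig), T.m u8, T.w u8, Or.inr (Or.inr (Or.inr (Or.inr (Or.inr (Or.inr (Or.inr (⟨f0, f1, f2, f3, f4, f5, f6, f7, f8, f9, f10, f11, f12, f13, f14, f15, f16, f17, f18, f19, f20, f21, f22, f23, f24, f25, f26, f27, f28, f29, f30, f31, f32, f33, f34, f35, f36, f37, f38, f39, f40, f41, f42, f43, f44, f45, f46, f47, f48, f49, f50, f51, f52, f53, f54, f55, f56, f57, f58, f59, f60, f61, f62⟩)))))))⟩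
                · -- (7,8) Dp
                  exfalso
                  have key := Groth.Agent.Helper6.NT.negfun8 T h2 u0 u1 u2 u3 u4 u5 u7 u8 (by norm_num) 2 2 2 1 1 2 2 1 (by norm_num) (by norm_num)
                  linarith only [key, tap_0_1, taq_0_1, tap_0_2, taq_0_2, z_0_3, z_0_4, z_0_5, z_0_7, z_0_8, z_1_2, tap_1_3, taq_1_3, tap_1_4, taq_1_4, z_1_5, z_1_7, z_1_8, z_2_3, z_2_4, tap_2_5, taq_2_5, z_2_7, z_2_8, z_3_4, z_3_5, z_3_7, z_3_8, z_4_5, z_4_7, z_4_8, tap_5_7, taq_5_7, z_5_8, tap_7_8, taq_7_8, T.w_pos u0, T.w_pos u1, T.w_pos u2, T.w_pos u3, T.w_pos u4, T.w_pos u5, T.w_pos u7, T.w_pos u8]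
                · -- (7,8) Dm
                  exfalso
                  have key := Groth.Agent.Helper6.NT.negfun8 T h2 u0 u1 u2 u3 u4 u5 u7 u8 (by norm_num) 2 2 2 1 1 2 2 2 (by norm_num) (by norm_num)
                  linarith only [key, tap_0_1, taq_0_1, tap_0_2, taq_0_2, z_0_3, z_0_4, z_0_5, z_0_7, z_0_8, z_1_2, tap_1_3, taq_1_3, tap_1_4, taq_1_4, z_1_5, z_1_7, z_1_8, z_2_3, z_2_4, tap_2_5, taq_2_5, z_2_7, z_2_8, z_3_4, z_3_5, z_3_7, z_3_8, z_4_5, z_4_7, z_4_8, tap_5_7, taq_5_7, z_5_8, tap_7_8, taq_7_8, T.w_pos u0, T.w_pos u1, T.w_pos u2, T.w_pos u3, T.w_pos u4, T.w_pos u5, T.w_pos u7, T.w_pos u8]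
                · -- (7,8) Tp
                  exfalso
                  have key := Groth.Agent.Helper6.NT.negfun3 T h2 u5 u7 u8 (by norm_num) 1 2 1 (by norm_num) (by norm_num)
                  linarith only [key, tap_5_7, taq_5_7, z_5_8, tap_7_8, taq_7_8, T.w_pos u5, T.w_pos u7, T.w_pos u8]
                · -- (7,8) Tm
                  exfalso
                  have key := Groth.Agent.Helper6.NT.negfun3 T h2 u5 u7 u8 (by norm_num) 1 2 3 (by norm_num) (by norm_num)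
                  linarith only [key, tap_5_7, taq_5_7, z_5_8, tap_7_8, taq_7_8, T.w_pos u5, T.w_pos u7, T.w_pos u8]
              · push Not at hx
                have cl_7 := hx
                clear hx
                exfalso
                refine Groth.Agent.Helper6.NT.closed_contra T [u0, u1, u2, u3, u4, u5, u6, u7] (by simp) (by simp) ?_
                intro i hi j hj
                simp only [List.mem_cons, List.not_mem_nil, or_false, not_or] at hi hj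
                rcases hi with rfl | rfl | rfl | rfl | rfl | rfl | rfl | rfl
                · exact cl_0 j ⟨hj.1, hj.2.1, hj.2.2.1⟩
                · exact cl_1 j ⟨hj.1, hj.2.1, hj.2.2.1, hj.2.2.2.1, hj.2.2.2.2.1⟩
                · exact cl_2 j ⟨hj.1, hj.2.1, hj.2.2.1, hj.2.2.2.1, hj.2.2.2.2.1, hj.2.2.2.2.2.1⟩
                · exact cl_3 j ⟨hj.1, hj.2.1, hj.2.2.1, hj.2.2.2.1, hj.2.2.2.2.1, hj.2.2.2.2.2.1⟩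
                · exact cl_4 j ⟨hj.1, hj.2.1, hj.2.2.1, hj.2.2.2.1, hj.2.2.2.2.1, hj.2.2.2.2.2.1, hj.2.2.2.2.2.2.1⟩
                · exact cl_5 j ⟨hj.1, hj.2.1, hj.2.2.1, hj.2.2.2.1, hj.2.2.2.2.1, hj.2.2.2.2.2.1, hj.2.2.2.2.2.2.1, hj.2.2.2.2.2.2.2⟩
                · exact cl_6 j ⟨hj.1, hj.2.1, hj.2.2.1, hj.2.2.2.1, hj.2.2.2.2.1, hj.2.2.2.2.2.1, hj.2.2.2.2.2.2.1, hj.2.2.2.2.2.2.2⟩
                · exact cl_7 j ⟨hj.1, hj.2.1, hj.2.2.1, hj.2.2.2.1, hj.2.2.2.2.1, hj.2.2.2.2.2.1, hj.2.2.2.2.2.2.1, hj.2.2.2.2.2.2.2⟩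
        · -- (6,7) nonzero
          obtain ⟨lbp_6_7, lbq_6_7⟩ := Groth.Agent.Helper6.NT.lb T u6 u7 hn_7_6.symm nz_6_7
          exfalso
          have key := Groth.Agent.Helper6.NT.negfun7 T h2 u0 u1 u2 u4 u5 u6 u7 (by norm_num) 1 1 1 1 1 1 1 (by norm_num) (by norm_num)
          linarith only [key, tap_0_1, taq_0_1, tap_0_2, taq_0_2, z_0_4, z_0_5, z_0_6, z_0_7, z_1_2, tap_1_4, taq_1_4, z_1_5, z_1_6, z_1_7, z_2_4, tap_2_5, taq_2_5, z_2_6, z_2_7, z_4_5, tap_4_6, taq_4_6, z_4_7, z_5_6, tap_5_7, taq_5_7, lbp_6_7, lbq_6_7, T.w_pos u0, T.w_pos u1, T.w_pos u2, T.w_pos u4, T.w_pos u5, T.w_pos u6, T.w_pos u7]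
      · -- (5,7) Dp
        exfalso
        have key := Groth.Agent.Helper6.NT.negfun7 T h2 u0 u1 u2 u3 u4 u5 u7 (by norm_num) 2 2 2 1 1 2 1 (by norm_num) (by norm_num)
        linarith only [key, tap_0_1, taq_0_1, tap_0_2, taq_0_2, z_0_3, z_0_4, z_0_5, z_0_7, z_1_2, tap_1_3, taq_1_3, tap_1_4, taq_1_4, z_1_5, z_1_7, z_2_3, z_2_4, tap_2_5, taq_2_5, z_2_7, z_3_4, z_3_5, z_3_7, z_4_5, z_4_7, tap_5_7, taq_5_7, T.w_pos u0, T.w_pos u1, T.w_pos u2, T.w_pos u3, T.w_pos u4, T.w_pos u5, T.w_pos u7]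
      · -- (5,7) Dm
        exfalso
        have key := Groth.Agent.Helper6.NT.negfun7 T h2 u0 u1 u2 u3 u4 u5 u7 (by norm_num) 2 2 2 1 1 2 2 (by norm_num) (by norm_num)
        linarith only [key, tap_0_1, taq_0_1, tap_0_2, taq_0_2, z_0_3, z_0_4, z_0_5, z_0_7, z_1_2, tap_1_3, taq_1_3, tap_1_4, taq_1_4, z_1_5, z_1_7, z_2_3, z_2_4, tap_2_5, taq_2_5, z_2_7, z_3_4, z_3_5, z_3_7, z_4_5, z_4_7, tap_5_7, taq_5_7, T.w_pos u0, T.w_pos u1, T.w_pos u2, T.w_pos u3, T.w_pos u4, T.w_pos u5, T.w_pos u7]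
      · -- (5,7) Tp
        exfalso
        have key := Groth.Agent.Helper6.NT.negfun3 T h2 u2 u5 u7 (by norm_num) 1 2 1 (by norm_num) (by norm_num)
        linarith only [key, tap_2_5, taq_2_5, z_2_7, tap_5_7, taq_5_7, T.w_pos u2, T.w_pos u5, T.w_pos u7]
      · -- (5,7) Tm
        exfalso
        have key := Groth.Agent.Helper6.NT.negfun3 T h2 u2 u5 u7 (by norm_num) 1 2 3 (by norm_num) (by norm_num)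
        linarith only [key, tap_2_5, taq_2_5, z_2_7, tap_5_7, taq_5_7, T.w_pos u2, T.w_pos u5, T.w_pos u7]
    · push Not at hx
      have cl_5 := hx
      clear hx
      by_cases hx : ∃ j, (j ≠ u0 ∧ j ≠ u1 ∧ j ≠ u2 ∧ j ≠ u3 ∧ j ≠ u4 ∧ j ≠ u5 ∧ j ≠ u6) ∧ T.a u6 j ≠ 0
      · obtain ⟨u7, ⟨hn_7_0, hn_7_1, hn_7_2, hn_7_3, hn_7_4, hn_7_5, hn_7_6⟩, e_6_7⟩ := hx
        have z_0_7 : T.a u0 u7 = 0 := cl_0 u7 ⟨hn_7_0, hn_7_1, hn_7_2⟩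
        have z_1_7 : T.a u1 u7 = 0 := cl_1 u7 ⟨hn_7_0, hn_7_1, hn_7_2, hn_7_3, hn_7_4⟩
        have z_2_7 : T.a u2 u7 = 0 := cl_2 u7 ⟨hn_7_0, hn_7_1, hn_7_2, hn_7_3, hn_7_4, hn_7_5⟩
        have z_3_7 : T.a u3 u7 = 0 := cl_3 u7 ⟨hn_7_0, hn_7_1, hn_7_2, hn_7_3, hn_7_4, hn_7_5⟩
        have z_4_7 : T.a u4 u7 = 0 := cl_4 u7 ⟨hn_7_0, hn_7_1, hn_7_2, hn_7_3, hn_7_4, hn_7_5, hn_7_6⟩
        have z_5_7 : T.a u5 u7 = 0 := cl_5 u7 ⟨hn_7_0, hn_7_1, hn_7_2, hn_7_3, hn_7_4, hn_7_5, hn_7_6⟩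
        rcases Groth.Agent.Helper6.NT.edge5 T h2 (by norm_num) u6 u7 hn_7_6.symm e_6_7 with ⟨tw_6_7, tap_6_7, taq_6_7⟩ | ⟨tw_6_7, tap_6_7, taq_6_7⟩ | ⟨tw_6_7, tap_6_7, taq_6_7⟩ | ⟨tw_6_7, tap_6_7, taq_6_7⟩ | ⟨tw_6_7, tap_6_7, taq_6_7⟩
        · -- (6,7) S
          exfalso
          have key := Groth.Agent.Helper6.NT.negfun8 T h2 u0 u1 u2 u3 u4 u5 u6 u7 (by norm_num) 3 4 2 2 3 1 2 1 (by norm_num) (by norm_num)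
          linarith only [key, tap_0_1, taq_0_1, tap_0_2, taq_0_2, z_0_3, z_0_4, z_0_5, z_0_6, z_0_7, z_1_2, tap_1_3, taq_1_3, tap_1_4, taq_1_4, z_1_5, z_1_6, z_1_7, z_2_3, z_2_4, tap_2_5, taq_2_5, z_2_6, z_2_7, z_3_4, z_3_5, z_3_6, z_3_7, z_4_5, tap_4_6, taq_4_6, z_4_7, z_5_6, z_5_7, tap_6_7, taq_6_7, T.w_pos u0, T.w_pos u1, T.w_pos u2, T.w_pos u3, T.w_pos u4, T.w_pos u5, T.w_pos u6, T.w_pos u7]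
        · -- (6,7) Dp
          exfalso
          have key := Groth.Agent.Helper6.NT.negfun6 T h2 u0 u1 u3 u4 u6 u7 (by norm_num) 1 2 1 2 2 1 (by norm_num) (by norm_num)
          linarith only [key, tap_0_1, taq_0_1, z_0_3, z_0_4, z_0_6, z_0_7, tap_1_3, taq_1_3, tap_1_4, taq_1_4, z_1_6, z_1_7, z_3_4, z_3_6, z_3_7, tap_4_6, taq_4_6, z_4_7, tap_6_7, taq_6_7, T.w_pos u0, T.w_pos u1, T.w_pos u3, T.w_pos u4, T.w_pos u6, T.w_pos u7]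
        · -- (6,7) Dm
          exfalso
          have key := Groth.Agent.Helper6.NT.negfun6 T h2 u0 u1 u3 u4 u6 u7 (by norm_num) 1 2 1 2 2 2 (by norm_num) (by norm_num)
          linarith only [key, tap_0_1, taq_0_1, z_0_3, z_0_4, z_0_6, z_0_7, tap_1_3, taq_1_3, tap_1_4, taq_1_4, z_1_6, z_1_7, z_3_4, z_3_6, z_3_7, tap_4_6, taq_4_6, z_4_7, tap_6_7, taq_6_7, T.w_pos u0, T.w_pos u1, T.w_pos u3, T.w_pos u4, T.w_pos u6, T.w_pos u7]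
        · -- (6,7) Tp
          exfalso
          have key := Groth.Agent.Helper6.NT.negfun3 T h2 u4 u6 u7 (by norm_num) 1 2 1 (by norm_num) (by norm_num)
          linarith only [key, tap_4_6, taq_4_6, z_4_7, tap_6_7, taq_6_7, T.w_pos u4, T.w_pos u6, T.w_pos u7]
        · -- (6,7) Tm
          exfalso
          have key := Groth.Agent.Helper6.NT.negfun3 T h2 u4 u6 u7 (by norm_num) 1 2 3 (by norm_num) (by norm_num)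
          linarith only [key, tap_4_6, taq_4_6, z_4_7, tap_6_7, taq_6_7, T.w_pos u4, T.w_pos u6, T.w_pos u7]
      · push Not at hx
        have cl_6 := hx
        clear hx
        exfalso
        refine Groth.Agent.Helper6.NT.closed_contra T [u0, u1, u2, u3, u4, u5, u6] (by simp) (by simp) ?_
        intro i hi j hj
        simp only [List.mem_cons, List.not_mem_nil, or_false, not_or] at hi hj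
        rcases hi with rfl | rfl | rfl | rfl | rfl | rfl | rfl
        · exact cl_0 j ⟨hj.1, hj.2.1, hj.2.2.1⟩
        · exact cl_1 j ⟨hj.1, hj.2.1, hj.2.2.1, hj.2.2.2.1, hj.2.2.2.2.1⟩
        · exact cl_2 j ⟨hj.1, hj.2.1, hj.2.2.1, hj.2.2.2.1, hj.2.2.2.2.1, hj.2.2.2.2.2.1⟩
        · exact cl_3 j ⟨hj.1, hj.2.1, hj.2.2.1, hj.2.2.2.1, hj.2.2.2.2.1, hj.2.2.2.2.2.1⟩
        · exact cl_4 j ⟨hj.1, hj.2.1, hj.2.2.1, hj.2.2.2.1, hj.2.2.2.2.1, hj.2.2.2.2.2.1, hj.2.2.2.2.2.2⟩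
        · exact cl_5 j ⟨hj.1, hj.2.1, hj.2.2.1, hj.2.2.2.1, hj.2.2.2.2.1, hj.2.2.2.2.2.1, hj.2.2.2.2.2.2⟩
        · exact cl_6 j ⟨hj.1, hj.2.1, hj.2.2.1, hj.2.2.2.1, hj.2.2.2.2.1, hj.2.2.2.2.2.1, hj.2.2.2.2.2.2⟩

theorem cut9_17 (T : Models.NumericalType 9) (h2 : ∀ i, T.IsMinusTwo i) (u0 u1 u2 u3 u4 u5 u6 : Fin 9)
    (hn_1_0 : u1 ≠ u0)
    (e_0_1 : T.a u0 u1 ≠ 0)
    (tw_0_1 : T.w u1 = T.w u0)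
    (tap_0_1 : T.a u0 u1 = T.w u0)
    (taq_0_1 : T.a u0 u1 = T.w u1)
    (hn_2_0 : u2 ≠ u0)
    (hn_2_1 : u2 ≠ u1)
    (e_0_2 : T.a u0 u2 ≠ 0)
    (tw_0_2 : T.w u2 = T.w u0)
    (tap_0_2 : T.a u0 u2 = T.w u0)
    (taq_0_2 : T.a u0 u2 = T.w u2)
    (z_1_2 : T.a u1 u2 = 0)
    (cl_0 : ∀ j : Fin 9, (j ≠ u0 ∧ j ≠ u1 ∧ j ≠ u2) → T.a u0 j = 0)
    (hn_3_0 : u3 ≠ u0)
    (hn_3_1 : u3 ≠ u1)
    (hn_3_2 : u3 ≠ u2)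
    (e_1_3 : T.a u1 u3 ≠ 0)
    (z_0_3 : T.a u0 u3 = 0)
    (tw_1_3 : T.w u3 = T.w u1)
    (tap_1_3 : T.a u1 u3 = T.w u1)
    (taq_1_3 : T.a u1 u3 = T.w u3)
    (z_2_3 : T.a u2 u3 = 0)
    (hn_4_0 : u4 ≠ u0)
    (hn_4_1 : u4 ≠ u1)
    (hn_4_2 : u4 ≠ u2)
    (hn_4_3 : u4 ≠ u3)
    (e_1_4 : T.a u1 u4 ≠ 0)
    (z_0_4 : T.a u0 u4 = 0)
    (tw_1_4 : T.w u4 = T.w u1)
    (tap_1_4 : T.a u1 u4 = T.w u1)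
    (taq_1_4 : T.a u1 u4 = T.w u4)
    (z_2_4 : T.a u2 u4 = 0)
    (z_3_4 : T.a u3 u4 = 0)
    (cl_1 : ∀ j : Fin 9, (j ≠ u0 ∧ j ≠ u1 ∧ j ≠ u2 ∧ j ≠ u3 ∧ j ≠ u4) → T.a u1 j = 0)
    (hn_5_0 : u5 ≠ u0)
    (hn_5_1 : u5 ≠ u1)
    (hn_5_2 : u5 ≠ u2)
    (hn_5_3 : u5 ≠ u3)
    (hn_5_4 : u5 ≠ u4)
    (e_2_5 : T.a u2 u5 ≠ 0)
    (z_0_5 : T.a u0 u5 = 0)
    (z_1_5 : T.a u1 u5 = 0)
    (tw_2_5 : T.w u5 = T.w u2)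
    (tap_2_5 : T.a u2 u5 = T.w u2)
    (taq_2_5 : T.a u2 u5 = T.w u5)
    (z_3_5 : T.a u3 u5 = 0)
    (z_4_5 : T.a u4 u5 = 0)
    (cl_2 : ∀ j : Fin 9, (j ≠ u0 ∧ j ≠ u1 ∧ j ≠ u2 ∧ j ≠ u3 ∧ j ≠ u4 ∧ j ≠ u5) → T.a u2 j = 0)
    (cl_3 : ∀ j : Fin 9, (j ≠ u0 ∧ j ≠ u1 ∧ j ≠ u2 ∧ j ≠ u3 ∧ j ≠ u4 ∧ j ≠ u5) → T.a u3 j = 0)
    (cl_4 : ∀ j : Fin 9, (j ≠ u0 ∧ j ≠ u1 ∧ j ≠ u2 ∧ j ≠ u3 ∧ j ≠ u4 ∧ j ≠ u5) → T.a u4 j = 0)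
    (hn_6_0 : u6 ≠ u0)
    (hn_6_1 : u6 ≠ u1)
    (hn_6_2 : u6 ≠ u2)
    (hn_6_3 : u6 ≠ u3)
    (hn_6_4 : u6 ≠ u4)
    (hn_6_5 : u6 ≠ u5)
    (e_5_6 : T.a u5 u6 ≠ 0)
    (z_0_6 : T.a u0 u6 = 0)
    (z_1_6 : T.a u1 u6 = 0)
    (z_2_6 : T.a u2 u6 = 0)
    (z_3_6 : T.a u3 u6 = 0)
    (z_4_6 : T.a u4 u6 = 0)
    (tw_5_6 : T.w u6 = T.w u5)
    (tap_5_6 : T.a u5 u6 = T.w u5)
    (taq_5_6 : T.a u5 u6 = T.w u6) :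
    ∃ (σ : Equiv.Perm (Fin 9)) (m w : ℤ), ((T.m (σ 0) = m ∧ T.m (σ 1) = m ∧ T.m (σ 2) = m ∧ T.m (σ 3) = m ∧ T.m (σ 4) = m ∧ T.m (σ 5) = m ∧ T.m (σ 6) = m ∧ T.m (σ 7) = m ∧ T.m (σ 8) = m ∧ T.w (σ 0) = w ∧ T.w (σ 1) = w ∧ T.w (σ 2) = w ∧ T.w (σ 3) = w ∧ T.w (σ 4) = w ∧ T.w (σ 5) = w ∧ T.w (σ 6) = w ∧ T.w (σ 7) = w ∧ T.w (σ 8) = w ∧ T.a (σ 0) (σ 0) = -2 * w ∧ T.a (σ 0) (σ 1) = w ∧ T.a (σ 0) (σ 2) = 0 ∧ T.a (σ 0) (σ 3) = 0 ∧ T.a (σ 0) (σ 4) = 0 ∧ T.a (σ 0) (σ 5) = 0 ∧ T.a (σ 0) (σ 6) = 0 ∧ T.a (σ 0) (σ 7) = 0 ∧ T.a (σ 0) (σ 8) = w ∧ T.a (σ 1) (σ 1) = -2 * w ∧ T.a (σ 1) (σ 2) = w ∧ T.a (σ 1) (σ 3) = 0 ∧ T.a (σ 1) (σ 4) = 0 ∧ T.a (σ 1) (σ 5) = 0 ∧ T.a (σ 1) (σ 6) = 0 ∧ T.a (σ 1) (σ 7) = 0 ∧ T.a (σ 1) (σ 8) = 0 ∧ T.a (σ 2) (σ 2) = -2 * w ∧ T.a (σ 2) (σ 3) = w ∧ T.a (σ 2) (σ 4) = 0 ∧ T.a (σ 2)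 (σ 5) = 0 ∧ T.a (σ 2) (σ 6) = 0 ∧ T.a (σ 2) (σ 7) = 0 ∧ T.a (σ 2) (σ 8) = 0 ∧ T.a (σ 3) (σ 3) = -2 * w ∧ T.a (σ 3) (σ 4) = w ∧ T.a (σ 3) (σ 5) = 0 ∧ T.a (σ 3) (σ 6) = 0 ∧ T.a (σ 3) (σ 7) = 0 ∧ T.a (σ 3) (σ 8) = 0 ∧ T.a (σ 4) (σ 4) = -2 * w ∧ T.a (σ 4) (σ 5) = w ∧ T.a (σ 4) (σ 6) = 0 ∧ T.a (σ 4) (σ 7) = 0 ∧ T.a (σ 4) (σ 8) = 0 ∧ T.a (σ 5) (σ 5) = -2 * w ∧ T.a (σ 5) (σ 6) = w ∧ T.a (σ 5) (σ 7) = 0 ∧ T.a (σ 5) (σ 8) = 0 ∧ T.a (σ 6) (σ 6) = -2 * w ∧ T.a (σ 6) (σ 7) = w ∧ T.a (σ 6) (σ 8) = 0 ∧ T.a (σ 7) (σ 7) = -2 * w ∧ T.a (σ 7) (σ 8) = w ∧ T.a (σ 8) (σ 8) = -2 * w) ∨ (T.m (σ 0) = 2 * m ∧ T.m (σ 1) = 2 * m ∧ T.m (σ 2) = 2 * m ∧ T.m (σ 3) = 2 * m ∧ T.m (σ 4) = 2 * m ∧ T.m (σ 5) = 2 * m ∧ T.m (σ 6) = 2 * m ∧ T.m (σ 7) = 2 * m ∧ T.m (σ 8) = m ∧ T.w (σ 0) = w ∧ T.w (σ 1) = 2 * w ∧ T.w (σ 2) =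 2 * w ∧ T.w (σ 3) = 2 * w ∧ T.w (σ 4) = 2 * w ∧ T.w (σ 5) = 2 * w ∧ T.w (σ 6) = 2 * w ∧ T.w (σ 7) = 2 * w ∧ T.w (σ 8) = 4 * w ∧ T.a (σ 0) (σ 0) = -2 * w ∧ T.a (σ 0) (σ 1) = 2 * w ∧ T.a (σ 0) (σ 2) = 0 ∧ T.a (σ 0) (σ 3) = 0 ∧ T.a (σ 0) (σ 4) = 0 ∧ T.a (σ 0) (σ 5) = 0 ∧ T.a (σ 0) (σ 6) = 0 ∧ T.a (σ 0) (σ 7) = 0 ∧ T.a (σ 0) (σ 8) = 0 ∧ T.a (σ 1) (σ 1) = -4 * w ∧ T.a (σ 1) (σ 2) = 2 * w ∧ T.a (σ 1) (σ 3) = 0 ∧ T.a (σ 1) (σ 4) = 0 ∧ T.a (σ 1) (σ 5) = 0 ∧ T.a (σ 1) (σ 6) = 0 ∧ T.a (σ 1) (σ 7) = 0 ∧ T.a (σ 1) (σ 8) = 0 ∧ T.a (σ 2) (σ 2) = -4 * w ∧ T.a (σ 2) (σ 3) = 2 * w ∧ T.a (σ 2) (σ 4) = 0 ∧ T.a (σ 2) (σ 5) = 0 ∧ T.a (σ 2) (σ 6) = 0 ∧ T.a (σ 2) (σ 7) = 0 ∧ T.a (σ 2) (σ 8) = 0 ∧ T.a (σ 3) (σ 3) = -4 * w ∧ T.a (σ 3) (σ 4) = 2 * w ∧ T.a (σ 3) (σ 5) = 0 ∧ T.a (σ 3) (σ 6) = 0 ∧ T.a (σ 3) (σ 7)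 = 0 ∧ T.a (σ 3) (σ 8) = 0 ∧ T.a (σ 4) (σ 4) = -4 * w ∧ T.a (σ 4) (σ 5) = 2 * w ∧ T.a (σ 4) (σ 6) = 0 ∧ T.a (σ 4) (σ 7) = 0 ∧ T.a (σ 4) (σ 8) = 0 ∧ T.a (σ 5) (σ 5) = -4 * w ∧ T.a (σ 5) (σ 6) = 2 * w ∧ T.a (σ 5) (σ 7) = 0 ∧ T.a (σ 5) (σ 8) = 0 ∧ T.a (σ 6) (σ 6) = -4 * w ∧ T.a (σ 6) (σ 7) = 2 * w ∧ T.a (σ 6) (σ 8) = 0 ∧ T.a (σ 7) (σ 7) = -4 * w ∧ T.a (σ 7) (σ 8) = 4 * w ∧ T.a (σ 8) (σ 8) = -8 * w) ∨ (T.m (σ 0) = m ∧ T.m (σ 1) = m ∧ T.m (σ 2) = m ∧ T.m (σ 3) = m ∧ T.m (σ 4) = m ∧ T.m (σ 5) = m ∧ T.m (σ 6) = m ∧ T.m (σ 7) = m ∧ T.m (σ 8) = m ∧ T.w (σ 0) = w ∧ T.w (σ 1) = 2 * w ∧ T.w (σ 2) = 2 * w ∧ T.w (σ 3) = 2 * w ∧ T.w (σ 4) = 2 * w ∧ T.w (σ 5) = 2 * w ∧ T.w (σ 6) = 2 * w ∧ T.w (σ 7) = 2 * w ∧ T.w (σ 8) = w ∧ T.a (σ 0) (σ 0) = -2 * w ∧ T.a (σ 0) (σ 1) = 2 * w ∧ T.a (σ 0) (σ 2) = 0 ∧ T.a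 (σ 0) (σ 3) = 0 ∧ T.a (σ 0) (σ 4) = 0 ∧ T.a (σ 0) (σ 5) = 0 ∧ T.a (σ 0) (σ 6) = 0 ∧ T.a (σ 0) (σ 7) = 0 ∧ T.a (σ 0) (σ 8) = 0 ∧ T.a (σ 1) (σ 1) = -4 * w ∧ T.a (σ 1) (σ 2) = 2 * w ∧ T.a (σ 1) (σ 3) = 0 ∧ T.a (σ 1) (σ 4) = 0 ∧ T.a (σ 1) (σ 5) = 0 ∧ T.a (σ 1) (σ 6) = 0 ∧ T.a (σ 1) (σ 7) = 0 ∧ T.a (σ 1) (σ 8) = 0 ∧ T.a (σ 2) (σ 2) = -4 * w ∧ T.a (σ 2) (σ 3) = 2 * w ∧ T.a (σ 2) (σ 4) = 0 ∧ T.a (σ 2) (σ 5) = 0 ∧ T.a (σ 2) (σ 6) = 0 ∧ T.a (σ 2) (σ 7) = 0 ∧ T.a (σ 2) (σ 8) = 0 ∧ T.a (σ 3) (σ 3) = -4 * w ∧ T.a (σ 3) (σ 4) = 2 * w ∧ T.a (σ 3) (σ 5) = 0 ∧ T.a (σ 3) (σ 6) = 0 ∧ T.a (σ 3) (σ 7) = 0 ∧ T.a (σ 3) (σ 8) = 0 ∧ T.a (σ 4) (σ 4) = -4 * w ∧ T.a (σ 4) (σ 5) = 2 * w ∧ T.a (σ 4) (σ 6) = 0 ∧ T.a (σ 4) (σ 7) = 0 ∧ T.a (σ 4) (σ 8) = 0 ∧ T.a (σ 5) (σ 5) = -4 * w ∧ T.a (σ 5) (σ 6) = 2 * w ∧ T.a (σ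 5) (σ 7) = 0 ∧ T.a (σ 5) (σ 8) = 0 ∧ T.a (σ 6) (σ 6) = -4 * w ∧ T.a (σ 6) (σ 7) = 2 * w ∧ T.a (σ 6) (σ 8) = 0 ∧ T.a (σ 7) (σ 7) = -4 * w ∧ T.a (σ 7) (σ 8) = 2 * w ∧ T.a (σ 8) (σ 8) = -2 * w) ∨ (T.m (σ 0) = m ∧ T.m (σ 1) = 2 * m ∧ T.m (σ 2) = 2 * m ∧ T.m (σ 3) = 2 * m ∧ T.m (σ 4) = 2 * m ∧ T.m (σ 5) = 2 * m ∧ T.m (σ 6) = 2 * m ∧ T.m (σ 7) = 2 * m ∧ T.m (σ 8) = m ∧ T.w (σ 0) = 2 * w ∧ T.w (σ 1) = w ∧ T.w (σ 2) = w ∧ T.w (σ 3) = w ∧ T.w (σ 4) = w ∧ T.w (σ 5) = w ∧ T.w (σ 6) = w ∧ T.w (σ 7) = w ∧ T.w (σ 8) = 2 * w ∧ T.a (σ 0) (σ 0) = -4 * w ∧ T.a (σ 0) (σ 1) = 2 * w ∧ T.a (σ 0) (σ 2) = 0 ∧ T.a (σ 0) (σ 3) = 0 ∧ T.a (σ 0) (σ 4) = 0 ∧ T.a (σ 0) (σ 5) = 0 ∧ T.a (σ 0) (σ 6) = 0 ∧ T.a (σ 0) (σ 7) = 0 ∧ T.a (σ 0) (σ 8) = 0 ∧ T.a (σ 1) (σ 1) = -2 * w ∧ T.a (σ 1) (σ 2) = w ∧ T.a (σ 1) (σ 3) = 0 ∧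 T.a (σ 1) (σ 4) = 0 ∧ T.a (σ 1) (σ 5) = 0 ∧ T.a (σ 1) (σ 6) = 0 ∧ T.a (σ 1) (σ 7) = 0 ∧ T.a (σ 1) (σ 8) = 0 ∧ T.a (σ 2) (σ 2) = -2 * w ∧ T.a (σ 2) (σ 3) = w ∧ T.a (σ 2) (σ 4) = 0 ∧ T.a (σ 2) (σ 5) = 0 ∧ T.a (σ 2) (σ 6) = 0 ∧ T.a (σ 2) (σ 7) = 0 ∧ T.a (σ 2) (σ 8) = 0 ∧ T.a (σ 3) (σ 3) = -2 * w ∧ T.a (σ 3) (σ 4) = w ∧ T.a (σ 3) (σ 5) = 0 ∧ T.a (σ 3) (σ 6) = 0 ∧ T.a (σ 3) (σ 7) = 0 ∧ T.a (σ 3) (σ 8) = 0 ∧ T.a (σ 4) (σ 4) = -2 * w ∧ T.a (σ 4) (σ 5) = w ∧ T.a (σ 4) (σ 6) = 0 ∧ T.a (σ 4) (σ 7) = 0 ∧ T.a (σ 4) (σ 8) = 0 ∧ T.a (σ 5) (σ 5) = -2 * w ∧ T.a (σ 5) (σ 6) = w ∧ T.a (σ 5) (σ 7) = 0 ∧ T.a (σ 5) (σ 8) = 0 ∧ T.a (σ 6) (σ 6) = -2 * w ∧ T.a (σ 6) (σ 7) = w ∧ T.a (σ 6) (σ 8) = 0 ∧ T.a (σ 7) (σ 7) = -2 * w ∧ T.a (σ 7) (σ 8) = 2 * w ∧ T.a (σ 8) (σ 8) = -4 * w) ∨ (T.m (σ 0) = m ∧ T.m (σ 1) = 2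 * m ∧ T.m (σ 2) = 2 * m ∧ T.m (σ 3) = 2 * m ∧ T.m (σ 4) = 2 * m ∧ T.m (σ 5) = 2 * m ∧ T.m (σ 6) = 2 * m ∧ T.m (σ 7) = m ∧ T.m (σ 8) = m ∧ T.w (σ 0) = 2 * w ∧ T.w (σ 1) = w ∧ T.w (σ 2) = w ∧ T.w (σ 3) = w ∧ T.w (σ 4) = w ∧ T.w (σ 5) = w ∧ T.w (σ 6) = w ∧ T.w (σ 7) = w ∧ T.w (σ 8) = w ∧ T.a (σ 0) (σ 0) = -4 * w ∧ T.a (σ 0) (σ 1) = 2 * w ∧ T.a (σ 0) (σ 2) = 0 ∧ T.a (σ 0) (σ 3) = 0 ∧ T.a (σ 0) (σ 4) = 0 ∧ T.a (σ 0) (σ 5) = 0 ∧ T.a (σ 0) (σ 6) = 0 ∧ T.a (σ 0) (σ 7) = 0 ∧ T.a (σ 0) (σ 8) = 0 ∧ T.a (σ 1) (σ 1) = -2 * w ∧ T.a (σ 1) (σ 2) = w ∧ T.a (σ 1) (σ 3) = 0 ∧ T.a (σ 1) (σ 4) = 0 ∧ T.a (σ 1) (σ 5) = 0 ∧ T.a (σ 1) (σ 6) = 0 ∧ T.a (σ 1) (σ 7) = 0 ∧ T.a (σ 1) (σ 8) = 0 ∧ T.a (σ 2) (σ 2) = -2 * w ∧ T.a (σ 2) (σ 3) = w ∧ T.a (σ 2) (σ 4) = 0 ∧ T.a (σ 2) (σ 5) = 0 ∧ T.a (σ 2) (σ 6) = 0 ∧ T.a (σ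 2) (σ 7) = 0 ∧ T.a (σ 2) (σ 8) = 0 ∧ T.a (σ 3) (σ 3) = -2 * w ∧ T.a (σ 3) (σ 4) = w ∧ T.a (σ 3) (σ 5) = 0 ∧ T.a (σ 3) (σ 6) = 0 ∧ T.a (σ 3) (σ 7) = 0 ∧ T.a (σ 3) (σ 8) = 0 ∧ T.a (σ 4) (σ 4) = -2 * w ∧ T.a (σ 4) (σ 5) = w ∧ T.a (σ 4) (σ 6) = 0 ∧ T.a (σ 4) (σ 7) = 0 ∧ T.a (σ 4) (σ 8) = 0 ∧ T.a (σ 5) (σ 5) = -2 * w ∧ T.a (σ 5) (σ 6) = w ∧ T.a (σ 5) (σ 7) = 0 ∧ T.a (σ 5) (σ 8) = 0 ∧ T.a (σ 6) (σ 6) = -2 * w ∧ T.a (σ 6) (σ 7) = w ∧ T.a (σ 6) (σ 8) = w ∧ T.a (σ 7) (σ 7) = -2 * w ∧ T.a (σ 7) (σ 8) = 0 ∧ T.a (σ 8) (σ 8) = -2 * w) ∨ (T.m (σ 0) = 2 * m ∧ T.m (σ 1) = 2 * m ∧ T.m (σ 2) = 2 * m ∧ T.m (σ 3) = 2 * m ∧ T.m (σ 4) = 2 * m ∧ T.m (σ 5) = 2 * m ∧ T.m (σ 6) = 2 * m ∧ T.m (σ 7) = m ∧ T.m (σ 8) = m ∧ T.w (σ 0) = w ∧ T.w (σ 1) = 2 * w ∧ T.w (σ 2) = 2 * w ∧ T.w (σ 3) = 2 * w ∧ T.w (σ 4) = 2 * w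 ∧ T.w (σ 5) = 2 * w ∧ T.w (σ 6) = 2 * w ∧ T.w (σ 7) = 2 * w ∧ T.w (σ 8) = 2 * w ∧ T.a (σ 0) (σ 0) = -2 * w ∧ T.a (σ 0) (σ 1) = 2 * w ∧ T.a (σ 0) (σ 2) = 0 ∧ T.a (σ 0) (σ 3) = 0 ∧ T.a (σ 0) (σ 4) = 0 ∧ T.a (σ 0) (σ 5) = 0 ∧ T.a (σ 0) (σ 6) = 0 ∧ T.a (σ 0) (σ 7) = 0 ∧ T.a (σ 0) (σ 8) = 0 ∧ T.a (σ 1) (σ 1) = -4 * w ∧ T.a (σ 1) (σ 2) = 2 * w ∧ T.a (σ 1) (σ 3) = 0 ∧ T.a (σ 1) (σ 4) = 0 ∧ T.a (σ 1) (σ 5) = 0 ∧ T.a (σ 1) (σ 6) = 0 ∧ T.a (σ 1) (σ 7) = 0 ∧ T.a (σ 1) (σ 8) = 0 ∧ T.a (σ 2) (σ 2) = -4 * w ∧ T.a (σ 2) (σ 3) = 2 * w ∧ T.a (σ 2) (σ 4) = 0 ∧ T.a (σ 2) (σ 5) = 0 ∧ T.a (σ 2) (σ 6) = 0 ∧ T.a (σ 2) (σ 7) = 0 ∧ T.a (σ 2) (σ 8) = 0 ∧ T.a (σ 3) (σ 3) = -4 * w ∧ T.a (σ 3) (σ 4) = 2 * w ∧ T.a (σ 3) (σ 5) = 0 ∧ T.a (σ 3) (σ 6) = 0 ∧ T.a (σ 3) (σ 7) = 0 ∧ T.a (σ 3) (σ 8) = 0 ∧ T.a (σ 4) (σ 4) =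 -4 * w ∧ T.a (σ 4) (σ 5) = 2 * w ∧ T.a (σ 4) (σ 6) = 0 ∧ T.a (σ 4) (σ 7) = 0 ∧ T.a (σ 4) (σ 8) = 0 ∧ T.a (σ 5) (σ 5) = -4 * w ∧ T.a (σ 5) (σ 6) = 2 * w ∧ T.a (σ 5) (σ 7) = 0 ∧ T.a (σ 5) (σ 8) = 0 ∧ T.a (σ 6) (σ 6) = -4 * w ∧ T.a (σ 6) (σ 7) = 2 * w ∧ T.a (σ 6) (σ 8) = 2 * w ∧ T.a (σ 7) (σ 7) = -4 * w ∧ T.a (σ 7) (σ 8) = 0 ∧ T.a (σ 8) (σ 8) = -4 * w) ∨ (T.m (σ 0) = m ∧ T.m (σ 1) = m ∧ T.m (σ 2) = 2 * m ∧ T.m (σ 3) = 2 * m ∧ T.m (σ 4) = 2 * m ∧ T.m (σ 5) = 2 * m ∧ T.m (σ 6) = 2 * m ∧ T.m (σ 7) = m ∧ T.m (σ 8) = m ∧ T.w (σ 0) = w ∧ T.w (σ 1) = w ∧ T.w (σ 2) = w ∧ T.w (σ 3) = w ∧ T.w (σ 4) = w ∧ T.w (σ 5) = w ∧ T.w (σ 6) = w ∧ T.w (σ 7) = w ∧ T.w (σ 8) = w ∧ T.a (σ 0) (σ 0) = -2 * w ∧ T.a (σ 0) (σ 1) = 0 ∧ T.a (σ 0) (σ 2) = w ∧ T.a (σ 0) (σ 3) = 0 ∧ T.a (σ 0) (σ 4) = 0 ∧ T.a (σ 0) (σ 5) =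 0 ∧ T.a (σ 0) (σ 6) = 0 ∧ T.a (σ 0) (σ 7) = 0 ∧ T.a (σ 0) (σ 8) = 0 ∧ T.a (σ 1) (σ 1) = -2 * w ∧ T.a (σ 1) (σ 2) = w ∧ T.a (σ 1) (σ 3) = 0 ∧ T.a (σ 1) (σ 4) = 0 ∧ T.a (σ 1) (σ 5) = 0 ∧ T.a (σ 1) (σ 6) = 0 ∧ T.a (σ 1) (σ 7) = 0 ∧ T.a (σ 1) (σ 8) = 0 ∧ T.a (σ 2) (σ 2) = -2 * w ∧ T.a (σ 2) (σ 3) = w ∧ T.a (σ 2) (σ 4) = 0 ∧ T.a (σ 2) (σ 5) = 0 ∧ T.a (σ 2) (σ 6) = 0 ∧ T.a (σ 2) (σ 7) = 0 ∧ T.a (σ 2) (σ 8) = 0 ∧ T.a (σ 3) (σ 3) = -2 * w ∧ T.a (σ 3) (σ 4) = w ∧ T.a (σ 3) (σ 5) = 0 ∧ T.a (σ 3) (σ 6) = 0 ∧ T.a (σ 3) (σ 7) = 0 ∧ T.a (σ 3) (σ 8) = 0 ∧ T.a (σ 4) (σ 4) = -2 * w ∧ T.a (σ 4) (σ 5) = w ∧ T.a (σ 4) (σ 6) = 0 ∧ T.a (σ 4) (σ 7) = 0 ∧ T.a (σ 4) (σ 8) = 0 ∧ T.a (σ 5) (σ 5) = -2 * w ∧ T.a (σ 5) (σ 6) = w ∧ T.a (σ 5) (σ 7) = 0 ∧ T.a (σ 5) (σ 8) = 0 ∧ T.a (σ 6) (σ 6) = -2 * w ∧ T.a (σ 6) (σ 7)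 = w ∧ T.a (σ 6) (σ 8) = w ∧ T.a (σ 7) (σ 7) = -2 * w ∧ T.a (σ 7) (σ 8) = 0 ∧ T.a (σ 8) (σ 8) = -2 * w) ∨ (T.m (σ 0) = m ∧ T.m (σ 1) = 2 * m ∧ T.m (σ 2) = 3 * m ∧ T.m (σ 3) = 4 * m ∧ T.m (σ 4) = 5 * m ∧ T.m (σ 5) = 6 * m ∧ T.m (σ 6) = 4 * m ∧ T.m (σ 7) = 2 * m ∧ T.m (σ 8) = 3 * m ∧ T.w (σ 0) = w ∧ T.w (σ 1) = w ∧ T.w (σ 2) = w ∧ T.w (σ 3) = w ∧ T.w (σ 4) = w ∧ T.w (σ 5) = w ∧ T.w (σ 6) = w ∧ T.w (σ 7) = w ∧ T.w (σ 8) = w ∧ T.a (σ 0) (σ 0) = -2 * w ∧ T.a (σ 0) (σ 1) = w ∧ T.a (σ 0) (σ 2) = 0 ∧ T.a (σ 0) (σ 3) = 0 ∧ T.a (σ 0) (σ 4) = 0 ∧ T.a (σ 0) (σ 5) = 0 ∧ T.a (σ 0) (σ 6) = 0 ∧ T.a (σ 0) (σ 7) = 0 ∧ T.a (σ 0) (σ 8) = 0 ∧ T.a (σ 1) (σ 1) = -2 * w ∧ T.a (σ 1) (σ 2) = w ∧ T.a (σ 1) (σ 3) = 0 ∧ T.a (σ 1) (σ 4) = 0 ∧ T.a (σ 1) (σ 5) = 0 ∧ T.a (σ 1) (σ 6) = 0 ∧ T.a (σ 1) (σ 7) = 0 ∧ T.a (σ 1)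 (σ 8) = 0 ∧ T.a (σ 2) (σ 2) = -2 * w ∧ T.a (σ 2) (σ 3) = w ∧ T.a (σ 2) (σ 4) = 0 ∧ T.a (σ 2) (σ 5) = 0 ∧ T.a (σ 2) (σ 6) = 0 ∧ T.a (σ 2) (σ 7) = 0 ∧ T.a (σ 2) (σ 8) = 0 ∧ T.a (σ 3) (σ 3) = -2 * w ∧ T.a (σ 3) (σ 4) = w ∧ T.a (σ 3) (σ 5) = 0 ∧ T.a (σ 3) (σ 6) = 0 ∧ T.a (σ 3) (σ 7) = 0 ∧ T.a (σ 3) (σ 8) = 0 ∧ T.a (σ 4) (σ 4) = -2 * w ∧ T.a (σ 4) (σ 5) = w ∧ T.a (σ 4) (σ 6) = 0 ∧ T.a (σ 4) (σ 7) = 0 ∧ T.a (σ 4) (σ 8) = 0 ∧ T.a (σ 5) (σ 5) = -2 * w ∧ T.a (σ 5) (σ 6) = w ∧ T.a (σ 5) (σ 7) = 0 ∧ T.a (σ 5) (σ 8) = w ∧ T.a (σ 6) (σ 6) = -2 * w ∧ T.a (σ 6) (σ 7) = w ∧ T.a (σ 6) (σ 8) = 0 ∧ T.a (σ 7) (σ 7) = -2 * w ∧ T.a (σ 7) (σ 8) = 0 ∧ T.a (σ 8) (σ 8) = -2 * w)) := by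
  by_cases hx : ∃ j, (j ≠ u0 ∧ j ≠ u1 ∧ j ≠ u2 ∧ j ≠ u3 ∧ j ≠ u4 ∧ j ≠ u5 ∧ j ≠ u6) ∧ T.a u5 j ≠ 0
  · obtain ⟨u7, ⟨hn_7_0, hn_7_1, hn_7_2, hn_7_3, hn_7_4, hn_7_5, hn_7_6⟩, e_5_7⟩ := hx
    have z_0_7 : T.a u0 u7 = 0 := cl_0 u7 ⟨hn_7_0, hn_7_1, hn_7_2⟩
    have z_1_7 : T.a u1 u7 = 0 := cl_1 u7 ⟨hn_7_0, hn_7_1, hn_7_2, hn_7_3, hn_7_4⟩
    have z_2_7 : T.a u2 u7 = 0 := cl_2 u7 ⟨hn_7_0, hn_7_1, hn_7_2, hn_7_3, hn_7_4, hn_7_5⟩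
    have z_3_7 : T.a u3 u7 = 0 := cl_3 u7 ⟨hn_7_0, hn_7_1, hn_7_2, hn_7_3, hn_7_4, hn_7_5⟩
    have z_4_7 : T.a u4 u7 = 0 := cl_4 u7 ⟨hn_7_0, hn_7_1, hn_7_2, hn_7_3, hn_7_4, hn_7_5⟩
    rcases Groth.Agent.Helper6.NT.edge5 T h2 (by norm_num) u5 u7 hn_7_5.symm e_5_7 with ⟨tw_5_7, tap_5_7, taq_5_7⟩ | ⟨tw_5_7, tap_5_7, taq_5_7⟩ | ⟨tw_5_7, tap_5_7, taq_5_7⟩ | ⟨tw_5_7, tap_5_7, taq_5_7⟩ | ⟨tw_5_7, tap_5_7, taq_5_7⟩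
    · -- (5,7) S
      exfalso
      have key := Groth.Agent.Helper6.NT.negfun8 T h2 u0 u1 u2 u3 u4 u5 u6 u7 (by norm_num) 2 2 2 1 1 2 1 1 (by norm_num) (by norm_num)
      linarith only [key, tap_0_1, taq_0_1, tap_0_2, taq_0_2, z_0_3, z_0_4, z_0_5, z_0_6, z_0_7, z_1_2, tap_1_3, taq_1_3, tap_1_4, taq_1_4, z_1_5, z_1_6, z_1_7, z_2_3, z_2_4, tap_2_5, taq_2_5, z_2_6, z_2_7, z_3_4, z_3_5, z_3_6, z_3_7, z_4_5, z_4_6, z_4_7, tap_5_6, taq_5_6, tap_5_7, taq_5_7, T.offDiag_nonneg u6 u7 hn_7_6.symm, T.w_pos u0, T.w_pos u1, T.w_pos u2, T.w_pos u3, T.w_pos u4, T.w_pos u5, T.w_pos u6, T.w_pos u7]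
    · -- (5,7) Dp
      exfalso
      have key := Groth.Agent.Helper6.NT.negfun4 T h2 u2 u5 u6 u7 (by norm_num) 1 2 1 1 (by norm_num) (by norm_num)
      linarith only [key, tap_2_5, taq_2_5, z_2_6, z_2_7, tap_5_6, taq_5_6, tap_5_7, taq_5_7, T.offDiag_nonneg u6 u7 hn_7_6.symm, T.w_pos u2, T.w_pos u5, T.w_pos u6, T.w_pos u7]
    · -- (5,7) Dm
      exfalso
      have key := Groth.Agent.Helper6.NT.negfun4 T h2 u2 u5 u6 u7 (by norm_num) 1 2 1 2 (by norm_num) (by norm_num)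
      linarith only [key, tap_2_5, taq_2_5, z_2_6, z_2_7, tap_5_6, taq_5_6, tap_5_7, taq_5_7, T.offDiag_nonneg u6 u7 hn_7_6.symm, T.w_pos u2, T.w_pos u5, T.w_pos u6, T.w_pos u7]
    · -- (5,7) Tp
      exfalso
      have key := Groth.Agent.Helper6.NT.negfun3 T h2 u5 u6 u7 (by norm_num) 2 1 1 (by norm_num) (by norm_num)
      linarith only [key, tap_5_6, taq_5_6, tap_5_7, taq_5_7, T.offDiag_nonneg u6 u7 hn_7_6.symm, T.w_pos u5, T.w_pos u6, T.w_pos u7]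
    · -- (5,7) Tm
      exfalso
      have key := Groth.Agent.Helper6.NT.negfun3 T h2 u5 u6 u7 (by norm_num) 2 1 3 (by norm_num) (by norm_num)
      linarith only [key, tap_5_6, taq_5_6, tap_5_7, taq_5_7, T.offDiag_nonneg u6 u7 hn_7_6.symm, T.w_pos u5, T.w_pos u6, T.w_pos u7]
  · push Not at hx
    have cl_5 := hx
    clear hx
    by_cases hx : ∃ j, (j ≠ u0 ∧ j ≠ u1 ∧ j ≠ u2 ∧ j ≠ u3 ∧ j ≠ u4 ∧ j ≠ u5 ∧ j ≠ u6) ∧ T.a u6 j ≠ 0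
    · obtain ⟨u7, ⟨hn_7_0, hn_7_1, hn_7_2, hn_7_3, hn_7_4, hn_7_5, hn_7_6⟩, e_6_7⟩ := hx
      have z_0_7 : T.a u0 u7 = 0 := cl_0 u7 ⟨hn_7_0, hn_7_1, hn_7_2⟩
      have z_1_7 : T.a u1 u7 = 0 := cl_1 u7 ⟨hn_7_0, hn_7_1, hn_7_2, hn_7_3, hn_7_4⟩
      have z_2_7 : T.a u2 u7 = 0 := cl_2 u7 ⟨hn_7_0, hn_7_1, hn_7_2, hn_7_3, hn_7_4, hn_7_5⟩
      have z_3_7 : T.a u3 u7 = 0 := cl_3 u7 ⟨hn_7_0, hn_7_1, hn_7_2, hn_7_3, hn_7_4, hn_7_5⟩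
      have z_4_7 : T.a u4 u7 = 0 := cl_4 u7 ⟨hn_7_0, hn_7_1, hn_7_2, hn_7_3, hn_7_4, hn_7_5⟩
      have z_5_7 : T.a u5 u7 = 0 := cl_5 u7 ⟨hn_7_0, hn_7_1, hn_7_2, hn_7_3, hn_7_4, hn_7_5, hn_7_6⟩
      rcases Groth.Agent.Helper6.NT.edge5 T h2 (by norm_num) u6 u7 hn_7_6.symm e_6_7 with ⟨tw_6_7, tap_6_7, taq_6_7⟩ | ⟨tw_6_7, tap_6_7, taq_6_7⟩ | ⟨tw_6_7, tap_6_7, taq_6_7⟩ | ⟨tw_6_7, tap_6_7, taq_6_7⟩ | ⟨tw_6_7, tap_6_7, taq_6_7⟩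
      · -- (6,7) S
        by_cases hx : ∃ j, (j ≠ u0 ∧ j ≠ u1 ∧ j ≠ u2 ∧ j ≠ u3 ∧ j ≠ u4 ∧ j ≠ u5 ∧ j ≠ u6 ∧ j ≠ u7) ∧ T.a u6 j ≠ 0
        · obtain ⟨u8, ⟨hn_8_0, hn_8_1, hn_8_2, hn_8_3, hn_8_4, hn_8_5, hn_8_6, hn_8_7⟩, e_6_8⟩ := hx
          have z_0_8 : T.a u0 u8 = 0 := cl_0 u8 ⟨hn_8_0, hn_8_1, hn_8_2⟩
          have z_1_8 : T.a u1 u8 = 0 := cl_1 u8 ⟨hn_8_0, hn_8_1, hn_8_2, hn_8_3, hn_8_4⟩
          have z_2_8 : T.a u2 u8 = 0 := cl_2 u8 ⟨hn_8_0, hn_8_1, hn_8_2, hn_8_3, hn_8_4, hn_8_5⟩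
          have z_3_8 : T.a u3 u8 = 0 := cl_3 u8 ⟨hn_8_0, hn_8_1, hn_8_2, hn_8_3, hn_8_4, hn_8_5⟩
          have z_4_8 : T.a u4 u8 = 0 := cl_4 u8 ⟨hn_8_0, hn_8_1, hn_8_2, hn_8_3, hn_8_4, hn_8_5⟩
          have z_5_8 : T.a u5 u8 = 0 := cl_5 u8 ⟨hn_8_0, hn_8_1, hn_8_2, hn_8_3, hn_8_4, hn_8_5, hn_8_6⟩
          rcases Groth.Agent.Helper6.NT.edge5 T h2 (by norm_num) u6 u8 hn_8_6.symm e_6_8 with ⟨tw_6_8, tap_6_8, taq_6_8⟩ | ⟨tw_6_8, tap_6_8, taq_6_8⟩ | ⟨tw_6_8, tap_6_8, taq_6_8⟩ | ⟨tw_6_8, tap_6_8, taq_6_8⟩ | ⟨tw_6_8, tap_6_8, taq_6_8⟩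
          · -- (6,8) S
            rcases eq_or_ne (T.a u7 u8) 0 with z_7_8 | nz_7_8
            · -- (7,8) zero
              have hinj := Groth.Agent.Helper6.NT.inj9 u0 u1 u2 u3 u4 u5 u6 u7 u8 hn_1_0 hn_2_0 hn_2_1 hn_3_0 hn_3_1 hn_3_2 hn_4_0 hn_4_1 hn_4_2 hn_4_3 hn_5_0 hn_5_1 hn_5_2 hn_5_3 hn_5_4 hn_6_0 hn_6_1 hn_6_2 hn_6_3 hn_6_4 hn_6_5 hn_7_0 hn_7_1 hn_7_2 hn_7_3 hn_7_4 hn_7_5 hn_7_6 hn_8_0 hn_8_1 hn_8_2 hn_8_3 hn_8_4 hn_8_5 hn_8_6 hn_8_7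
              have r_0 : -2 * T.m u0 + 1 * T.m u1 + 1 * T.m u2 = 0 := by
                have key := Groth.Agent.Helper6.NT.rowfun9 T u0 u1 u2 u3 u4 u5 u6 u7 u8 hinj u0
                rw [(h2 u0).2, tap_0_1, tap_0_2, z_0_3, z_0_4, z_0_5, z_0_6, z_0_7, z_0_8] at key
                exact mul_left_cancel₀ (T.w_pos u0).ne' (by linarith only [key])
              have r_1 : 1 * T.m u0 + -2 * T.m u1 + 1 * T.m u3 + 1 * T.m u4 = 0 := by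
                have key := Groth.Agent.Helper6.NT.rowfun9 T u0 u1 u2 u3 u4 u5 u6 u7 u8 hinj u1
                rw [Groth.Agent.Helper6.NT.symm' T u1 u0, taq_0_1, (h2 u1).2, z_1_2, tap_1_3, tap_1_4, z_1_5, z_1_6, z_1_7, z_1_8] at key
                exact mul_left_cancel₀ (T.w_pos u1).ne' (by linarith only [key])
              have r_2 : 1 * T.m u0 + -2 * T.m u2 + 1 * T.m u5 = 0 := by
                have key := Groth.Agent.Helper6.NT.rowfun9 T u0 u1 u2 u3 u4 u5 u6 u7 u8 hinj u2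
                rw [Groth.Agent.Helper6.NT.symm' T u2 u0, taq_0_2, Groth.Agent.Helper6.NT.symm' T u2 u1, z_1_2, (h2 u2).2, z_2_3, z_2_4, tap_2_5, z_2_6, z_2_7, z_2_8] at key
                exact mul_left_cancel₀ (T.w_pos u2).ne' (by linarith only [key])
              have r_3 : 1 * T.m u1 + -2 * T.m u3 = 0 := by
                have key := Groth.Agent.Helper6.NT.rowfun9 T u0 u1 u2 u3 u4 u5 u6 u7 u8 hinj u3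
                rw [Groth.Agent.Helper6.NT.symm' T u3 u0, z_0_3, Groth.Agent.Helper6.NT.symm' T u3 u1, taq_1_3, Groth.Agent.Helper6.NT.symm' T u3 u2, z_2_3, (h2 u3).2, z_3_4, z_3_5, z_3_6, z_3_7, z_3_8] at key
                exact mul_left_cancel₀ (T.w_pos u3).ne' (by linarith only [key])
              have r_4 : 1 * T.m u1 + -2 * T.m u4 = 0 := by
                have key := Groth.Agent.Helper6.NT.rowfun9 T u0 u1 u2 u3 u4 u5 u6 u7 u8 hinj u4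
                rw [Groth.Agent.Helper6.NT.symm' T u4 u0, z_0_4, Groth.Agent.Helper6.NT.symm' T u4 u1, taq_1_4, Groth.Agent.Helper6.NT.symm' T u4 u2, z_2_4, Groth.Agent.Helper6.NT.symm' T u4 u3, z_3_4, (h2 u4).2, z_4_5, z_4_6, z_4_7, z_4_8] at key
                exact mul_left_cancel₀ (T.w_pos u4).ne' (by linarith only [key])
              have r_5 : 1 * T.m u2 + -2 * T.m u5 + 1 * T.m u6 = 0 := by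
                have key := Groth.Agent.Helper6.NT.rowfun9 T u0 u1 u2 u3 u4 u5 u6 u7 u8 hinj u5
                rw [Groth.Agent.Helper6.NT.symm' T u5 u0, z_0_5, Groth.Agent.Helper6.NT.symm' T u5 u1, z_1_5, Groth.Agent.Helper6.NT.symm' T u5 u2, taq_2_5, Groth.Agent.Helper6.NT.symm' T u5 u3, z_3_5, Groth.Agent.Helper6.NT.symm' T u5 u4, z_4_5, (h2 u5).2, tap_5_6, z_5_7, z_5_8] at key
                exact mul_left_cancel₀ (T.w_pos u5).ne' (by linarith only [key])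
              have r_6 : 1 * T.m u5 + -2 * T.m u6 + 1 * T.m u7 + 1 * T.m u8 = 0 := by
                have key := Groth.Agent.Helper6.NT.rowfun9 T u0 u1 u2 u3 u4 u5 u6 u7 u8 hinj u6
                rw [Groth.Agent.Helper6.NT.symm' T u6 u0, z_0_6, Groth.Agent.Helper6.NT.symm' T u6 u1, z_1_6, Groth.Agent.Helper6.NT.symm' T u6 u2, z_2_6, Groth.Agent.Helper6.NT.symm' T u6 u3, z_3_6, Groth.Agent.Helper6.NT.symm' T u6 u4, z_4_6, Groth.Agent.Helper6.NT.symm' T u6 u5, taq_5_6, (h2 u6).2, tap_6_7, tap_6_8] at key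
                exact mul_left_cancel₀ (T.w_pos u6).ne' (by linarith only [key])
              have r_7 : 1 * T.m u6 + -2 * T.m u7 = 0 := by
                have key := Groth.Agent.Helper6.NT.rowfun9 T u0 u1 u2 u3 u4 u5 u6 u7 u8 hinj u7
                rw [Groth.Agent.Helper6.NT.symm' T u7 u0, z_0_7, Groth.Agent.Helper6.NT.symm' T u7 u1, z_1_7, Groth.Agent.Helper6.NT.symm' T u7 u2, z_2_7, Groth.Agent.Helper6.NT.symm' T u7 u3, z_3_7, Groth.Agent.Helper6.NT.symm' T u7 u4, z_4_7, Groth.Agent.Helper6.NT.symm' T u7 u5, z_5_7, Groth.Agent.Helper6.NT.symm' T u7 u6, taq_6_7, (h2 u7).2, z_7_8] at key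
                exact mul_left_cancel₀ (T.w_pos u7).ne' (by linarith only [key])
              have r_8 : 1 * T.m u6 + -2 * T.m u8 = 0 := by
                have key := Groth.Agent.Helper6.NT.rowfun9 T u0 u1 u2 u3 u4 u5 u6 u7 u8 hinj u8
                rw [Groth.Agent.Helper6.NT.symm' T u8 u0, z_0_8, Groth.Agent.Helper6.NT.symm' T u8 u1, z_1_8, Groth.Agent.Helper6.NT.symm' T u8 u2, z_2_8, Groth.Agent.Helper6.NT.symm' T u8 u3, z_3_8, Groth.Agent.Helper6.NT.symm' T u8 u4, z_4_8, Groth.Agent.Helper6.NT.symm' T u8 u5, z_5_8, Groth.Agent.Helper6.NT.symm' T u8 u6, taq_6_8, Groth.Agent.Helper6.NT.symm' T u8 u7, z_7_8, (h2 u8).2] at key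
                exact mul_left_cancel₀ (T.w_pos u8).ne' (by linarith only [key])
              have f0 : T.m u3 = T.m u3 := rfl
              have f1 : T.m u4 = T.m u3 := by linarith only [r_0, r_1, r_2, r_3, r_4, r_5, r_6, r_7, r_8]
              have f2 : T.m u1 = 2 * T.m u3 := by linarith only [r_0, r_1, r_2, r_3, r_4, r_5, r_6, r_7, r_8]
              have f3 : T.m u0 = 2 * T.m u3 := by linarith only [r_0, r_1, r_2, r_3, r_4, r_5, r_6, r_7, r_8]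
              have f4 : T.m u2 = 2 * T.m u3 := by linarith only [r_0, r_1, r_2, r_3, r_4, r_5, r_6, r_7, r_8]
              have f5 : T.m u5 = 2 * T.m u3 := by linarith only [r_0, r_1, r_2, r_3, r_4, r_5, r_6, r_7, r_8]
              have f6 : T.m u6 = 2 * T.m u3 := by linarith only [r_0, r_1, r_2, r_3, r_4, r_5, r_6, r_7, r_8]
              have f7 : T.m u7 = T.m u3 := by linarith only [r_0, r_1, r_2, r_3, r_4, r_5, r_6, r_7, r_8]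
              have f8 : T.m u8 = T.m u3 := by linarith only [r_0, r_1, r_2, r_3, r_4, r_5, r_6, r_7, r_8]
              have f9 : T.w u3 = T.w u3 := rfl
              have f10 : T.w u4 = T.w u3 := by linarith only [tw_0_1, tw_0_2, tw_1_3, tw_1_4, tw_2_5, tw_5_6, tw_6_7, tw_6_8]
              have f11 : T.w u1 = T.w u3 := by linarith only [tw_0_1, tw_0_2, tw_1_3, tw_1_4, tw_2_5, tw_5_6, tw_6_7, tw_6_8]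
              have f12 : T.w u0 = T.w u3 := by linarith only [tw_0_1, tw_0_2, tw_1_3, tw_1_4, tw_2_5, tw_5_6, tw_6_7, tw_6_8]
              have f13 : T.w u2 = T.w u3 := by linarith only [tw_0_1, tw_0_2, tw_1_3, tw_1_4, tw_2_5, tw_5_6, tw_6_7, tw_6_8]
              have f14 : T.w u5 = T.w u3 := by linarith only [tw_0_1, tw_0_2, tw_1_3, tw_1_4, tw_2_5, tw_5_6, tw_6_7, tw_6_8]
              have f15 : T.w u6 = T.w u3 := by linarith only [tw_0_1, tw_0_2, tw_1_3, tw_1_4, tw_2_5, tw_5_6, tw_6_7, tw_6_8]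
              have f16 : T.w u7 = T.w u3 := by linarith only [tw_0_1, tw_0_2, tw_1_3, tw_1_4, tw_2_5, tw_5_6, tw_6_7, tw_6_8]
              have f17 : T.w u8 = T.w u3 := by linarith only [tw_0_1, tw_0_2, tw_1_3, tw_1_4, tw_2_5, tw_5_6, tw_6_7, tw_6_8]
              have f18 : T.a u3 u3 = -2 * T.w u3 := by have := (h2 u3).2; linarith only [this, tw_0_1, tw_0_2, tw_1_3, tw_1_4, tw_2_5, tw_5_6, tw_6_7, tw_6_8]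
              have f19 : T.a u3 u4 = 0 := by exact z_3_4
              have f20 : T.a u3 u1 = T.w u3 := by rw [Groth.Agent.Helper6.NT.symm' T u3 u1]; linarith only [tap_1_3, tw_0_1, tw_0_2, tw_1_3, tw_1_4, tw_2_5, tw_5_6, tw_6_7, tw_6_8]
              have f21 : T.a u3 u0 = 0 := by rw [Groth.Agent.Helper6.NT.symm' T u3 u0]; exact z_0_3
              have f22 : T.a u3 u2 = 0 := by rw [Groth.Agent.Helper6.NT.symm' T u3 u2]; exact z_2_3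
              have f23 : T.a u3 u5 = 0 := by exact z_3_5
              have f24 : T.a u3 u6 = 0 := by exact z_3_6
              have f25 : T.a u3 u7 = 0 := by exact z_3_7
              have f26 : T.a u3 u8 = 0 := by exact z_3_8
              have f27 : T.a u4 u4 = -2 * T.w u3 := by have := (h2 u4).2; linarith only [this, tw_0_1, tw_0_2, tw_1_3, tw_1_4, tw_2_5, tw_5_6, tw_6_7, tw_6_8]
              have f28 : T.a u4 u1 = T.w u3 := by rw [Groth.Agent.Helper6.NT.symm' T u4 u1]; linarith only [tap_1_4, tw_0_1, tw_0_2, tw_1_3, tw_1_4, tw_2_5, tw_5_6, tw_6_7, tw_6_8]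
              have f29 : T.a u4 u0 = 0 := by rw [Groth.Agent.Helper6.NT.symm' T u4 u0]; exact z_0_4
              have f30 : T.a u4 u2 = 0 := by rw [Groth.Agent.Helper6.NT.symm' T u4 u2]; exact z_2_4
              have f31 : T.a u4 u5 = 0 := by exact z_4_5
              have f32 : T.a u4 u6 = 0 := by exact z_4_6
              have f33 : T.a u4 u7 = 0 := by exact z_4_7
              have f34 : T.a u4 u8 = 0 := by exact z_4_8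
              have f35 : T.a u1 u1 = -2 * T.w u3 := by have := (h2 u1).2; linarith only [this, tw_0_1, tw_0_2, tw_1_3, tw_1_4, tw_2_5, tw_5_6, tw_6_7, tw_6_8]
              have f36 : T.a u1 u0 = T.w u3 := by rw [Groth.Agent.Helper6.NT.symm' T u1 u0]; linarith only [tap_0_1, tw_0_1, tw_0_2, tw_1_3, tw_1_4, tw_2_5, tw_5_6, tw_6_7, tw_6_8]
              have f37 : T.a u1 u2 = 0 := by exact z_1_2
              have f38 : T.a u1 u5 = 0 := by exact z_1_5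
              have f39 : T.a u1 u6 = 0 := by exact z_1_6
              have f40 : T.a u1 u7 = 0 := by exact z_1_7
              have f41 : T.a u1 u8 = 0 := by exact z_1_8
              have f42 : T.a u0 u0 = -2 * T.w u3 := by have := (h2 u0).2; linarith only [this, tw_0_1, tw_0_2, tw_1_3, tw_1_4, tw_2_5, tw_5_6, tw_6_7, tw_6_8]
              have f43 : T.a u0 u2 = T.w u3 := by linarith only [tap_0_2, tw_0_1, tw_0_2, tw_1_3, tw_1_4, tw_2_5, tw_5_6, tw_6_7, tw_6_8]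
              have f44 : T.a u0 u5 = 0 := by exact z_0_5
              have f45 : T.a u0 u6 = 0 := by exact z_0_6
              have f46 : T.a u0 u7 = 0 := by exact z_0_7
              have f47 : T.a u0 u8 = 0 := by exact z_0_8
              have f48 : T.a u2 u2 = -2 * T.w u3 := by have := (h2 u2).2; linarith only [this, tw_0_1, tw_0_2, tw_1_3, tw_1_4, tw_2_5, tw_5_6, tw_6_7, tw_6_8]
              have f49 : T.a u2 u5 = T.w u3 := by linarith only [tap_2_5, tw_0_1, tw_0_2, tw_1_3, tw_1_4, tw_2_5, tw_5_6, tw_6_7, tw_6_8]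
              have f50 : T.a u2 u6 = 0 := by exact z_2_6
              have f51 : T.a u2 u7 = 0 := by exact z_2_7
              have f52 : T.a u2 u8 = 0 := by exact z_2_8
              have f53 : T.a u5 u5 = -2 * T.w u3 := by have := (h2 u5).2; linarith only [this, tw_0_1, tw_0_2, tw_1_3, tw_1_4, tw_2_5, tw_5_6, tw_6_7, tw_6_8]
              have f54 : T.a u5 u6 = T.w u3 := by linarith only [tap_5_6, tw_0_1, tw_0_2, tw_1_3, tw_1_4, tw_2_5, tw_5_6, tw_6_7, tw_6_8]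
              have f55 : T.a u5 u7 = 0 := by exact z_5_7
              have f56 : T.a u5 u8 = 0 := by exact z_5_8
              have f57 : T.a u6 u6 = -2 * T.w u3 := by have := (h2 u6).2; linarith only [this, tw_0_1, tw_0_2, tw_1_3, tw_1_4, tw_2_5, tw_5_6, tw_6_7, tw_6_8]
              have f58 : T.a u6 u7 = T.w u3 := by linarith only [tap_6_7, tw_0_1, tw_0_2, tw_1_3, tw_1_4, tw_2_5, tw_5_6, tw_6_7, tw_6_8]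
              have f59 : T.a u6 u8 = T.w u3 := by linarith only [tap_6_8, tw_0_1, tw_0_2, tw_1_3, tw_1_4, tw_2_5, tw_5_6, tw_6_7, tw_6_8]
              have f60 : T.a u7 u7 = -2 * T.w u3 := by have := (h2 u7).2; linarith only [this, tw_0_1, tw_0_2, tw_1_3, tw_1_4, tw_2_5, tw_5_6, tw_6_7, tw_6_8]
              have f61 : T.a u7 u8 = 0 := by exact z_7_8
              have f62 : T.a u8 u8 = -2 * T.w u3 := by have := (h2 u8).2; linarith only [this, tw_0_1, tw_0_2, tw_1_3, tw_1_4, tw_2_5, tw_5_6, tw_6_7, tw_6_8]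
              have hsig := Groth.Agent.Helper6.NT.inj9 u3 u4 u1 u0 u2 u5 u6 u7 u8 hn_4_3 hn_3_1.symm hn_4_1.symm hn_3_0.symm hn_4_0.symm hn_1_0.symm hn_3_2.symm hn_4_2.symm hn_2_1 hn_2_0 hn_5_3 hn_5_4 hn_5_1 hn_5_0 hn_5_2 hn_6_3 hn_6_4 hn_6_1 hn_6_0 hn_6_2 hn_6_5 hn_7_3 hn_7_4 hn_7_1 hn_7_0 hn_7_2 hn_7_5 hn_7_6 hn_8_3 hn_8_4 hn_8_1 hn_8_0 hn_8_2 hn_8_5 hn_8_6 hn_8_7
              exact ⟨Equiv.ofBijective _ (Finite.injective_iff_bijective.1 hsig), T.m u3, T.w u3, Or.inr (Or.inr (Or.inr (Or.inr (Or.inr (Or.inr (Or.inl ⟨f0, f1, f2, f3, f4, f5, f6, f7, f8, f9, f10, f11, f12, f13, f14, f15, f16, f17, f18, f19, f20, f21, f22, f23, f24, f25, f26, f27, f28, f29, f30, f31, f32, f33, f34, f35, f36, f37, f38, f39, f40, f41, f42, f43, f44, f45, f46, f47, f48, f49, f50, f51, f52, f53, f54, f55, f56,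 f57, f58, f59, f60, f61, f62⟩))))))⟩
            · -- (7,8) nonzero
              obtain ⟨lbp_7_8, lbq_7_8⟩ := Groth.Agent.Helper6.NT.lb T u7 u8 hn_8_7.symm nz_7_8
              exfalso
              have key := Groth.Agent.Helper6.NT.negfun3 T h2 u6 u7 u8 (by norm_num) 1 1 1 (by norm_num) (by norm_num)
              linarith only [key, tap_6_7, taq_6_7, tap_6_8, taq_6_8, lbp_7_8, lbq_7_8, T.w_pos u6, T.w_pos u7, T.w_pos u8]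
          · -- (6,8) Dp
            exfalso
            have key := Groth.Agent.Helper6.NT.negfun4 T h2 u5 u6 u7 u8 (by norm_num) 1 2 1 1 (by norm_num) (by norm_num)
            linarith only [key, tap_5_6, taq_5_6, z_5_7, z_5_8, tap_6_7, taq_6_7, tap_6_8, taq_6_8, T.offDiag_nonneg u7 u8 hn_8_7.symm, T.w_pos u5, T.w_pos u6, T.w_pos u7, T.w_pos u8]
          · -- (6,8) Dm
            exfalso
            have key := Groth.Agent.Helper6.NT.negfun4 T h2 u5 u6 u7 u8 (by norm_num) 1 2 1 2 (by norm_num) (by norm_num)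
            linarith only [key, tap_5_6, taq_5_6, z_5_7, z_5_8, tap_6_7, taq_6_7, tap_6_8, taq_6_8, T.offDiag_nonneg u7 u8 hn_8_7.symm, T.w_pos u5, T.w_pos u6, T.w_pos u7, T.w_pos u8]
          · -- (6,8) Tp
            exfalso
            have key := Groth.Agent.Helper6.NT.negfun3 T h2 u6 u7 u8 (by norm_num) 2 1 1 (by norm_num) (by norm_num)
            linarith only [key, tap_6_7, taq_6_7, tap_6_8, taq_6_8, T.offDiag_nonneg u7 u8 hn_8_7.symm, T.w_pos u6, T.w_pos u7, T.w_pos u8]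
          · -- (6,8) Tm
            exfalso
            have key := Groth.Agent.Helper6.NT.negfun3 T h2 u6 u7 u8 (by norm_num) 2 1 3 (by norm_num) (by norm_num)
            linarith only [key, tap_6_7, taq_6_7, tap_6_8, taq_6_8, T.offDiag_nonneg u7 u8 hn_8_7.symm, T.w_pos u6, T.w_pos u7, T.w_pos u8]
        · push Not at hx
          have cl_6 := hx
          clear hx
          by_cases hx : ∃ j, (j ≠ u0 ∧ j ≠ u1 ∧ j ≠ u2 ∧ j ≠ u3 ∧ j ≠ u4 ∧ j ≠ u5 ∧ j ≠ u6 ∧ j ≠ u7) ∧ T.a u7 j ≠ 0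
          · obtain ⟨u8, ⟨hn_8_0, hn_8_1, hn_8_2, hn_8_3, hn_8_4, hn_8_5, hn_8_6, hn_8_7⟩, e_7_8⟩ := hx
            have z_0_8 : T.a u0 u8 = 0 := cl_0 u8 ⟨hn_8_0, hn_8_1, hn_8_2⟩
            have z_1_8 : T.a u1 u8 = 0 := cl_1 u8 ⟨hn_8_0, hn_8_1, hn_8_2, hn_8_3, hn_8_4⟩
            have z_2_8 : T.a u2 u8 = 0 := cl_2 u8 ⟨hn_8_0, hn_8_1, hn_8_2, hn_8_3, hn_8_4, hn_8_5⟩
            have z_3_8 : T.a u3 u8 = 0 := cl_3 u8 ⟨hn_8_0, hn_8_1, hn_8_2, hn_8_3, hn_8_4, hn_8_5⟩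
            have z_4_8 : T.a u4 u8 = 0 := cl_4 u8 ⟨hn_8_0, hn_8_1, hn_8_2, hn_8_3, hn_8_4, hn_8_5⟩
            have z_5_8 : T.a u5 u8 = 0 := cl_5 u8 ⟨hn_8_0, hn_8_1, hn_8_2, hn_8_3, hn_8_4, hn_8_5, hn_8_6⟩
            have z_6_8 : T.a u6 u8 = 0 := cl_6 u8 ⟨hn_8_0, hn_8_1, hn_8_2, hn_8_3, hn_8_4, hn_8_5, hn_8_6, hn_8_7⟩
            rcases Groth.Agent.Helper6.NT.edge5 T h2 (by norm_num) u7 u8 hn_8_7.symm e_7_8 with ⟨tw_7_8, tap_7_8, taq_7_8⟩ | ⟨tw_7_8, tap_7_8, taq_7_8⟩ | ⟨tw_7_8, tap_7_8, taq_7_8⟩ | ⟨tw_7_8, tap_7_8, taq_7_8⟩ | ⟨tw_7_8, tap_7_8, taq_7_8⟩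
            · -- (7,8) S
              have hinj := Groth.Agent.Helper6.NT.inj9 u0 u1 u2 u3 u4 u5 u6 u7 u8 hn_1_0 hn_2_0 hn_2_1 hn_3_0 hn_3_1 hn_3_2 hn_4_0 hn_4_1 hn_4_2 hn_4_3 hn_5_0 hn_5_1 hn_5_2 hn_5_3 hn_5_4 hn_6_0 hn_6_1 hn_6_2 hn_6_3 hn_6_4 hn_6_5 hn_7_0 hn_7_1 hn_7_2 hn_7_3 hn_7_4 hn_7_5 hn_7_6 hn_8_0 hn_8_1 hn_8_2 hn_8_3 hn_8_4 hn_8_5 hn_8_6 hn_8_7
              have r_0 : -2 * T.m u0 + 1 * T.m u1 + 1 * T.m u2 = 0 := by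
                have key := Groth.Agent.Helper6.NT.rowfun9 T u0 u1 u2 u3 u4 u5 u6 u7 u8 hinj u0
                rw [(h2 u0).2, tap_0_1, tap_0_2, z_0_3, z_0_4, z_0_5, z_0_6, z_0_7, z_0_8] at key
                exact mul_left_cancel₀ (T.w_pos u0).ne' (by linarith only [key])
              have r_1 : 1 * T.m u0 + -2 * T.m u1 + 1 * T.m u3 + 1 * T.m u4 = 0 := by
                have key := Groth.Agent.Helper6.NT.rowfun9 T u0 u1 u2 u3 u4 u5 u6 u7 u8 hinj u1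
                rw [Groth.Agent.Helper6.NT.symm' T u1 u0, taq_0_1, (h2 u1).2, z_1_2, tap_1_3, tap_1_4, z_1_5, z_1_6, z_1_7, z_1_8] at key
                exact mul_left_cancel₀ (T.w_pos u1).ne' (by linarith only [key])
              have r_2 : 1 * T.m u0 + -2 * T.m u2 + 1 * T.m u5 = 0 := by
                have key := Groth.Agent.Helper6.NT.rowfun9 T u0 u1 u2 u3 u4 u5 u6 u7 u8 hinj u2
                rw [Groth.Agent.Helper6.NT.symm' T u2 u0, taq_0_2, Groth.Agent.Helper6.NT.symm' T u2 u1, z_1_2, (h2 u2).2, z_2_3, z_2_4, tap_2_5, z_2_6, z_2_7, z_2_8] at key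
                exact mul_left_cancel₀ (T.w_pos u2).ne' (by linarith only [key])
              have r_3 : 1 * T.m u1 + -2 * T.m u3 = 0 := by
                have key := Groth.Agent.Helper6.NT.rowfun9 T u0 u1 u2 u3 u4 u5 u6 u7 u8 hinj u3
                rw [Groth.Agent.Helper6.NT.symm' T u3 u0, z_0_3, Groth.Agent.Helper6.NT.symm' T u3 u1, taq_1_3, Groth.Agent.Helper6.NT.symm' T u3 u2, z_2_3, (h2 u3).2, z_3_4, z_3_5, z_3_6, z_3_7, z_3_8] at key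
                exact mul_left_cancel₀ (T.w_pos u3).ne' (by linarith only [key])
              have r_4 : 1 * T.m u1 + -2 * T.m u4 = 0 := by
                have key := Groth.Agent.Helper6.NT.rowfun9 T u0 u1 u2 u3 u4 u5 u6 u7 u8 hinj u4
                rw [Groth.Agent.Helper6.NT.symm' T u4 u0, z_0_4, Groth.Agent.Helper6.NT.symm' T u4 u1, taq_1_4, Groth.Agent.Helper6.NT.symm' T u4 u2, z_2_4, Groth.Agent.Helper6.NT.symm' T u4 u3, z_3_4, (h2 u4).2, z_4_5, z_4_6, z_4_7, z_4_8] at key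
                exact mul_left_cancel₀ (T.w_pos u4).ne' (by linarith only [key])
              have r_5 : 1 * T.m u2 + -2 * T.m u5 + 1 * T.m u6 = 0 := by
                have key := Groth.Agent.Helper6.NT.rowfun9 T u0 u1 u2 u3 u4 u5 u6 u7 u8 hinj u5
                rw [Groth.Agent.Helper6.NT.symm' T u5 u0, z_0_5, Groth.Agent.Helper6.NT.symm' T u5 u1, z_1_5, Groth.Agent.Helper6.NT.symm' T u5 u2, taq_2_5, Groth.Agent.Helper6.NT.symm' T u5 u3, z_3_5, Groth.Agent.Helper6.NT.symm' T u5 u4, z_4_5, (h2 u5).2, tap_5_6, z_5_7, z_5_8] at key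
                exact mul_left_cancel₀ (T.w_pos u5).ne' (by linarith only [key])
              have r_6 : 1 * T.m u5 + -2 * T.m u6 + 1 * T.m u7 = 0 := by
                have key := Groth.Agent.Helper6.NT.rowfun9 T u0 u1 u2 u3 u4 u5 u6 u7 u8 hinj u6
                rw [Groth.Agent.Helper6.NT.symm' T u6 u0, z_0_6, Groth.Agent.Helper6.NT.symm' T u6 u1, z_1_6, Groth.Agent.Helper6.NT.symm' T u6 u2, z_2_6, Groth.Agent.Helper6.NT.symm' T u6 u3, z_3_6, Groth.Agent.Helper6.NT.symm' T u6 u4, z_4_6, Groth.Agent.Helper6.NT.symm' T u6 u5, taq_5_6, (h2 u6).2, tap_6_7, z_6_8] at key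
                exact mul_left_cancel₀ (T.w_pos u6).ne' (by linarith only [key])
              have r_7 : 1 * T.m u6 + -2 * T.m u7 + 1 * T.m u8 = 0 := by
                have key := Groth.Agent.Helper6.NT.rowfun9 T u0 u1 u2 u3 u4 u5 u6 u7 u8 hinj u7
                rw [Groth.Agent.Helper6.NT.symm' T u7 u0, z_0_7, Groth.Agent.Helper6.NT.symm' T u7 u1, z_1_7, Groth.Agent.Helper6.NT.symm' T u7 u2, z_2_7, Groth.Agent.Helper6.NT.symm' T u7 u3, z_3_7, Groth.Agent.Helper6.NT.symm' T u7 u4, z_4_7, Groth.Agent.Helper6.NT.symm' T u7 u5, z_5_7, Groth.Agent.Helper6.NT.symm' T u7 u6, taq_6_7, (h2 u7).2, tap_7_8] at key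
                exact mul_left_cancel₀ (T.w_pos u7).ne' (by linarith only [key])
              have r_8 : 1 * T.m u7 + -2 * T.m u8 = 0 := by
                have key := Groth.Agent.Helper6.NT.rowfun9 T u0 u1 u2 u3 u4 u5 u6 u7 u8 hinj u8
                rw [Groth.Agent.Helper6.NT.symm' T u8 u0, z_0_8, Groth.Agent.Helper6.NT.symm' T u8 u1, z_1_8, Groth.Agent.Helper6.NT.symm' T u8 u2, z_2_8, Groth.Agent.Helper6.NT.symm' T u8 u3, z_3_8, Groth.Agent.Helper6.NT.symm' T u8 u4, z_4_8, Groth.Agent.Helper6.NT.symm' T u8 u5, z_5_8, Groth.Agent.Helper6.NT.symm' T u8 u6, z_6_8, Groth.Agent.Helper6.NT.symm' T u8 u7, taq_7_8, (h2 u8).2] at key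
                exact mul_left_cancel₀ (T.w_pos u8).ne' (by linarith only [key])
              exfalso
              linarith only [r_0, r_1, r_2, r_3, r_4, r_5, r_6, r_7, r_8, T.m_pos u0, T.m_pos u1, T.m_pos u2, T.m_pos u3, T.m_pos u4, T.m_pos u5, T.m_pos u6, T.m_pos u7, T.m_pos u8]
            · -- (7,8) Dp
              have hinj := Groth.Agent.Helper6.NT.inj9 u0 u1 u2 u3 u4 u5 u6 u7 u8 hn_1_0 hn_2_0 hn_2_1 hn_3_0 hn_3_1 hn_3_2 hn_4_0 hn_4_1 hn_4_2 hn_4_3 hn_5_0 hn_5_1 hn_5_2 hn_5_3 hn_5_4 hn_6_0 hn_6_1 hn_6_2 hn_6_3 hn_6_4 hn_6_5 hn_7_0 hn_7_1 hn_7_2 hn_7_3 hn_7_4 hn_7_5 hn_7_6 hn_8_0 hn_8_1 hn_8_2 hn_8_3 hn_8_4 hn_8_5 hn_8_6 hn_8_7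
              have r_0 : -2 * T.m u0 + 1 * T.m u1 + 1 * T.m u2 = 0 := by
                have key := Groth.Agent.Helper6.NT.rowfun9 T u0 u1 u2 u3 u4 u5 u6 u7 u8 hinj u0
                rw [(h2 u0).2, tap_0_1, tap_0_2, z_0_3, z_0_4, z_0_5, z_0_6, z_0_7, z_0_8] at key
                exact mul_left_cancel₀ (T.w_pos u0).ne' (by linarith only [key])
              have r_1 : 1 * T.m u0 + -2 * T.m u1 + 1 * T.m u3 + 1 * T.m u4 = 0 := by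
                have key := Groth.Agent.Helper6.NT.rowfun9 T u0 u1 u2 u3 u4 u5 u6 u7 u8 hinj u1
                rw [Groth.Agent.Helper6.NT.symm' T u1 u0, taq_0_1, (h2 u1).2, z_1_2, tap_1_3, tap_1_4, z_1_5, z_1_6, z_1_7, z_1_8] at key
                exact mul_left_cancel₀ (T.w_pos u1).ne' (by linarith only [key])
              have r_2 : 1 * T.m u0 + -2 * T.m u2 + 1 * T.m u5 = 0 := by
                have key := Groth.Agent.Helper6.NT.rowfun9 T u0 u1 u2 u3 u4 u5 u6 u7 u8 hinj u2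
                rw [Groth.Agent.Helper6.NT.symm' T u2 u0, taq_0_2, Groth.Agent.Helper6.NT.symm' T u2 u1, z_1_2, (h2 u2).2, z_2_3, z_2_4, tap_2_5, z_2_6, z_2_7, z_2_8] at key
                exact mul_left_cancel₀ (T.w_pos u2).ne' (by linarith only [key])
              have r_3 : 1 * T.m u1 + -2 * T.m u3 = 0 := by
                have key := Groth.Agent.Helper6.NT.rowfun9 T u0 u1 u2 u3 u4 u5 u6 u7 u8 hinj u3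
                rw [Groth.Agent.Helper6.NT.symm' T u3 u0, z_0_3, Groth.Agent.Helper6.NT.symm' T u3 u1, taq_1_3, Groth.Agent.Helper6.NT.symm' T u3 u2, z_2_3, (h2 u3).2, z_3_4, z_3_5, z_3_6, z_3_7, z_3_8] at key
                exact mul_left_cancel₀ (T.w_pos u3).ne' (by linarith only [key])
              have r_4 : 1 * T.m u1 + -2 * T.m u4 = 0 := by
                have key := Groth.Agent.Helper6.NT.rowfun9 T u0 u1 u2 u3 u4 u5 u6 u7 u8 hinj u4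
                rw [Groth.Agent.Helper6.NT.symm' T u4 u0, z_0_4, Groth.Agent.Helper6.NT.symm' T u4 u1, taq_1_4, Groth.Agent.Helper6.NT.symm' T u4 u2, z_2_4, Groth.Agent.Helper6.NT.symm' T u4 u3, z_3_4, (h2 u4).2, z_4_5, z_4_6, z_4_7, z_4_8] at key
                exact mul_left_cancel₀ (T.w_pos u4).ne' (by linarith only [key])
              have r_5 : 1 * T.m u2 + -2 * T.m u5 + 1 * T.m u6 = 0 := by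
                have key := Groth.Agent.Helper6.NT.rowfun9 T u0 u1 u2 u3 u4 u5 u6 u7 u8 hinj u5
                rw [Groth.Agent.Helper6.NT.symm' T u5 u0, z_0_5, Groth.Agent.Helper6.NT.symm' T u5 u1, z_1_5, Groth.Agent.Helper6.NT.symm' T u5 u2, taq_2_5, Groth.Agent.Helper6.NT.symm' T u5 u3, z_3_5, Groth.Agent.Helper6.NT.symm' T u5 u4, z_4_5, (h2 u5).2, tap_5_6, z_5_7, z_5_8] at key
                exact mul_left_cancel₀ (T.w_pos u5).ne' (by linarith only [key])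
              have r_6 : 1 * T.m u5 + -2 * T.m u6 + 1 * T.m u7 = 0 := by
                have key := Groth.Agent.Helper6.NT.rowfun9 T u0 u1 u2 u3 u4 u5 u6 u7 u8 hinj u6
                rw [Groth.Agent.Helper6.NT.symm' T u6 u0, z_0_6, Groth.Agent.Helper6.NT.symm' T u6 u1, z_1_6, Groth.Agent.Helper6.NT.symm' T u6 u2, z_2_6, Groth.Agent.Helper6.NT.symm' T u6 u3, z_3_6, Groth.Agent.Helper6.NT.symm' T u6 u4, z_4_6, Groth.Agent.Helper6.NT.symm' T u6 u5, taq_5_6, (h2 u6).2, tap_6_7, z_6_8] at key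
                exact mul_left_cancel₀ (T.w_pos u6).ne' (by linarith only [key])
              have r_7 : 1 * T.m u6 + -2 * T.m u7 + 2 * T.m u8 = 0 := by
                have key := Groth.Agent.Helper6.NT.rowfun9 T u0 u1 u2 u3 u4 u5 u6 u7 u8 hinj u7
                rw [Groth.Agent.Helper6.NT.symm' T u7 u0, z_0_7, Groth.Agent.Helper6.NT.symm' T u7 u1, z_1_7, Groth.Agent.Helper6.NT.symm' T u7 u2, z_2_7, Groth.Agent.Helper6.NT.symm' T u7 u3, z_3_7, Groth.Agent.Helper6.NT.symm' T u7 u4, z_4_7, Groth.Agent.Helper6.NT.symm' T u7 u5, z_5_7, Groth.Agent.Helper6.NT.symm' T u7 u6, taq_6_7, (h2 u7).2, tap_7_8] at key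
                exact mul_left_cancel₀ (T.w_pos u7).ne' (by linarith only [key])
              have r_8 : 1 * T.m u7 + -2 * T.m u8 = 0 := by
                have key := Groth.Agent.Helper6.NT.rowfun9 T u0 u1 u2 u3 u4 u5 u6 u7 u8 hinj u8
                rw [Groth.Agent.Helper6.NT.symm' T u8 u0, z_0_8, Groth.Agent.Helper6.NT.symm' T u8 u1, z_1_8, Groth.Agent.Helper6.NT.symm' T u8 u2, z_2_8, Groth.Agent.Helper6.NT.symm' T u8 u3, z_3_8, Groth.Agent.Helper6.NT.symm' T u8 u4, z_4_8, Groth.Agent.Helper6.NT.symm' T u8 u5, z_5_8, Groth.Agent.Helper6.NT.symm' T u8 u6, z_6_8, Groth.Agent.Helper6.NT.symm' T u8 u7, taq_7_8, (h2 u8).2] at key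
                exact mul_left_cancel₀ (T.w_pos u8).ne' (by linarith only [key])
              have f0 : T.m u8 = T.m u8 := rfl
              have f1 : T.m u7 = 2 * T.m u8 := by linarith only [r_0, r_1, r_2, r_3, r_4, r_5, r_6, r_7, r_8]
              have f2 : T.m u6 = 2 * T.m u8 := by linarith only [r_0, r_1, r_2, r_3, r_4, r_5, r_6, r_7, r_8]
              have f3 : T.m u5 = 2 * T.m u8 := by linarith only [r_0, r_1, r_2, r_3, r_4, r_5, r_6, r_7, r_8]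
              have f4 : T.m u2 = 2 * T.m u8 := by linarith only [r_0, r_1, r_2, r_3, r_4, r_5, r_6, r_7, r_8]
              have f5 : T.m u0 = 2 * T.m u8 := by linarith only [r_0, r_1, r_2, r_3, r_4, r_5, r_6, r_7, r_8]
              have f6 : T.m u1 = 2 * T.m u8 := by linarith only [r_0, r_1, r_2, r_3, r_4, r_5, r_6, r_7, r_8]
              have f7 : T.m u3 = T.m u8 := by linarith only [r_0, r_1, r_2, r_3, r_4, r_5, r_6, r_7, r_8]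
              have f8 : T.m u4 = T.m u8 := by linarith only [r_0, r_1, r_2, r_3, r_4, r_5, r_6, r_7, r_8]
              have f9 : T.w u8 = 2 * T.w u7 := by linarith only [tw_0_1, tw_0_2, tw_1_3, tw_1_4, tw_2_5, tw_5_6, tw_6_7, tw_7_8]
              have f10 : T.w u7 = T.w u7 := rfl
              have f11 : T.w u6 = T.w u7 := by linarith only [tw_0_1, tw_0_2, tw_1_3, tw_1_4, tw_2_5, tw_5_6, tw_6_7, tw_7_8]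
              have f12 : T.w u5 = T.w u7 := by linarith only [tw_0_1, tw_0_2, tw_1_3, tw_1_4, tw_2_5, tw_5_6, tw_6_7, tw_7_8]
              have f13 : T.w u2 = T.w u7 := by linarith only [tw_0_1, tw_0_2, tw_1_3, tw_1_4, tw_2_5, tw_5_6, tw_6_7, tw_7_8]
              have f14 : T.w u0 = T.w u7 := by linarith only [tw_0_1, tw_0_2, tw_1_3, tw_1_4, tw_2_5, tw_5_6, tw_6_7, tw_7_8]
              have f15 : T.w u1 = T.w u7 := by linarith only [tw_0_1, tw_0_2, tw_1_3, tw_1_4, tw_2_5, tw_5_6, tw_6_7, tw_7_8]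
              have f16 : T.w u3 = T.w u7 := by linarith only [tw_0_1, tw_0_2, tw_1_3, tw_1_4, tw_2_5, tw_5_6, tw_6_7, tw_7_8]
              have f17 : T.w u4 = T.w u7 := by linarith only [tw_0_1, tw_0_2, tw_1_3, tw_1_4, tw_2_5, tw_5_6, tw_6_7, tw_7_8]
              have f18 : T.a u8 u8 = -4 * T.w u7 := by have := (h2 u8).2; linarith only [this, tw_0_1, tw_0_2, tw_1_3, tw_1_4, tw_2_5, tw_5_6, tw_6_7, tw_7_8]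
              have f19 : T.a u8 u7 = 2 * T.w u7 := by rw [Groth.Agent.Helper6.NT.symm' T u8 u7]; linarith only [tap_7_8, tw_0_1, tw_0_2, tw_1_3, tw_1_4, tw_2_5, tw_5_6, tw_6_7, tw_7_8]
              have f20 : T.a u8 u6 = 0 := by rw [Groth.Agent.Helper6.NT.symm' T u8 u6]; exact z_6_8
              have f21 : T.a u8 u5 = 0 := by rw [Groth.Agent.Helper6.NT.symm' T u8 u5]; exact z_5_8
              have f22 : T.a u8 u2 = 0 := by rw [Groth.Agent.Helper6.NT.symm' T u8 u2]; exact z_2_8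
              have f23 : T.a u8 u0 = 0 := by rw [Groth.Agent.Helper6.NT.symm' T u8 u0]; exact z_0_8
              have f24 : T.a u8 u1 = 0 := by rw [Groth.Agent.Helper6.NT.symm' T u8 u1]; exact z_1_8
              have f25 : T.a u8 u3 = 0 := by rw [Groth.Agent.Helper6.NT.symm' T u8 u3]; exact z_3_8
              have f26 : T.a u8 u4 = 0 := by rw [Groth.Agent.Helper6.NT.symm' T u8 u4]; exact z_4_8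
              have f27 : T.a u7 u7 = -2 * T.w u7 := by have := (h2 u7).2; linarith only [this, tw_0_1, tw_0_2, tw_1_3, tw_1_4, tw_2_5, tw_5_6, tw_6_7, tw_7_8]
              have f28 : T.a u7 u6 = T.w u7 := by rw [Groth.Agent.Helper6.NT.symm' T u7 u6]; linarith only [tap_6_7, tw_0_1, tw_0_2, tw_1_3, tw_1_4, tw_2_5, tw_5_6, tw_6_7, tw_7_8]
              have f29 : T.a u7 u5 = 0 := by rw [Groth.Agent.Helper6.NT.symm' T u7 u5]; exact z_5_7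
              have f30 : T.a u7 u2 = 0 := by rw [Groth.Agent.Helper6.NT.symm' T u7 u2]; exact z_2_7
              have f31 : T.a u7 u0 = 0 := by rw [Groth.Agent.Helper6.NT.symm' T u7 u0]; exact z_0_7
              have f32 : T.a u7 u1 = 0 := by rw [Groth.Agent.Helper6.NT.symm' T u7 u1]; exact z_1_7
              have f33 : T.a u7 u3 = 0 := by rw [Groth.Agent.Helper6.NT.symm' T u7 u3]; exact z_3_7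
              have f34 : T.a u7 u4 = 0 := by rw [Groth.Agent.Helper6.NT.symm' T u7 u4]; exact z_4_7
              have f35 : T.a u6 u6 = -2 * T.w u7 := by have := (h2 u6).2; linarith only [this, tw_0_1, tw_0_2, tw_1_3, tw_1_4, tw_2_5, tw_5_6, tw_6_7, tw_7_8]
              have f36 : T.a u6 u5 = T.w u7 := by rw [Groth.Agent.Helper6.NT.symm' T u6 u5]; linarith only [tap_5_6, tw_0_1, tw_0_2, tw_1_3, tw_1_4, tw_2_5, tw_5_6, tw_6_7, tw_7_8]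
              have f37 : T.a u6 u2 = 0 := by rw [Groth.Agent.Helper6.NT.symm' T u6 u2]; exact z_2_6
              have f38 : T.a u6 u0 = 0 := by rw [Groth.Agent.Helper6.NT.symm' T u6 u0]; exact z_0_6
              have f39 : T.a u6 u1 = 0 := by rw [Groth.Agent.Helper6.NT.symm' T u6 u1]; exact z_1_6
              have f40 : T.a u6 u3 = 0 := by rw [Groth.Agent.Helper6.NT.symm' T u6 u3]; exact z_3_6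
              have f41 : T.a u6 u4 = 0 := by rw [Groth.Agent.Helper6.NT.symm' T u6 u4]; exact z_4_6
              have f42 : T.a u5 u5 = -2 * T.w u7 := by have := (h2 u5).2; linarith only [this, tw_0_1, tw_0_2, tw_1_3, tw_1_4, tw_2_5, tw_5_6, tw_6_7, tw_7_8]
              have f43 : T.a u5 u2 = T.w u7 := by rw [Groth.Agent.Helper6.NT.symm' T u5 u2]; linarith only [tap_2_5, tw_0_1, tw_0_2, tw_1_3, tw_1_4, tw_2_5, tw_5_6, tw_6_7, tw_7_8]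
              have f44 : T.a u5 u0 = 0 := by rw [Groth.Agent.Helper6.NT.symm' T u5 u0]; exact z_0_5
              have f45 : T.a u5 u1 = 0 := by rw [Groth.Agent.Helper6.NT.symm' T u5 u1]; exact z_1_5
              have f46 : T.a u5 u3 = 0 := by rw [Groth.Agent.Helper6.NT.symm' T u5 u3]; exact z_3_5
              have f47 : T.a u5 u4 = 0 := by rw [Groth.Agent.Helper6.NT.symm' T u5 u4]; exact z_4_5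
              have f48 : T.a u2 u2 = -2 * T.w u7 := by have := (h2 u2).2; linarith only [this, tw_0_1, tw_0_2, tw_1_3, tw_1_4, tw_2_5, tw_5_6, tw_6_7, tw_7_8]
              have f49 : T.a u2 u0 = T.w u7 := by rw [Groth.Agent.Helper6.NT.symm' T u2 u0]; linarith only [tap_0_2, tw_0_1, tw_0_2, tw_1_3, tw_1_4, tw_2_5, tw_5_6, tw_6_7, tw_7_8]
              have f50 : T.a u2 u1 = 0 := by rw [Groth.Agent.Helper6.NT.symm' T u2 u1]; exact z_1_2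
              have f51 : T.a u2 u3 = 0 := by exact z_2_3
              have f52 : T.a u2 u4 = 0 := by exact z_2_4
              have f53 : T.a u0 u0 = -2 * T.w u7 := by have := (h2 u0).2; linarith only [this, tw_0_1, tw_0_2, tw_1_3, tw_1_4, tw_2_5, tw_5_6, tw_6_7, tw_7_8]
              have f54 : T.a u0 u1 = T.w u7 := by linarith only [tap_0_1, tw_0_1, tw_0_2, tw_1_3, tw_1_4, tw_2_5, tw_5_6, tw_6_7, tw_7_8]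
              have f55 : T.a u0 u3 = 0 := by exact z_0_3
              have f56 : T.a u0 u4 = 0 := by exact z_0_4
              have f57 : T.a u1 u1 = -2 * T.w u7 := by have := (h2 u1).2; linarith only [this, tw_0_1, tw_0_2, tw_1_3, tw_1_4, tw_2_5, tw_5_6, tw_6_7, tw_7_8]
              have f58 : T.a u1 u3 = T.w u7 := by linarith only [tap_1_3, tw_0_1, tw_0_2, tw_1_3, tw_1_4, tw_2_5, tw_5_6, tw_6_7, tw_7_8]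
              have f59 : T.a u1 u4 = T.w u7 := by linarith only [tap_1_4, tw_0_1, tw_0_2, tw_1_3, tw_1_4, tw_2_5, tw_5_6, tw_6_7, tw_7_8]
              have f60 : T.a u3 u3 = -2 * T.w u7 := by have := (h2 u3).2; linarith only [this, tw_0_1, tw_0_2, tw_1_3, tw_1_4, tw_2_5, tw_5_6, tw_6_7, tw_7_8]
              have f61 : T.a u3 u4 = 0 := by exact z_3_4
              have f62 : T.a u4 u4 = -2 * T.w u7 := by have := (h2 u4).2; linarith only [this, tw_0_1, tw_0_2, tw_1_3, tw_1_4, tw_2_5, tw_5_6, tw_6_7, tw_7_8]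
              have hsig := Groth.Agent.Helper6.NT.inj9 u8 u7 u6 u5 u2 u0 u1 u3 u4 hn_8_7.symm hn_8_6.symm hn_7_6.symm hn_8_5.symm hn_7_5.symm hn_6_5.symm hn_8_2.symm hn_7_2.symm hn_6_2.symm hn_5_2.symm hn_8_0.symm hn_7_0.symm hn_6_0.symm hn_5_0.symm hn_2_0.symm hn_8_1.symm hn_7_1.symm hn_6_1.symm hn_5_1.symm hn_2_1.symm hn_1_0 hn_8_3.symm hn_7_3.symm hn_6_3.symm hn_5_3.symm hn_3_2 hn_3_0 hn_3_1 hn_8_4.symm hn_7_4.symm hn_6_4.symm hn_5_4.symm hn_4_2 hn_4_0 hn_4_1 hn_4_3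
              exact ⟨Equiv.ofBijective _ (Finite.injective_iff_bijective.1 hsig), T.m u8, T.w u7, Or.inr (Or.inr (Or.inr (Or.inr (Or.inl ⟨f0, f1, f2, f3, f4, f5, f6, f7, f8, f9, f10, f11, f12, f13, f14, f15, f16, f17, f18, f19, f20, f21, f22, f23, f24, f25, f26, f27, f28, f29, f30, f31, f32, f33, f34, f35, f36, f37, f38, f39, f40, f41, f42, f43, f44, f45, f46, f47, f48, f49, f50, f51, f52, f53, f54, f55, f56, f57, f58, f59, f60, f61, f62⟩))))⟩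
            · -- (7,8) Dm
              have hinj := Groth.Agent.Helper6.NT.inj9 u0 u1 u2 u3 u4 u5 u6 u7 u8 hn_1_0 hn_2_0 hn_2_1 hn_3_0 hn_3_1 hn_3_2 hn_4_0 hn_4_1 hn_4_2 hn_4_3 hn_5_0 hn_5_1 hn_5_2 hn_5_3 hn_5_4 hn_6_0 hn_6_1 hn_6_2 hn_6_3 hn_6_4 hn_6_5 hn_7_0 hn_7_1 hn_7_2 hn_7_3 hn_7_4 hn_7_5 hn_7_6 hn_8_0 hn_8_1 hn_8_2 hn_8_3 hn_8_4 hn_8_5 hn_8_6 hn_8_7
              have r_0 : -2 * T.m u0 + 1 * T.m u1 + 1 * T.m u2 = 0 := by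
                have key := Groth.Agent.Helper6.NT.rowfun9 T u0 u1 u2 u3 u4 u5 u6 u7 u8 hinj u0
                rw [(h2 u0).2, tap_0_1, tap_0_2, z_0_3, z_0_4, z_0_5, z_0_6, z_0_7, z_0_8] at key
                exact mul_left_cancel₀ (T.w_pos u0).ne' (by linarith only [key])
              have r_1 : 1 * T.m u0 + -2 * T.m u1 + 1 * T.m u3 + 1 * T.m u4 = 0 := by
                have key := Groth.Agent.Helper6.NT.rowfun9 T u0 u1 u2 u3 u4 u5 u6 u7 u8 hinj u1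
                rw [Groth.Agent.Helper6.NT.symm' T u1 u0, taq_0_1, (h2 u1).2, z_1_2, tap_1_3, tap_1_4, z_1_5, z_1_6, z_1_7, z_1_8] at key
                exact mul_left_cancel₀ (T.w_pos u1).ne' (by linarith only [key])
              have r_2 : 1 * T.m u0 + -2 * T.m u2 + 1 * T.m u5 = 0 := by
                have key := Groth.Agent.Helper6.NT.rowfun9 T u0 u1 u2 u3 u4 u5 u6 u7 u8 hinj u2
                rw [Groth.Agent.Helper6.NT.symm' T u2 u0, taq_0_2, Groth.Agent.Helper6.NT.symm' T u2 u1, z_1_2, (h2 u2).2, z_2_3, z_2_4, tap_2_5, z_2_6, z_2_7, z_2_8] at key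
                exact mul_left_cancel₀ (T.w_pos u2).ne' (by linarith only [key])
              have r_3 : 1 * T.m u1 + -2 * T.m u3 = 0 := by
                have key := Groth.Agent.Helper6.NT.rowfun9 T u0 u1 u2 u3 u4 u5 u6 u7 u8 hinj u3
                rw [Groth.Agent.Helper6.NT.symm' T u3 u0, z_0_3, Groth.Agent.Helper6.NT.symm' T u3 u1, taq_1_3, Groth.Agent.Helper6.NT.symm' T u3 u2, z_2_3, (h2 u3).2, z_3_4, z_3_5, z_3_6, z_3_7, z_3_8] at key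
                exact mul_left_cancel₀ (T.w_pos u3).ne' (by linarith only [key])
              have r_4 : 1 * T.m u1 + -2 * T.m u4 = 0 := by
                have key := Groth.Agent.Helper6.NT.rowfun9 T u0 u1 u2 u3 u4 u5 u6 u7 u8 hinj u4
                rw [Groth.Agent.Helper6.NT.symm' T u4 u0, z_0_4, Groth.Agent.Helper6.NT.symm' T u4 u1, taq_1_4, Groth.Agent.Helper6.NT.symm' T u4 u2, z_2_4, Groth.Agent.Helper6.NT.symm' T u4 u3, z_3_4, (h2 u4).2, z_4_5, z_4_6, z_4_7, z_4_8] at key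
                exact mul_left_cancel₀ (T.w_pos u4).ne' (by linarith only [key])
              have r_5 : 1 * T.m u2 + -2 * T.m u5 + 1 * T.m u6 = 0 := by
                have key := Groth.Agent.Helper6.NT.rowfun9 T u0 u1 u2 u3 u4 u5 u6 u7 u8 hinj u5
                rw [Groth.Agent.Helper6.NT.symm' T u5 u0, z_0_5, Groth.Agent.Helper6.NT.symm' T u5 u1, z_1_5, Groth.Agent.Helper6.NT.symm' T u5 u2, taq_2_5, Groth.Agent.Helper6.NT.symm' T u5 u3, z_3_5, Groth.Agent.Helper6.NT.symm' T u5 u4, z_4_5, (h2 u5).2, tap_5_6, z_5_7, z_5_8] at key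
                exact mul_left_cancel₀ (T.w_pos u5).ne' (by linarith only [key])
              have r_6 : 1 * T.m u5 + -2 * T.m u6 + 1 * T.m u7 = 0 := by
                have key := Groth.Agent.Helper6.NT.rowfun9 T u0 u1 u2 u3 u4 u5 u6 u7 u8 hinj u6
                rw [Groth.Agent.Helper6.NT.symm' T u6 u0, z_0_6, Groth.Agent.Helper6.NT.symm' T u6 u1, z_1_6, Groth.Agent.Helper6.NT.symm' T u6 u2, z_2_6, Groth.Agent.Helper6.NT.symm' T u6 u3, z_3_6, Groth.Agent.Helper6.NT.symm' T u6 u4, z_4_6, Groth.Agent.Helper6.NT.symm' T u6 u5, taq_5_6, (h2 u6).2, tap_6_7, z_6_8] at key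
                exact mul_left_cancel₀ (T.w_pos u6).ne' (by linarith only [key])
              have r_7 : 1 * T.m u6 + -2 * T.m u7 + 1 * T.m u8 = 0 := by
                have key := Groth.Agent.Helper6.NT.rowfun9 T u0 u1 u2 u3 u4 u5 u6 u7 u8 hinj u7
                rw [Groth.Agent.Helper6.NT.symm' T u7 u0, z_0_7, Groth.Agent.Helper6.NT.symm' T u7 u1, z_1_7, Groth.Agent.Helper6.NT.symm' T u7 u2, z_2_7, Groth.Agent.Helper6.NT.symm' T u7 u3, z_3_7, Groth.Agent.Helper6.NT.symm' T u7 u4, z_4_7, Groth.Agent.Helper6.NT.symm' T u7 u5, z_5_7, Groth.Agent.Helper6.NT.symm' T u7 u6, taq_6_7, (h2 u7).2, tap_7_8] at key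
                exact mul_left_cancel₀ (T.w_pos u7).ne' (by linarith only [key])
              have r_8 : 2 * T.m u7 + -2 * T.m u8 = 0 := by
                have key := Groth.Agent.Helper6.NT.rowfun9 T u0 u1 u2 u3 u4 u5 u6 u7 u8 hinj u8
                rw [Groth.Agent.Helper6.NT.symm' T u8 u0, z_0_8, Groth.Agent.Helper6.NT.symm' T u8 u1, z_1_8, Groth.Agent.Helper6.NT.symm' T u8 u2, z_2_8, Groth.Agent.Helper6.NT.symm' T u8 u3, z_3_8, Groth.Agent.Helper6.NT.symm' T u8 u4, z_4_8, Groth.Agent.Helper6.NT.symm' T u8 u5, z_5_8, Groth.Agent.Helper6.NT.symm' T u8 u6, z_6_8, Groth.Agent.Helper6.NT.symm' T u8 u7, taq_7_8, (h2 u8).2] at key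
                exact mul_left_cancel₀ (T.w_pos u8).ne' (by linarith only [key])
              have f0 : T.m u8 = 2 * T.m u3 := by linarith only [r_0, r_1, r_2, r_3, r_4, r_5, r_6, r_7, r_8]
              have f1 : T.m u7 = 2 * T.m u3 := by linarith only [r_0, r_1, r_2, r_3, r_4, r_5, r_6, r_7, r_8]
              have f2 : T.m u6 = 2 * T.m u3 := by linarith only [r_0, r_1, r_2, r_3, r_4, r_5, r_6, r_7, r_8]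
              have f3 : T.m u5 = 2 * T.m u3 := by linarith only [r_0, r_1, r_2, r_3, r_4, r_5, r_6, r_7, r_8]
              have f4 : T.m u2 = 2 * T.m u3 := by linarith only [r_0, r_1, r_2, r_3, r_4, r_5, r_6, r_7, r_8]
              have f5 : T.m u0 = 2 * T.m u3 := by linarith only [r_0, r_1, r_2, r_3, r_4, r_5, r_6, r_7, r_8]
              have f6 : T.m u1 = 2 * T.m u3 := by linarith only [r_0, r_1, r_2, r_3, r_4, r_5, r_6, r_7, r_8]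
              have f7 : T.m u3 = T.m u3 := rfl
              have f8 : T.m u4 = T.m u3 := by linarith only [r_0, r_1, r_2, r_3, r_4, r_5, r_6, r_7, r_8]
              have f9 : T.w u8 = T.w u8 := rfl
              have f10 : T.w u7 = 2 * T.w u8 := by linarith only [tw_0_1, tw_0_2, tw_1_3, tw_1_4, tw_2_5, tw_5_6, tw_6_7, tw_7_8]
              have f11 : T.w u6 = 2 * T.w u8 := by linarith only [tw_0_1, tw_0_2, tw_1_3, tw_1_4, tw_2_5, tw_5_6, tw_6_7, tw_7_8]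
              have f12 : T.w u5 = 2 * T.w u8 := by linarith only [tw_0_1, tw_0_2, tw_1_3, tw_1_4, tw_2_5, tw_5_6, tw_6_7, tw_7_8]
              have f13 : T.w u2 = 2 * T.w u8 := by linarith only [tw_0_1, tw_0_2, tw_1_3, tw_1_4, tw_2_5, tw_5_6, tw_6_7, tw_7_8]
              have f14 : T.w u0 = 2 * T.w u8 := by linarith only [tw_0_1, tw_0_2, tw_1_3, tw_1_4, tw_2_5, tw_5_6, tw_6_7, tw_7_8]
              have f15 : T.w u1 = 2 * T.w u8 := by linarith only [tw_0_1, tw_0_2, tw_1_3, tw_1_4, tw_2_5, tw_5_6, tw_6_7, tw_7_8]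
              have f16 : T.w u3 = 2 * T.w u8 := by linarith only [tw_0_1, tw_0_2, tw_1_3, tw_1_4, tw_2_5, tw_5_6, tw_6_7, tw_7_8]
              have f17 : T.w u4 = 2 * T.w u8 := by linarith only [tw_0_1, tw_0_2, tw_1_3, tw_1_4, tw_2_5, tw_5_6, tw_6_7, tw_7_8]
              have f18 : T.a u8 u8 = -2 * T.w u8 := by have := (h2 u8).2; linarith only [this, tw_0_1, tw_0_2, tw_1_3, tw_1_4, tw_2_5, tw_5_6, tw_6_7, tw_7_8]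
              have f19 : T.a u8 u7 = 2 * T.w u8 := by rw [Groth.Agent.Helper6.NT.symm' T u8 u7]; linarith only [tap_7_8, tw_0_1, tw_0_2, tw_1_3, tw_1_4, tw_2_5, tw_5_6, tw_6_7, tw_7_8]
              have f20 : T.a u8 u6 = 0 := by rw [Groth.Agent.Helper6.NT.symm' T u8 u6]; exact z_6_8
              have f21 : T.a u8 u5 = 0 := by rw [Groth.Agent.Helper6.NT.symm' T u8 u5]; exact z_5_8
              have f22 : T.a u8 u2 = 0 := by rw [Groth.Agent.Helper6.NT.symm' T u8 u2]; exact z_2_8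
              have f23 : T.a u8 u0 = 0 := by rw [Groth.Agent.Helper6.NT.symm' T u8 u0]; exact z_0_8
              have f24 : T.a u8 u1 = 0 := by rw [Groth.Agent.Helper6.NT.symm' T u8 u1]; exact z_1_8
              have f25 : T.a u8 u3 = 0 := by rw [Groth.Agent.Helper6.NT.symm' T u8 u3]; exact z_3_8
              have f26 : T.a u8 u4 = 0 := by rw [Groth.Agent.Helper6.NT.symm' T u8 u4]; exact z_4_8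
              have f27 : T.a u7 u7 = -4 * T.w u8 := by have := (h2 u7).2; linarith only [this, tw_0_1, tw_0_2, tw_1_3, tw_1_4, tw_2_5, tw_5_6, tw_6_7, tw_7_8]
              have f28 : T.a u7 u6 = 2 * T.w u8 := by rw [Groth.Agent.Helper6.NT.symm' T u7 u6]; linarith only [tap_6_7, tw_0_1, tw_0_2, tw_1_3, tw_1_4, tw_2_5, tw_5_6, tw_6_7, tw_7_8]
              have f29 : T.a u7 u5 = 0 := by rw [Groth.Agent.Helper6.NT.symm' T u7 u5]; exact z_5_7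
              have f30 : T.a u7 u2 = 0 := by rw [Groth.Agent.Helper6.NT.symm' T u7 u2]; exact z_2_7
              have f31 : T.a u7 u0 = 0 := by rw [Groth.Agent.Helper6.NT.symm' T u7 u0]; exact z_0_7
              have f32 : T.a u7 u1 = 0 := by rw [Groth.Agent.Helper6.NT.symm' T u7 u1]; exact z_1_7
              have f33 : T.a u7 u3 = 0 := by rw [Groth.Agent.Helper6.NT.symm' T u7 u3]; exact z_3_7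
              have f34 : T.a u7 u4 = 0 := by rw [Groth.Agent.Helper6.NT.symm' T u7 u4]; exact z_4_7
              have f35 : T.a u6 u6 = -4 * T.w u8 := by have := (h2 u6).2; linarith only [this, tw_0_1, tw_0_2, tw_1_3, tw_1_4, tw_2_5, tw_5_6, tw_6_7, tw_7_8]
              have f36 : T.a u6 u5 = 2 * T.w u8 := by rw [Groth.Agent.Helper6.NT.symm' T u6 u5]; linarith only [tap_5_6, tw_0_1, tw_0_2, tw_1_3, tw_1_4, tw_2_5, tw_5_6, tw_6_7, tw_7_8]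
              have f37 : T.a u6 u2 = 0 := by rw [Groth.Agent.Helper6.NT.symm' T u6 u2]; exact z_2_6
              have f38 : T.a u6 u0 = 0 := by rw [Groth.Agent.Helper6.NT.symm' T u6 u0]; exact z_0_6
              have f39 : T.a u6 u1 = 0 := by rw [Groth.Agent.Helper6.NT.symm' T u6 u1]; exact z_1_6
              have f40 : T.a u6 u3 = 0 := by rw [Groth.Agent.Helper6.NT.symm' T u6 u3]; exact z_3_6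
              have f41 : T.a u6 u4 = 0 := by rw [Groth.Agent.Helper6.NT.symm' T u6 u4]; exact z_4_6
              have f42 : T.a u5 u5 = -4 * T.w u8 := by have := (h2 u5).2; linarith only [this, tw_0_1, tw_0_2, tw_1_3, tw_1_4, tw_2_5, tw_5_6, tw_6_7, tw_7_8]
              have f43 : T.a u5 u2 = 2 * T.w u8 := by rw [Groth.Agent.Helper6.NT.symm' T u5 u2]; linarith only [tap_2_5, tw_0_1, tw_0_2, tw_1_3, tw_1_4, tw_2_5, tw_5_6, tw_6_7, tw_7_8]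
              have f44 : T.a u5 u0 = 0 := by rw [Groth.Agent.Helper6.NT.symm' T u5 u0]; exact z_0_5
              have f45 : T.a u5 u1 = 0 := by rw [Groth.Agent.Helper6.NT.symm' T u5 u1]; exact z_1_5
              have f46 : T.a u5 u3 = 0 := by rw [Groth.Agent.Helper6.NT.symm' T u5 u3]; exact z_3_5
              have f47 : T.a u5 u4 = 0 := by rw [Groth.Agent.Helper6.NT.symm' T u5 u4]; exact z_4_5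
              have f48 : T.a u2 u2 = -4 * T.w u8 := by have := (h2 u2).2; linarith only [this, tw_0_1, tw_0_2, tw_1_3, tw_1_4, tw_2_5, tw_5_6, tw_6_7, tw_7_8]
              have f49 : T.a u2 u0 = 2 * T.w u8 := by rw [Groth.Agent.Helper6.NT.symm' T u2 u0]; linarith only [tap_0_2, tw_0_1, tw_0_2, tw_1_3, tw_1_4, tw_2_5, tw_5_6, tw_6_7, tw_7_8]
              have f50 : T.a u2 u1 = 0 := by rw [Groth.Agent.Helper6.NT.symm' T u2 u1]; exact z_1_2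
              have f51 : T.a u2 u3 = 0 := by exact z_2_3
              have f52 : T.a u2 u4 = 0 := by exact z_2_4
              have f53 : T.a u0 u0 = -4 * T.w u8 := by have := (h2 u0).2; linarith only [this, tw_0_1, tw_0_2, tw_1_3, tw_1_4, tw_2_5, tw_5_6, tw_6_7, tw_7_8]
              have f54 : T.a u0 u1 = 2 * T.w u8 := by linarith only [tap_0_1, tw_0_1, tw_0_2, tw_1_3, tw_1_4, tw_2_5, tw_5_6, tw_6_7, tw_7_8]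
              have f55 : T.a u0 u3 = 0 := by exact z_0_3
              have f56 : T.a u0 u4 = 0 := by exact z_0_4
              have f57 : T.a u1 u1 = -4 * T.w u8 := by have := (h2 u1).2; linarith only [this, tw_0_1, tw_0_2, tw_1_3, tw_1_4, tw_2_5, tw_5_6, tw_6_7, tw_7_8]
              have f58 : T.a u1 u3 = 2 * T.w u8 := by linarith only [tap_1_3, tw_0_1, tw_0_2, tw_1_3, tw_1_4, tw_2_5, tw_5_6, tw_6_7, tw_7_8]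
              have f59 : T.a u1 u4 = 2 * T.w u8 := by linarith only [tap_1_4, tw_0_1, tw_0_2, tw_1_3, tw_1_4, tw_2_5, tw_5_6, tw_6_7, tw_7_8]
              have f60 : T.a u3 u3 = -4 * T.w u8 := by have := (h2 u3).2; linarith only [this, tw_0_1, tw_0_2, tw_1_3, tw_1_4, tw_2_5, tw_5_6, tw_6_7, tw_7_8]
              have f61 : T.a u3 u4 = 0 := by exact z_3_4
              have f62 : T.a u4 u4 = -4 * T.w u8 := by have := (h2 u4).2; linarith only [this, tw_0_1, tw_0_2, tw_1_3, tw_1_4, tw_2_5, tw_5_6, tw_6_7, tw_7_8]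
              have hsig := Groth.Agent.Helper6.NT.inj9 u8 u7 u6 u5 u2 u0 u1 u3 u4 hn_8_7.symm hn_8_6.symm hn_7_6.symm hn_8_5.symm hn_7_5.symm hn_6_5.symm hn_8_2.symm hn_7_2.symm hn_6_2.symm hn_5_2.symm hn_8_0.symm hn_7_0.symm hn_6_0.symm hn_5_0.symm hn_2_0.symm hn_8_1.symm hn_7_1.symm hn_6_1.symm hn_5_1.symm hn_2_1.symm hn_1_0 hn_8_3.symm hn_7_3.symm hn_6_3.symm hn_5_3.symm hn_3_2 hn_3_0 hn_3_1 hn_8_4.symm hn_7_4.symm hn_6_4.symm hn_5_4.symm hn_4_2 hn_4_0 hn_4_1 hn_4_3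
              exact ⟨Equiv.ofBijective _ (Finite.injective_iff_bijective.1 hsig), T.m u3, T.w u8, Or.inr (Or.inr (Or.inr (Or.inr (Or.inr (Or.inl ⟨f0, f1, f2, f3, f4, f5, f6, f7, f8, f9, f10, f11, f12, f13, f14, f15, f16, f17, f18, f19, f20, f21, f22, f23, f24, f25, f26, f27, f28, f29, f30, f31, f32, f33, f34, f35, f36, f37, f38, f39, f40, f41, f42, f43, f44, f45, f46, f47, f48, f49, f50, f51, f52, f53, f54, f55, f56, f57, f58, f59, f60, f61, f62⟩)))))⟩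
            · -- (7,8) Tp
              exfalso
              have key := Groth.Agent.Helper6.NT.negfun3 T h2 u6 u7 u8 (by norm_num) 1 2 1 (by norm_num) (by norm_num)
              linarith only [key, tap_6_7, taq_6_7, z_6_8, tap_7_8, taq_7_8, T.w_pos u6, T.w_pos u7, T.w_pos u8]
            · -- (7,8) Tm
              exfalso
              have key := Groth.Agent.Helper6.NT.negfun3 T h2 u6 u7 u8 (by norm_num) 1 2 3 (by norm_num) (by norm_num)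
              linarith only [key, tap_6_7, taq_6_7, z_6_8, tap_7_8, taq_7_8, T.w_pos u6, T.w_pos u7, T.w_pos u8]
          · push Not at hx
            have cl_7 := hx
            clear hx
            exfalso
            refine Groth.Agent.Helper6.NT.closed_contra T [u0, u1, u2, u3, u4, u5, u6, u7] (by simp) (by simp) ?_
            intro i hi j hj
            simp only [List.mem_cons, List.not_mem_nil, or_false, not_or] at hi hj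
            rcases hi with rfl | rfl | rfl | rfl | rfl | rfl | rfl | rfl
            · exact cl_0 j ⟨hj.1, hj.2.1, hj.2.2.1⟩
            · exact cl_1 j ⟨hj.1, hj.2.1, hj.2.2.1, hj.2.2.2.1, hj.2.2.2.2.1⟩
            · exact cl_2 j ⟨hj.1, hj.2.1, hj.2.2.1, hj.2.2.2.1, hj.2.2.2.2.1, hj.2.2.2.2.2.1⟩
            · exact cl_3 j ⟨hj.1, hj.2.1, hj.2.2.1, hj.2.2.2.1, hj.2.2.2.2.1, hj.2.2.2.2.2.1⟩
            · exact cl_4 j ⟨hj.1, hj.2.1, hj.2.2.1, hj.2.2.2.1, hj.2.2.2.2.1, hj.2.2.2.2.2.1⟩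
            · exact cl_5 j ⟨hj.1, hj.2.1, hj.2.2.1, hj.2.2.2.1, hj.2.2.2.2.1, hj.2.2.2.2.2.1, hj.2.2.2.2.2.2.1⟩
            · exact cl_6 j ⟨hj.1, hj.2.1, hj.2.2.1, hj.2.2.2.1, hj.2.2.2.2.1, hj.2.2.2.2.2.1, hj.2.2.2.2.2.2.1, hj.2.2.2.2.2.2.2⟩
            · exact cl_7 j ⟨hj.1, hj.2.1, hj.2.2.1, hj.2.2.2.1, hj.2.2.2.2.1, hj.2.2.2.2.2.1, hj.2.2.2.2.2.2.1, hj.2.2.2.2.2.2.2⟩
      · -- (6,7) Dp
        exfalso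
        have key := Groth.Agent.Helper6.NT.negfun8 T h2 u0 u1 u2 u3 u4 u5 u6 u7 (by norm_num) 2 2 2 1 1 2 2 1 (by norm_num) (by norm_num)
        linarith only [key, tap_0_1, taq_0_1, tap_0_2, taq_0_2, z_0_3, z_0_4, z_0_5, z_0_6, z_0_7, z_1_2, tap_1_3, taq_1_3, tap_1_4, taq_1_4, z_1_5, z_1_6, z_1_7, z_2_3, z_2_4, tap_2_5, taq_2_5, z_2_6, z_2_7, z_3_4, z_3_5, z_3_6, z_3_7, z_4_5, z_4_6, z_4_7, tap_5_6, taq_5_6, z_5_7, tap_6_7, taq_6_7, T.w_pos u0, T.w_pos u1, T.w_pos u2, T.w_pos u3, T.w_pos u4, T.w_pos u5, T.w_pos u6, T.w_pos u7]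
      · -- (6,7) Dm
        exfalso
        have key := Groth.Agent.Helper6.NT.negfun8 T h2 u0 u1 u2 u3 u4 u5 u6 u7 (by norm_num) 2 2 2 1 1 2 2 2 (by norm_num) (by norm_num)
        linarith only [key, tap_0_1, taq_0_1, tap_0_2, taq_0_2, z_0_3, z_0_4, z_0_5, z_0_6, z_0_7, z_1_2, tap_1_3, taq_1_3, tap_1_4, taq_1_4, z_1_5, z_1_6, z_1_7, z_2_3, z_2_4, tap_2_5, taq_2_5, z_2_6, z_2_7, z_3_4, z_3_5, z_3_6, z_3_7, z_4_5, z_4_6, z_4_7, tap_5_6, taq_5_6, z_5_7, tap_6_7, taq_6_7, T.w_pos u0, T.w_pos u1, T.w_pos u2, T.w_pos u3, T.w_pos u4, T.w_pos u5, T.w_pos u6, T.w_pos u7]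
      · -- (6,7) Tp
        exfalso
        have key := Groth.Agent.Helper6.NT.negfun3 T h2 u5 u6 u7 (by norm_num) 1 2 1 (by norm_num) (by norm_num)
        linarith only [key, tap_5_6, taq_5_6, z_5_7, tap_6_7, taq_6_7, T.w_pos u5, T.w_pos u6, T.w_pos u7]
      · -- (6,7) Tm
        exfalso
        have key := Groth.Agent.Helper6.NT.negfun3 T h2 u5 u6 u7 (by norm_num) 1 2 3 (by norm_num) (by norm_num)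
        linarith only [key, tap_5_6, taq_5_6, z_5_7, tap_6_7, taq_6_7, T.w_pos u5, T.w_pos u6, T.w_pos u7]
    · push Not at hx
      have cl_6 := hx
      clear hx
      exfalso
      refine Groth.Agent.Helper6.NT.closed_contra T [u0, u1, u2, u3, u4, u5, u6] (by simp) (by simp) ?_
      intro i hi j hj
      simp only [List.mem_cons, List.not_mem_nil, or_false, not_or] at hi hj
      rcases hi with rfl | rfl | rfl | rfl | rfl | rfl | rfl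
      · exact cl_0 j ⟨hj.1, hj.2.1, hj.2.2.1⟩
      · exact cl_1 j ⟨hj.1, hj.2.1, hj.2.2.1, hj.2.2.2.1, hj.2.2.2.2.1⟩
      · exact cl_2 j ⟨hj.1, hj.2.1, hj.2.2.1, hj.2.2.2.1, hj.2.2.2.2.1, hj.2.2.2.2.2.1⟩
      · exact cl_3 j ⟨hj.1, hj.2.1, hj.2.2.1, hj.2.2.2.1, hj.2.2.2.2.1, hj.2.2.2.2.2.1⟩
      · exact cl_4 j ⟨hj.1, hj.2.1, hj.2.2.1, hj.2.2.2.1, hj.2.2.2.2.1, hj.2.2.2.2.2.1⟩
      · exact cl_5 j ⟨hj.1, hj.2.1, hj.2.2.1, hj.2.2.2.1, hj.2.2.2.2.1, hj.2.2.2.2.2.1, hj.2.2.2.2.2.2⟩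
      · exact cl_6 j ⟨hj.1, hj.2.1, hj.2.2.1, hj.2.2.2.1, hj.2.2.2.2.1, hj.2.2.2.2.2.1, hj.2.2.2.2.2.2⟩

theorem cut9_18 (T : Models.NumericalType 9) (h2 : ∀ i, T.IsMinusTwo i) (u0 u1 u2 u3 u4 u5 u6 : Fin 9)
    (hn_1_0 : u1 ≠ u0)
    (e_0_1 : T.a u0 u1 ≠ 0)
    (tw_0_1 : T.w u1 = T.w u0)
    (tap_0_1 : T.a u0 u1 = T.w u0)
    (taq_0_1 : T.a u0 u1 = T.w u1)
    (hn_2_0 : u2 ≠ u0)
    (hn_2_1 : u2 ≠ u1)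
    (e_0_2 : T.a u0 u2 ≠ 0)
    (tw_0_2 : T.w u2 = T.w u0)
    (tap_0_2 : T.a u0 u2 = T.w u0)
    (taq_0_2 : T.a u0 u2 = T.w u2)
    (z_1_2 : T.a u1 u2 = 0)
    (cl_0 : ∀ j : Fin 9, (j ≠ u0 ∧ j ≠ u1 ∧ j ≠ u2) → T.a u0 j = 0)
    (hn_3_0 : u3 ≠ u0)
    (hn_3_1 : u3 ≠ u1)
    (hn_3_2 : u3 ≠ u2)
    (e_1_3 : T.a u1 u3 ≠ 0)
    (z_0_3 : T.a u0 u3 = 0)
    (tw_1_3 : T.w u3 = T.w u1)
    (tap_1_3 : T.a u1 u3 = T.w u1)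
    (taq_1_3 : T.a u1 u3 = T.w u3)
    (z_2_3 : T.a u2 u3 = 0)
    (hn_4_0 : u4 ≠ u0)
    (hn_4_1 : u4 ≠ u1)
    (hn_4_2 : u4 ≠ u2)
    (hn_4_3 : u4 ≠ u3)
    (e_1_4 : T.a u1 u4 ≠ 0)
    (z_0_4 : T.a u0 u4 = 0)
    (tw_1_4 : T.w u4 = T.w u1)
    (tap_1_4 : T.a u1 u4 = T.w u1)
    (taq_1_4 : T.a u1 u4 = T.w u4)
    (z_2_4 : T.a u2 u4 = 0)
    (z_3_4 : T.a u3 u4 = 0)
    (cl_1 : ∀ j : Fin 9, (j ≠ u0 ∧ j ≠ u1 ∧ j ≠ u2 ∧ j ≠ u3 ∧ j ≠ u4) → T.a u1 j = 0)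
    (cl_2 : ∀ j : Fin 9, (j ≠ u0 ∧ j ≠ u1 ∧ j ≠ u2 ∧ j ≠ u3 ∧ j ≠ u4) → T.a u2 j = 0)
    (hn_5_0 : u5 ≠ u0)
    (hn_5_1 : u5 ≠ u1)
    (hn_5_2 : u5 ≠ u2)
    (hn_5_3 : u5 ≠ u3)
    (hn_5_4 : u5 ≠ u4)
    (e_3_5 : T.a u3 u5 ≠ 0)
    (z_0_5 : T.a u0 u5 = 0)
    (z_1_5 : T.a u1 u5 = 0)
    (z_2_5 : T.a u2 u5 = 0)
    (tw_3_5 : T.w u5 = T.w u3)
    (tap_3_5 : T.a u3 u5 = T.w u3)
    (taq_3_5 : T.a u3 u5 = T.w u5)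
    (z_4_5 : T.a u4 u5 = 0)
    (cl_3 : ∀ j : Fin 9, (j ≠ u0 ∧ j ≠ u1 ∧ j ≠ u2 ∧ j ≠ u3 ∧ j ≠ u4 ∧ j ≠ u5) → T.a u3 j = 0)
    (cl_4 : ∀ j : Fin 9, (j ≠ u0 ∧ j ≠ u1 ∧ j ≠ u2 ∧ j ≠ u3 ∧ j ≠ u4 ∧ j ≠ u5) → T.a u4 j = 0)
    (hn_6_0 : u6 ≠ u0)
    (hn_6_1 : u6 ≠ u1)
    (hn_6_2 : u6 ≠ u2)
    (hn_6_3 : u6 ≠ u3)
    (hn_6_4 : u6 ≠ u4)
    (hn_6_5 : u6 ≠ u5)
    (e_5_6 : T.a u5 u6 ≠ 0)
    (z_0_6 : T.a u0 u6 = 0)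
    (z_1_6 : T.a u1 u6 = 0)
    (z_2_6 : T.a u2 u6 = 0)
    (z_3_6 : T.a u3 u6 = 0)
    (z_4_6 : T.a u4 u6 = 0)
    (tw_5_6 : T.w u6 = T.w u5)
    (tap_5_6 : T.a u5 u6 = T.w u5)
    (taq_5_6 : T.a u5 u6 = T.w u6) :
    ∃ (σ : Equiv.Perm (Fin 9)) (m w : ℤ), ((T.m (σ 0) = m ∧ T.m (σ 1) = m ∧ T.m (σ 2) = m ∧ T.m (σ 3) = m ∧ T.m (σ 4) = m ∧ T.m (σ 5) = m ∧ T.m (σ 6) = m ∧ T.m (σ 7) = m ∧ T.m (σ 8) = m ∧ T.w (σ 0) = w ∧ T.w (σ 1) = w ∧ T.w (σ 2) = w ∧ T.w (σ 3) = w ∧ T.w (σ 4) = w ∧ T.w (σ 5) = w ∧ T.w (σ 6) = w ∧ T.w (σ 7) = w ∧ T.w (σ 8) = w ∧ T.a (σ 0) (σ 0) = -2 * w ∧ T.a (σ 0) (σ 1) = w ∧ T.a (σ 0) (σ 2) = 0 ∧ T.a (σ 0) (σ 3) = 0 ∧ T.a (σ 0) (σ 4) = 0 ∧ T.a (σ 0) (σ 5) = 0 ∧ T.a (σ 0) (σ 6) = 0 ∧ T.a (σ 0) (σ 7) = 0 ∧ T.a (σ 0) (σ 8) = w ∧ T.a (σ 1) (σ 1) = -2 * w ∧ T.a (σ 1) (σ 2) = w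 ∧ T.a (σ 1) (σ 3) = 0 ∧ T.a (σ 1) (σ 4) = 0 ∧ T.a (σ 1) (σ 5) = 0 ∧ T.a (σ 1) (σ 6) = 0 ∧ T.a (σ 1) (σ 7) = 0 ∧ T.a (σ 1) (σ 8) = 0 ∧ T.a (σ 2) (σ 2) = -2 * w ∧ T.a (σ 2) (σ 3) = w ∧ T.a (σ 2) (σ 4) = 0 ∧ T.a (σ 2) (σ 5) = 0 ∧ T.a (σ 2) (σ 6) = 0 ∧ T.a (σ 2) (σ 7) = 0 ∧ T.a (σ 2) (σ 8) = 0 ∧ T.a (σ 3) (σ 3) = -2 * w ∧ T.a (σ 3) (σ 4) = w ∧ T.a (σ 3) (σ 5) = 0 ∧ T.a (σ 3) (σ 6) = 0 ∧ T.a (σ 3) (σ 7) = 0 ∧ T.a (σ 3) (σ 8) = 0 ∧ T.a (σ 4) (σ 4) = -2 * w ∧ T.a (σ 4) (σ 5) = w ∧ T.a (σ 4) (σ 6) = 0 ∧ T.a (σ 4) (σ 7) = 0 ∧ T.a (σ 4) (σ 8) = 0 ∧ T.a (σ 5) (σ 5) = -2 * w ∧ T.a (σ 5) (σ 6) = w ∧ T.a (σ 5) (σ 7) = 0 ∧ T.a (σ 5) (σ 8) = 0 ∧ T.a (σ 6) (σ 6) = -2 * w ∧ T.a (σ 6) (σ 7) = w ∧ T.a (σ 6) (σ 8) = 0 ∧ T.a (σ 7) (σ 7) = -2 * w ∧ T.a (σ 7) (σ 8) = w ∧ T.a (σ 8) (σ 8) = -2 * w) ∨ (T.m (σ 0)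 = 2 * m ∧ T.m (σ 1) = 2 * m ∧ T.m (σ 2) = 2 * m ∧ T.m (σ 3) = 2 * m ∧ T.m (σ 4) = 2 * m ∧ T.m (σ 5) = 2 * m ∧ T.m (σ 6) = 2 * m ∧ T.m (σ 7) = 2 * m ∧ T.m (σ 8) = m ∧ T.w (σ 0) = w ∧ T.w (σ 1) = 2 * w ∧ T.w (σ 2) = 2 * w ∧ T.w (σ 3) = 2 * w ∧ T.w (σ 4) = 2 * w ∧ T.w (σ 5) = 2 * w ∧ T.w (σ 6) = 2 * w ∧ T.w (σ 7) = 2 * w ∧ T.w (σ 8) = 4 * w ∧ T.a (σ 0) (σ 0) = -2 * w ∧ T.a (σ 0) (σ 1) = 2 * w ∧ T.a (σ 0) (σ 2) = 0 ∧ T.a (σ 0) (σ 3) = 0 ∧ T.a (σ 0) (σ 4) = 0 ∧ T.a (σ 0) (σ 5) = 0 ∧ T.a (σ 0) (σ 6) = 0 ∧ T.a (σ 0) (σ 7) = 0 ∧ T.a (σ 0) (σ 8) = 0 ∧ T.a (σ 1) (σ 1) = -4 * w ∧ T.a (σ 1) (σ 2) = 2 * w ∧ T.a (σ 1) (σ 3) = 0 ∧ T.a (σ 1) (σ 4) = 0 ∧ T.a (σ 1) (σ 5) = 0 ∧ T.a (σ 1) (σ 6) = 0 ∧ T.a (σ 1) (σ 7) = 0 ∧ T.a (σ 1) (σ 8) = 0 ∧ T.a (σ 2) (σ 2) = -4 * w ∧ T.a (σ 2) (σ 3) = 2 * w ∧ T.a (σ 2)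 (σ 4) = 0 ∧ T.a (σ 2) (σ 5) = 0 ∧ T.a (σ 2) (σ 6) = 0 ∧ T.a (σ 2) (σ 7) = 0 ∧ T.a (σ 2) (σ 8) = 0 ∧ T.a (σ 3) (σ 3) = -4 * w ∧ T.a (σ 3) (σ 4) = 2 * w ∧ T.a (σ 3) (σ 5) = 0 ∧ T.a (σ 3) (σ 6) = 0 ∧ T.a (σ 3) (σ 7) = 0 ∧ T.a (σ 3) (σ 8) = 0 ∧ T.a (σ 4) (σ 4) = -4 * w ∧ T.a (σ 4) (σ 5) = 2 * w ∧ T.a (σ 4) (σ 6) = 0 ∧ T.a (σ 4) (σ 7) = 0 ∧ T.a (σ 4) (σ 8) = 0 ∧ T.a (σ 5) (σ 5) = -4 * w ∧ T.a (σ 5) (σ 6) = 2 * w ∧ T.a (σ 5) (σ 7) = 0 ∧ T.a (σ 5) (σ 8) = 0 ∧ T.a (σ 6) (σ 6) = -4 * w ∧ T.a (σ 6) (σ 7) = 2 * w ∧ T.a (σ 6) (σ 8) = 0 ∧ T.a (σ 7) (σ 7) = -4 * w ∧ T.a (σ 7) (σ 8) = 4 * w ∧ T.a (σ 8) (σ 8) = -8 * w) ∨ (T.m (σ 0) = m ∧ T.m (σ 1) = m ∧ T.m (σ 2) = m ∧ T.m (σ 3) = m ∧ T.m (σ 4) = m ∧ T.m (σ 5) = m ∧ T.m (σ 6) = m ∧ T.m (σ 7) = m ∧ T.m (σ 8) = m ∧ T.w (σ 0) = w ∧ T.w (σ 1) = 2 * w ∧ T.w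 (σ 2) = 2 * w ∧ T.w (σ 3) = 2 * w ∧ T.w (σ 4) = 2 * w ∧ T.w (σ 5) = 2 * w ∧ T.w (σ 6) = 2 * w ∧ T.w (σ 7) = 2 * w ∧ T.w (σ 8) = w ∧ T.a (σ 0) (σ 0) = -2 * w ∧ T.a (σ 0) (σ 1) = 2 * w ∧ T.a (σ 0) (σ 2) = 0 ∧ T.a (σ 0) (σ 3) = 0 ∧ T.a (σ 0) (σ 4) = 0 ∧ T.a (σ 0) (σ 5) = 0 ∧ T.a (σ 0) (σ 6) = 0 ∧ T.a (σ 0) (σ 7) = 0 ∧ T.a (σ 0) (σ 8) = 0 ∧ T.a (σ 1) (σ 1) = -4 * w ∧ T.a (σ 1) (σ 2) = 2 * w ∧ T.a (σ 1) (σ 3) = 0 ∧ T.a (σ 1) (σ 4) = 0 ∧ T.a (σ 1) (σ 5) = 0 ∧ T.a (σ 1) (σ 6) = 0 ∧ T.a (σ 1) (σ 7) = 0 ∧ T.a (σ 1) (σ 8) = 0 ∧ T.a (σ 2) (σ 2) = -4 * w ∧ T.a (σ 2) (σ 3) = 2 * w ∧ T.a (σ 2) (σ 4) = 0 ∧ T.a (σ 2) (σ 5) = 0 ∧ T.a (σ 2) (σ 6) = 0 ∧ T.a (σ 2) (σ 7) = 0 ∧ T.a (σ 2) (σ 8) = 0 ∧ T.a (σ 3) (σ 3) = -4 * w ∧ T.a (σ 3) (σ 4) = 2 * w ∧ T.a (σ 3) (σ 5) = 0 ∧ T.a (σ 3) (σ 6) = 0 ∧ T.a (σ 3) (σ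 7) = 0 ∧ T.a (σ 3) (σ 8) = 0 ∧ T.a (σ 4) (σ 4) = -4 * w ∧ T.a (σ 4) (σ 5) = 2 * w ∧ T.a (σ 4) (σ 6) = 0 ∧ T.a (σ 4) (σ 7) = 0 ∧ T.a (σ 4) (σ 8) = 0 ∧ T.a (σ 5) (σ 5) = -4 * w ∧ T.a (σ 5) (σ 6) = 2 * w ∧ T.a (σ 5) (σ 7) = 0 ∧ T.a (σ 5) (σ 8) = 0 ∧ T.a (σ 6) (σ 6) = -4 * w ∧ T.a (σ 6) (σ 7) = 2 * w ∧ T.a (σ 6) (σ 8) = 0 ∧ T.a (σ 7) (σ 7) = -4 * w ∧ T.a (σ 7) (σ 8) = 2 * w ∧ T.a (σ 8) (σ 8) = -2 * w) ∨ (T.m (σ 0) = m ∧ T.m (σ 1) = 2 * m ∧ T.m (σ 2) = 2 * m ∧ T.m (σ 3) = 2 * m ∧ T.m (σ 4) = 2 * m ∧ T.m (σ 5) = 2 * m ∧ T.m (σ 6) = 2 * m ∧ T.m (σ 7) = 2 * m ∧ T.m (σ 8) = m ∧ T.w (σ 0) = 2 * w ∧ T.w (σ 1) = w ∧ T.w (σ 2) = w ∧ T.w (σ 3) = w ∧ T.w (σ 4) = w ∧ T.w (σ 5) = w ∧ T.w (σ 6) = w ∧ T.w (σ 7) = w ∧ T.w (σ 8) = 2 * w ∧ T.a (σ 0) (σ 0) = -4 * w ∧ T.a (σ 0) (σ 1) = 2 * w ∧ T.a (σ 0) (σ 2)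 = 0 ∧ T.a (σ 0) (σ 3) = 0 ∧ T.a (σ 0) (σ 4) = 0 ∧ T.a (σ 0) (σ 5) = 0 ∧ T.a (σ 0) (σ 6) = 0 ∧ T.a (σ 0) (σ 7) = 0 ∧ T.a (σ 0) (σ 8) = 0 ∧ T.a (σ 1) (σ 1) = -2 * w ∧ T.a (σ 1) (σ 2) = w ∧ T.a (σ 1) (σ 3) = 0 ∧ T.a (σ 1) (σ 4) = 0 ∧ T.a (σ 1) (σ 5) = 0 ∧ T.a (σ 1) (σ 6) = 0 ∧ T.a (σ 1) (σ 7) = 0 ∧ T.a (σ 1) (σ 8) = 0 ∧ T.a (σ 2) (σ 2) = -2 * w ∧ T.a (σ 2) (σ 3) = w ∧ T.a (σ 2) (σ 4) = 0 ∧ T.a (σ 2) (σ 5) = 0 ∧ T.a (σ 2) (σ 6) = 0 ∧ T.a (σ 2) (σ 7) = 0 ∧ T.a (σ 2) (σ 8) = 0 ∧ T.a (σ 3) (σ 3) = -2 * w ∧ T.a (σ 3) (σ 4) = w ∧ T.a (σ 3) (σ 5) = 0 ∧ T.a (σ 3) (σ 6) = 0 ∧ T.a (σ 3) (σ 7) = 0 ∧ T.a (σ 3) (σ 8) = 0 ∧ T.a (σ 4) (σ 4) = -2 * w ∧ T.a (σ 4) (σ 5) = w ∧ T.a (σ 4) (σ 6) = 0 ∧ T.a (σ 4) (σ 7) = 0 ∧ T.a (σ 4) (σ 8) = 0 ∧ T.a (σ 5) (σ 5) = -2 * w ∧ T.a (σ 5) (σ 6) = w ∧ T.a (σ 5) (σ 7) =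 0 ∧ T.a (σ 5) (σ 8) = 0 ∧ T.a (σ 6) (σ 6) = -2 * w ∧ T.a (σ 6) (σ 7) = w ∧ T.a (σ 6) (σ 8) = 0 ∧ T.a (σ 7) (σ 7) = -2 * w ∧ T.a (σ 7) (σ 8) = 2 * w ∧ T.a (σ 8) (σ 8) = -4 * w) ∨ (T.m (σ 0) = m ∧ T.m (σ 1) = 2 * m ∧ T.m (σ 2) = 2 * m ∧ T.m (σ 3) = 2 * m ∧ T.m (σ 4) = 2 * m ∧ T.m (σ 5) = 2 * m ∧ T.m (σ 6) = 2 * m ∧ T.m (σ 7) = m ∧ T.m (σ 8) = m ∧ T.w (σ 0) = 2 * w ∧ T.w (σ 1) = w ∧ T.w (σ 2) = w ∧ T.w (σ 3) = w ∧ T.w (σ 4) = w ∧ T.w (σ 5) = w ∧ T.w (σ 6) = w ∧ T.w (σ 7) = w ∧ T.w (σ 8) = w ∧ T.a (σ 0) (σ 0) = -4 * w ∧ T.a (σ 0) (σ 1) = 2 * w ∧ T.a (σ 0) (σ 2) = 0 ∧ T.a (σ 0) (σ 3) = 0 ∧ T.a (σ 0) (σ 4) = 0 ∧ T.a (σ 0) (σ 5) = 0 ∧ T.a (σ 0) (σ 6) = 0 ∧ T.a (σ 0) (σ 7) = 0 ∧ T.a (σ 0) (σ 8) = 0 ∧ T.a (σ 1) (σ 1) = -2 * w ∧ T.a (σ 1) (σ 2) = w ∧ T.a (σ 1) (σ 3) = 0 ∧ T.a (σ 1) (σ 4) = 0 ∧ T.a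 (σ 1) (σ 5) = 0 ∧ T.a (σ 1) (σ 6) = 0 ∧ T.a (σ 1) (σ 7) = 0 ∧ T.a (σ 1) (σ 8) = 0 ∧ T.a (σ 2) (σ 2) = -2 * w ∧ T.a (σ 2) (σ 3) = w ∧ T.a (σ 2) (σ 4) = 0 ∧ T.a (σ 2) (σ 5) = 0 ∧ T.a (σ 2) (σ 6) = 0 ∧ T.a (σ 2) (σ 7) = 0 ∧ T.a (σ 2) (σ 8) = 0 ∧ T.a (σ 3) (σ 3) = -2 * w ∧ T.a (σ 3) (σ 4) = w ∧ T.a (σ 3) (σ 5) = 0 ∧ T.a (σ 3) (σ 6) = 0 ∧ T.a (σ 3) (σ 7) = 0 ∧ T.a (σ 3) (σ 8) = 0 ∧ T.a (σ 4) (σ 4) = -2 * w ∧ T.a (σ 4) (σ 5) = w ∧ T.a (σ 4) (σ 6) = 0 ∧ T.a (σ 4) (σ 7) = 0 ∧ T.a (σ 4) (σ 8) = 0 ∧ T.a (σ 5) (σ 5) = -2 * w ∧ T.a (σ 5) (σ 6) = w ∧ T.a (σ 5) (σ 7) = 0 ∧ T.a (σ 5) (σ 8) = 0 ∧ T.a (σ 6) (σ 6) = -2 * w ∧ T.a (σ 6) (σ 7) = w ∧ T.a (σ 6) (σ 8) = w ∧ T.a (σ 7) (σ 7) = -2 * w ∧ T.a (σ 7) (σ 8) = 0 ∧ T.a (σ 8) (σ 8) = -2 * w) ∨ (T.m (σ 0) = 2 * m ∧ T.m (σ 1) = 2 * m ∧ T.m (σ 2) = 2 * m ∧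 T.m (σ 3) = 2 * m ∧ T.m (σ 4) = 2 * m ∧ T.m (σ 5) = 2 * m ∧ T.m (σ 6) = 2 * m ∧ T.m (σ 7) = m ∧ T.m (σ 8) = m ∧ T.w (σ 0) = w ∧ T.w (σ 1) = 2 * w ∧ T.w (σ 2) = 2 * w ∧ T.w (σ 3) = 2 * w ∧ T.w (σ 4) = 2 * w ∧ T.w (σ 5) = 2 * w ∧ T.w (σ 6) = 2 * w ∧ T.w (σ 7) = 2 * w ∧ T.w (σ 8) = 2 * w ∧ T.a (σ 0) (σ 0) = -2 * w ∧ T.a (σ 0) (σ 1) = 2 * w ∧ T.a (σ 0) (σ 2) = 0 ∧ T.a (σ 0) (σ 3) = 0 ∧ T.a (σ 0) (σ 4) = 0 ∧ T.a (σ 0) (σ 5) = 0 ∧ T.a (σ 0) (σ 6) = 0 ∧ T.a (σ 0) (σ 7) = 0 ∧ T.a (σ 0) (σ 8) = 0 ∧ T.a (σ 1) (σ 1) = -4 * w ∧ T.a (σ 1) (σ 2) = 2 * w ∧ T.a (σ 1) (σ 3) = 0 ∧ T.a (σ 1) (σ 4) = 0 ∧ T.a (σ 1) (σ 5) = 0 ∧ T.a (σ 1) (σ 6) = 0 ∧ T.a (σ 1) (σ 7) = 0 ∧ T.a (σ 1) (σ 8) = 0 ∧ T.a (σ 2) (σ 2) = -4 * w ∧ T.a (σ 2) (σ 3) = 2 * w ∧ T.a (σ 2) (σ 4) = 0 ∧ T.a (σ 2) (σ 5) = 0 ∧ T.a (σ 2) (σ 6) = 0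 ∧ T.a (σ 2) (σ 7) = 0 ∧ T.a (σ 2) (σ 8) = 0 ∧ T.a (σ 3) (σ 3) = -4 * w ∧ T.a (σ 3) (σ 4) = 2 * w ∧ T.a (σ 3) (σ 5) = 0 ∧ T.a (σ 3) (σ 6) = 0 ∧ T.a (σ 3) (σ 7) = 0 ∧ T.a (σ 3) (σ 8) = 0 ∧ T.a (σ 4) (σ 4) = -4 * w ∧ T.a (σ 4) (σ 5) = 2 * w ∧ T.a (σ 4) (σ 6) = 0 ∧ T.a (σ 4) (σ 7) = 0 ∧ T.a (σ 4) (σ 8) = 0 ∧ T.a (σ 5) (σ 5) = -4 * w ∧ T.a (σ 5) (σ 6) = 2 * w ∧ T.a (σ 5) (σ 7) = 0 ∧ T.a (σ 5) (σ 8) = 0 ∧ T.a (σ 6) (σ 6) = -4 * w ∧ T.a (σ 6) (σ 7) = 2 * w ∧ T.a (σ 6) (σ 8) = 2 * w ∧ T.a (σ 7) (σ 7) = -4 * w ∧ T.a (σ 7) (σ 8) = 0 ∧ T.a (σ 8) (σ 8) = -4 * w) ∨ (T.m (σ 0) = m ∧ T.m (σ 1) = m ∧ T.m (σ 2) = 2 * m ∧ T.m (σ 3) = 2 * m ∧ T.m (σ 4) = 2 * m ∧ T.m (σ 5) = 2 * m ∧ T.m (σ 6) = 2 * m ∧ T.m (σ 7) = m ∧ T.m (σ 8) = m ∧ T.w (σ 0) = w ∧ T.w (σ 1) = w ∧ T.w (σ 2) = w ∧ T.w (σ 3) = w ∧ T.w (σ 4)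 = w ∧ T.w (σ 5) = w ∧ T.w (σ 6) = w ∧ T.w (σ 7) = w ∧ T.w (σ 8) = w ∧ T.a (σ 0) (σ 0) = -2 * w ∧ T.a (σ 0) (σ 1) = 0 ∧ T.a (σ 0) (σ 2) = w ∧ T.a (σ 0) (σ 3) = 0 ∧ T.a (σ 0) (σ 4) = 0 ∧ T.a (σ 0) (σ 5) = 0 ∧ T.a (σ 0) (σ 6) = 0 ∧ T.a (σ 0) (σ 7) = 0 ∧ T.a (σ 0) (σ 8) = 0 ∧ T.a (σ 1) (σ 1) = -2 * w ∧ T.a (σ 1) (σ 2) = w ∧ T.a (σ 1) (σ 3) = 0 ∧ T.a (σ 1) (σ 4) = 0 ∧ T.a (σ 1) (σ 5) = 0 ∧ T.a (σ 1) (σ 6) = 0 ∧ T.a (σ 1) (σ 7) = 0 ∧ T.a (σ 1) (σ 8) = 0 ∧ T.a (σ 2) (σ 2) = -2 * w ∧ T.a (σ 2) (σ 3) = w ∧ T.a (σ 2) (σ 4) = 0 ∧ T.a (σ 2) (σ 5) = 0 ∧ T.a (σ 2) (σ 6) = 0 ∧ T.a (σ 2) (σ 7) = 0 ∧ T.a (σ 2) (σ 8) = 0 ∧ T.a (σ 3) (σ 3) = -2 * w ∧ T.a (σ 3) (σ 4) = w ∧ T.a (σ 3) (σ 5) = 0 ∧ T.a (σ 3) (σ 6) = 0 ∧ T.a (σ 3) (σ 7) = 0 ∧ T.a (σ 3) (σ 8) = 0 ∧ T.a (σ 4) (σ 4) = -2 * w ∧ T.a (σ 4) (σ 5) = w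 ∧ T.a (σ 4) (σ 6) = 0 ∧ T.a (σ 4) (σ 7) = 0 ∧ T.a (σ 4) (σ 8) = 0 ∧ T.a (σ 5) (σ 5) = -2 * w ∧ T.a (σ 5) (σ 6) = w ∧ T.a (σ 5) (σ 7) = 0 ∧ T.a (σ 5) (σ 8) = 0 ∧ T.a (σ 6) (σ 6) = -2 * w ∧ T.a (σ 6) (σ 7) = w ∧ T.a (σ 6) (σ 8) = w ∧ T.a (σ 7) (σ 7) = -2 * w ∧ T.a (σ 7) (σ 8) = 0 ∧ T.a (σ 8) (σ 8) = -2 * w) ∨ (T.m (σ 0) = m ∧ T.m (σ 1) = 2 * m ∧ T.m (σ 2) = 3 * m ∧ T.m (σ 3) = 4 * m ∧ T.m (σ 4) = 5 * m ∧ T.m (σ 5) = 6 * m ∧ T.m (σ 6) = 4 * m ∧ T.m (σ 7) = 2 * m ∧ T.m (σ 8) = 3 * m ∧ T.w (σ 0) = w ∧ T.w (σ 1) = w ∧ T.w (σ 2) = w ∧ T.w (σ 3) = w ∧ T.w (σ 4) = w ∧ T.w (σ 5) = w ∧ T.w (σ 6) = w ∧ T.w (σ 7) = w ∧ T.w (σ 8) = w ∧ T.a (σ 0) (σ 0) = -2 * w ∧ T.a (σ 0) (σ 1) = w ∧ T.a (σ 0) (σ 2) = 0 ∧ T.a (σ 0) (σ 3) = 0 ∧ T.a (σ 0) (σ 4) = 0 ∧ T.a (σ 0) (σ 5) = 0 ∧ T.a (σ 0) (σ 6) = 0 ∧ T.a (σ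 0) (σ 7) = 0 ∧ T.a (σ 0) (σ 8) = 0 ∧ T.a (σ 1) (σ 1) = -2 * w ∧ T.a (σ 1) (σ 2) = w ∧ T.a (σ 1) (σ 3) = 0 ∧ T.a (σ 1) (σ 4) = 0 ∧ T.a (σ 1) (σ 5) = 0 ∧ T.a (σ 1) (σ 6) = 0 ∧ T.a (σ 1) (σ 7) = 0 ∧ T.a (σ 1) (σ 8) = 0 ∧ T.a (σ 2) (σ 2) = -2 * w ∧ T.a (σ 2) (σ 3) = w ∧ T.a (σ 2) (σ 4) = 0 ∧ T.a (σ 2) (σ 5) = 0 ∧ T.a (σ 2) (σ 6) = 0 ∧ T.a (σ 2) (σ 7) = 0 ∧ T.a (σ 2) (σ 8) = 0 ∧ T.a (σ 3) (σ 3) = -2 * w ∧ T.a (σ 3) (σ 4) = w ∧ T.a (σ 3) (σ 5) = 0 ∧ T.a (σ 3) (σ 6) = 0 ∧ T.a (σ 3) (σ 7) = 0 ∧ T.a (σ 3) (σ 8) = 0 ∧ T.a (σ 4) (σ 4) = -2 * w ∧ T.a (σ 4) (σ 5) = w ∧ T.a (σ 4) (σ 6) = 0 ∧ T.a (σ 4) (σ 7) = 0 ∧ T.a (σ 4) (σ 8) = 0 ∧ T.a (σ 5) (σ 5) = -2 * w ∧ T.a (σ 5) (σ 6) = w ∧ T.a (σ 5) (σ 7) = 0 ∧ T.a (σ 5) (σ 8) = w ∧ T.a (σ 6) (σ 6) = -2 * w ∧ T.a (σ 6) (σ 7) = w ∧ T.a (σ 6) (σ 8) = 0 ∧ T.a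 (σ 7) (σ 7) = -2 * w ∧ T.a (σ 7) (σ 8) = 0 ∧ T.a (σ 8) (σ 8) = -2 * w)) := by
  by_cases hx : ∃ j, (j ≠ u0 ∧ j ≠ u1 ∧ j ≠ u2 ∧ j ≠ u3 ∧ j ≠ u4 ∧ j ≠ u5 ∧ j ≠ u6) ∧ T.a u5 j ≠ 0
  · obtain ⟨u7, ⟨hn_7_0, hn_7_1, hn_7_2, hn_7_3, hn_7_4, hn_7_5, hn_7_6⟩, e_5_7⟩ := hx
    have z_0_7 : T.a u0 u7 = 0 := cl_0 u7 ⟨hn_7_0, hn_7_1, hn_7_2⟩
    have z_1_7 : T.a u1 u7 = 0 := cl_1 u7 ⟨hn_7_0, hn_7_1, hn_7_2, hn_7_3, hn_7_4⟩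
    have z_2_7 : T.a u2 u7 = 0 := cl_2 u7 ⟨hn_7_0, hn_7_1, hn_7_2, hn_7_3, hn_7_4⟩
    have z_3_7 : T.a u3 u7 = 0 := cl_3 u7 ⟨hn_7_0, hn_7_1, hn_7_2, hn_7_3, hn_7_4, hn_7_5⟩
    have z_4_7 : T.a u4 u7 = 0 := cl_4 u7 ⟨hn_7_0, hn_7_1, hn_7_2, hn_7_3, hn_7_4, hn_7_5⟩
    rcases Groth.Agent.Helper6.NT.edge5 T h2 (by norm_num) u5 u7 hn_7_5.symm e_5_7 with ⟨tw_5_7, tap_5_7, taq_5_7⟩ | ⟨tw_5_7, tap_5_7, taq_5_7⟩ | ⟨tw_5_7, tap_5_7, taq_5_7⟩ | ⟨tw_5_7, tap_5_7, taq_5_7⟩ | ⟨tw_5_7, tap_5_7, taq_5_7⟩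
    · -- (5,7) S
      exfalso
      have key := Groth.Agent.Helper6.NT.negfun7 T h2 u0 u1 u3 u4 u5 u6 u7 (by norm_num) 1 2 2 1 2 1 1 (by norm_num) (by norm_num)
      linarith only [key, tap_0_1, taq_0_1, z_0_3, z_0_4, z_0_5, z_0_6, z_0_7, tap_1_3, taq_1_3, tap_1_4, taq_1_4, z_1_5, z_1_6, z_1_7, z_3_4, tap_3_5, taq_3_5, z_3_6, z_3_7, z_4_5, z_4_6, z_4_7, tap_5_6, taq_5_6, tap_5_7, taq_5_7, T.offDiag_nonneg u6 u7 hn_7_6.symm, T.w_pos u0, T.w_pos u1, T.w_pos u3, T.w_pos u4, T.w_pos u5, T.w_pos u6, T.w_pos u7]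
    · -- (5,7) Dp
      exfalso
      have key := Groth.Agent.Helper6.NT.negfun4 T h2 u3 u5 u6 u7 (by norm_num) 1 2 1 1 (by norm_num) (by norm_num)
      linarith only [key, tap_3_5, taq_3_5, z_3_6, z_3_7, tap_5_6, taq_5_6, tap_5_7, taq_5_7, T.offDiag_nonneg u6 u7 hn_7_6.symm, T.w_pos u3, T.w_pos u5, T.w_pos u6, T.w_pos u7]
    · -- (5,7) Dm
      exfalso
      have key := Groth.Agent.Helper6.NT.negfun4 T h2 u3 u5 u6 u7 (by norm_num) 1 2 1 2 (by norm_num) (by norm_num)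
      linarith only [key, tap_3_5, taq_3_5, z_3_6, z_3_7, tap_5_6, taq_5_6, tap_5_7, taq_5_7, T.offDiag_nonneg u6 u7 hn_7_6.symm, T.w_pos u3, T.w_pos u5, T.w_pos u6, T.w_pos u7]
    · -- (5,7) Tp
      exfalso
      have key := Groth.Agent.Helper6.NT.negfun3 T h2 u5 u6 u7 (by norm_num) 2 1 1 (by norm_num) (by norm_num)
      linarith only [key, tap_5_6, taq_5_6, tap_5_7, taq_5_7, T.offDiag_nonneg u6 u7 hn_7_6.symm, T.w_pos u5, T.w_pos u6, T.w_pos u7]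
    · -- (5,7) Tm
      exfalso
      have key := Groth.Agent.Helper6.NT.negfun3 T h2 u5 u6 u7 (by norm_num) 2 1 3 (by norm_num) (by norm_num)
      linarith only [key, tap_5_6, taq_5_6, tap_5_7, taq_5_7, T.offDiag_nonneg u6 u7 hn_7_6.symm, T.w_pos u5, T.w_pos u6, T.w_pos u7]
  · push Not at hx
    have cl_5 := hx
    clear hx
    by_cases hx : ∃ j, (j ≠ u0 ∧ j ≠ u1 ∧ j ≠ u2 ∧ j ≠ u3 ∧ j ≠ u4 ∧ j ≠ u5 ∧ j ≠ u6) ∧ T.a u6 j ≠ 0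
    · obtain ⟨u7, ⟨hn_7_0, hn_7_1, hn_7_2, hn_7_3, hn_7_4, hn_7_5, hn_7_6⟩, e_6_7⟩ := hx
      have z_0_7 : T.a u0 u7 = 0 := cl_0 u7 ⟨hn_7_0, hn_7_1, hn_7_2⟩
      have z_1_7 : T.a u1 u7 = 0 := cl_1 u7 ⟨hn_7_0, hn_7_1, hn_7_2, hn_7_3, hn_7_4⟩
      have z_2_7 : T.a u2 u7 = 0 := cl_2 u7 ⟨hn_7_0, hn_7_1, hn_7_2, hn_7_3, hn_7_4⟩
      have z_3_7 : T.a u3 u7 = 0 := cl_3 u7 ⟨hn_7_0, hn_7_1, hn_7_2, hn_7_3, hn_7_4, hn_7_5⟩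
      have z_4_7 : T.a u4 u7 = 0 := cl_4 u7 ⟨hn_7_0, hn_7_1, hn_7_2, hn_7_3, hn_7_4, hn_7_5⟩
      have z_5_7 : T.a u5 u7 = 0 := cl_5 u7 ⟨hn_7_0, hn_7_1, hn_7_2, hn_7_3, hn_7_4, hn_7_5, hn_7_6⟩
      rcases Groth.Agent.Helper6.NT.edge5 T h2 (by norm_num) u6 u7 hn_7_6.symm e_6_7 with ⟨tw_6_7, tap_6_7, taq_6_7⟩ | ⟨tw_6_7, tap_6_7, taq_6_7⟩ | ⟨tw_6_7, tap_6_7, taq_6_7⟩ | ⟨tw_6_7, tap_6_7, taq_6_7⟩ | ⟨tw_6_7, tap_6_7, taq_6_7⟩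
      · -- (6,7) S
        by_cases hx : ∃ j, (j ≠ u0 ∧ j ≠ u1 ∧ j ≠ u2 ∧ j ≠ u3 ∧ j ≠ u4 ∧ j ≠ u5 ∧ j ≠ u6 ∧ j ≠ u7) ∧ T.a u6 j ≠ 0
        · obtain ⟨u8, ⟨hn_8_0, hn_8_1, hn_8_2, hn_8_3, hn_8_4, hn_8_5, hn_8_6, hn_8_7⟩, e_6_8⟩ := hx
          have z_0_8 : T.a u0 u8 = 0 := cl_0 u8 ⟨hn_8_0, hn_8_1, hn_8_2⟩
          have z_1_8 : T.a u1 u8 = 0 := cl_1 u8 ⟨hn_8_0, hn_8_1, hn_8_2, hn_8_3, hn_8_4⟩
          have z_2_8 : T.a u2 u8 = 0 := cl_2 u8 ⟨hn_8_0, hn_8_1, hn_8_2, hn_8_3, hn_8_4⟩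
          have z_3_8 : T.a u3 u8 = 0 := cl_3 u8 ⟨hn_8_0, hn_8_1, hn_8_2, hn_8_3, hn_8_4, hn_8_5⟩
          have z_4_8 : T.a u4 u8 = 0 := cl_4 u8 ⟨hn_8_0, hn_8_1, hn_8_2, hn_8_3, hn_8_4, hn_8_5⟩
          have z_5_8 : T.a u5 u8 = 0 := cl_5 u8 ⟨hn_8_0, hn_8_1, hn_8_2, hn_8_3, hn_8_4, hn_8_5, hn_8_6⟩
          rcases Groth.Agent.Helper6.NT.edge5 T h2 (by norm_num) u6 u8 hn_8_6.symm e_6_8 with ⟨tw_6_8, tap_6_8, taq_6_8⟩ | ⟨tw_6_8, tap_6_8, taq_6_8⟩ | ⟨tw_6_8, tap_6_8, taq_6_8⟩ | ⟨tw_6_8, tap_6_8, taq_6_8⟩ | ⟨tw_6_8, tap_6_8, taq_6_8⟩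
          · -- (6,8) S
            exfalso
            have key := Groth.Agent.Helper6.NT.negfun8 T h2 u0 u1 u3 u4 u5 u6 u7 u8 (by norm_num) 1 2 2 1 2 2 1 1 (by norm_num) (by norm_num)
            linarith only [key, tap_0_1, taq_0_1, z_0_3, z_0_4, z_0_5, z_0_6, z_0_7, z_0_8, tap_1_3, taq_1_3, tap_1_4, taq_1_4, z_1_5, z_1_6, z_1_7, z_1_8, z_3_4, tap_3_5, taq_3_5, z_3_6, z_3_7, z_3_8, z_4_5, z_4_6, z_4_7, z_4_8, tap_5_6, taq_5_6, z_5_7, z_5_8, tap_6_7, taq_6_7, tap_6_8, taq_6_8, T.offDiag_nonneg u7 u8 hn_8_7.symm, T.w_pos u0, T.w_pos u1, T.w_pos u3, T.w_pos u4, T.w_pos u5, T.w_pos u6, T.w_pos u7, T.w_pos u8]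
          · -- (6,8) Dp
            exfalso
            have key := Groth.Agent.Helper6.NT.negfun4 T h2 u5 u6 u7 u8 (by norm_num) 1 2 1 1 (by norm_num) (by norm_num)
            linarith only [key, tap_5_6, taq_5_6, z_5_7, z_5_8, tap_6_7, taq_6_7, tap_6_8, taq_6_8, T.offDiag_nonneg u7 u8 hn_8_7.symm, T.w_pos u5, T.w_pos u6, T.w_pos u7, T.w_pos u8]
          · -- (6,8) Dm
            exfalso
            have key := Groth.Agent.Helper6.NT.negfun4 T h2 u5 u6 u7 u8 (by norm_num) 1 2 1 2 (by norm_num) (by norm_num)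
            linarith only [key, tap_5_6, taq_5_6, z_5_7, z_5_8, tap_6_7, taq_6_7, tap_6_8, taq_6_8, T.offDiag_nonneg u7 u8 hn_8_7.symm, T.w_pos u5, T.w_pos u6, T.w_pos u7, T.w_pos u8]
          · -- (6,8) Tp
            exfalso
            have key := Groth.Agent.Helper6.NT.negfun3 T h2 u6 u7 u8 (by norm_num) 2 1 1 (by norm_num) (by norm_num)
            linarith only [key, tap_6_7, taq_6_7, tap_6_8, taq_6_8, T.offDiag_nonneg u7 u8 hn_8_7.symm, T.w_pos u6, T.w_pos u7, T.w_pos u8]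
          · -- (6,8) Tm
            exfalso
            have key := Groth.Agent.Helper6.NT.negfun3 T h2 u6 u7 u8 (by norm_num) 2 1 3 (by norm_num) (by norm_num)
            linarith only [key, tap_6_7, taq_6_7, tap_6_8, taq_6_8, T.offDiag_nonneg u7 u8 hn_8_7.symm, T.w_pos u6, T.w_pos u7, T.w_pos u8]
        · push Not at hx
          have cl_6 := hx
          clear hx
          by_cases hx : ∃ j, (j ≠ u0 ∧ j ≠ u1 ∧ j ≠ u2 ∧ j ≠ u3 ∧ j ≠ u4 ∧ j ≠ u5 ∧ j ≠ u6 ∧ j ≠ u7) ∧ T.a u7 j ≠ 0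
          · obtain ⟨u8, ⟨hn_8_0, hn_8_1, hn_8_2, hn_8_3, hn_8_4, hn_8_5, hn_8_6, hn_8_7⟩, e_7_8⟩ := hx
            have z_0_8 : T.a u0 u8 = 0 := cl_0 u8 ⟨hn_8_0, hn_8_1, hn_8_2⟩
            have z_1_8 : T.a u1 u8 = 0 := cl_1 u8 ⟨hn_8_0, hn_8_1, hn_8_2, hn_8_3, hn_8_4⟩
            have z_2_8 : T.a u2 u8 = 0 := cl_2 u8 ⟨hn_8_0, hn_8_1, hn_8_2, hn_8_3, hn_8_4⟩
            have z_3_8 : T.a u3 u8 = 0 := cl_3 u8 ⟨hn_8_0, hn_8_1, hn_8_2, hn_8_3, hn_8_4, hn_8_5⟩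
            have z_4_8 : T.a u4 u8 = 0 := cl_4 u8 ⟨hn_8_0, hn_8_1, hn_8_2, hn_8_3, hn_8_4, hn_8_5⟩
            have z_5_8 : T.a u5 u8 = 0 := cl_5 u8 ⟨hn_8_0, hn_8_1, hn_8_2, hn_8_3, hn_8_4, hn_8_5, hn_8_6⟩
            have z_6_8 : T.a u6 u8 = 0 := cl_6 u8 ⟨hn_8_0, hn_8_1, hn_8_2, hn_8_3, hn_8_4, hn_8_5, hn_8_6, hn_8_7⟩
            rcases Groth.Agent.Helper6.NT.edge5 T h2 (by norm_num) u7 u8 hn_8_7.symm e_7_8 with ⟨tw_7_8, tap_7_8, taq_7_8⟩ | ⟨tw_7_8, tap_7_8, taq_7_8⟩ | ⟨tw_7_8, tap_7_8, taq_7_8⟩ | ⟨tw_7_8, tap_7_8, taq_7_8⟩ | ⟨tw_7_8, tap_7_8, taq_7_8⟩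
            · -- (7,8) S
              have hinj := Groth.Agent.Helper6.NT.inj9 u0 u1 u2 u3 u4 u5 u6 u7 u8 hn_1_0 hn_2_0 hn_2_1 hn_3_0 hn_3_1 hn_3_2 hn_4_0 hn_4_1 hn_4_2 hn_4_3 hn_5_0 hn_5_1 hn_5_2 hn_5_3 hn_5_4 hn_6_0 hn_6_1 hn_6_2 hn_6_3 hn_6_4 hn_6_5 hn_7_0 hn_7_1 hn_7_2 hn_7_3 hn_7_4 hn_7_5 hn_7_6 hn_8_0 hn_8_1 hn_8_2 hn_8_3 hn_8_4 hn_8_5 hn_8_6 hn_8_7
              have r_0 : -2 * T.m u0 + 1 * T.m u1 + 1 * T.m u2 = 0 := by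
                have key := Groth.Agent.Helper6.NT.rowfun9 T u0 u1 u2 u3 u4 u5 u6 u7 u8 hinj u0
                rw [(h2 u0).2, tap_0_1, tap_0_2, z_0_3, z_0_4, z_0_5, z_0_6, z_0_7, z_0_8] at key
                exact mul_left_cancel₀ (T.w_pos u0).ne' (by linarith only [key])
              have r_1 : 1 * T.m u0 + -2 * T.m u1 + 1 * T.m u3 + 1 * T.m u4 = 0 := by
                have key := Groth.Agent.Helper6.NT.rowfun9 T u0 u1 u2 u3 u4 u5 u6 u7 u8 hinj u1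
                rw [Groth.Agent.Helper6.NT.symm' T u1 u0, taq_0_1, (h2 u1).2, z_1_2, tap_1_3, tap_1_4, z_1_5, z_1_6, z_1_7, z_1_8] at key
                exact mul_left_cancel₀ (T.w_pos u1).ne' (by linarith only [key])
              have r_2 : 1 * T.m u0 + -2 * T.m u2 = 0 := by
                have key := Groth.Agent.Helper6.NT.rowfun9 T u0 u1 u2 u3 u4 u5 u6 u7 u8 hinj u2
                rw [Groth.Agent.Helper6.NT.symm' T u2 u0, taq_0_2, Groth.Agent.Helper6.NT.symm' T u2 u1, z_1_2, (h2 u2).2, z_2_3, z_2_4, z_2_5, z_2_6, z_2_7, z_2_8] at key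
                exact mul_left_cancel₀ (T.w_pos u2).ne' (by linarith only [key])
              have r_3 : 1 * T.m u1 + -2 * T.m u3 + 1 * T.m u5 = 0 := by
                have key := Groth.Agent.Helper6.NT.rowfun9 T u0 u1 u2 u3 u4 u5 u6 u7 u8 hinj u3
                rw [Groth.Agent.Helper6.NT.symm' T u3 u0, z_0_3, Groth.Agent.Helper6.NT.symm' T u3 u1, taq_1_3, Groth.Agent.Helper6.NT.symm' T u3 u2, z_2_3, (h2 u3).2, z_3_4, tap_3_5, z_3_6, z_3_7, z_3_8] at key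
                exact mul_left_cancel₀ (T.w_pos u3).ne' (by linarith only [key])
              have r_4 : 1 * T.m u1 + -2 * T.m u4 = 0 := by
                have key := Groth.Agent.Helper6.NT.rowfun9 T u0 u1 u2 u3 u4 u5 u6 u7 u8 hinj u4
                rw [Groth.Agent.Helper6.NT.symm' T u4 u0, z_0_4, Groth.Agent.Helper6.NT.symm' T u4 u1, taq_1_4, Groth.Agent.Helper6.NT.symm' T u4 u2, z_2_4, Groth.Agent.Helper6.NT.symm' T u4 u3, z_3_4, (h2 u4).2, z_4_5, z_4_6, z_4_7, z_4_8] at key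
                exact mul_left_cancel₀ (T.w_pos u4).ne' (by linarith only [key])
              have r_5 : 1 * T.m u3 + -2 * T.m u5 + 1 * T.m u6 = 0 := by
                have key := Groth.Agent.Helper6.NT.rowfun9 T u0 u1 u2 u3 u4 u5 u6 u7 u8 hinj u5
                rw [Groth.Agent.Helper6.NT.symm' T u5 u0, z_0_5, Groth.Agent.Helper6.NT.symm' T u5 u1, z_1_5, Groth.Agent.Helper6.NT.symm' T u5 u2, z_2_5, Groth.Agent.Helper6.NT.symm' T u5 u3, taq_3_5, Groth.Agent.Helper6.NT.symm' T u5 u4, z_4_5, (h2 u5).2, tap_5_6, z_5_7, z_5_8] at key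
                exact mul_left_cancel₀ (T.w_pos u5).ne' (by linarith only [key])
              have r_6 : 1 * T.m u5 + -2 * T.m u6 + 1 * T.m u7 = 0 := by
                have key := Groth.Agent.Helper6.NT.rowfun9 T u0 u1 u2 u3 u4 u5 u6 u7 u8 hinj u6
                rw [Groth.Agent.Helper6.NT.symm' T u6 u0, z_0_6, Groth.Agent.Helper6.NT.symm' T u6 u1, z_1_6, Groth.Agent.Helper6.NT.symm' T u6 u2, z_2_6, Groth.Agent.Helper6.NT.symm' T u6 u3, z_3_6, Groth.Agent.Helper6.NT.symm' T u6 u4, z_4_6, Groth.Agent.Helper6.NT.symm' T u6 u5, taq_5_6, (h2 u6).2, tap_6_7, z_6_8] at key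
                exact mul_left_cancel₀ (T.w_pos u6).ne' (by linarith only [key])
              have r_7 : 1 * T.m u6 + -2 * T.m u7 + 1 * T.m u8 = 0 := by
                have key := Groth.Agent.Helper6.NT.rowfun9 T u0 u1 u2 u3 u4 u5 u6 u7 u8 hinj u7
                rw [Groth.Agent.Helper6.NT.symm' T u7 u0, z_0_7, Groth.Agent.Helper6.NT.symm' T u7 u1, z_1_7, Groth.Agent.Helper6.NT.symm' T u7 u2, z_2_7, Groth.Agent.Helper6.NT.symm' T u7 u3, z_3_7, Groth.Agent.Helper6.NT.symm' T u7 u4, z_4_7, Groth.Agent.Helper6.NT.symm' T u7 u5, z_5_7, Groth.Agent.Helper6.NT.symm' T u7 u6, taq_6_7, (h2 u7).2, tap_7_8] at key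
                exact mul_left_cancel₀ (T.w_pos u7).ne' (by linarith only [key])
              have r_8 : 1 * T.m u7 + -2 * T.m u8 = 0 := by
                have key := Groth.Agent.Helper6.NT.rowfun9 T u0 u1 u2 u3 u4 u5 u6 u7 u8 hinj u8
                rw [Groth.Agent.Helper6.NT.symm' T u8 u0, z_0_8, Groth.Agent.Helper6.NT.symm' T u8 u1, z_1_8, Groth.Agent.Helper6.NT.symm' T u8 u2, z_2_8, Groth.Agent.Helper6.NT.symm' T u8 u3, z_3_8, Groth.Agent.Helper6.NT.symm' T u8 u4, z_4_8, Groth.Agent.Helper6.NT.symm' T u8 u5, z_5_8, Groth.Agent.Helper6.NT.symm' T u8 u6, z_6_8, Groth.Agent.Helper6.NT.symm' T u8 u7, taq_7_8, (h2 u8).2] at key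
                exact mul_left_cancel₀ (T.w_pos u8).ne' (by linarith only [key])
              have f0 : T.m u8 = T.m u8 := rfl
              have f1 : T.m u7 = 2 * T.m u8 := by linarith only [r_0, r_1, r_2, r_3, r_4, r_5, r_6, r_7, r_8]
              have f2 : T.m u6 = 3 * T.m u8 := by linarith only [r_0, r_1, r_2, r_3, r_4, r_5, r_6, r_7, r_8]
              have f3 : T.m u5 = 4 * T.m u8 := by linarith only [r_0, r_1, r_2, r_3, r_4, r_5, r_6, r_7, r_8]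
              have f4 : T.m u3 = 5 * T.m u8 := by linarith only [r_0, r_1, r_2, r_3, r_4, r_5, r_6, r_7, r_8]
              have f5 : T.m u1 = 6 * T.m u8 := by linarith only [r_0, r_1, r_2, r_3, r_4, r_5, r_6, r_7, r_8]
              have f6 : T.m u0 = 4 * T.m u8 := by linarith only [r_0, r_1, r_2, r_3, r_4, r_5, r_6, r_7, r_8]
              have f7 : T.m u2 = 2 * T.m u8 := by linarith only [r_0, r_1, r_2, r_3, r_4, r_5, r_6, r_7, r_8]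
              have f8 : T.m u4 = 3 * T.m u8 := by linarith only [r_0, r_1, r_2, r_3, r_4, r_5, r_6, r_7, r_8]
              have f9 : T.w u8 = T.w u8 := rfl
              have f10 : T.w u7 = T.w u8 := by linarith only [tw_0_1, tw_0_2, tw_1_3, tw_1_4, tw_3_5, tw_5_6, tw_6_7, tw_7_8]
              have f11 : T.w u6 = T.w u8 := by linarith only [tw_0_1, tw_0_2, tw_1_3, tw_1_4, tw_3_5, tw_5_6, tw_6_7, tw_7_8]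
              have f12 : T.w u5 = T.w u8 := by linarith only [tw_0_1, tw_0_2, tw_1_3, tw_1_4, tw_3_5, tw_5_6, tw_6_7, tw_7_8]
              have f13 : T.w u3 = T.w u8 := by linarith only [tw_0_1, tw_0_2, tw_1_3, tw_1_4, tw_3_5, tw_5_6, tw_6_7, tw_7_8]
              have f14 : T.w u1 = T.w u8 := by linarith only [tw_0_1, tw_0_2, tw_1_3, tw_1_4, tw_3_5, tw_5_6, tw_6_7, tw_7_8]
              have f15 : T.w u0 = T.w u8 := by linarith only [tw_0_1, tw_0_2, tw_1_3, tw_1_4, tw_3_5, tw_5_6, tw_6_7, tw_7_8]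
              have f16 : T.w u2 = T.w u8 := by linarith only [tw_0_1, tw_0_2, tw_1_3, tw_1_4, tw_3_5, tw_5_6, tw_6_7, tw_7_8]
              have f17 : T.w u4 = T.w u8 := by linarith only [tw_0_1, tw_0_2, tw_1_3, tw_1_4, tw_3_5, tw_5_6, tw_6_7, tw_7_8]
              have f18 : T.a u8 u8 = -2 * T.w u8 := by have := (h2 u8).2; linarith only [this, tw_0_1, tw_0_2, tw_1_3, tw_1_4, tw_3_5, tw_5_6, tw_6_7, tw_7_8]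
              have f19 : T.a u8 u7 = T.w u8 := by rw [Groth.Agent.Helper6.NT.symm' T u8 u7]; linarith only [tap_7_8, tw_0_1, tw_0_2, tw_1_3, tw_1_4, tw_3_5, tw_5_6, tw_6_7, tw_7_8]
              have f20 : T.a u8 u6 = 0 := by rw [Groth.Agent.Helper6.NT.symm' T u8 u6]; exact z_6_8
              have f21 : T.a u8 u5 = 0 := by rw [Groth.Agent.Helper6.NT.symm' T u8 u5]; exact z_5_8
              have f22 : T.a u8 u3 = 0 := by rw [Groth.Agent.Helper6.NT.symm' T u8 u3]; exact z_3_8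
              have f23 : T.a u8 u1 = 0 := by rw [Groth.Agent.Helper6.NT.symm' T u8 u1]; exact z_1_8
              have f24 : T.a u8 u0 = 0 := by rw [Groth.Agent.Helper6.NT.symm' T u8 u0]; exact z_0_8
              have f25 : T.a u8 u2 = 0 := by rw [Groth.Agent.Helper6.NT.symm' T u8 u2]; exact z_2_8
              have f26 : T.a u8 u4 = 0 := by rw [Groth.Agent.Helper6.NT.symm' T u8 u4]; exact z_4_8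
              have f27 : T.a u7 u7 = -2 * T.w u8 := by have := (h2 u7).2; linarith only [this, tw_0_1, tw_0_2, tw_1_3, tw_1_4, tw_3_5, tw_5_6, tw_6_7, tw_7_8]
              have f28 : T.a u7 u6 = T.w u8 := by rw [Groth.Agent.Helper6.NT.symm' T u7 u6]; linarith only [tap_6_7, tw_0_1, tw_0_2, tw_1_3, tw_1_4, tw_3_5, tw_5_6, tw_6_7, tw_7_8]
              have f29 : T.a u7 u5 = 0 := by rw [Groth.Agent.Helper6.NT.symm' T u7 u5]; exact z_5_7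
              have f30 : T.a u7 u3 = 0 := by rw [Groth.Agent.Helper6.NT.symm' T u7 u3]; exact z_3_7
              have f31 : T.a u7 u1 = 0 := by rw [Groth.Agent.Helper6.NT.symm' T u7 u1]; exact z_1_7
              have f32 : T.a u7 u0 = 0 := by rw [Groth.Agent.Helper6.NT.symm' T u7 u0]; exact z_0_7
              have f33 : T.a u7 u2 = 0 := by rw [Groth.Agent.Helper6.NT.symm' T u7 u2]; exact z_2_7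
              have f34 : T.a u7 u4 = 0 := by rw [Groth.Agent.Helper6.NT.symm' T u7 u4]; exact z_4_7
              have f35 : T.a u6 u6 = -2 * T.w u8 := by have := (h2 u6).2; linarith only [this, tw_0_1, tw_0_2, tw_1_3, tw_1_4, tw_3_5, tw_5_6, tw_6_7, tw_7_8]
              have f36 : T.a u6 u5 = T.w u8 := by rw [Groth.Agent.Helper6.NT.symm' T u6 u5]; linarith only [tap_5_6, tw_0_1, tw_0_2, tw_1_3, tw_1_4, tw_3_5, tw_5_6, tw_6_7, tw_7_8]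
              have f37 : T.a u6 u3 = 0 := by rw [Groth.Agent.Helper6.NT.symm' T u6 u3]; exact z_3_6
              have f38 : T.a u6 u1 = 0 := by rw [Groth.Agent.Helper6.NT.symm' T u6 u1]; exact z_1_6
              have f39 : T.a u6 u0 = 0 := by rw [Groth.Agent.Helper6.NT.symm' T u6 u0]; exact z_0_6
              have f40 : T.a u6 u2 = 0 := by rw [Groth.Agent.Helper6.NT.symm' T u6 u2]; exact z_2_6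
              have f41 : T.a u6 u4 = 0 := by rw [Groth.Agent.Helper6.NT.symm' T u6 u4]; exact z_4_6
              have f42 : T.a u5 u5 = -2 * T.w u8 := by have := (h2 u5).2; linarith only [this, tw_0_1, tw_0_2, tw_1_3, tw_1_4, tw_3_5, tw_5_6, tw_6_7, tw_7_8]
              have f43 : T.a u5 u3 = T.w u8 := by rw [Groth.Agent.Helper6.NT.symm' T u5 u3]; linarith only [tap_3_5, tw_0_1, tw_0_2, tw_1_3, tw_1_4, tw_3_5, tw_5_6, tw_6_7, tw_7_8]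
              have f44 : T.a u5 u1 = 0 := by rw [Groth.Agent.Helper6.NT.symm' T u5 u1]; exact z_1_5
              have f45 : T.a u5 u0 = 0 := by rw [Groth.Agent.Helper6.NT.symm' T u5 u0]; exact z_0_5
              have f46 : T.a u5 u2 = 0 := by rw [Groth.Agent.Helper6.NT.symm' T u5 u2]; exact z_2_5
              have f47 : T.a u5 u4 = 0 := by rw [Groth.Agent.Helper6.NT.symm' T u5 u4]; exact z_4_5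
              have f48 : T.a u3 u3 = -2 * T.w u8 := by have := (h2 u3).2; linarith only [this, tw_0_1, tw_0_2, tw_1_3, tw_1_4, tw_3_5, tw_5_6, tw_6_7, tw_7_8]
              have f49 : T.a u3 u1 = T.w u8 := by rw [Groth.Agent.Helper6.NT.symm' T u3 u1]; linarith only [tap_1_3, tw_0_1, tw_0_2, tw_1_3, tw_1_4, tw_3_5, tw_5_6, tw_6_7, tw_7_8]
              have f50 : T.a u3 u0 = 0 := by rw [Groth.Agent.Helper6.NT.symm' T u3 u0]; exact z_0_3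
              have f51 : T.a u3 u2 = 0 := by rw [Groth.Agent.Helper6.NT.symm' T u3 u2]; exact z_2_3
              have f52 : T.a u3 u4 = 0 := by exact z_3_4
              have f53 : T.a u1 u1 = -2 * T.w u8 := by have := (h2 u1).2; linarith only [this, tw_0_1, tw_0_2, tw_1_3, tw_1_4, tw_3_5, tw_5_6, tw_6_7, tw_7_8]
              have f54 : T.a u1 u0 = T.w u8 := by rw [Groth.Agent.Helper6.NT.symm' T u1 u0]; linarith only [tap_0_1, tw_0_1, tw_0_2, tw_1_3, tw_1_4, tw_3_5, tw_5_6, tw_6_7, tw_7_8]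
              have f55 : T.a u1 u2 = 0 := by exact z_1_2
              have f56 : T.a u1 u4 = T.w u8 := by linarith only [tap_1_4, tw_0_1, tw_0_2, tw_1_3, tw_1_4, tw_3_5, tw_5_6, tw_6_7, tw_7_8]
              have f57 : T.a u0 u0 = -2 * T.w u8 := by have := (h2 u0).2; linarith only [this, tw_0_1, tw_0_2, tw_1_3, tw_1_4, tw_3_5, tw_5_6, tw_6_7, tw_7_8]
              have f58 : T.a u0 u2 = T.w u8 := by linarith only [tap_0_2, tw_0_1, tw_0_2, tw_1_3, tw_1_4, tw_3_5, tw_5_6, tw_6_7, tw_7_8]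
              have f59 : T.a u0 u4 = 0 := by exact z_0_4
              have f60 : T.a u2 u2 = -2 * T.w u8 := by have := (h2 u2).2; linarith only [this, tw_0_1, tw_0_2, tw_1_3, tw_1_4, tw_3_5, tw_5_6, tw_6_7, tw_7_8]
              have f61 : T.a u2 u4 = 0 := by exact z_2_4
              have f62 : T.a u4 u4 = -2 * T.w u8 := by have := (h2 u4).2; linarith only [this, tw_0_1, tw_0_2, tw_1_3, tw_1_4, tw_3_5, tw_5_6, tw_6_7, tw_7_8]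
              have hsig := Groth.Agent.Helper6.NT.inj9 u8 u7 u6 u5 u3 u1 u0 u2 u4 hn_8_7.symm hn_8_6.symm hn_7_6.symm hn_8_5.symm hn_7_5.symm hn_6_5.symm hn_8_3.symm hn_7_3.symm hn_6_3.symm hn_5_3.symm hn_8_1.symm hn_7_1.symm hn_6_1.symm hn_5_1.symm hn_3_1.symm hn_8_0.symm hn_7_0.symm hn_6_0.symm hn_5_0.symm hn_3_0.symm hn_1_0.symm hn_8_2.symm hn_7_2.symm hn_6_2.symm hn_5_2.symm hn_3_2.symm hn_2_1 hn_2_0 hn_8_4.symm hn_7_4.symm hn_6_4.symm hn_5_4.symm hn_4_3 hn_4_1 hn_4_0 hn_4_2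
              exact ⟨Equiv.ofBijective _ (Finite.injective_iff_bijective.1 hsig), T.m u8, T.w u8, Or.inr (Or.inr (Or.inr (Or.inr (Or.inr (Or.inr (Or.inr (⟨f0, f1, f2, f3, f4, f5, f6, f7, f8, f9, f10, f11, f12, f13, f14, f15, f16, f17, f18, f19, f20, f21, f22, f23, f24, f25, f26, f27, f28, f29, f30, f31, f32, f33, f34, f35, f36, f37, f38, f39, f40, f41, f42, f43, f44, f45, f46, f47, f48, f49, f50, f51, f52, f53, f54, f55, f56, f57, f58, f59, f60, f61, f62⟩)))))))⟩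
            · -- (7,8) Dp
              exfalso
              have key := Groth.Agent.Helper6.NT.negfun8 T h2 u0 u1 u3 u4 u5 u6 u7 u8 (by norm_num) 1 2 2 1 2 2 2 1 (by norm_num) (by norm_num)
              linarith only [key, tap_0_1, taq_0_1, z_0_3, z_0_4, z_0_5, z_0_6, z_0_7, z_0_8, tap_1_3, taq_1_3, tap_1_4, taq_1_4, z_1_5, z_1_6, z_1_7, z_1_8, z_3_4, tap_3_5, taq_3_5, z_3_6, z_3_7, z_3_8, z_4_5, z_4_6, z_4_7, z_4_8, tap_5_6, taq_5_6, z_5_7, z_5_8, tap_6_7, taq_6_7, z_6_8, tap_7_8, taq_7_8, T.w_pos u0, T.w_pos u1, T.w_pos u3, T.w_pos u4, T.w_pos u5, T.w_pos u6, T.w_pos u7, T.w_pos u8]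
            · -- (7,8) Dm
              exfalso
              have key := Groth.Agent.Helper6.NT.negfun8 T h2 u0 u1 u3 u4 u5 u6 u7 u8 (by norm_num) 1 2 2 1 2 2 2 2 (by norm_num) (by norm_num)
              linarith only [key, tap_0_1, taq_0_1, z_0_3, z_0_4, z_0_5, z_0_6, z_0_7, z_0_8, tap_1_3, taq_1_3, tap_1_4, taq_1_4, z_1_5, z_1_6, z_1_7, z_1_8, z_3_4, tap_3_5, taq_3_5, z_3_6, z_3_7, z_3_8, z_4_5, z_4_6, z_4_7, z_4_8, tap_5_6, taq_5_6, z_5_7, z_5_8, tap_6_7, taq_6_7, z_6_8, tap_7_8, taq_7_8, T.w_pos u0, T.w_pos u1, T.w_pos u3, T.w_pos u4, T.w_pos u5, T.w_pos u6, T.w_pos u7, T.w_pos u8]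
            · -- (7,8) Tp
              exfalso
              have key := Groth.Agent.Helper6.NT.negfun3 T h2 u6 u7 u8 (by norm_num) 1 2 1 (by norm_num) (by norm_num)
              linarith only [key, tap_6_7, taq_6_7, z_6_8, tap_7_8, taq_7_8, T.w_pos u6, T.w_pos u7, T.w_pos u8]
            · -- (7,8) Tm
              exfalso
              have key := Groth.Agent.Helper6.NT.negfun3 T h2 u6 u7 u8 (by norm_num) 1 2 3 (by norm_num) (by norm_num)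
              linarith only [key, tap_6_7, taq_6_7, z_6_8, tap_7_8, taq_7_8, T.w_pos u6, T.w_pos u7, T.w_pos u8]
          · push Not at hx
            have cl_7 := hx
            clear hx
            exfalso
            refine Groth.Agent.Helper6.NT.closed_contra T [u0, u1, u2, u3, u4, u5, u6, u7] (by simp) (by simp) ?_
            intro i hi j hj
            simp only [List.mem_cons, List.not_mem_nil, or_false, not_or] at hi hj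
            rcases hi with rfl | rfl | rfl | rfl | rfl | rfl | rfl | rfl
            · exact cl_0 j ⟨hj.1, hj.2.1, hj.2.2.1⟩
            · exact cl_1 j ⟨hj.1, hj.2.1, hj.2.2.1, hj.2.2.2.1, hj.2.2.2.2.1⟩
            · exact cl_2 j ⟨hj.1, hj.2.1, hj.2.2.1, hj.2.2.2.1, hj.2.2.2.2.1⟩
            · exact cl_3 j ⟨hj.1, hj.2.1, hj.2.2.1, hj.2.2.2.1, hj.2.2.2.2.1, hj.2.2.2.2.2.1⟩
            · exact cl_4 j ⟨hj.1, hj.2.1, hj.2.2.1, hj.2.2.2.1, hj.2.2.2.2.1, hj.2.2.2.2.2.1⟩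
            · exact cl_5 j ⟨hj.1, hj.2.1, hj.2.2.1, hj.2.2.2.1, hj.2.2.2.2.1, hj.2.2.2.2.2.1, hj.2.2.2.2.2.2.1⟩
            · exact cl_6 j ⟨hj.1, hj.2.1, hj.2.2.1, hj.2.2.2.1, hj.2.2.2.2.1, hj.2.2.2.2.2.1, hj.2.2.2.2.2.2.1, hj.2.2.2.2.2.2.2⟩
            · exact cl_7 j ⟨hj.1, hj.2.1, hj.2.2.1, hj.2.2.2.1, hj.2.2.2.2.1, hj.2.2.2.2.2.1, hj.2.2.2.2.2.2.1, hj.2.2.2.2.2.2.2⟩
      · -- (6,7) Dp
        exfalso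
        have key := Groth.Agent.Helper6.NT.negfun7 T h2 u0 u1 u3 u4 u5 u6 u7 (by norm_num) 1 2 2 1 2 2 1 (by norm_num) (by norm_num)
        linarith only [key, tap_0_1, taq_0_1, z_0_3, z_0_4, z_0_5, z_0_6, z_0_7, tap_1_3, taq_1_3, tap_1_4, taq_1_4, z_1_5, z_1_6, z_1_7, z_3_4, tap_3_5, taq_3_5, z_3_6, z_3_7, z_4_5, z_4_6, z_4_7, tap_5_6, taq_5_6, z_5_7, tap_6_7, taq_6_7, T.w_pos u0, T.w_pos u1, T.w_pos u3, T.w_pos u4, T.w_pos u5, T.w_pos u6, T.w_pos u7]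
      · -- (6,7) Dm
        exfalso
        have key := Groth.Agent.Helper6.NT.negfun7 T h2 u0 u1 u3 u4 u5 u6 u7 (by norm_num) 1 2 2 1 2 2 2 (by norm_num) (by norm_num)
        linarith only [key, tap_0_1, taq_0_1, z_0_3, z_0_4, z_0_5, z_0_6, z_0_7, tap_1_3, taq_1_3, tap_1_4, taq_1_4, z_1_5, z_1_6, z_1_7, z_3_4, tap_3_5, taq_3_5, z_3_6, z_3_7, z_4_5, z_4_6, z_4_7, tap_5_6, taq_5_6, z_5_7, tap_6_7, taq_6_7, T.w_pos u0, T.w_pos u1, T.w_pos u3, T.w_pos u4, T.w_pos u5, T.w_pos u6, T.w_pos u7]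
      · -- (6,7) Tp
        exfalso
        have key := Groth.Agent.Helper6.NT.negfun3 T h2 u5 u6 u7 (by norm_num) 1 2 1 (by norm_num) (by norm_num)
        linarith only [key, tap_5_6, taq_5_6, z_5_7, tap_6_7, taq_6_7, T.w_pos u5, T.w_pos u6, T.w_pos u7]
      · -- (6,7) Tm
        exfalso
        have key := Groth.Agent.Helper6.NT.negfun3 T h2 u5 u6 u7 (by norm_num) 1 2 3 (by norm_num) (by norm_num)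
        linarith only [key, tap_5_6, taq_5_6, z_5_7, tap_6_7, taq_6_7, T.w_pos u5, T.w_pos u6, T.w_pos u7]
    · push Not at hx
      have cl_6 := hx
      clear hx
      exfalso
      refine Groth.Agent.Helper6.NT.closed_contra T [u0, u1, u2, u3, u4, u5, u6] (by simp) (by simp) ?_
      intro i hi j hj
      simp only [List.mem_cons, List.not_mem_nil, or_false, not_or] at hi hj
      rcases hi with rfl | rfl | rfl | rfl | rfl | rfl | rfl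
      · exact cl_0 j ⟨hj.1, hj.2.1, hj.2.2.1⟩
      · exact cl_1 j ⟨hj.1, hj.2.1, hj.2.2.1, hj.2.2.2.1, hj.2.2.2.2.1⟩
      · exact cl_2 j ⟨hj.1, hj.2.1, hj.2.2.1, hj.2.2.2.1, hj.2.2.2.2.1⟩
      · exact cl_3 j ⟨hj.1, hj.2.1, hj.2.2.1, hj.2.2.2.1, hj.2.2.2.2.1, hj.2.2.2.2.2.1⟩
      · exact cl_4 j ⟨hj.1, hj.2.1, hj.2.2.1, hj.2.2.2.1, hj.2.2.2.2.1, hj.2.2.2.2.2.1⟩
      · exact cl_5 j ⟨hj.1, hj.2.1, hj.2.2.1, hj.2.2.2.1, hj.2.2.2.2.1, hj.2.2.2.2.2.1, hj.2.2.2.2.2.2⟩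
      · exact cl_6 j ⟨hj.1, hj.2.1, hj.2.2.1, hj.2.2.2.1, hj.2.2.2.2.1, hj.2.2.2.2.2.1, hj.2.2.2.2.2.2⟩

theorem cut9_19 (T : Models.NumericalType 9) (h2 : ∀ i, T.IsMinusTwo i) (u0 u1 u2 u3 u4 u5 u6 : Fin 9)
    (hn_1_0 : u1 ≠ u0)
    (e_0_1 : T.a u0 u1 ≠ 0)
    (tw_0_1 : T.w u1 = T.w u0)
    (tap_0_1 : T.a u0 u1 = T.w u0)
    (taq_0_1 : T.a u0 u1 = T.w u1)
    (hn_2_0 : u2 ≠ u0)
    (hn_2_1 : u2 ≠ u1)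
    (e_0_2 : T.a u0 u2 ≠ 0)
    (tw_0_2 : T.w u2 = T.w u0)
    (tap_0_2 : T.a u0 u2 = T.w u0)
    (taq_0_2 : T.a u0 u2 = T.w u2)
    (z_1_2 : T.a u1 u2 = 0)
    (cl_0 : ∀ j : Fin 9, (j ≠ u0 ∧ j ≠ u1 ∧ j ≠ u2) → T.a u0 j = 0)
    (hn_3_0 : u3 ≠ u0)
    (hn_3_1 : u3 ≠ u1)
    (hn_3_2 : u3 ≠ u2)
    (e_1_3 : T.a u1 u3 ≠ 0)
    (z_0_3 : T.a u0 u3 = 0)
    (tw_1_3 : T.w u3 = T.w u1)
    (tap_1_3 : T.a u1 u3 = T.w u1)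
    (taq_1_3 : T.a u1 u3 = T.w u3)
    (z_2_3 : T.a u2 u3 = 0)
    (hn_4_0 : u4 ≠ u0)
    (hn_4_1 : u4 ≠ u1)
    (hn_4_2 : u4 ≠ u2)
    (hn_4_3 : u4 ≠ u3)
    (e_1_4 : T.a u1 u4 ≠ 0)
    (z_0_4 : T.a u0 u4 = 0)
    (tw_1_4 : T.w u4 = T.w u1)
    (tap_1_4 : T.a u1 u4 = T.w u1)
    (taq_1_4 : T.a u1 u4 = T.w u4)
    (z_2_4 : T.a u2 u4 = 0)
    (z_3_4 : T.a u3 u4 = 0)
    (cl_1 : ∀ j : Fin 9, (j ≠ u0 ∧ j ≠ u1 ∧ j ≠ u2 ∧ j ≠ u3 ∧ j ≠ u4) → T.a u1 j = 0)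
    (cl_2 : ∀ j : Fin 9, (j ≠ u0 ∧ j ≠ u1 ∧ j ≠ u2 ∧ j ≠ u3 ∧ j ≠ u4) → T.a u2 j = 0)
    (cl_3 : ∀ j : Fin 9, (j ≠ u0 ∧ j ≠ u1 ∧ j ≠ u2 ∧ j ≠ u3 ∧ j ≠ u4) → T.a u3 j = 0)
    (hn_5_0 : u5 ≠ u0)
    (hn_5_1 : u5 ≠ u1)
    (hn_5_2 : u5 ≠ u2)
    (hn_5_3 : u5 ≠ u3)
    (hn_5_4 : u5 ≠ u4)
    (e_4_5 : T.a u4 u5 ≠ 0)
    (z_0_5 : T.a u0 u5 = 0)
    (z_1_5 : T.a u1 u5 = 0)
    (z_2_5 : T.a u2 u5 = 0)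
    (z_3_5 : T.a u3 u5 = 0)
    (tw_4_5 : T.w u5 = T.w u4)
    (tap_4_5 : T.a u4 u5 = T.w u4)
    (taq_4_5 : T.a u4 u5 = T.w u5)
    (cl_4 : ∀ j : Fin 9, (j ≠ u0 ∧ j ≠ u1 ∧ j ≠ u2 ∧ j ≠ u3 ∧ j ≠ u4 ∧ j ≠ u5) → T.a u4 j = 0)
    (hn_6_0 : u6 ≠ u0)
    (hn_6_1 : u6 ≠ u1)
    (hn_6_2 : u6 ≠ u2)
    (hn_6_3 : u6 ≠ u3)
    (hn_6_4 : u6 ≠ u4)
    (hn_6_5 : u6 ≠ u5)
    (e_5_6 : T.a u5 u6 ≠ 0)
    (z_0_6 : T.a u0 u6 = 0)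
    (z_1_6 : T.a u1 u6 = 0)
    (z_2_6 : T.a u2 u6 = 0)
    (z_3_6 : T.a u3 u6 = 0)
    (z_4_6 : T.a u4 u6 = 0)
    (tw_5_6 : T.w u6 = T.w u5)
    (tap_5_6 : T.a u5 u6 = T.w u5)
    (taq_5_6 : T.a u5 u6 = T.w u6) :
    ∃ (σ : Equiv.Perm (Fin 9)) (m w : ℤ), ((T.m (σ 0) = m ∧ T.m (σ 1) = m ∧ T.m (σ 2) = m ∧ T.m (σ 3) = m ∧ T.m (σ 4) = m ∧ T.m (σ 5) = m ∧ T.m (σ 6) = m ∧ T.m (σ 7) = m ∧ T.m (σ 8) = m ∧ T.w (σ 0) = w ∧ T.w (σ 1) = w ∧ T.w (σ 2) = w ∧ T.w (σ 3) = w ∧ T.w (σ 4) = w ∧ T.w (σ 5) = w ∧ T.w (σ 6) = w ∧ T.w (σ 7) = w ∧ T.w (σ 8) = w ∧ T.a (σ 0) (σ 0) = -2 * w ∧ T.a (σ 0) (σ 1) = w ∧ T.a (σ 0) (σ 2) = 0 ∧ T.a (σ 0) (σ 3) = 0 ∧ T.a (σ 0) (σ 4) = 0 ∧ T.a (σ 0) (σ 5) = 0 ∧ T.a (σ 0) (σ 6) = 0 ∧ T.a (σ 0) (σ 7) = 0 ∧ T.a (σ 0) (σ 8) = w ∧ T.a (σ 1) (σ 1) = -2 * w ∧ T.a (σ 1) (σ 2) = w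 ∧ T.a (σ 1) (σ 3) = 0 ∧ T.a (σ 1) (σ 4) = 0 ∧ T.a (σ 1) (σ 5) = 0 ∧ T.a (σ 1) (σ 6) = 0 ∧ T.a (σ 1) (σ 7) = 0 ∧ T.a (σ 1) (σ 8) = 0 ∧ T.a (σ 2) (σ 2) = -2 * w ∧ T.a (σ 2) (σ 3) = w ∧ T.a (σ 2) (σ 4) = 0 ∧ T.a (σ 2) (σ 5) = 0 ∧ T.a (σ 2) (σ 6) = 0 ∧ T.a (σ 2) (σ 7) = 0 ∧ T.a (σ 2) (σ 8) = 0 ∧ T.a (σ 3) (σ 3) = -2 * w ∧ T.a (σ 3) (σ 4) = w ∧ T.a (σ 3) (σ 5) = 0 ∧ T.a (σ 3) (σ 6) = 0 ∧ T.a (σ 3) (σ 7) = 0 ∧ T.a (σ 3) (σ 8) = 0 ∧ T.a (σ 4) (σ 4) = -2 * w ∧ T.a (σ 4) (σ 5) = w ∧ T.a (σ 4) (σ 6) = 0 ∧ T.a (σ 4) (σ 7) = 0 ∧ T.a (σ 4) (σ 8) = 0 ∧ T.a (σ 5) (σ 5) = -2 * w ∧ T.a (σ 5) (σ 6) = w ∧ T.a (σ 5) (σ 7) = 0 ∧ T.a (σ 5) (σ 8) = 0 ∧ T.a (σ 6) (σ 6) = -2 * w ∧ T.a (σ 6) (σ 7) = w ∧ T.a (σ 6) (σ 8) = 0 ∧ T.a (σ 7) (σ 7) = -2 * w ∧ T.a (σ 7) (σ 8) = w ∧ T.a (σ 8) (σ 8) = -2 * w) ∨ (T.m (σ 0)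 = 2 * m ∧ T.m (σ 1) = 2 * m ∧ T.m (σ 2) = 2 * m ∧ T.m (σ 3) = 2 * m ∧ T.m (σ 4) = 2 * m ∧ T.m (σ 5) = 2 * m ∧ T.m (σ 6) = 2 * m ∧ T.m (σ 7) = 2 * m ∧ T.m (σ 8) = m ∧ T.w (σ 0) = w ∧ T.w (σ 1) = 2 * w ∧ T.w (σ 2) = 2 * w ∧ T.w (σ 3) = 2 * w ∧ T.w (σ 4) = 2 * w ∧ T.w (σ 5) = 2 * w ∧ T.w (σ 6) = 2 * w ∧ T.w (σ 7) = 2 * w ∧ T.w (σ 8) = 4 * w ∧ T.a (σ 0) (σ 0) = -2 * w ∧ T.a (σ 0) (σ 1) = 2 * w ∧ T.a (σ 0) (σ 2) = 0 ∧ T.a (σ 0) (σ 3) = 0 ∧ T.a (σ 0) (σ 4) = 0 ∧ T.a (σ 0) (σ 5) = 0 ∧ T.a (σ 0) (σ 6) = 0 ∧ T.a (σ 0) (σ 7) = 0 ∧ T.a (σ 0) (σ 8) = 0 ∧ T.a (σ 1) (σ 1) = -4 * w ∧ T.a (σ 1) (σ 2) = 2 * w ∧ T.a (σ 1) (σ 3) = 0 ∧ T.a (σ 1) (σ 4) = 0 ∧ T.a (σ 1) (σ 5) = 0 ∧ T.a (σ 1) (σ 6) = 0 ∧ T.a (σ 1) (σ 7) = 0 ∧ T.a (σ 1) (σ 8) = 0 ∧ T.a (σ 2) (σ 2) = -4 * w ∧ T.a (σ 2) (σ 3) = 2 * w ∧ T.a (σ 2)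 (σ 4) = 0 ∧ T.a (σ 2) (σ 5) = 0 ∧ T.a (σ 2) (σ 6) = 0 ∧ T.a (σ 2) (σ 7) = 0 ∧ T.a (σ 2) (σ 8) = 0 ∧ T.a (σ 3) (σ 3) = -4 * w ∧ T.a (σ 3) (σ 4) = 2 * w ∧ T.a (σ 3) (σ 5) = 0 ∧ T.a (σ 3) (σ 6) = 0 ∧ T.a (σ 3) (σ 7) = 0 ∧ T.a (σ 3) (σ 8) = 0 ∧ T.a (σ 4) (σ 4) = -4 * w ∧ T.a (σ 4) (σ 5) = 2 * w ∧ T.a (σ 4) (σ 6) = 0 ∧ T.a (σ 4) (σ 7) = 0 ∧ T.a (σ 4) (σ 8) = 0 ∧ T.a (σ 5) (σ 5) = -4 * w ∧ T.a (σ 5) (σ 6) = 2 * w ∧ T.a (σ 5) (σ 7) = 0 ∧ T.a (σ 5) (σ 8) = 0 ∧ T.a (σ 6) (σ 6) = -4 * w ∧ T.a (σ 6) (σ 7) = 2 * w ∧ T.a (σ 6) (σ 8) = 0 ∧ T.a (σ 7) (σ 7) = -4 * w ∧ T.a (σ 7) (σ 8) = 4 * w ∧ T.a (σ 8) (σ 8) = -8 * w) ∨ (T.m (σ 0) = m ∧ T.m (σ 1) = m ∧ T.m (σ 2) = m ∧ T.m (σ 3) = m ∧ T.m (σ 4) = m ∧ T.m (σ 5) = m ∧ T.m (σ 6) = m ∧ T.m (σ 7) = m ∧ T.m (σ 8) = m ∧ T.w (σ 0) = w ∧ T.w (σ 1) = 2 * w ∧ T.w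 (σ 2) = 2 * w ∧ T.w (σ 3) = 2 * w ∧ T.w (σ 4) = 2 * w ∧ T.w (σ 5) = 2 * w ∧ T.w (σ 6) = 2 * w ∧ T.w (σ 7) = 2 * w ∧ T.w (σ 8) = w ∧ T.a (σ 0) (σ 0) = -2 * w ∧ T.a (σ 0) (σ 1) = 2 * w ∧ T.a (σ 0) (σ 2) = 0 ∧ T.a (σ 0) (σ 3) = 0 ∧ T.a (σ 0) (σ 4) = 0 ∧ T.a (σ 0) (σ 5) = 0 ∧ T.a (σ 0) (σ 6) = 0 ∧ T.a (σ 0) (σ 7) = 0 ∧ T.a (σ 0) (σ 8) = 0 ∧ T.a (σ 1) (σ 1) = -4 * w ∧ T.a (σ 1) (σ 2) = 2 * w ∧ T.a (σ 1) (σ 3) = 0 ∧ T.a (σ 1) (σ 4) = 0 ∧ T.a (σ 1) (σ 5) = 0 ∧ T.a (σ 1) (σ 6) = 0 ∧ T.a (σ 1) (σ 7) = 0 ∧ T.a (σ 1) (σ 8) = 0 ∧ T.a (σ 2) (σ 2) = -4 * w ∧ T.a (σ 2) (σ 3) = 2 * w ∧ T.a (σ 2) (σ 4) = 0 ∧ T.a (σ 2) (σ 5) = 0 ∧ T.a (σ 2) (σ 6) = 0 ∧ T.a (σ 2) (σ 7) = 0 ∧ T.a (σ 2) (σ 8) = 0 ∧ T.a (σ 3) (σ 3) = -4 * w ∧ T.a (σ 3) (σ 4) = 2 * w ∧ T.a (σ 3) (σ 5) = 0 ∧ T.a (σ 3) (σ 6) = 0 ∧ T.a (σ 3) (σ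 7) = 0 ∧ T.a (σ 3) (σ 8) = 0 ∧ T.a (σ 4) (σ 4) = -4 * w ∧ T.a (σ 4) (σ 5) = 2 * w ∧ T.a (σ 4) (σ 6) = 0 ∧ T.a (σ 4) (σ 7) = 0 ∧ T.a (σ 4) (σ 8) = 0 ∧ T.a (σ 5) (σ 5) = -4 * w ∧ T.a (σ 5) (σ 6) = 2 * w ∧ T.a (σ 5) (σ 7) = 0 ∧ T.a (σ 5) (σ 8) = 0 ∧ T.a (σ 6) (σ 6) = -4 * w ∧ T.a (σ 6) (σ 7) = 2 * w ∧ T.a (σ 6) (σ 8) = 0 ∧ T.a (σ 7) (σ 7) = -4 * w ∧ T.a (σ 7) (σ 8) = 2 * w ∧ T.a (σ 8) (σ 8) = -2 * w) ∨ (T.m (σ 0) = m ∧ T.m (σ 1) = 2 * m ∧ T.m (σ 2) = 2 * m ∧ T.m (σ 3) = 2 * m ∧ T.m (σ 4) = 2 * m ∧ T.m (σ 5) = 2 * m ∧ T.m (σ 6) = 2 * m ∧ T.m (σ 7) = 2 * m ∧ T.m (σ 8) = m ∧ T.w (σ 0) = 2 * w ∧ T.w (σ 1) = w ∧ T.w (σ 2) = w ∧ T.w (σ 3) = w ∧ T.w (σ 4) = w ∧ T.w (σ 5) = w ∧ T.w (σ 6) = w ∧ T.w (σ 7) = w ∧ T.w (σ 8) = 2 * w ∧ T.a (σ 0) (σ 0) = -4 * w ∧ T.a (σ 0) (σ 1) = 2 * w ∧ T.a (σ 0) (σ 2)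 = 0 ∧ T.a (σ 0) (σ 3) = 0 ∧ T.a (σ 0) (σ 4) = 0 ∧ T.a (σ 0) (σ 5) = 0 ∧ T.a (σ 0) (σ 6) = 0 ∧ T.a (σ 0) (σ 7) = 0 ∧ T.a (σ 0) (σ 8) = 0 ∧ T.a (σ 1) (σ 1) = -2 * w ∧ T.a (σ 1) (σ 2) = w ∧ T.a (σ 1) (σ 3) = 0 ∧ T.a (σ 1) (σ 4) = 0 ∧ T.a (σ 1) (σ 5) = 0 ∧ T.a (σ 1) (σ 6) = 0 ∧ T.a (σ 1) (σ 7) = 0 ∧ T.a (σ 1) (σ 8) = 0 ∧ T.a (σ 2) (σ 2) = -2 * w ∧ T.a (σ 2) (σ 3) = w ∧ T.a (σ 2) (σ 4) = 0 ∧ T.a (σ 2) (σ 5) = 0 ∧ T.a (σ 2) (σ 6) = 0 ∧ T.a (σ 2) (σ 7) = 0 ∧ T.a (σ 2) (σ 8) = 0 ∧ T.a (σ 3) (σ 3) = -2 * w ∧ T.a (σ 3) (σ 4) = w ∧ T.a (σ 3) (σ 5) = 0 ∧ T.a (σ 3) (σ 6) = 0 ∧ T.a (σ 3) (σ 7) = 0 ∧ T.a (σ 3) (σ 8) = 0 ∧ T.a (σ 4) (σ 4) = -2 * w ∧ T.a (σ 4) (σ 5) = w ∧ T.a (σ 4) (σ 6) = 0 ∧ T.a (σ 4) (σ 7) = 0 ∧ T.a (σ 4) (σ 8) = 0 ∧ T.a (σ 5) (σ 5) = -2 * w ∧ T.a (σ 5) (σ 6) = w ∧ T.a (σ 5) (σ 7) =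 0 ∧ T.a (σ 5) (σ 8) = 0 ∧ T.a (σ 6) (σ 6) = -2 * w ∧ T.a (σ 6) (σ 7) = w ∧ T.a (σ 6) (σ 8) = 0 ∧ T.a (σ 7) (σ 7) = -2 * w ∧ T.a (σ 7) (σ 8) = 2 * w ∧ T.a (σ 8) (σ 8) = -4 * w) ∨ (T.m (σ 0) = m ∧ T.m (σ 1) = 2 * m ∧ T.m (σ 2) = 2 * m ∧ T.m (σ 3) = 2 * m ∧ T.m (σ 4) = 2 * m ∧ T.m (σ 5) = 2 * m ∧ T.m (σ 6) = 2 * m ∧ T.m (σ 7) = m ∧ T.m (σ 8) = m ∧ T.w (σ 0) = 2 * w ∧ T.w (σ 1) = w ∧ T.w (σ 2) = w ∧ T.w (σ 3) = w ∧ T.w (σ 4) = w ∧ T.w (σ 5) = w ∧ T.w (σ 6) = w ∧ T.w (σ 7) = w ∧ T.w (σ 8) = w ∧ T.a (σ 0) (σ 0) = -4 * w ∧ T.a (σ 0) (σ 1) = 2 * w ∧ T.a (σ 0) (σ 2) = 0 ∧ T.a (σ 0) (σ 3) = 0 ∧ T.a (σ 0) (σ 4) = 0 ∧ T.a (σ 0) (σ 5) = 0 ∧ T.a (σ 0) (σ 6) = 0 ∧ T.a (σ 0) (σ 7) = 0 ∧ T.a (σ 0) (σ 8) = 0 ∧ T.a (σ 1) (σ 1) = -2 * w ∧ T.a (σ 1) (σ 2) = w ∧ T.a (σ 1) (σ 3) = 0 ∧ T.a (σ 1) (σ 4) = 0 ∧ T.a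 (σ 1) (σ 5) = 0 ∧ T.a (σ 1) (σ 6) = 0 ∧ T.a (σ 1) (σ 7) = 0 ∧ T.a (σ 1) (σ 8) = 0 ∧ T.a (σ 2) (σ 2) = -2 * w ∧ T.a (σ 2) (σ 3) = w ∧ T.a (σ 2) (σ 4) = 0 ∧ T.a (σ 2) (σ 5) = 0 ∧ T.a (σ 2) (σ 6) = 0 ∧ T.a (σ 2) (σ 7) = 0 ∧ T.a (σ 2) (σ 8) = 0 ∧ T.a (σ 3) (σ 3) = -2 * w ∧ T.a (σ 3) (σ 4) = w ∧ T.a (σ 3) (σ 5) = 0 ∧ T.a (σ 3) (σ 6) = 0 ∧ T.a (σ 3) (σ 7) = 0 ∧ T.a (σ 3) (σ 8) = 0 ∧ T.a (σ 4) (σ 4) = -2 * w ∧ T.a (σ 4) (σ 5) = w ∧ T.a (σ 4) (σ 6) = 0 ∧ T.a (σ 4) (σ 7) = 0 ∧ T.a (σ 4) (σ 8) = 0 ∧ T.a (σ 5) (σ 5) = -2 * w ∧ T.a (σ 5) (σ 6) = w ∧ T.a (σ 5) (σ 7) = 0 ∧ T.a (σ 5) (σ 8) = 0 ∧ T.a (σ 6) (σ 6) = -2 * w ∧ T.a (σ 6) (σ 7) = w ∧ T.a (σ 6) (σ 8) = w ∧ T.a (σ 7) (σ 7) = -2 * w ∧ T.a (σ 7) (σ 8) = 0 ∧ T.a (σ 8) (σ 8) = -2 * w) ∨ (T.m (σ 0) = 2 * m ∧ T.m (σ 1) = 2 * m ∧ T.m (σ 2) = 2 * m ∧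 T.m (σ 3) = 2 * m ∧ T.m (σ 4) = 2 * m ∧ T.m (σ 5) = 2 * m ∧ T.m (σ 6) = 2 * m ∧ T.m (σ 7) = m ∧ T.m (σ 8) = m ∧ T.w (σ 0) = w ∧ T.w (σ 1) = 2 * w ∧ T.w (σ 2) = 2 * w ∧ T.w (σ 3) = 2 * w ∧ T.w (σ 4) = 2 * w ∧ T.w (σ 5) = 2 * w ∧ T.w (σ 6) = 2 * w ∧ T.w (σ 7) = 2 * w ∧ T.w (σ 8) = 2 * w ∧ T.a (σ 0) (σ 0) = -2 * w ∧ T.a (σ 0) (σ 1) = 2 * w ∧ T.a (σ 0) (σ 2) = 0 ∧ T.a (σ 0) (σ 3) = 0 ∧ T.a (σ 0) (σ 4) = 0 ∧ T.a (σ 0) (σ 5) = 0 ∧ T.a (σ 0) (σ 6) = 0 ∧ T.a (σ 0) (σ 7) = 0 ∧ T.a (σ 0) (σ 8) = 0 ∧ T.a (σ 1) (σ 1) = -4 * w ∧ T.a (σ 1) (σ 2) = 2 * w ∧ T.a (σ 1) (σ 3) = 0 ∧ T.a (σ 1) (σ 4) = 0 ∧ T.a (σ 1) (σ 5) = 0 ∧ T.a (σ 1) (σ 6) = 0 ∧ T.a (σ 1) (σ 7) = 0 ∧ T.a (σ 1) (σ 8) = 0 ∧ T.a (σ 2) (σ 2) = -4 * w ∧ T.a (σ 2) (σ 3) = 2 * w ∧ T.a (σ 2) (σ 4) = 0 ∧ T.a (σ 2) (σ 5) = 0 ∧ T.a (σ 2) (σ 6) = 0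 ∧ T.a (σ 2) (σ 7) = 0 ∧ T.a (σ 2) (σ 8) = 0 ∧ T.a (σ 3) (σ 3) = -4 * w ∧ T.a (σ 3) (σ 4) = 2 * w ∧ T.a (σ 3) (σ 5) = 0 ∧ T.a (σ 3) (σ 6) = 0 ∧ T.a (σ 3) (σ 7) = 0 ∧ T.a (σ 3) (σ 8) = 0 ∧ T.a (σ 4) (σ 4) = -4 * w ∧ T.a (σ 4) (σ 5) = 2 * w ∧ T.a (σ 4) (σ 6) = 0 ∧ T.a (σ 4) (σ 7) = 0 ∧ T.a (σ 4) (σ 8) = 0 ∧ T.a (σ 5) (σ 5) = -4 * w ∧ T.a (σ 5) (σ 6) = 2 * w ∧ T.a (σ 5) (σ 7) = 0 ∧ T.a (σ 5) (σ 8) = 0 ∧ T.a (σ 6) (σ 6) = -4 * w ∧ T.a (σ 6) (σ 7) = 2 * w ∧ T.a (σ 6) (σ 8) = 2 * w ∧ T.a (σ 7) (σ 7) = -4 * w ∧ T.a (σ 7) (σ 8) = 0 ∧ T.a (σ 8) (σ 8) = -4 * w) ∨ (T.m (σ 0) = m ∧ T.m (σ 1) = m ∧ T.m (σ 2) = 2 * m ∧ T.m (σ 3) = 2 * m ∧ T.m (σ 4) = 2 * m ∧ T.m (σ 5) = 2 * m ∧ T.m (σ 6) = 2 * m ∧ T.m (σ 7) = m ∧ T.m (σ 8) = m ∧ T.w (σ 0) = w ∧ T.w (σ 1) = w ∧ T.w (σ 2) = w ∧ T.w (σ 3) = w ∧ T.w (σ 4)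 = w ∧ T.w (σ 5) = w ∧ T.w (σ 6) = w ∧ T.w (σ 7) = w ∧ T.w (σ 8) = w ∧ T.a (σ 0) (σ 0) = -2 * w ∧ T.a (σ 0) (σ 1) = 0 ∧ T.a (σ 0) (σ 2) = w ∧ T.a (σ 0) (σ 3) = 0 ∧ T.a (σ 0) (σ 4) = 0 ∧ T.a (σ 0) (σ 5) = 0 ∧ T.a (σ 0) (σ 6) = 0 ∧ T.a (σ 0) (σ 7) = 0 ∧ T.a (σ 0) (σ 8) = 0 ∧ T.a (σ 1) (σ 1) = -2 * w ∧ T.a (σ 1) (σ 2) = w ∧ T.a (σ 1) (σ 3) = 0 ∧ T.a (σ 1) (σ 4) = 0 ∧ T.a (σ 1) (σ 5) = 0 ∧ T.a (σ 1) (σ 6) = 0 ∧ T.a (σ 1) (σ 7) = 0 ∧ T.a (σ 1) (σ 8) = 0 ∧ T.a (σ 2) (σ 2) = -2 * w ∧ T.a (σ 2) (σ 3) = w ∧ T.a (σ 2) (σ 4) = 0 ∧ T.a (σ 2) (σ 5) = 0 ∧ T.a (σ 2) (σ 6) = 0 ∧ T.a (σ 2) (σ 7) = 0 ∧ T.a (σ 2) (σ 8) = 0 ∧ T.a (σ 3) (σ 3) = -2 * w ∧ T.a (σ 3) (σ 4) = w ∧ T.a (σ 3) (σ 5) = 0 ∧ T.a (σ 3) (σ 6) = 0 ∧ T.a (σ 3) (σ 7) = 0 ∧ T.a (σ 3) (σ 8) = 0 ∧ T.a (σ 4) (σ 4) = -2 * w ∧ T.a (σ 4) (σ 5) = w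 ∧ T.a (σ 4) (σ 6) = 0 ∧ T.a (σ 4) (σ 7) = 0 ∧ T.a (σ 4) (σ 8) = 0 ∧ T.a (σ 5) (σ 5) = -2 * w ∧ T.a (σ 5) (σ 6) = w ∧ T.a (σ 5) (σ 7) = 0 ∧ T.a (σ 5) (σ 8) = 0 ∧ T.a (σ 6) (σ 6) = -2 * w ∧ T.a (σ 6) (σ 7) = w ∧ T.a (σ 6) (σ 8) = w ∧ T.a (σ 7) (σ 7) = -2 * w ∧ T.a (σ 7) (σ 8) = 0 ∧ T.a (σ 8) (σ 8) = -2 * w) ∨ (T.m (σ 0) = m ∧ T.m (σ 1) = 2 * m ∧ T.m (σ 2) = 3 * m ∧ T.m (σ 3) = 4 * m ∧ T.m (σ 4) = 5 * m ∧ T.m (σ 5) = 6 * m ∧ T.m (σ 6) = 4 * m ∧ T.m (σ 7) = 2 * m ∧ T.m (σ 8) = 3 * m ∧ T.w (σ 0) = w ∧ T.w (σ 1) = w ∧ T.w (σ 2) = w ∧ T.w (σ 3) = w ∧ T.w (σ 4) = w ∧ T.w (σ 5) = w ∧ T.w (σ 6) = w ∧ T.w (σ 7) = w ∧ T.w (σ 8) = w ∧ T.a (σ 0) (σ 0) = -2 * w ∧ T.a (σ 0) (σ 1) = w ∧ T.a (σ 0) (σ 2) = 0 ∧ T.a (σ 0) (σ 3) = 0 ∧ T.a (σ 0) (σ 4) = 0 ∧ T.a (σ 0) (σ 5) = 0 ∧ T.a (σ 0) (σ 6) = 0 ∧ T.a (σ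 0) (σ 7) = 0 ∧ T.a (σ 0) (σ 8) = 0 ∧ T.a (σ 1) (σ 1) = -2 * w ∧ T.a (σ 1) (σ 2) = w ∧ T.a (σ 1) (σ 3) = 0 ∧ T.a (σ 1) (σ 4) = 0 ∧ T.a (σ 1) (σ 5) = 0 ∧ T.a (σ 1) (σ 6) = 0 ∧ T.a (σ 1) (σ 7) = 0 ∧ T.a (σ 1) (σ 8) = 0 ∧ T.a (σ 2) (σ 2) = -2 * w ∧ T.a (σ 2) (σ 3) = w ∧ T.a (σ 2) (σ 4) = 0 ∧ T.a (σ 2) (σ 5) = 0 ∧ T.a (σ 2) (σ 6) = 0 ∧ T.a (σ 2) (σ 7) = 0 ∧ T.a (σ 2) (σ 8) = 0 ∧ T.a (σ 3) (σ 3) = -2 * w ∧ T.a (σ 3) (σ 4) = w ∧ T.a (σ 3) (σ 5) = 0 ∧ T.a (σ 3) (σ 6) = 0 ∧ T.a (σ 3) (σ 7) = 0 ∧ T.a (σ 3) (σ 8) = 0 ∧ T.a (σ 4) (σ 4) = -2 * w ∧ T.a (σ 4) (σ 5) = w ∧ T.a (σ 4) (σ 6) = 0 ∧ T.a (σ 4) (σ 7) = 0 ∧ T.a (σ 4) (σ 8) = 0 ∧ T.a (σ 5) (σ 5) = -2 * w ∧ T.a (σ 5) (σ 6) = w ∧ T.a (σ 5) (σ 7) = 0 ∧ T.a (σ 5) (σ 8) = w ∧ T.a (σ 6) (σ 6) = -2 * w ∧ T.a (σ 6) (σ 7) = w ∧ T.a (σ 6) (σ 8) = 0 ∧ T.a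 (σ 7) (σ 7) = -2 * w ∧ T.a (σ 7) (σ 8) = 0 ∧ T.a (σ 8) (σ 8) = -2 * w)) := by
  by_cases hx : ∃ j, (j ≠ u0 ∧ j ≠ u1 ∧ j ≠ u2 ∧ j ≠ u3 ∧ j ≠ u4 ∧ j ≠ u5 ∧ j ≠ u6) ∧ T.a u5 j ≠ 0
  · obtain ⟨u7, ⟨hn_7_0, hn_7_1, hn_7_2, hn_7_3, hn_7_4, hn_7_5, hn_7_6⟩, e_5_7⟩ := hx
    have z_0_7 : T.a u0 u7 = 0 := cl_0 u7 ⟨hn_7_0, hn_7_1, hn_7_2⟩
    have z_1_7 : T.a u1 u7 = 0 := cl_1 u7 ⟨hn_7_0, hn_7_1, hn_7_2, hn_7_3, hn_7_4⟩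
    have z_2_7 : T.a u2 u7 = 0 := cl_2 u7 ⟨hn_7_0, hn_7_1, hn_7_2, hn_7_3, hn_7_4⟩
    have z_3_7 : T.a u3 u7 = 0 := cl_3 u7 ⟨hn_7_0, hn_7_1, hn_7_2, hn_7_3, hn_7_4⟩
    have z_4_7 : T.a u4 u7 = 0 := cl_4 u7 ⟨hn_7_0, hn_7_1, hn_7_2, hn_7_3, hn_7_4, hn_7_5⟩
    rcases Groth.Agent.Helper6.NT.edge5 T h2 (by norm_num) u5 u7 hn_7_5.symm e_5_7 with ⟨tw_5_7, tap_5_7, taq_5_7⟩ | ⟨tw_5_7, tap_5_7, taq_5_7⟩ | ⟨tw_5_7, tap_5_7, taq_5_7⟩ | ⟨tw_5_7, tap_5_7, taq_5_7⟩ | ⟨tw_5_7, tap_5_7, taq_5_7⟩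
    · -- (5,7) S
      exfalso
      have key := Groth.Agent.Helper6.NT.negfun7 T h2 u0 u1 u3 u4 u5 u6 u7 (by norm_num) 1 2 1 2 2 1 1 (by norm_num) (by norm_num)
      linarith only [key, tap_0_1, taq_0_1, z_0_3, z_0_4, z_0_5, z_0_6, z_0_7, tap_1_3, taq_1_3, tap_1_4, taq_1_4, z_1_5, z_1_6, z_1_7, z_3_4, z_3_5, z_3_6, z_3_7, tap_4_5, taq_4_5, z_4_6, z_4_7, tap_5_6, taq_5_6, tap_5_7, taq_5_7, T.offDiag_nonneg u6 u7 hn_7_6.symm, T.w_pos u0, T.w_pos u1, T.w_pos u3, T.w_pos u4, T.w_pos u5, T.w_pos u6, T.w_pos u7]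
    · -- (5,7) Dp
      exfalso
      have key := Groth.Agent.Helper6.NT.negfun4 T h2 u4 u5 u6 u7 (by norm_num) 1 2 1 1 (by norm_num) (by norm_num)
      linarith only [key, tap_4_5, taq_4_5, z_4_6, z_4_7, tap_5_6, taq_5_6, tap_5_7, taq_5_7, T.offDiag_nonneg u6 u7 hn_7_6.symm, T.w_pos u4, T.w_pos u5, T.w_pos u6, T.w_pos u7]
    · -- (5,7) Dm
      exfalso
      have key := Groth.Agent.Helper6.NT.negfun4 T h2 u4 u5 u6 u7 (by norm_num) 1 2 1 2 (by norm_num) (by norm_num)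
      linarith only [key, tap_4_5, taq_4_5, z_4_6, z_4_7, tap_5_6, taq_5_6, tap_5_7, taq_5_7, T.offDiag_nonneg u6 u7 hn_7_6.symm, T.w_pos u4, T.w_pos u5, T.w_pos u6, T.w_pos u7]
    · -- (5,7) Tp
      exfalso
      have key := Groth.Agent.Helper6.NT.negfun3 T h2 u5 u6 u7 (by norm_num) 2 1 1 (by norm_num) (by norm_num)
      linarith only [key, tap_5_6, taq_5_6, tap_5_7, taq_5_7, T.offDiag_nonneg u6 u7 hn_7_6.symm, T.w_pos u5, T.w_pos u6, T.w_pos u7]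
    · -- (5,7) Tm
      exfalso
      have key := Groth.Agent.Helper6.NT.negfun3 T h2 u5 u6 u7 (by norm_num) 2 1 3 (by norm_num) (by norm_num)
      linarith only [key, tap_5_6, taq_5_6, tap_5_7, taq_5_7, T.offDiag_nonneg u6 u7 hn_7_6.symm, T.w_pos u5, T.w_pos u6, T.w_pos u7]
  · push Not at hx
    have cl_5 := hx
    clear hx
    by_cases hx : ∃ j, (j ≠ u0 ∧ j ≠ u1 ∧ j ≠ u2 ∧ j ≠ u3 ∧ j ≠ u4 ∧ j ≠ u5 ∧ j ≠ u6) ∧ T.a u6 j ≠ 0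
    · obtain ⟨u7, ⟨hn_7_0, hn_7_1, hn_7_2, hn_7_3, hn_7_4, hn_7_5, hn_7_6⟩, e_6_7⟩ := hx
      have z_0_7 : T.a u0 u7 = 0 := cl_0 u7 ⟨hn_7_0, hn_7_1, hn_7_2⟩
      have z_1_7 : T.a u1 u7 = 0 := cl_1 u7 ⟨hn_7_0, hn_7_1, hn_7_2, hn_7_3, hn_7_4⟩
      have z_2_7 : T.a u2 u7 = 0 := cl_2 u7 ⟨hn_7_0, hn_7_1, hn_7_2, hn_7_3, hn_7_4⟩
      have z_3_7 : T.a u3 u7 = 0 := cl_3 u7 ⟨hn_7_0, hn_7_1, hn_7_2, hn_7_3, hn_7_4⟩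
      have z_4_7 : T.a u4 u7 = 0 := cl_4 u7 ⟨hn_7_0, hn_7_1, hn_7_2, hn_7_3, hn_7_4, hn_7_5⟩
      have z_5_7 : T.a u5 u7 = 0 := cl_5 u7 ⟨hn_7_0, hn_7_1, hn_7_2, hn_7_3, hn_7_4, hn_7_5, hn_7_6⟩
      rcases Groth.Agent.Helper6.NT.edge5 T h2 (by norm_num) u6 u7 hn_7_6.symm e_6_7 with ⟨tw_6_7, tap_6_7, taq_6_7⟩ | ⟨tw_6_7, tap_6_7, taq_6_7⟩ | ⟨tw_6_7, tap_6_7, taq_6_7⟩ | ⟨tw_6_7, tap_6_7, taq_6_7⟩ | ⟨tw_6_7, tap_6_7, taq_6_7⟩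
      · -- (6,7) S
        by_cases hx : ∃ j, (j ≠ u0 ∧ j ≠ u1 ∧ j ≠ u2 ∧ j ≠ u3 ∧ j ≠ u4 ∧ j ≠ u5 ∧ j ≠ u6 ∧ j ≠ u7) ∧ T.a u6 j ≠ 0
        · obtain ⟨u8, ⟨hn_8_0, hn_8_1, hn_8_2, hn_8_3, hn_8_4, hn_8_5, hn_8_6, hn_8_7⟩, e_6_8⟩ := hx
          have z_0_8 : T.a u0 u8 = 0 := cl_0 u8 ⟨hn_8_0, hn_8_1, hn_8_2⟩
          have z_1_8 : T.a u1 u8 = 0 := cl_1 u8 ⟨hn_8_0, hn_8_1, hn_8_2, hn_8_3, hn_8_4⟩
          have z_2_8 : T.a u2 u8 = 0 := cl_2 u8 ⟨hn_8_0, hn_8_1, hn_8_2, hn_8_3, hn_8_4⟩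
          have z_3_8 : T.a u3 u8 = 0 := cl_3 u8 ⟨hn_8_0, hn_8_1, hn_8_2, hn_8_3, hn_8_4⟩
          have z_4_8 : T.a u4 u8 = 0 := cl_4 u8 ⟨hn_8_0, hn_8_1, hn_8_2, hn_8_3, hn_8_4, hn_8_5⟩
          have z_5_8 : T.a u5 u8 = 0 := cl_5 u8 ⟨hn_8_0, hn_8_1, hn_8_2, hn_8_3, hn_8_4, hn_8_5, hn_8_6⟩
          rcases Groth.Agent.Helper6.NT.edge5 T h2 (by norm_num) u6 u8 hn_8_6.symm e_6_8 with ⟨tw_6_8, tap_6_8, taq_6_8⟩ | ⟨tw_6_8, tap_6_8, taq_6_8⟩ | ⟨tw_6_8, tap_6_8, taq_6_8⟩ | ⟨tw_6_8, tap_6_8, taq_6_8⟩ | ⟨tw_6_8, tap_6_8, taq_6_8⟩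
          · -- (6,8) S
            exfalso
            have key := Groth.Agent.Helper6.NT.negfun8 T h2 u0 u1 u3 u4 u5 u6 u7 u8 (by norm_num) 1 2 1 2 2 2 1 1 (by norm_num) (by norm_num)
            linarith only [key, tap_0_1, taq_0_1, z_0_3, z_0_4, z_0_5, z_0_6, z_0_7, z_0_8, tap_1_3, taq_1_3, tap_1_4, taq_1_4, z_1_5, z_1_6, z_1_7, z_1_8, z_3_4, z_3_5, z_3_6, z_3_7, z_3_8, tap_4_5, taq_4_5, z_4_6, z_4_7, z_4_8, tap_5_6, taq_5_6, z_5_7, z_5_8, tap_6_7, taq_6_7, tap_6_8, taq_6_8, T.offDiag_nonneg u7 u8 hn_8_7.symm, T.w_pos u0, T.w_pos u1, T.w_pos u3, T.w_pos u4, T.w_pos u5, T.w_pos u6, T.w_pos u7, T.w_pos u8]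
          · -- (6,8) Dp
            exfalso
            have key := Groth.Agent.Helper6.NT.negfun4 T h2 u5 u6 u7 u8 (by norm_num) 1 2 1 1 (by norm_num) (by norm_num)
            linarith only [key, tap_5_6, taq_5_6, z_5_7, z_5_8, tap_6_7, taq_6_7, tap_6_8, taq_6_8, T.offDiag_nonneg u7 u8 hn_8_7.symm, T.w_pos u5, T.w_pos u6, T.w_pos u7, T.w_pos u8]
          · -- (6,8) Dm
            exfalso
            have key := Groth.Agent.Helper6.NT.negfun4 T h2 u5 u6 u7 u8 (by norm_num) 1 2 1 2 (by norm_num) (by norm_num)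
            linarith only [key, tap_5_6, taq_5_6, z_5_7, z_5_8, tap_6_7, taq_6_7, tap_6_8, taq_6_8, T.offDiag_nonneg u7 u8 hn_8_7.symm, T.w_pos u5, T.w_pos u6, T.w_pos u7, T.w_pos u8]
          · -- (6,8) Tp
            exfalso
            have key := Groth.Agent.Helper6.NT.negfun3 T h2 u6 u7 u8 (by norm_num) 2 1 1 (by norm_num) (by norm_num)
            linarith only [key, tap_6_7, taq_6_7, tap_6_8, taq_6_8, T.offDiag_nonneg u7 u8 hn_8_7.symm, T.w_pos u6, T.w_pos u7, T.w_pos u8]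
          · -- (6,8) Tm
            exfalso
            have key := Groth.Agent.Helper6.NT.negfun3 T h2 u6 u7 u8 (by norm_num) 2 1 3 (by norm_num) (by norm_num)
            linarith only [key, tap_6_7, taq_6_7, tap_6_8, taq_6_8, T.offDiag_nonneg u7 u8 hn_8_7.symm, T.w_pos u6, T.w_pos u7, T.w_pos u8]
        · push Not at hx
          have cl_6 := hx
          clear hx
          by_cases hx : ∃ j, (j ≠ u0 ∧ j ≠ u1 ∧ j ≠ u2 ∧ j ≠ u3 ∧ j ≠ u4 ∧ j ≠ u5 ∧ j ≠ u6 ∧ j ≠ u7) ∧ T.a u7 j ≠ 0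
          · obtain ⟨u8, ⟨hn_8_0, hn_8_1, hn_8_2, hn_8_3, hn_8_4, hn_8_5, hn_8_6, hn_8_7⟩, e_7_8⟩ := hx
            have z_0_8 : T.a u0 u8 = 0 := cl_0 u8 ⟨hn_8_0, hn_8_1, hn_8_2⟩
            have z_1_8 : T.a u1 u8 = 0 := cl_1 u8 ⟨hn_8_0, hn_8_1, hn_8_2, hn_8_3, hn_8_4⟩
            have z_2_8 : T.a u2 u8 = 0 := cl_2 u8 ⟨hn_8_0, hn_8_1, hn_8_2, hn_8_3, hn_8_4⟩
            have z_3_8 : T.a u3 u8 = 0 := cl_3 u8 ⟨hn_8_0, hn_8_1, hn_8_2, hn_8_3, hn_8_4⟩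
            have z_4_8 : T.a u4 u8 = 0 := cl_4 u8 ⟨hn_8_0, hn_8_1, hn_8_2, hn_8_3, hn_8_4, hn_8_5⟩
            have z_5_8 : T.a u5 u8 = 0 := cl_5 u8 ⟨hn_8_0, hn_8_1, hn_8_2, hn_8_3, hn_8_4, hn_8_5, hn_8_6⟩
            have z_6_8 : T.a u6 u8 = 0 := cl_6 u8 ⟨hn_8_0, hn_8_1, hn_8_2, hn_8_3, hn_8_4, hn_8_5, hn_8_6, hn_8_7⟩
            rcases Groth.Agent.Helper6.NT.edge5 T h2 (by norm_num) u7 u8 hn_8_7.symm e_7_8 with ⟨tw_7_8, tap_7_8, taq_7_8⟩ | ⟨tw_7_8, tap_7_8, taq_7_8⟩ | ⟨tw_7_8, tap_7_8, taq_7_8⟩ | ⟨tw_7_8, tap_7_8, taq_7_8⟩ | ⟨tw_7_8, tap_7_8, taq_7_8⟩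
            · -- (7,8) S
              have hinj := Groth.Agent.Helper6.NT.inj9 u0 u1 u2 u3 u4 u5 u6 u7 u8 hn_1_0 hn_2_0 hn_2_1 hn_3_0 hn_3_1 hn_3_2 hn_4_0 hn_4_1 hn_4_2 hn_4_3 hn_5_0 hn_5_1 hn_5_2 hn_5_3 hn_5_4 hn_6_0 hn_6_1 hn_6_2 hn_6_3 hn_6_4 hn_6_5 hn_7_0 hn_7_1 hn_7_2 hn_7_3 hn_7_4 hn_7_5 hn_7_6 hn_8_0 hn_8_1 hn_8_2 hn_8_3 hn_8_4 hn_8_5 hn_8_6 hn_8_7
              have r_0 : -2 * T.m u0 + 1 * T.m u1 + 1 * T.m u2 = 0 := by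
                have key := Groth.Agent.Helper6.NT.rowfun9 T u0 u1 u2 u3 u4 u5 u6 u7 u8 hinj u0
                rw [(h2 u0).2, tap_0_1, tap_0_2, z_0_3, z_0_4, z_0_5, z_0_6, z_0_7, z_0_8] at key
                exact mul_left_cancel₀ (T.w_pos u0).ne' (by linarith only [key])
              have r_1 : 1 * T.m u0 + -2 * T.m u1 + 1 * T.m u3 + 1 * T.m u4 = 0 := by
                have key := Groth.Agent.Helper6.NT.rowfun9 T u0 u1 u2 u3 u4 u5 u6 u7 u8 hinj u1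
                rw [Groth.Agent.Helper6.NT.symm' T u1 u0, taq_0_1, (h2 u1).2, z_1_2, tap_1_3, tap_1_4, z_1_5, z_1_6, z_1_7, z_1_8] at key
                exact mul_left_cancel₀ (T.w_pos u1).ne' (by linarith only [key])
              have r_2 : 1 * T.m u0 + -2 * T.m u2 = 0 := by
                have key := Groth.Agent.Helper6.NT.rowfun9 T u0 u1 u2 u3 u4 u5 u6 u7 u8 hinj u2
                rw [Groth.Agent.Helper6.NT.symm' T u2 u0, taq_0_2, Groth.Agent.Helper6.NT.symm' T u2 u1, z_1_2, (h2 u2).2, z_2_3, z_2_4, z_2_5, z_2_6, z_2_7, z_2_8] at key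
                exact mul_left_cancel₀ (T.w_pos u2).ne' (by linarith only [key])
              have r_3 : 1 * T.m u1 + -2 * T.m u3 = 0 := by
                have key := Groth.Agent.Helper6.NT.rowfun9 T u0 u1 u2 u3 u4 u5 u6 u7 u8 hinj u3
                rw [Groth.Agent.Helper6.NT.symm' T u3 u0, z_0_3, Groth.Agent.Helper6.NT.symm' T u3 u1, taq_1_3, Groth.Agent.Helper6.NT.symm' T u3 u2, z_2_3, (h2 u3).2, z_3_4, z_3_5, z_3_6, z_3_7, z_3_8] at key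
                exact mul_left_cancel₀ (T.w_pos u3).ne' (by linarith only [key])
              have r_4 : 1 * T.m u1 + -2 * T.m u4 + 1 * T.m u5 = 0 := by
                have key := Groth.Agent.Helper6.NT.rowfun9 T u0 u1 u2 u3 u4 u5 u6 u7 u8 hinj u4
                rw [Groth.Agent.Helper6.NT.symm' T u4 u0, z_0_4, Groth.Agent.Helper6.NT.symm' T u4 u1, taq_1_4, Groth.Agent.Helper6.NT.symm' T u4 u2, z_2_4, Groth.Agent.Helper6.NT.symm' T u4 u3, z_3_4, (h2 u4).2, tap_4_5, z_4_6, z_4_7, z_4_8] at key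
                exact mul_left_cancel₀ (T.w_pos u4).ne' (by linarith only [key])
              have r_5 : 1 * T.m u4 + -2 * T.m u5 + 1 * T.m u6 = 0 := by
                have key := Groth.Agent.Helper6.NT.rowfun9 T u0 u1 u2 u3 u4 u5 u6 u7 u8 hinj u5
                rw [Groth.Agent.Helper6.NT.symm' T u5 u0, z_0_5, Groth.Agent.Helper6.NT.symm' T u5 u1, z_1_5, Groth.Agent.Helper6.NT.symm' T u5 u2, z_2_5, Groth.Agent.Helper6.NT.symm' T u5 u3, z_3_5, Groth.Agent.Helper6.NT.symm' T u5 u4, taq_4_5, (h2 u5).2, tap_5_6, z_5_7, z_5_8] at key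
                exact mul_left_cancel₀ (T.w_pos u5).ne' (by linarith only [key])
              have r_6 : 1 * T.m u5 + -2 * T.m u6 + 1 * T.m u7 = 0 := by
                have key := Groth.Agent.Helper6.NT.rowfun9 T u0 u1 u2 u3 u4 u5 u6 u7 u8 hinj u6
                rw [Groth.Agent.Helper6.NT.symm' T u6 u0, z_0_6, Groth.Agent.Helper6.NT.symm' T u6 u1, z_1_6, Groth.Agent.Helper6.NT.symm' T u6 u2, z_2_6, Groth.Agent.Helper6.NT.symm' T u6 u3, z_3_6, Groth.Agent.Helper6.NT.symm' T u6 u4, z_4_6, Groth.Agent.Helper6.NT.symm' T u6 u5, taq_5_6, (h2 u6).2, tap_6_7, z_6_8] at key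
                exact mul_left_cancel₀ (T.w_pos u6).ne' (by linarith only [key])
              have r_7 : 1 * T.m u6 + -2 * T.m u7 + 1 * T.m u8 = 0 := by
                have key := Groth.Agent.Helper6.NT.rowfun9 T u0 u1 u2 u3 u4 u5 u6 u7 u8 hinj u7
                rw [Groth.Agent.Helper6.NT.symm' T u7 u0, z_0_7, Groth.Agent.Helper6.NT.symm' T u7 u1, z_1_7, Groth.Agent.Helper6.NT.symm' T u7 u2, z_2_7, Groth.Agent.Helper6.NT.symm' T u7 u3, z_3_7, Groth.Agent.Helper6.NT.symm' T u7 u4, z_4_7, Groth.Agent.Helper6.NT.symm' T u7 u5, z_5_7, Groth.Agent.Helper6.NT.symm' T u7 u6, taq_6_7, (h2 u7).2, tap_7_8] at key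
                exact mul_left_cancel₀ (T.w_pos u7).ne' (by linarith only [key])
              have r_8 : 1 * T.m u7 + -2 * T.m u8 = 0 := by
                have key := Groth.Agent.Helper6.NT.rowfun9 T u0 u1 u2 u3 u4 u5 u6 u7 u8 hinj u8
                rw [Groth.Agent.Helper6.NT.symm' T u8 u0, z_0_8, Groth.Agent.Helper6.NT.symm' T u8 u1, z_1_8, Groth.Agent.Helper6.NT.symm' T u8 u2, z_2_8, Groth.Agent.Helper6.NT.symm' T u8 u3, z_3_8, Groth.Agent.Helper6.NT.symm' T u8 u4, z_4_8, Groth.Agent.Helper6.NT.symm' T u8 u5, z_5_8, Groth.Agent.Helper6.NT.symm' T u8 u6, z_6_8, Groth.Agent.Helper6.NT.symm' T u8 u7, taq_7_8, (h2 u8).2] at key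
                exact mul_left_cancel₀ (T.w_pos u8).ne' (by linarith only [key])
              have f0 : T.m u8 = T.m u8 := rfl
              have f1 : T.m u7 = 2 * T.m u8 := by linarith only [r_0, r_1, r_2, r_3, r_4, r_5, r_6, r_7, r_8]
              have f2 : T.m u6 = 3 * T.m u8 := by linarith only [r_0, r_1, r_2, r_3, r_4, r_5, r_6, r_7, r_8]
              have f3 : T.m u5 = 4 * T.m u8 := by linarith only [r_0, r_1, r_2, r_3, r_4, r_5, r_6, r_7, r_8]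
              have f4 : T.m u4 = 5 * T.m u8 := by linarith only [r_0, r_1, r_2, r_3, r_4, r_5, r_6, r_7, r_8]
              have f5 : T.m u1 = 6 * T.m u8 := by linarith only [r_0, r_1, r_2, r_3, r_4, r_5, r_6, r_7, r_8]
              have f6 : T.m u0 = 4 * T.m u8 := by linarith only [r_0, r_1, r_2, r_3, r_4, r_5, r_6, r_7, r_8]
              have f7 : T.m u2 = 2 * T.m u8 := by linarith only [r_0, r_1, r_2, r_3, r_4, r_5, r_6, r_7, r_8]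
              have f8 : T.m u3 = 3 * T.m u8 := by linarith only [r_0, r_1, r_2, r_3, r_4, r_5, r_6, r_7, r_8]
              have f9 : T.w u8 = T.w u8 := rfl
              have f10 : T.w u7 = T.w u8 := by linarith only [tw_0_1, tw_0_2, tw_1_3, tw_1_4, tw_4_5, tw_5_6, tw_6_7, tw_7_8]
              have f11 : T.w u6 = T.w u8 := by linarith only [tw_0_1, tw_0_2, tw_1_3, tw_1_4, tw_4_5, tw_5_6, tw_6_7, tw_7_8]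
              have f12 : T.w u5 = T.w u8 := by linarith only [tw_0_1, tw_0_2, tw_1_3, tw_1_4, tw_4_5, tw_5_6, tw_6_7, tw_7_8]
              have f13 : T.w u4 = T.w u8 := by linarith only [tw_0_1, tw_0_2, tw_1_3, tw_1_4, tw_4_5, tw_5_6, tw_6_7, tw_7_8]
              have f14 : T.w u1 = T.w u8 := by linarith only [tw_0_1, tw_0_2, tw_1_3, tw_1_4, tw_4_5, tw_5_6, tw_6_7, tw_7_8]
              have f15 : T.w u0 = T.w u8 := by linarith only [tw_0_1, tw_0_2, tw_1_3, tw_1_4, tw_4_5, tw_5_6, tw_6_7, tw_7_8]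
              have f16 : T.w u2 = T.w u8 := by linarith only [tw_0_1, tw_0_2, tw_1_3, tw_1_4, tw_4_5, tw_5_6, tw_6_7, tw_7_8]
              have f17 : T.w u3 = T.w u8 := by linarith only [tw_0_1, tw_0_2, tw_1_3, tw_1_4, tw_4_5, tw_5_6, tw_6_7, tw_7_8]
              have f18 : T.a u8 u8 = -2 * T.w u8 := by have := (h2 u8).2; linarith only [this, tw_0_1, tw_0_2, tw_1_3, tw_1_4, tw_4_5, tw_5_6, tw_6_7, tw_7_8]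
              have f19 : T.a u8 u7 = T.w u8 := by rw [Groth.Agent.Helper6.NT.symm' T u8 u7]; linarith only [tap_7_8, tw_0_1, tw_0_2, tw_1_3, tw_1_4, tw_4_5, tw_5_6, tw_6_7, tw_7_8]
              have f20 : T.a u8 u6 = 0 := by rw [Groth.Agent.Helper6.NT.symm' T u8 u6]; exact z_6_8
              have f21 : T.a u8 u5 = 0 := by rw [Groth.Agent.Helper6.NT.symm' T u8 u5]; exact z_5_8
              have f22 : T.a u8 u4 = 0 := by rw [Groth.Agent.Helper6.NT.symm' T u8 u4]; exact z_4_8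
              have f23 : T.a u8 u1 = 0 := by rw [Groth.Agent.Helper6.NT.symm' T u8 u1]; exact z_1_8
              have f24 : T.a u8 u0 = 0 := by rw [Groth.Agent.Helper6.NT.symm' T u8 u0]; exact z_0_8
              have f25 : T.a u8 u2 = 0 := by rw [Groth.Agent.Helper6.NT.symm' T u8 u2]; exact z_2_8
              have f26 : T.a u8 u3 = 0 := by rw [Groth.Agent.Helper6.NT.symm' T u8 u3]; exact z_3_8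
              have f27 : T.a u7 u7 = -2 * T.w u8 := by have := (h2 u7).2; linarith only [this, tw_0_1, tw_0_2, tw_1_3, tw_1_4, tw_4_5, tw_5_6, tw_6_7, tw_7_8]
              have f28 : T.a u7 u6 = T.w u8 := by rw [Groth.Agent.Helper6.NT.symm' T u7 u6]; linarith only [tap_6_7, tw_0_1, tw_0_2, tw_1_3, tw_1_4, tw_4_5, tw_5_6, tw_6_7, tw_7_8]
              have f29 : T.a u7 u5 = 0 := by rw [Groth.Agent.Helper6.NT.symm' T u7 u5]; exact z_5_7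
              have f30 : T.a u7 u4 = 0 := by rw [Groth.Agent.Helper6.NT.symm' T u7 u4]; exact z_4_7
              have f31 : T.a u7 u1 = 0 := by rw [Groth.Agent.Helper6.NT.symm' T u7 u1]; exact z_1_7
              have f32 : T.a u7 u0 = 0 := by rw [Groth.Agent.Helper6.NT.symm' T u7 u0]; exact z_0_7
              have f33 : T.a u7 u2 = 0 := by rw [Groth.Agent.Helper6.NT.symm' T u7 u2]; exact z_2_7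
              have f34 : T.a u7 u3 = 0 := by rw [Groth.Agent.Helper6.NT.symm' T u7 u3]; exact z_3_7
              have f35 : T.a u6 u6 = -2 * T.w u8 := by have := (h2 u6).2; linarith only [this, tw_0_1, tw_0_2, tw_1_3, tw_1_4, tw_4_5, tw_5_6, tw_6_7, tw_7_8]
              have f36 : T.a u6 u5 = T.w u8 := by rw [Groth.Agent.Helper6.NT.symm' T u6 u5]; linarith only [tap_5_6, tw_0_1, tw_0_2, tw_1_3, tw_1_4, tw_4_5, tw_5_6, tw_6_7, tw_7_8]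
              have f37 : T.a u6 u4 = 0 := by rw [Groth.Agent.Helper6.NT.symm' T u6 u4]; exact z_4_6
              have f38 : T.a u6 u1 = 0 := by rw [Groth.Agent.Helper6.NT.symm' T u6 u1]; exact z_1_6
              have f39 : T.a u6 u0 = 0 := by rw [Groth.Agent.Helper6.NT.symm' T u6 u0]; exact z_0_6
              have f40 : T.a u6 u2 = 0 := by rw [Groth.Agent.Helper6.NT.symm' T u6 u2]; exact z_2_6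
              have f41 : T.a u6 u3 = 0 := by rw [Groth.Agent.Helper6.NT.symm' T u6 u3]; exact z_3_6
              have f42 : T.a u5 u5 = -2 * T.w u8 := by have := (h2 u5).2; linarith only [this, tw_0_1, tw_0_2, tw_1_3, tw_1_4, tw_4_5, tw_5_6, tw_6_7, tw_7_8]
              have f43 : T.a u5 u4 = T.w u8 := by rw [Groth.Agent.Helper6.NT.symm' T u5 u4]; linarith only [tap_4_5, tw_0_1, tw_0_2, tw_1_3, tw_1_4, tw_4_5, tw_5_6, tw_6_7, tw_7_8]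
              have f44 : T.a u5 u1 = 0 := by rw [Groth.Agent.Helper6.NT.symm' T u5 u1]; exact z_1_5
              have f45 : T.a u5 u0 = 0 := by rw [Groth.Agent.Helper6.NT.symm' T u5 u0]; exact z_0_5
              have f46 : T.a u5 u2 = 0 := by rw [Groth.Agent.Helper6.NT.symm' T u5 u2]; exact z_2_5
              have f47 : T.a u5 u3 = 0 := by rw [Groth.Agent.Helper6.NT.symm' T u5 u3]; exact z_3_5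
              have f48 : T.a u4 u4 = -2 * T.w u8 := by have := (h2 u4).2; linarith only [this, tw_0_1, tw_0_2, tw_1_3, tw_1_4, tw_4_5, tw_5_6, tw_6_7, tw_7_8]
              have f49 : T.a u4 u1 = T.w u8 := by rw [Groth.Agent.Helper6.NT.symm' T u4 u1]; linarith only [tap_1_4, tw_0_1, tw_0_2, tw_1_3, tw_1_4, tw_4_5, tw_5_6, tw_6_7, tw_7_8]
              have f50 : T.a u4 u0 = 0 := by rw [Groth.Agent.Helper6.NT.symm' T u4 u0]; exact z_0_4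
              have f51 : T.a u4 u2 = 0 := by rw [Groth.Agent.Helper6.NT.symm' T u4 u2]; exact z_2_4
              have f52 : T.a u4 u3 = 0 := by rw [Groth.Agent.Helper6.NT.symm' T u4 u3]; exact z_3_4
              have f53 : T.a u1 u1 = -2 * T.w u8 := by have := (h2 u1).2; linarith only [this, tw_0_1, tw_0_2, tw_1_3, tw_1_4, tw_4_5, tw_5_6, tw_6_7, tw_7_8]
              have f54 : T.a u1 u0 = T.w u8 := by rw [Groth.Agent.Helper6.NT.symm' T u1 u0]; linarith only [tap_0_1, tw_0_1, tw_0_2, tw_1_3, tw_1_4, tw_4_5, tw_5_6, tw_6_7, tw_7_8]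
              have f55 : T.a u1 u2 = 0 := by exact z_1_2
              have f56 : T.a u1 u3 = T.w u8 := by linarith only [tap_1_3, tw_0_1, tw_0_2, tw_1_3, tw_1_4, tw_4_5, tw_5_6, tw_6_7, tw_7_8]
              have f57 : T.a u0 u0 = -2 * T.w u8 := by have := (h2 u0).2; linarith only [this, tw_0_1, tw_0_2, tw_1_3, tw_1_4, tw_4_5, tw_5_6, tw_6_7, tw_7_8]
              have f58 : T.a u0 u2 = T.w u8 := by linarith only [tap_0_2, tw_0_1, tw_0_2, tw_1_3, tw_1_4, tw_4_5, tw_5_6, tw_6_7, tw_7_8]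
              have f59 : T.a u0 u3 = 0 := by exact z_0_3
              have f60 : T.a u2 u2 = -2 * T.w u8 := by have := (h2 u2).2; linarith only [this, tw_0_1, tw_0_2, tw_1_3, tw_1_4, tw_4_5, tw_5_6, tw_6_7, tw_7_8]
              have f61 : T.a u2 u3 = 0 := by exact z_2_3
              have f62 : T.a u3 u3 = -2 * T.w u8 := by have := (h2 u3).2; linarith only [this, tw_0_1, tw_0_2, tw_1_3, tw_1_4, tw_4_5, tw_5_6, tw_6_7, tw_7_8]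
              have hsig := Groth.Agent.Helper6.NT.inj9 u8 u7 u6 u5 u4 u1 u0 u2 u3 hn_8_7.symm hn_8_6.symm hn_7_6.symm hn_8_5.symm hn_7_5.symm hn_6_5.symm hn_8_4.symm hn_7_4.symm hn_6_4.symm hn_5_4.symm hn_8_1.symm hn_7_1.symm hn_6_1.symm hn_5_1.symm hn_4_1.symm hn_8_0.symm hn_7_0.symm hn_6_0.symm hn_5_0.symm hn_4_0.symm hn_1_0.symm hn_8_2.symm hn_7_2.symm hn_6_2.symm hn_5_2.symm hn_4_2.symm hn_2_1 hn_2_0 hn_8_3.symm hn_7_3.symm hn_6_3.symm hn_5_3.symm hn_4_3.symm hn_3_1 hn_3_0 hn_3_2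
              exact ⟨Equiv.ofBijective _ (Finite.injective_iff_bijective.1 hsig), T.m u8, T.w u8, Or.inr (Or.inr (Or.inr (Or.inr (Or.inr (Or.inr (Or.inr (⟨f0, f1, f2, f3, f4, f5, f6, f7, f8, f9, f10, f11, f12, f13, f14, f15, f16, f17, f18, f19, f20, f21, f22, f23, f24, f25, f26, f27, f28, f29, f30, f31, f32, f33, f34, f35, f36, f37, f38, f39, f40, f41, f42, f43, f44, f45, f46, f47, f48, f49, f50, f51, f52, f53, f54, f55, f56, f57, f58, f59, f60, f61, f62⟩)))))))⟩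
            · -- (7,8) Dp
              exfalso
              have key := Groth.Agent.Helper6.NT.negfun8 T h2 u0 u1 u3 u4 u5 u6 u7 u8 (by norm_num) 1 2 1 2 2 2 2 1 (by norm_num) (by norm_num)
              linarith only [key, tap_0_1, taq_0_1, z_0_3, z_0_4, z_0_5, z_0_6, z_0_7, z_0_8, tap_1_3, taq_1_3, tap_1_4, taq_1_4, z_1_5, z_1_6, z_1_7, z_1_8, z_3_4, z_3_5, z_3_6, z_3_7, z_3_8, tap_4_5, taq_4_5, z_4_6, z_4_7, z_4_8, tap_5_6, taq_5_6, z_5_7, z_5_8, tap_6_7, taq_6_7, z_6_8, tap_7_8, taq_7_8, T.w_pos u0, T.w_pos u1, T.w_pos u3, T.w_pos u4, T.w_pos u5, T.w_pos u6, T.w_pos u7, T.w_pos u8]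
            · -- (7,8) Dm
              exfalso
              have key := Groth.Agent.Helper6.NT.negfun8 T h2 u0 u1 u3 u4 u5 u6 u7 u8 (by norm_num) 1 2 1 2 2 2 2 2 (by norm_num) (by norm_num)
              linarith only [key, tap_0_1, taq_0_1, z_0_3, z_0_4, z_0_5, z_0_6, z_0_7, z_0_8, tap_1_3, taq_1_3, tap_1_4, taq_1_4, z_1_5, z_1_6, z_1_7, z_1_8, z_3_4, z_3_5, z_3_6, z_3_7, z_3_8, tap_4_5, taq_4_5, z_4_6, z_4_7, z_4_8, tap_5_6, taq_5_6, z_5_7, z_5_8, tap_6_7, taq_6_7, z_6_8, tap_7_8, taq_7_8, T.w_pos u0, T.w_pos u1, T.w_pos u3, T.w_pos u4, T.w_pos u5, T.w_pos u6, T.w_pos u7, T.w_pos u8]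
            · -- (7,8) Tp
              exfalso
              have key := Groth.Agent.Helper6.NT.negfun3 T h2 u6 u7 u8 (by norm_num) 1 2 1 (by norm_num) (by norm_num)
              linarith only [key, tap_6_7, taq_6_7, z_6_8, tap_7_8, taq_7_8, T.w_pos u6, T.w_pos u7, T.w_pos u8]
            · -- (7,8) Tm
              exfalso
              have key := Groth.Agent.Helper6.NT.negfun3 T h2 u6 u7 u8 (by norm_num) 1 2 3 (by norm_num) (by norm_num)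
              linarith only [key, tap_6_7, taq_6_7, z_6_8, tap_7_8, taq_7_8, T.w_pos u6, T.w_pos u7, T.w_pos u8]
          · push Not at hx
            have cl_7 := hx
            clear hx
            exfalso
            refine Groth.Agent.Helper6.NT.closed_contra T [u0, u1, u2, u3, u4, u5, u6, u7] (by simp) (by simp) ?_
            intro i hi j hj
            simp only [List.mem_cons, List.not_mem_nil, or_false, not_or] at hi hj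
            rcases hi with rfl | rfl | rfl | rfl | rfl | rfl | rfl | rfl
            · exact cl_0 j ⟨hj.1, hj.2.1, hj.2.2.1⟩
            · exact cl_1 j ⟨hj.1, hj.2.1, hj.2.2.1, hj.2.2.2.1, hj.2.2.2.2.1⟩
            · exact cl_2 j ⟨hj.1, hj.2.1, hj.2.2.1, hj.2.2.2.1, hj.2.2.2.2.1⟩
            · exact cl_3 j ⟨hj.1, hj.2.1, hj.2.2.1, hj.2.2.2.1, hj.2.2.2.2.1⟩
            · exact cl_4 j ⟨hj.1, hj.2.1, hj.2.2.1, hj.2.2.2.1, hj.2.2.2.2.1, hj.2.2.2.2.2.1⟩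
            · exact cl_5 j ⟨hj.1, hj.2.1, hj.2.2.1, hj.2.2.2.1, hj.2.2.2.2.1, hj.2.2.2.2.2.1, hj.2.2.2.2.2.2.1⟩
            · exact cl_6 j ⟨hj.1, hj.2.1, hj.2.2.1, hj.2.2.2.1, hj.2.2.2.2.1, hj.2.2.2.2.2.1, hj.2.2.2.2.2.2.1, hj.2.2.2.2.2.2.2⟩
            · exact cl_7 j ⟨hj.1, hj.2.1, hj.2.2.1, hj.2.2.2.1, hj.2.2.2.2.1, hj.2.2.2.2.2.1, hj.2.2.2.2.2.2.1, hj.2.2.2.2.2.2.2⟩
      · -- (6,7) Dp
        exfalso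
        have key := Groth.Agent.Helper6.NT.negfun7 T h2 u0 u1 u3 u4 u5 u6 u7 (by norm_num) 1 2 1 2 2 2 1 (by norm_num) (by norm_num)
        linarith only [key, tap_0_1, taq_0_1, z_0_3, z_0_4, z_0_5, z_0_6, z_0_7, tap_1_3, taq_1_3, tap_1_4, taq_1_4, z_1_5, z_1_6, z_1_7, z_3_4, z_3_5, z_3_6, z_3_7, tap_4_5, taq_4_5, z_4_6, z_4_7, tap_5_6, taq_5_6, z_5_7, tap_6_7, taq_6_7, T.w_pos u0, T.w_pos u1, T.w_pos u3, T.w_pos u4, T.w_pos u5, T.w_pos u6, T.w_pos u7]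
      · -- (6,7) Dm
        exfalso
        have key := Groth.Agent.Helper6.NT.negfun7 T h2 u0 u1 u3 u4 u5 u6 u7 (by norm_num) 1 2 1 2 2 2 2 (by norm_num) (by norm_num)
        linarith only [key, tap_0_1, taq_0_1, z_0_3, z_0_4, z_0_5, z_0_6, z_0_7, tap_1_3, taq_1_3, tap_1_4, taq_1_4, z_1_5, z_1_6, z_1_7, z_3_4, z_3_5, z_3_6, z_3_7, tap_4_5, taq_4_5, z_4_6, z_4_7, tap_5_6, taq_5_6, z_5_7, tap_6_7, taq_6_7, T.w_pos u0, T.w_pos u1, T.w_pos u3, T.w_pos u4, T.w_pos u5, T.w_pos u6, T.w_pos u7]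
      · -- (6,7) Tp
        exfalso
        have key := Groth.Agent.Helper6.NT.negfun3 T h2 u5 u6 u7 (by norm_num) 1 2 1 (by norm_num) (by norm_num)
        linarith only [key, tap_5_6, taq_5_6, z_5_7, tap_6_7, taq_6_7, T.w_pos u5, T.w_pos u6, T.w_pos u7]
      · -- (6,7) Tm
        exfalso
        have key := Groth.Agent.Helper6.NT.negfun3 T h2 u5 u6 u7 (by norm_num) 1 2 3 (by norm_num) (by norm_num)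
        linarith only [key, tap_5_6, taq_5_6, z_5_7, tap_6_7, taq_6_7, T.w_pos u5, T.w_pos u6, T.w_pos u7]
    · push Not at hx
      have cl_6 := hx
      clear hx
      exfalso
      refine Groth.Agent.Helper6.NT.closed_contra T [u0, u1, u2, u3, u4, u5, u6] (by simp) (by simp) ?_
      intro i hi j hj
      simp only [List.mem_cons, List.not_mem_nil, or_false, not_or] at hi hj
      rcases hi with rfl | rfl | rfl | rfl | rfl | rfl | rfl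
      · exact cl_0 j ⟨hj.1, hj.2.1, hj.2.2.1⟩
      · exact cl_1 j ⟨hj.1, hj.2.1, hj.2.2.1, hj.2.2.2.1, hj.2.2.2.2.1⟩
      · exact cl_2 j ⟨hj.1, hj.2.1, hj.2.2.1, hj.2.2.2.1, hj.2.2.2.2.1⟩
      · exact cl_3 j ⟨hj.1, hj.2.1, hj.2.2.1, hj.2.2.2.1, hj.2.2.2.2.1⟩
      · exact cl_4 j ⟨hj.1, hj.2.1, hj.2.2.1, hj.2.2.2.1, hj.2.2.2.2.1, hj.2.2.2.2.2.1⟩
      · exact cl_5 j ⟨hj.1, hj.2.1, hj.2.2.1, hj.2.2.2.1, hj.2.2.2.2.1, hj.2.2.2.2.2.1, hj.2.2.2.2.2.2⟩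
      · exact cl_6 j ⟨hj.1, hj.2.1, hj.2.2.1, hj.2.2.2.1, hj.2.2.2.2.1, hj.2.2.2.2.2.1, hj.2.2.2.2.2.2⟩

theorem cut9_14 (T : Models.NumericalType 9) (h2 : ∀ i, T.IsMinusTwo i) (u0 u1 u2 u3 u4 : Fin 9)
    (hn_1_0 : u1 ≠ u0)
    (e_0_1 : T.a u0 u1 ≠ 0)
    (tw_0_1 : T.w u1 = T.w u0)
    (tap_0_1 : T.a u0 u1 = T.w u0)
    (taq_0_1 : T.a u0 u1 = T.w u1)
    (hn_2_0 : u2 ≠ u0)
    (hn_2_1 : u2 ≠ u1)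
    (e_0_2 : T.a u0 u2 ≠ 0)
    (tw_0_2 : T.w u2 = T.w u0)
    (tap_0_2 : T.a u0 u2 = T.w u0)
    (taq_0_2 : T.a u0 u2 = T.w u2)
    (z_1_2 : T.a u1 u2 = 0)
    (cl_0 : ∀ j : Fin 9, (j ≠ u0 ∧ j ≠ u1 ∧ j ≠ u2) → T.a u0 j = 0)
    (hn_3_0 : u3 ≠ u0)
    (hn_3_1 : u3 ≠ u1)
    (hn_3_2 : u3 ≠ u2)
    (e_1_3 : T.a u1 u3 ≠ 0)
    (z_0_3 : T.a u0 u3 = 0)
    (tw_1_3 : T.w u3 = T.w u1)
    (tap_1_3 : T.a u1 u3 = T.w u1)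
    (taq_1_3 : T.a u1 u3 = T.w u3)
    (z_2_3 : T.a u2 u3 = 0)
    (hn_4_0 : u4 ≠ u0)
    (hn_4_1 : u4 ≠ u1)
    (hn_4_2 : u4 ≠ u2)
    (hn_4_3 : u4 ≠ u3)
    (e_1_4 : T.a u1 u4 ≠ 0)
    (z_0_4 : T.a u0 u4 = 0)
    (tw_1_4 : T.w u4 = T.w u1)
    (tap_1_4 : T.a u1 u4 = T.w u1)
    (taq_1_4 : T.a u1 u4 = T.w u4)
    (z_2_4 : T.a u2 u4 = 0)
    (z_3_4 : T.a u3 u4 = 0) :
    ∃ (σ : Equiv.Perm (Fin 9)) (m w : ℤ), ((T.m (σ 0) = m ∧ T.m (σ 1) = m ∧ T.m (σ 2) = m ∧ T.m (σ 3) = m ∧ T.m (σ 4) = m ∧ T.m (σ 5) = m ∧ T.m (σ 6) = m ∧ T.m (σ 7) = m ∧ T.m (σ 8) = m ∧ T.w (σ 0) = w ∧ T.w (σ 1) = w ∧ T.w (σ 2) = w ∧ T.w (σ 3) = w ∧ T.w (σ 4) = w ∧ T.w (σ 5) = w ∧ T.w (σ 6) = w ∧ T.w (σ 7) = w ∧ T.w (σ 8) = w ∧ T.a (σ 0) (σ 0) = -2 * w ∧ T.a (σ 0) (σ 1) = w ∧ T.a (σ 0) (σ 2) = 0 ∧ T.a (σ 0) (σ 3) = 0 ∧ T.a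 (σ 0) (σ 4) = 0 ∧ T.a (σ 0) (σ 5) = 0 ∧ T.a (σ 0) (σ 6) = 0 ∧ T.a (σ 0) (σ 7) = 0 ∧ T.a (σ 0) (σ 8) = w ∧ T.a (σ 1) (σ 1) = -2 * w ∧ T.a (σ 1) (σ 2) = w ∧ T.a (σ 1) (σ 3) = 0 ∧ T.a (σ 1) (σ 4) = 0 ∧ T.a (σ 1) (σ 5) = 0 ∧ T.a (σ 1) (σ 6) = 0 ∧ T.a (σ 1) (σ 7) = 0 ∧ T.a (σ 1) (σ 8) = 0 ∧ T.a (σ 2) (σ 2) = -2 * w ∧ T.a (σ 2) (σ 3) = w ∧ T.a (σ 2) (σ 4) = 0 ∧ T.a (σ 2) (σ 5) = 0 ∧ T.a (σ 2) (σ 6) = 0 ∧ T.a (σ 2) (σ 7) = 0 ∧ T.a (σ 2) (σ 8) = 0 ∧ T.a (σ 3) (σ 3) = -2 * w ∧ T.a (σ 3) (σ 4) = w ∧ T.a (σ 3) (σ 5) = 0 ∧ T.a (σ 3) (σ 6) = 0 ∧ T.a (σ 3) (σ 7) = 0 ∧ T.a (σ 3) (σ 8) = 0 ∧ T.a (σ 4) (σ 4) = -2 * w ∧ T.a (σ 4) (σ 5) = w ∧ T.a (σ 4) (σ 6) = 0 ∧ T.a (σ 4) (σ 7) = 0 ∧ T.a (σ 4) (σ 8) = 0 ∧ T.a (σ 5) (σ 5) = -2 * w ∧ T.a (σ 5) (σ 6) = w ∧ T.a (σ 5) (σ 7) = 0 ∧ T.a (σ 5) (σ 8) = 0 ∧ T.a (σ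 6) (σ 6) = -2 * w ∧ T.a (σ 6) (σ 7) = w ∧ T.a (σ 6) (σ 8) = 0 ∧ T.a (σ 7) (σ 7) = -2 * w ∧ T.a (σ 7) (σ 8) = w ∧ T.a (σ 8) (σ 8) = -2 * w) ∨ (T.m (σ 0) = 2 * m ∧ T.m (σ 1) = 2 * m ∧ T.m (σ 2) = 2 * m ∧ T.m (σ 3) = 2 * m ∧ T.m (σ 4) = 2 * m ∧ T.m (σ 5) = 2 * m ∧ T.m (σ 6) = 2 * m ∧ T.m (σ 7) = 2 * m ∧ T.m (σ 8) = m ∧ T.w (σ 0) = w ∧ T.w (σ 1) = 2 * w ∧ T.w (σ 2) = 2 * w ∧ T.w (σ 3) = 2 * w ∧ T.w (σ 4) = 2 * w ∧ T.w (σ 5) = 2 * w ∧ T.w (σ 6) = 2 * w ∧ T.w (σ 7) = 2 * w ∧ T.w (σ 8) = 4 * w ∧ T.a (σ 0) (σ 0) = -2 * w ∧ T.a (σ 0) (σ 1) = 2 * w ∧ T.a (σ 0) (σ 2) = 0 ∧ T.a (σ 0) (σ 3) = 0 ∧ T.a (σ 0) (σ 4) = 0 ∧ T.a (σ 0) (σ 5) = 0 ∧ T.a (σ 0) (σ 6) = 0 ∧ T.a (σ 0) (σ 7) = 0 ∧ T.a (σ 0) (σ 8) = 0 ∧ T.a (σ 1) (σ 1) = -4 * w ∧ T.a (σ 1) (σ 2) = 2 * w ∧ T.a (σ 1) (σ 3) = 0 ∧ T.a (σ 1) (σ 4) = 0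 ∧ T.a (σ 1) (σ 5) = 0 ∧ T.a (σ 1) (σ 6) = 0 ∧ T.a (σ 1) (σ 7) = 0 ∧ T.a (σ 1) (σ 8) = 0 ∧ T.a (σ 2) (σ 2) = -4 * w ∧ T.a (σ 2) (σ 3) = 2 * w ∧ T.a (σ 2) (σ 4) = 0 ∧ T.a (σ 2) (σ 5) = 0 ∧ T.a (σ 2) (σ 6) = 0 ∧ T.a (σ 2) (σ 7) = 0 ∧ T.a (σ 2) (σ 8) = 0 ∧ T.a (σ 3) (σ 3) = -4 * w ∧ T.a (σ 3) (σ 4) = 2 * w ∧ T.a (σ 3) (σ 5) = 0 ∧ T.a (σ 3) (σ 6) = 0 ∧ T.a (σ 3) (σ 7) = 0 ∧ T.a (σ 3) (σ 8) = 0 ∧ T.a (σ 4) (σ 4) = -4 * w ∧ T.a (σ 4) (σ 5) = 2 * w ∧ T.a (σ 4) (σ 6) = 0 ∧ T.a (σ 4) (σ 7) = 0 ∧ T.a (σ 4) (σ 8) = 0 ∧ T.a (σ 5) (σ 5) = -4 * w ∧ T.a (σ 5) (σ 6) = 2 * w ∧ T.a (σ 5) (σ 7) = 0 ∧ T.a (σ 5) (σ 8) = 0 ∧ T.a (σ 6) (σ 6) = -4 * w ∧ T.a (σ 6) (σ 7) = 2 * w ∧ T.a (σ 6) (σ 8) = 0 ∧ T.a (σ 7) (σ 7) = -4 * w ∧ T.a (σ 7) (σ 8) = 4 * w ∧ T.a (σ 8) (σ 8) = -8 * w) ∨ (T.m (σ 0) = m ∧ T.m (σ 1) = m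 ∧ T.m (σ 2) = m ∧ T.m (σ 3) = m ∧ T.m (σ 4) = m ∧ T.m (σ 5) = m ∧ T.m (σ 6) = m ∧ T.m (σ 7) = m ∧ T.m (σ 8) = m ∧ T.w (σ 0) = w ∧ T.w (σ 1) = 2 * w ∧ T.w (σ 2) = 2 * w ∧ T.w (σ 3) = 2 * w ∧ T.w (σ 4) = 2 * w ∧ T.w (σ 5) = 2 * w ∧ T.w (σ 6) = 2 * w ∧ T.w (σ 7) = 2 * w ∧ T.w (σ 8) = w ∧ T.a (σ 0) (σ 0) = -2 * w ∧ T.a (σ 0) (σ 1) = 2 * w ∧ T.a (σ 0) (σ 2) = 0 ∧ T.a (σ 0) (σ 3) = 0 ∧ T.a (σ 0) (σ 4) = 0 ∧ T.a (σ 0) (σ 5) = 0 ∧ T.a (σ 0) (σ 6) = 0 ∧ T.a (σ 0) (σ 7) = 0 ∧ T.a (σ 0) (σ 8) = 0 ∧ T.a (σ 1) (σ 1) = -4 * w ∧ T.a (σ 1) (σ 2) = 2 * w ∧ T.a (σ 1) (σ 3) = 0 ∧ T.a (σ 1) (σ 4) = 0 ∧ T.a (σ 1) (σ 5) = 0 ∧ T.a (σ 1) (σ 6) = 0 ∧ T.a (σ 1) (σ 7) = 0 ∧ T.a (σ 1) (σ 8) = 0 ∧ T.a (σ 2) (σ 2) = -4 * w ∧ T.a (σ 2) (σ 3) = 2 * w ∧ T.a (σ 2) (σ 4) = 0 ∧ T.a (σ 2) (σ 5) = 0 ∧ T.a (σ 2) (σ 6) = 0 ∧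 T.a (σ 2) (σ 7) = 0 ∧ T.a (σ 2) (σ 8) = 0 ∧ T.a (σ 3) (σ 3) = -4 * w ∧ T.a (σ 3) (σ 4) = 2 * w ∧ T.a (σ 3) (σ 5) = 0 ∧ T.a (σ 3) (σ 6) = 0 ∧ T.a (σ 3) (σ 7) = 0 ∧ T.a (σ 3) (σ 8) = 0 ∧ T.a (σ 4) (σ 4) = -4 * w ∧ T.a (σ 4) (σ 5) = 2 * w ∧ T.a (σ 4) (σ 6) = 0 ∧ T.a (σ 4) (σ 7) = 0 ∧ T.a (σ 4) (σ 8) = 0 ∧ T.a (σ 5) (σ 5) = -4 * w ∧ T.a (σ 5) (σ 6) = 2 * w ∧ T.a (σ 5) (σ 7) = 0 ∧ T.a (σ 5) (σ 8) = 0 ∧ T.a (σ 6) (σ 6) = -4 * w ∧ T.a (σ 6) (σ 7) = 2 * w ∧ T.a (σ 6) (σ 8) = 0 ∧ T.a (σ 7) (σ 7) = -4 * w ∧ T.a (σ 7) (σ 8) = 2 * w ∧ T.a (σ 8) (σ 8) = -2 * w) ∨ (T.m (σ 0) = m ∧ T.m (σ 1) = 2 * m ∧ T.m (σ 2) = 2 * m ∧ T.m (σ 3) = 2 * m ∧ T.m (σ 4) = 2 * m ∧ T.m (σ 5) = 2 * m ∧ T.m (σ 6) = 2 * m ∧ T.m (σ 7) = 2 * m ∧ T.m (σ 8) = m ∧ T.w (σ 0) = 2 * w ∧ T.w (σ 1) = w ∧ T.w (σ 2) = w ∧ T.w (σ 3) = w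 ∧ T.w (σ 4) = w ∧ T.w (σ 5) = w ∧ T.w (σ 6) = w ∧ T.w (σ 7) = w ∧ T.w (σ 8) = 2 * w ∧ T.a (σ 0) (σ 0) = -4 * w ∧ T.a (σ 0) (σ 1) = 2 * w ∧ T.a (σ 0) (σ 2) = 0 ∧ T.a (σ 0) (σ 3) = 0 ∧ T.a (σ 0) (σ 4) = 0 ∧ T.a (σ 0) (σ 5) = 0 ∧ T.a (σ 0) (σ 6) = 0 ∧ T.a (σ 0) (σ 7) = 0 ∧ T.a (σ 0) (σ 8) = 0 ∧ T.a (σ 1) (σ 1) = -2 * w ∧ T.a (σ 1) (σ 2) = w ∧ T.a (σ 1) (σ 3) = 0 ∧ T.a (σ 1) (σ 4) = 0 ∧ T.a (σ 1) (σ 5) = 0 ∧ T.a (σ 1) (σ 6) = 0 ∧ T.a (σ 1) (σ 7) = 0 ∧ T.a (σ 1) (σ 8) = 0 ∧ T.a (σ 2) (σ 2) = -2 * w ∧ T.a (σ 2) (σ 3) = w ∧ T.a (σ 2) (σ 4) = 0 ∧ T.a (σ 2) (σ 5) = 0 ∧ T.a (σ 2) (σ 6) = 0 ∧ T.a (σ 2) (σ 7) = 0 ∧ T.a (σ 2) (σ 8) = 0 ∧ T.a (σ 3) (σ 3) = -2 * w ∧ T.a (σ 3) (σ 4) = w ∧ T.a (σ 3) (σ 5) = 0 ∧ T.a (σ 3) (σ 6) = 0 ∧ T.a (σ 3) (σ 7) = 0 ∧ T.a (σ 3) (σ 8) = 0 ∧ T.a (σ 4) (σ 4) = -2 * w ∧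 T.a (σ 4) (σ 5) = w ∧ T.a (σ 4) (σ 6) = 0 ∧ T.a (σ 4) (σ 7) = 0 ∧ T.a (σ 4) (σ 8) = 0 ∧ T.a (σ 5) (σ 5) = -2 * w ∧ T.a (σ 5) (σ 6) = w ∧ T.a (σ 5) (σ 7) = 0 ∧ T.a (σ 5) (σ 8) = 0 ∧ T.a (σ 6) (σ 6) = -2 * w ∧ T.a (σ 6) (σ 7) = w ∧ T.a (σ 6) (σ 8) = 0 ∧ T.a (σ 7) (σ 7) = -2 * w ∧ T.a (σ 7) (σ 8) = 2 * w ∧ T.a (σ 8) (σ 8) = -4 * w) ∨ (T.m (σ 0) = m ∧ T.m (σ 1) = 2 * m ∧ T.m (σ 2) = 2 * m ∧ T.m (σ 3) = 2 * m ∧ T.m (σ 4) = 2 * m ∧ T.m (σ 5) = 2 * m ∧ T.m (σ 6) = 2 * m ∧ T.m (σ 7) = m ∧ T.m (σ 8) = m ∧ T.w (σ 0) = 2 * w ∧ T.w (σ 1) = w ∧ T.w (σ 2) = w ∧ T.w (σ 3) = w ∧ T.w (σ 4) = w ∧ T.w (σ 5) = w ∧ T.w (σ 6) = w ∧ T.w (σ 7) = w ∧ T.w (σ 8) = w ∧ T.a (σ 0) (σ 0) = -4 * w ∧ T.a (σ 0) (σ 1) = 2 * w ∧ T.a (σ 0) (σ 2) = 0 ∧ T.a (σ 0) (σ 3) = 0 ∧ T.a (σ 0) (σ 4) = 0 ∧ T.a (σ 0) (σ 5) = 0 ∧ T.a (σ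 0) (σ 6) = 0 ∧ T.a (σ 0) (σ 7) = 0 ∧ T.a (σ 0) (σ 8) = 0 ∧ T.a (σ 1) (σ 1) = -2 * w ∧ T.a (σ 1) (σ 2) = w ∧ T.a (σ 1) (σ 3) = 0 ∧ T.a (σ 1) (σ 4) = 0 ∧ T.a (σ 1) (σ 5) = 0 ∧ T.a (σ 1) (σ 6) = 0 ∧ T.a (σ 1) (σ 7) = 0 ∧ T.a (σ 1) (σ 8) = 0 ∧ T.a (σ 2) (σ 2) = -2 * w ∧ T.a (σ 2) (σ 3) = w ∧ T.a (σ 2) (σ 4) = 0 ∧ T.a (σ 2) (σ 5) = 0 ∧ T.a (σ 2) (σ 6) = 0 ∧ T.a (σ 2) (σ 7) = 0 ∧ T.a (σ 2) (σ 8) = 0 ∧ T.a (σ 3) (σ 3) = -2 * w ∧ T.a (σ 3) (σ 4) = w ∧ T.a (σ 3) (σ 5) = 0 ∧ T.a (σ 3) (σ 6) = 0 ∧ T.a (σ 3) (σ 7) = 0 ∧ T.a (σ 3) (σ 8) = 0 ∧ T.a (σ 4) (σ 4) = -2 * w ∧ T.a (σ 4) (σ 5) = w ∧ T.a (σ 4) (σ 6) = 0 ∧ T.a (σ 4) (σ 7) = 0 ∧ T.a (σ 4) (σ 8) = 0 ∧ T.a (σ 5) (σ 5) = -2 * w ∧ T.a (σ 5) (σ 6) = w ∧ T.a (σ 5) (σ 7) = 0 ∧ T.a (σ 5) (σ 8) = 0 ∧ T.a (σ 6) (σ 6) = -2 * w ∧ T.a (σ 6) (σ 7) = w ∧ T.a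 (σ 6) (σ 8) = w ∧ T.a (σ 7) (σ 7) = -2 * w ∧ T.a (σ 7) (σ 8) = 0 ∧ T.a (σ 8) (σ 8) = -2 * w) ∨ (T.m (σ 0) = 2 * m ∧ T.m (σ 1) = 2 * m ∧ T.m (σ 2) = 2 * m ∧ T.m (σ 3) = 2 * m ∧ T.m (σ 4) = 2 * m ∧ T.m (σ 5) = 2 * m ∧ T.m (σ 6) = 2 * m ∧ T.m (σ 7) = m ∧ T.m (σ 8) = m ∧ T.w (σ 0) = w ∧ T.w (σ 1) = 2 * w ∧ T.w (σ 2) = 2 * w ∧ T.w (σ 3) = 2 * w ∧ T.w (σ 4) = 2 * w ∧ T.w (σ 5) = 2 * w ∧ T.w (σ 6) = 2 * w ∧ T.w (σ 7) = 2 * w ∧ T.w (σ 8) = 2 * w ∧ T.a (σ 0) (σ 0) = -2 * w ∧ T.a (σ 0) (σ 1) = 2 * w ∧ T.a (σ 0) (σ 2) = 0 ∧ T.a (σ 0) (σ 3) = 0 ∧ T.a (σ 0) (σ 4) = 0 ∧ T.a (σ 0) (σ 5) = 0 ∧ T.a (σ 0) (σ 6) = 0 ∧ T.a (σ 0) (σ 7) = 0 ∧ T.a (σ 0) (σ 8) = 0 ∧ T.a (σ 1) (σ 1) = -4 * w ∧ T.a (σ 1) (σ 2) = 2 * w ∧ T.a (σ 1) (σ 3) = 0 ∧ T.a (σ 1) (σ 4) = 0 ∧ T.a (σ 1) (σ 5) = 0 ∧ T.a (σ 1) (σ 6) = 0 ∧ T.a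 (σ 1) (σ 7) = 0 ∧ T.a (σ 1) (σ 8) = 0 ∧ T.a (σ 2) (σ 2) = -4 * w ∧ T.a (σ 2) (σ 3) = 2 * w ∧ T.a (σ 2) (σ 4) = 0 ∧ T.a (σ 2) (σ 5) = 0 ∧ T.a (σ 2) (σ 6) = 0 ∧ T.a (σ 2) (σ 7) = 0 ∧ T.a (σ 2) (σ 8) = 0 ∧ T.a (σ 3) (σ 3) = -4 * w ∧ T.a (σ 3) (σ 4) = 2 * w ∧ T.a (σ 3) (σ 5) = 0 ∧ T.a (σ 3) (σ 6) = 0 ∧ T.a (σ 3) (σ 7) = 0 ∧ T.a (σ 3) (σ 8) = 0 ∧ T.a (σ 4) (σ 4) = -4 * w ∧ T.a (σ 4) (σ 5) = 2 * w ∧ T.a (σ 4) (σ 6) = 0 ∧ T.a (σ 4) (σ 7) = 0 ∧ T.a (σ 4) (σ 8) = 0 ∧ T.a (σ 5) (σ 5) = -4 * w ∧ T.a (σ 5) (σ 6) = 2 * w ∧ T.a (σ 5) (σ 7) = 0 ∧ T.a (σ 5) (σ 8) = 0 ∧ T.a (σ 6) (σ 6) = -4 * w ∧ T.a (σ 6) (σ 7) = 2 * w ∧ T.a (σ 6) (σ 8) = 2 * w ∧ T.a (σ 7) (σ 7) = -4 * w ∧ T.a (σ 7) (σ 8) = 0 ∧ T.a (σ 8) (σ 8) = -4 * w) ∨ (T.m (σ 0) = m ∧ T.m (σ 1) = m ∧ T.m (σ 2) = 2 * m ∧ T.m (σ 3) = 2 * m ∧ T.m (σ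 4) = 2 * m ∧ T.m (σ 5) = 2 * m ∧ T.m (σ 6) = 2 * m ∧ T.m (σ 7) = m ∧ T.m (σ 8) = m ∧ T.w (σ 0) = w ∧ T.w (σ 1) = w ∧ T.w (σ 2) = w ∧ T.w (σ 3) = w ∧ T.w (σ 4) = w ∧ T.w (σ 5) = w ∧ T.w (σ 6) = w ∧ T.w (σ 7) = w ∧ T.w (σ 8) = w ∧ T.a (σ 0) (σ 0) = -2 * w ∧ T.a (σ 0) (σ 1) = 0 ∧ T.a (σ 0) (σ 2) = w ∧ T.a (σ 0) (σ 3) = 0 ∧ T.a (σ 0) (σ 4) = 0 ∧ T.a (σ 0) (σ 5) = 0 ∧ T.a (σ 0) (σ 6) = 0 ∧ T.a (σ 0) (σ 7) = 0 ∧ T.a (σ 0) (σ 8) = 0 ∧ T.a (σ 1) (σ 1) = -2 * w ∧ T.a (σ 1) (σ 2) = w ∧ T.a (σ 1) (σ 3) = 0 ∧ T.a (σ 1) (σ 4) = 0 ∧ T.a (σ 1) (σ 5) = 0 ∧ T.a (σ 1) (σ 6) = 0 ∧ T.a (σ 1) (σ 7) = 0 ∧ T.a (σ 1) (σ 8) = 0 ∧ T.a (σ 2) (σ 2) = -2 * w ∧ T.a (σ 2) (σ 3) = w ∧ T.a (σ 2) (σ 4) = 0 ∧ T.a (σ 2) (σ 5) = 0 ∧ T.a (σ 2) (σ 6) = 0 ∧ T.a (σ 2) (σ 7) = 0 ∧ T.a (σ 2) (σ 8) = 0 ∧ T.a (σ 3) (σ 3) = -2 * w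 ∧ T.a (σ 3) (σ 4) = w ∧ T.a (σ 3) (σ 5) = 0 ∧ T.a (σ 3) (σ 6) = 0 ∧ T.a (σ 3) (σ 7) = 0 ∧ T.a (σ 3) (σ 8) = 0 ∧ T.a (σ 4) (σ 4) = -2 * w ∧ T.a (σ 4) (σ 5) = w ∧ T.a (σ 4) (σ 6) = 0 ∧ T.a (σ 4) (σ 7) = 0 ∧ T.a (σ 4) (σ 8) = 0 ∧ T.a (σ 5) (σ 5) = -2 * w ∧ T.a (σ 5) (σ 6) = w ∧ T.a (σ 5) (σ 7) = 0 ∧ T.a (σ 5) (σ 8) = 0 ∧ T.a (σ 6) (σ 6) = -2 * w ∧ T.a (σ 6) (σ 7) = w ∧ T.a (σ 6) (σ 8) = w ∧ T.a (σ 7) (σ 7) = -2 * w ∧ T.a (σ 7) (σ 8) = 0 ∧ T.a (σ 8) (σ 8) = -2 * w) ∨ (T.m (σ 0) = m ∧ T.m (σ 1) = 2 * m ∧ T.m (σ 2) = 3 * m ∧ T.m (σ 3) = 4 * m ∧ T.m (σ 4) = 5 * m ∧ T.m (σ 5) = 6 * m ∧ T.m (σ 6) = 4 * m ∧ T.m (σ 7) = 2 * m ∧ T.m (σ 8) = 3 * m ∧ T.w (σ 0) = w ∧ T.w (σ 1) = w ∧ T.w (σ 2) = w ∧ T.w (σ 3) = w ∧ T.w (σ 4) = w ∧ T.w (σ 5) = w ∧ T.w (σ 6) = w ∧ T.w (σ 7) = w ∧ T.w (σ 8) = w ∧ T.a (σ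 0) (σ 0) = -2 * w ∧ T.a (σ 0) (σ 1) = w ∧ T.a (σ 0) (σ 2) = 0 ∧ T.a (σ 0) (σ 3) = 0 ∧ T.a (σ 0) (σ 4) = 0 ∧ T.a (σ 0) (σ 5) = 0 ∧ T.a (σ 0) (σ 6) = 0 ∧ T.a (σ 0) (σ 7) = 0 ∧ T.a (σ 0) (σ 8) = 0 ∧ T.a (σ 1) (σ 1) = -2 * w ∧ T.a (σ 1) (σ 2) = w ∧ T.a (σ 1) (σ 3) = 0 ∧ T.a (σ 1) (σ 4) = 0 ∧ T.a (σ 1) (σ 5) = 0 ∧ T.a (σ 1) (σ 6) = 0 ∧ T.a (σ 1) (σ 7) = 0 ∧ T.a (σ 1) (σ 8) = 0 ∧ T.a (σ 2) (σ 2) = -2 * w ∧ T.a (σ 2) (σ 3) = w ∧ T.a (σ 2) (σ 4) = 0 ∧ T.a (σ 2) (σ 5) = 0 ∧ T.a (σ 2) (σ 6) = 0 ∧ T.a (σ 2) (σ 7) = 0 ∧ T.a (σ 2) (σ 8) = 0 ∧ T.a (σ 3) (σ 3) = -2 * w ∧ T.a (σ 3) (σ 4) = w ∧ T.a (σ 3) (σ 5) = 0 ∧ T.a (σ 3) (σ 6) = 0 ∧ T.a (σ 3) (σ 7) = 0 ∧ T.a (σ 3) (σ 8) = 0 ∧ T.a (σ 4) (σ 4) = -2 * w ∧ T.a (σ 4) (σ 5) = w ∧ T.a (σ 4) (σ 6) = 0 ∧ T.a (σ 4) (σ 7) = 0 ∧ T.a (σ 4) (σ 8) = 0 ∧ T.a (σ 5)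 (σ 5) = -2 * w ∧ T.a (σ 5) (σ 6) = w ∧ T.a (σ 5) (σ 7) = 0 ∧ T.a (σ 5) (σ 8) = w ∧ T.a (σ 6) (σ 6) = -2 * w ∧ T.a (σ 6) (σ 7) = w ∧ T.a (σ 6) (σ 8) = 0 ∧ T.a (σ 7) (σ 7) = -2 * w ∧ T.a (σ 7) (σ 8) = 0 ∧ T.a (σ 8) (σ 8) = -2 * w)) := by
  by_cases hx : ∃ j, (j ≠ u0 ∧ j ≠ u1 ∧ j ≠ u2 ∧ j ≠ u3 ∧ j ≠ u4) ∧ T.a u1 j ≠ 0
  · obtain ⟨u5, ⟨hn_5_0, hn_5_1, hn_5_2, hn_5_3, hn_5_4⟩, e_1_5⟩ := hx
    have z_0_5 : T.a u0 u5 = 0 := cl_0 u5 ⟨hn_5_0, hn_5_1, hn_5_2⟩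
    rcases Groth.Agent.Helper6.NT.edge5 T h2 (by norm_num) u1 u5 hn_5_1.symm e_1_5 with ⟨tw_1_5, tap_1_5, taq_1_5⟩ | ⟨tw_1_5, tap_1_5, taq_1_5⟩ | ⟨tw_1_5, tap_1_5, taq_1_5⟩ | ⟨tw_1_5, tap_1_5, taq_1_5⟩ | ⟨tw_1_5, tap_1_5, taq_1_5⟩
    · -- (1,5) S
      exfalso
      have key := Groth.Agent.Helper6.NT.negfun5 T h2 u0 u1 u3 u4 u5 (by norm_num) 1 2 1 1 1 (by norm_num) (by norm_num)
      linarith only [key, tap_0_1, taq_0_1, z_0_3, z_0_4, z_0_5, tap_1_3, taq_1_3, tap_1_4, taq_1_4, tap_1_5, taq_1_5, z_3_4, T.offDiag_nonneg u3 u5 hn_5_3.symm, T.offDiag_nonneg u4 u5 hn_5_4.symm, T.w_pos u0, T.w_pos u1, T.w_pos u3, T.w_pos u4, T.w_pos u5]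
    · -- (1,5) Dp
      exfalso
      have key := Groth.Agent.Helper6.NT.negfun4 T h2 u1 u3 u4 u5 (by norm_num) 2 1 1 1 (by norm_num) (by norm_num)
      linarith only [key, tap_1_3, taq_1_3, tap_1_4, taq_1_4, tap_1_5, taq_1_5, z_3_4, T.offDiag_nonneg u3 u5 hn_5_3.symm, T.offDiag_nonneg u4 u5 hn_5_4.symm, T.w_pos u1, T.w_pos u3, T.w_pos u4, T.w_pos u5]
    · -- (1,5) Dm
      exfalso
      have key := Groth.Agent.Helper6.NT.negfun4 T h2 u1 u3 u4 u5 (by norm_num) 2 1 1 2 (by norm_num) (by norm_num)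
      linarith only [key, tap_1_3, taq_1_3, tap_1_4, taq_1_4, tap_1_5, taq_1_5, z_3_4, T.offDiag_nonneg u3 u5 hn_5_3.symm, T.offDiag_nonneg u4 u5 hn_5_4.symm, T.w_pos u1, T.w_pos u3, T.w_pos u4, T.w_pos u5]
    · -- (1,5) Tp
      exfalso
      have key := Groth.Agent.Helper6.NT.negfun3 T h2 u1 u4 u5 (by norm_num) 2 1 1 (by norm_num) (by norm_num)
      linarith only [key, tap_1_4, taq_1_4, tap_1_5, taq_1_5, T.offDiag_nonneg u4 u5 hn_5_4.symm, T.w_pos u1, T.w_pos u4, T.w_pos u5]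
    · -- (1,5) Tm
      exfalso
      have key := Groth.Agent.Helper6.NT.negfun3 T h2 u1 u4 u5 (by norm_num) 2 1 3 (by norm_num) (by norm_num)
      linarith only [key, tap_1_4, taq_1_4, tap_1_5, taq_1_5, T.offDiag_nonneg u4 u5 hn_5_4.symm, T.w_pos u1, T.w_pos u4, T.w_pos u5]
  · push Not at hx
    have cl_1 := hx
    clear hx
    by_cases hx : ∃ j, (j ≠ u0 ∧ j ≠ u1 ∧ j ≠ u2 ∧ j ≠ u3 ∧ j ≠ u4) ∧ T.a u2 j ≠ 0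
    · obtain ⟨u5, ⟨hn_5_0, hn_5_1, hn_5_2, hn_5_3, hn_5_4⟩, e_2_5⟩ := hx
      have z_0_5 : T.a u0 u5 = 0 := cl_0 u5 ⟨hn_5_0, hn_5_1, hn_5_2⟩
      have z_1_5 : T.a u1 u5 = 0 := cl_1 u5 ⟨hn_5_0, hn_5_1, hn_5_2, hn_5_3, hn_5_4⟩
      rcases Groth.Agent.Helper6.NT.edge5 T h2 (by norm_num) u2 u5 hn_5_2.symm e_2_5 with ⟨tw_2_5, tap_2_5, taq_2_5⟩ | ⟨tw_2_5, tap_2_5, taq_2_5⟩ | ⟨tw_2_5, tap_2_5, taq_2_5⟩ | ⟨tw_2_5, tap_2_5, taq_2_5⟩ | ⟨tw_2_5, tap_2_5, taq_2_5⟩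
      · -- (2,5) S
        rcases eq_or_ne (T.a u3 u5) 0 with z_3_5 | nz_3_5
        · -- (3,5) zero
          rcases eq_or_ne (T.a u4 u5) 0 with z_4_5 | nz_4_5
          · -- (4,5) zero
            by_cases hx : ∃ j, (j ≠ u0 ∧ j ≠ u1 ∧ j ≠ u2 ∧ j ≠ u3 ∧ j ≠ u4 ∧ j ≠ u5) ∧ T.a u2 j ≠ 0
            · obtain ⟨u6, ⟨hn_6_0, hn_6_1, hn_6_2, hn_6_3, hn_6_4, hn_6_5⟩, e_2_6⟩ := hx
              have z_0_6 : T.a u0 u6 = 0 := cl_0 u6 ⟨hn_6_0, hn_6_1, hn_6_2⟩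
              have z_1_6 : T.a u1 u6 = 0 := cl_1 u6 ⟨hn_6_0, hn_6_1, hn_6_2, hn_6_3, hn_6_4⟩
              rcases Groth.Agent.Helper6.NT.edge5 T h2 (by norm_num) u2 u6 hn_6_2.symm e_2_6 with ⟨tw_2_6, tap_2_6, taq_2_6⟩ | ⟨tw_2_6, tap_2_6, taq_2_6⟩ | ⟨tw_2_6, tap_2_6, taq_2_6⟩ | ⟨tw_2_6, tap_2_6, taq_2_6⟩ | ⟨tw_2_6, tap_2_6, taq_2_6⟩
              · -- (2,6) S
                exfalso
                have key := Groth.Agent.Helper6.NT.negfun7 T h2 u0 u1 u2 u3 u4 u5 u6 (by norm_num) 2 2 2 1 1 1 1 (by norm_num) (by norm_num)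
                linarith only [key, tap_0_1, taq_0_1, tap_0_2, taq_0_2, z_0_3, z_0_4, z_0_5, z_0_6, z_1_2, tap_1_3, taq_1_3, tap_1_4, taq_1_4, z_1_5, z_1_6, z_2_3, z_2_4, tap_2_5, taq_2_5, tap_2_6, taq_2_6, z_3_4, z_3_5, T.offDiag_nonneg u3 u6 hn_6_3.symm, z_4_5, T.offDiag_nonneg u4 u6 hn_6_4.symm, T.offDiag_nonneg u5 u6 hn_6_5.symm, T.w_pos u0, T.w_pos u1, T.w_pos u2, T.w_pos u3, T.w_pos u4, T.w_pos u5, T.w_pos u6]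
              · -- (2,6) Dp
                exfalso
                have key := Groth.Agent.Helper6.NT.negfun4 T h2 u0 u2 u5 u6 (by norm_num) 1 2 1 1 (by norm_num) (by norm_num)
                linarith only [key, tap_0_2, taq_0_2, z_0_5, z_0_6, tap_2_5, taq_2_5, tap_2_6, taq_2_6, T.offDiag_nonneg u5 u6 hn_6_5.symm, T.w_pos u0, T.w_pos u2, T.w_pos u5, T.w_pos u6]
              · -- (2,6) Dm
                exfalso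
                have key := Groth.Agent.Helper6.NT.negfun4 T h2 u0 u2 u5 u6 (by norm_num) 1 2 1 2 (by norm_num) (by norm_num)
                linarith only [key, tap_0_2, taq_0_2, z_0_5, z_0_6, tap_2_5, taq_2_5, tap_2_6, taq_2_6, T.offDiag_nonneg u5 u6 hn_6_5.symm, T.w_pos u0, T.w_pos u2, T.w_pos u5, T.w_pos u6]
              · -- (2,6) Tp
                exfalso
                have key := Groth.Agent.Helper6.NT.negfun3 T h2 u2 u5 u6 (by norm_num) 2 1 1 (by norm_num) (by norm_num)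
                linarith only [key, tap_2_5, taq_2_5, tap_2_6, taq_2_6, T.offDiag_nonneg u5 u6 hn_6_5.symm, T.w_pos u2, T.w_pos u5, T.w_pos u6]
              · -- (2,6) Tm
                exfalso
                have key := Groth.Agent.Helper6.NT.negfun3 T h2 u2 u5 u6 (by norm_num) 2 1 3 (by norm_num) (by norm_num)
                linarith only [key, tap_2_5, taq_2_5, tap_2_6, taq_2_6, T.offDiag_nonneg u5 u6 hn_6_5.symm, T.w_pos u2, T.w_pos u5, T.w_pos u6]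
            · push Not at hx
              have cl_2 := hx
              clear hx
              by_cases hx : ∃ j, (j ≠ u0 ∧ j ≠ u1 ∧ j ≠ u2 ∧ j ≠ u3 ∧ j ≠ u4 ∧ j ≠ u5) ∧ T.a u3 j ≠ 0
              · obtain ⟨u6, ⟨hn_6_0, hn_6_1, hn_6_2, hn_6_3, hn_6_4, hn_6_5⟩, e_3_6⟩ := hx
                have z_0_6 : T.a u0 u6 = 0 := cl_0 u6 ⟨hn_6_0, hn_6_1, hn_6_2⟩
                have z_1_6 : T.a u1 u6 = 0 := cl_1 u6 ⟨hn_6_0, hn_6_1, hn_6_2, hn_6_3, hn_6_4⟩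
                have z_2_6 : T.a u2 u6 = 0 := cl_2 u6 ⟨hn_6_0, hn_6_1, hn_6_2, hn_6_3, hn_6_4, hn_6_5⟩
                rcases Groth.Agent.Helper6.NT.edge5 T h2 (by norm_num) u3 u6 hn_6_3.symm e_3_6 with ⟨tw_3_6, tap_3_6, taq_3_6⟩ | ⟨tw_3_6, tap_3_6, taq_3_6⟩ | ⟨tw_3_6, tap_3_6, taq_3_6⟩ | ⟨tw_3_6, tap_3_6, taq_3_6⟩ | ⟨tw_3_6, tap_3_6, taq_3_6⟩
                · -- (3,6) S
                  rcases eq_or_ne (T.a u4 u6) 0 with z_4_6 | nz_4_6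
                  · -- (4,6) zero
                    rcases eq_or_ne (T.a u5 u6) 0 with z_5_6 | nz_5_6
                    · -- (5,6) zero
                      exact Groth.Agent.Helper6.G1.cut9_15 T h2 u0 u1 u2 u3 u4 u5 u6 hn_1_0 e_0_1 tw_0_1 tap_0_1 taq_0_1 hn_2_0 hn_2_1 e_0_2 tw_0_2 tap_0_2 taq_0_2 z_1_2 cl_0 hn_3_0 hn_3_1 hn_3_2 e_1_3 z_0_3 tw_1_3 tap_1_3 taq_1_3 z_2_3 hn_4_0 hn_4_1 hn_4_2 hn_4_3 e_1_4 z_0_4 tw_1_4 tap_1_4 taq_1_4 z_2_4 z_3_4 cl_1 hn_5_0 hn_5_1 hn_5_2 hn_5_3 hn_5_4 e_2_5 z_0_5 z_1_5 tw_2_5 tap_2_5 taq_2_5 z_3_5 z_4_5 cl_2 hn_6_0 hn_6_1 hn_6_2 hn_6_3 hn_6_4 hn_6_5 e_3_6 z_0_6 z_1_6 z_2_6 tw_3_6 tap_3_6 taq_3_6 z_4_6 z_5_6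
                    · -- (5,6) nonzero
                      obtain ⟨lbp_5_6, lbq_5_6⟩ := Groth.Agent.Helper6.NT.lb T u5 u6 hn_6_5.symm nz_5_6
                      exfalso
                      have key := Groth.Agent.Helper6.NT.negfun6 T h2 u0 u1 u2 u3 u5 u6 (by norm_num) 1 1 1 1 1 1 (by norm_num) (by norm_num)
                      linarith only [key, tap_0_1, taq_0_1, tap_0_2, taq_0_2, z_0_3, z_0_5, z_0_6, z_1_2, tap_1_3, taq_1_3, z_1_5, z_1_6, z_2_3, tap_2_5, taq_2_5, z_2_6, z_3_5, tap_3_6, taq_3_6, lbp_5_6, lbq_5_6, T.w_pos u0, T.w_pos u1, T.w_pos u2, T.w_pos u3, T.w_pos u5, T.w_pos u6]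
                  · -- (4,6) nonzero
                    obtain ⟨lbp_4_6, lbq_4_6⟩ := Groth.Agent.Helper6.NT.lb T u4 u6 hn_6_4.symm nz_4_6
                    exfalso
                    have key := Groth.Agent.Helper6.NT.negfun4 T h2 u1 u3 u4 u6 (by norm_num) 1 1 1 1 (by norm_num) (by norm_num)
                    linarith only [key, tap_1_3, taq_1_3, tap_1_4, taq_1_4, z_1_6, z_3_4, tap_3_6, taq_3_6, lbp_4_6, lbq_4_6, T.w_pos u1, T.w_pos u3, T.w_pos u4, T.w_pos u6]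
                · -- (3,6) Dp
                  exfalso
                  have key := Groth.Agent.Helper6.NT.negfun5 T h2 u0 u1 u3 u4 u6 (by norm_num) 1 2 2 1 1 (by norm_num) (by norm_num)
                  linarith only [key, tap_0_1, taq_0_1, z_0_3, z_0_4, z_0_6, tap_1_3, taq_1_3, tap_1_4, taq_1_4, z_1_6, z_3_4, tap_3_6, taq_3_6, T.offDiag_nonneg u4 u6 hn_6_4.symm, T.w_pos u0, T.w_pos u1, T.w_pos u3, T.w_pos u4, T.w_pos u6]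
                · -- (3,6) Dm
                  exfalso
                  have key := Groth.Agent.Helper6.NT.negfun5 T h2 u0 u1 u3 u4 u6 (by norm_num) 1 2 2 1 2 (by norm_num) (by norm_num)
                  linarith only [key, tap_0_1, taq_0_1, z_0_3, z_0_4, z_0_6, tap_1_3, taq_1_3, tap_1_4, taq_1_4, z_1_6, z_3_4, tap_3_6, taq_3_6, T.offDiag_nonneg u4 u6 hn_6_4.symm, T.w_pos u0, T.w_pos u1, T.w_pos u3, T.w_pos u4, T.w_pos u6]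
                · -- (3,6) Tp
                  exfalso
                  have key := Groth.Agent.Helper6.NT.negfun3 T h2 u1 u3 u6 (by norm_num) 1 2 1 (by norm_num) (by norm_num)
                  linarith only [key, tap_1_3, taq_1_3, z_1_6, tap_3_6, taq_3_6, T.w_pos u1, T.w_pos u3, T.w_pos u6]
                · -- (3,6) Tm
                  exfalso
                  have key := Groth.Agent.Helper6.NT.negfun3 T h2 u1 u3 u6 (by norm_num) 1 2 3 (by norm_num) (by norm_num)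
                  linarith only [key, tap_1_3, taq_1_3, z_1_6, tap_3_6, taq_3_6, T.w_pos u1, T.w_pos u3, T.w_pos u6]
              · push Not at hx
                have cl_3 := hx
                clear hx
                by_cases hx : ∃ j, (j ≠ u0 ∧ j ≠ u1 ∧ j ≠ u2 ∧ j ≠ u3 ∧ j ≠ u4 ∧ j ≠ u5) ∧ T.a u4 j ≠ 0
                · obtain ⟨u6, ⟨hn_6_0, hn_6_1, hn_6_2, hn_6_3, hn_6_4, hn_6_5⟩, e_4_6⟩ := hx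
                  have z_0_6 : T.a u0 u6 = 0 := cl_0 u6 ⟨hn_6_0, hn_6_1, hn_6_2⟩
                  have z_1_6 : T.a u1 u6 = 0 := cl_1 u6 ⟨hn_6_0, hn_6_1, hn_6_2, hn_6_3, hn_6_4⟩
                  have z_2_6 : T.a u2 u6 = 0 := cl_2 u6 ⟨hn_6_0, hn_6_1, hn_6_2, hn_6_3, hn_6_4, hn_6_5⟩
                  have z_3_6 : T.a u3 u6 = 0 := cl_3 u6 ⟨hn_6_0, hn_6_1, hn_6_2, hn_6_3, hn_6_4, hn_6_5⟩
                  rcases Groth.Agent.Helper6.NT.edge5 T h2 (by norm_num) u4 u6 hn_6_4.symm e_4_6 with ⟨tw_4_6, tap_4_6, taq_4_6⟩ | ⟨tw_4_6, tap_4_6, taq_4_6⟩ | ⟨tw_4_6, tap_4_6, taq_4_6⟩ | ⟨tw_4_6, tap_4_6, taq_4_6⟩ | ⟨tw_4_6, tap_4_6, taq_4_6⟩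
                  · -- (4,6) S
                    rcases eq_or_ne (T.a u5 u6) 0 with z_5_6 | nz_5_6
                    · -- (5,6) zero
                      exact Groth.Agent.Helper6.G1.cut9_16 T h2 u0 u1 u2 u3 u4 u5 u6 hn_1_0 e_0_1 tw_0_1 tap_0_1 taq_0_1 hn_2_0 hn_2_1 e_0_2 tw_0_2 tap_0_2 taq_0_2 z_1_2 cl_0 hn_3_0 hn_3_1 hn_3_2 e_1_3 z_0_3 tw_1_3 tap_1_3 taq_1_3 z_2_3 hn_4_0 hn_4_1 hn_4_2 hn_4_3 e_1_4 z_0_4 tw_1_4 tap_1_4 taq_1_4 z_2_4 z_3_4 cl_1 hn_5_0 hn_5_1 hn_5_2 hn_5_3 hn_5_4 e_2_5 z_0_5 z_1_5 tw_2_5 tap_2_5 taq_2_5 z_3_5 z_4_5 cl_2 cl_3 hn_6_0 hn_6_1 hn_6_2 hn_6_3 hn_6_4 hn_6_5 e_4_6 z_0_6 z_1_6 z_2_6 z_3_6 tw_4_6 tap_4_6 taq_4_6 z_5_6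
                    · -- (5,6) nonzero
                      obtain ⟨lbp_5_6, lbq_5_6⟩ := Groth.Agent.Helper6.NT.lb T u5 u6 hn_6_5.symm nz_5_6
                      exfalso
                      have key := Groth.Agent.Helper6.NT.negfun6 T h2 u0 u1 u2 u4 u5 u6 (by norm_num) 1 1 1 1 1 1 (by norm_num) (by norm_num)
                      linarith only [key, tap_0_1, taq_0_1, tap_0_2, taq_0_2, z_0_4, z_0_5, z_0_6, z_1_2, tap_1_4, taq_1_4, z_1_5, z_1_6, z_2_4, tap_2_5, taq_2_5, z_2_6, z_4_5, tap_4_6, taq_4_6, lbp_5_6, lbq_5_6, T.w_pos u0, T.w_pos u1, T.w_pos u2, T.w_pos u4, T.w_pos u5, T.w_pos u6]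
                  · -- (4,6) Dp
                    exfalso
                    have key := Groth.Agent.Helper6.NT.negfun5 T h2 u0 u1 u3 u4 u6 (by norm_num) 1 2 1 2 1 (by norm_num) (by norm_num)
                    linarith only [key, tap_0_1, taq_0_1, z_0_3, z_0_4, z_0_6, tap_1_3, taq_1_3, tap_1_4, taq_1_4, z_1_6, z_3_4, z_3_6, tap_4_6, taq_4_6, T.w_pos u0, T.w_pos u1, T.w_pos u3, T.w_pos u4, T.w_pos u6]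
                  · -- (4,6) Dm
                    exfalso
                    have key := Groth.Agent.Helper6.NT.negfun5 T h2 u0 u1 u3 u4 u6 (by norm_num) 1 2 1 2 2 (by norm_num) (by norm_num)
                    linarith only [key, tap_0_1, taq_0_1, z_0_3, z_0_4, z_0_6, tap_1_3, taq_1_3, tap_1_4, taq_1_4, z_1_6, z_3_4, z_3_6, tap_4_6, taq_4_6, T.w_pos u0, T.w_pos u1, T.w_pos u3, T.w_pos u4, T.w_pos u6]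
                  · -- (4,6) Tp
                    exfalso
                    have key := Groth.Agent.Helper6.NT.negfun3 T h2 u1 u4 u6 (by norm_num) 1 2 1 (by norm_num) (by norm_num)
                    linarith only [key, tap_1_4, taq_1_4, z_1_6, tap_4_6, taq_4_6, T.w_pos u1, T.w_pos u4, T.w_pos u6]
                  · -- (4,6) Tm
                    exfalso
                    have key := Groth.Agent.Helper6.NT.negfun3 T h2 u1 u4 u6 (by norm_num) 1 2 3 (by norm_num) (by norm_num)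
                    linarith only [key, tap_1_4, taq_1_4, z_1_6, tap_4_6, taq_4_6, T.w_pos u1, T.w_pos u4, T.w_pos u6]
                · push Not at hx
                  have cl_4 := hx
                  clear hx
                  by_cases hx : ∃ j, (j ≠ u0 ∧ j ≠ u1 ∧ j ≠ u2 ∧ j ≠ u3 ∧ j ≠ u4 ∧ j ≠ u5) ∧ T.a u5 j ≠ 0
                  · obtain ⟨u6, ⟨hn_6_0, hn_6_1, hn_6_2, hn_6_3, hn_6_4, hn_6_5⟩, e_5_6⟩ := hx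
                    have z_0_6 : T.a u0 u6 = 0 := cl_0 u6 ⟨hn_6_0, hn_6_1, hn_6_2⟩
                    have z_1_6 : T.a u1 u6 = 0 := cl_1 u6 ⟨hn_6_0, hn_6_1, hn_6_2, hn_6_3, hn_6_4⟩
                    have z_2_6 : T.a u2 u6 = 0 := cl_2 u6 ⟨hn_6_0, hn_6_1, hn_6_2, hn_6_3, hn_6_4, hn_6_5⟩
                    have z_3_6 : T.a u3 u6 = 0 := cl_3 u6 ⟨hn_6_0, hn_6_1, hn_6_2, hn_6_3, hn_6_4, hn_6_5⟩
                    have z_4_6 : T.a u4 u6 = 0 := cl_4 u6 ⟨hn_6_0, hn_6_1, hn_6_2, hn_6_3, hn_6_4, hn_6_5⟩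
                    rcases Groth.Agent.Helper6.NT.edge5 T h2 (by norm_num) u5 u6 hn_6_5.symm e_5_6 with ⟨tw_5_6, tap_5_6, taq_5_6⟩ | ⟨tw_5_6, tap_5_6, taq_5_6⟩ | ⟨tw_5_6, tap_5_6, taq_5_6⟩ | ⟨tw_5_6, tap_5_6, taq_5_6⟩ | ⟨tw_5_6, tap_5_6, taq_5_6⟩
                    · -- (5,6) S
                      exact Groth.Agent.Helper6.G1.cut9_17 T h2 u0 u1 u2 u3 u4 u5 u6 hn_1_0 e_0_1 tw_0_1 tap_0_1 taq_0_1 hn_2_0 hn_2_1 e_0_2 tw_0_2 tap_0_2 taq_0_2 z_1_2 cl_0 hn_3_0 hn_3_1 hn_3_2 e_1_3 z_0_3 tw_1_3 tap_1_3 taq_1_3 z_2_3 hn_4_0 hn_4_1 hn_4_2 hn_4_3 e_1_4 z_0_4 tw_1_4 tap_1_4 taq_1_4 z_2_4 z_3_4 cl_1 hn_5_0 hn_5_1 hn_5_2 hn_5_3 hn_5_4 e_2_5 z_0_5 z_1_5 tw_2_5 tap_2_5 taq_2_5 z_3_5 z_4_5 cl_2 cl_3 cl_4 hn_6_0 hn_6_1 hn_6_2 hn_6_3 hn_6_4 hn_6_5 e_5_6 z_0_6 z_1_6 z_2_6 z_3_6 z_4_6 tw_5_6 tap_5_6 taq_5_6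
                    · -- (5,6) Dp
                      exfalso
                      have key := Groth.Agent.Helper6.NT.negfun7 T h2 u0 u1 u2 u3 u4 u5 u6 (by norm_num) 2 2 2 1 1 2 1 (by norm_num) (by norm_num)
                      linarith only [key, tap_0_1, taq_0_1, tap_0_2, taq_0_2, z_0_3, z_0_4, z_0_5, z_0_6, z_1_2, tap_1_3, taq_1_3, tap_1_4, taq_1_4, z_1_5, z_1_6, z_2_3, z_2_4, tap_2_5, taq_2_5, z_2_6, z_3_4, z_3_5, z_3_6, z_4_5, z_4_6, tap_5_6, taq_5_6, T.w_pos u0, T.w_pos u1, T.w_pos u2, T.w_pos u3, T.w_pos u4, T.w_pos u5, T.w_pos u6]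
                    · -- (5,6) Dm
                      exfalso
                      have key := Groth.Agent.Helper6.NT.negfun7 T h2 u0 u1 u2 u3 u4 u5 u6 (by norm_num) 2 2 2 1 1 2 2 (by norm_num) (by norm_num)
                      linarith only [key, tap_0_1, taq_0_1, tap_0_2, taq_0_2, z_0_3, z_0_4, z_0_5, z_0_6, z_1_2, tap_1_3, taq_1_3, tap_1_4, taq_1_4, z_1_5, z_1_6, z_2_3, z_2_4, tap_2_5, taq_2_5, z_2_6, z_3_4, z_3_5, z_3_6, z_4_5, z_4_6, tap_5_6, taq_5_6, T.w_pos u0, T.w_pos u1, T.w_pos u2, T.w_pos u3, T.w_pos u4, T.w_pos u5, T.w_pos u6]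
                    · -- (5,6) Tp
                      exfalso
                      have key := Groth.Agent.Helper6.NT.negfun3 T h2 u2 u5 u6 (by norm_num) 1 2 1 (by norm_num) (by norm_num)
                      linarith only [key, tap_2_5, taq_2_5, z_2_6, tap_5_6, taq_5_6, T.w_pos u2, T.w_pos u5, T.w_pos u6]
                    · -- (5,6) Tm
                      exfalso
                      have key := Groth.Agent.Helper6.NT.negfun3 T h2 u2 u5 u6 (by norm_num) 1 2 3 (by norm_num) (by norm_num)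
                      linarith only [key, tap_2_5, taq_2_5, z_2_6, tap_5_6, taq_5_6, T.w_pos u2, T.w_pos u5, T.w_pos u6]
                  · push Not at hx
                    have cl_5 := hx
                    clear hx
                    exfalso
                    refine Groth.Agent.Helper6.NT.closed_contra T [u0, u1, u2, u3, u4, u5] (by simp) (by simp) ?_
                    intro i hi j hj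
                    simp only [List.mem_cons, List.not_mem_nil, or_false, not_or] at hi hj
                    rcases hi with rfl | rfl | rfl | rfl | rfl | rfl
                    · exact cl_0 j ⟨hj.1, hj.2.1, hj.2.2.1⟩
                    · exact cl_1 j ⟨hj.1, hj.2.1, hj.2.2.1, hj.2.2.2.1, hj.2.2.2.2.1⟩
                    · exact cl_2 j ⟨hj.1, hj.2.1, hj.2.2.1, hj.2.2.2.1, hj.2.2.2.2.1, hj.2.2.2.2.2⟩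
                    · exact cl_3 j ⟨hj.1, hj.2.1, hj.2.2.1, hj.2.2.2.1, hj.2.2.2.2.1, hj.2.2.2.2.2⟩
                    · exact cl_4 j ⟨hj.1, hj.2.1, hj.2.2.1, hj.2.2.2.1, hj.2.2.2.2.1, hj.2.2.2.2.2⟩
                    · exact cl_5 j ⟨hj.1, hj.2.1, hj.2.2.1, hj.2.2.2.1, hj.2.2.2.2.1, hj.2.2.2.2.2⟩
          · -- (4,5) nonzero
            obtain ⟨lbp_4_5, lbq_4_5⟩ := Groth.Agent.Helper6.NT.lb T u4 u5 hn_5_4.symm nz_4_5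
            exfalso
            have key := Groth.Agent.Helper6.NT.negfun5 T h2 u0 u1 u2 u4 u5 (by norm_num) 1 1 1 1 1 (by norm_num) (by norm_num)
            linarith only [key, tap_0_1, taq_0_1, tap_0_2, taq_0_2, z_0_4, z_0_5, z_1_2, tap_1_4, taq_1_4, z_1_5, z_2_4, tap_2_5, taq_2_5, lbp_4_5, lbq_4_5, T.w_pos u0, T.w_pos u1, T.w_pos u2, T.w_pos u4, T.w_pos u5]
        · -- (3,5) nonzero
          obtain ⟨lbp_3_5, lbq_3_5⟩ := Groth.Agent.Helper6.NT.lb T u3 u5 hn_5_3.symm nz_3_5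
          exfalso
          have key := Groth.Agent.Helper6.NT.negfun5 T h2 u0 u1 u2 u3 u5 (by norm_num) 1 1 1 1 1 (by norm_num) (by norm_num)
          linarith only [key, tap_0_1, taq_0_1, tap_0_2, taq_0_2, z_0_3, z_0_5, z_1_2, tap_1_3, taq_1_3, z_1_5, z_2_3, tap_2_5, taq_2_5, lbp_3_5, lbq_3_5, T.w_pos u0, T.w_pos u1, T.w_pos u2, T.w_pos u3, T.w_pos u5]
      · -- (2,5) Dp
        exfalso
        have key := Groth.Agent.Helper6.NT.negfun6 T h2 u0 u1 u2 u3 u4 u5 (by norm_num) 2 2 2 1 1 1 (by norm_num) (by norm_num)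
        linarith only [key, tap_0_1, taq_0_1, tap_0_2, taq_0_2, z_0_3, z_0_4, z_0_5, z_1_2, tap_1_3, taq_1_3, tap_1_4, taq_1_4, z_1_5, z_2_3, z_2_4, tap_2_5, taq_2_5, z_3_4, T.offDiag_nonneg u3 u5 hn_5_3.symm, T.offDiag_nonneg u4 u5 hn_5_4.symm, T.w_pos u0, T.w_pos u1, T.w_pos u2, T.w_pos u3, T.w_pos u4, T.w_pos u5]
      · -- (2,5) Dm
        exfalso
        have key := Groth.Agent.Helper6.NT.negfun6 T h2 u0 u1 u2 u3 u4 u5 (by norm_num) 2 2 2 1 1 2 (by norm_num) (by norm_num)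
        linarith only [key, tap_0_1, taq_0_1, tap_0_2, taq_0_2, z_0_3, z_0_4, z_0_5, z_1_2, tap_1_3, taq_1_3, tap_1_4, taq_1_4, z_1_5, z_2_3, z_2_4, tap_2_5, taq_2_5, z_3_4, T.offDiag_nonneg u3 u5 hn_5_3.symm, T.offDiag_nonneg u4 u5 hn_5_4.symm, T.w_pos u0, T.w_pos u1, T.w_pos u2, T.w_pos u3, T.w_pos u4, T.w_pos u5]
      · -- (2,5) Tp
        exfalso
        have key := Groth.Agent.Helper6.NT.negfun3 T h2 u0 u2 u5 (by norm_num) 1 2 1 (by norm_num) (by norm_num)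
        linarith only [key, tap_0_2, taq_0_2, z_0_5, tap_2_5, taq_2_5, T.w_pos u0, T.w_pos u2, T.w_pos u5]
      · -- (2,5) Tm
        exfalso
        have key := Groth.Agent.Helper6.NT.negfun3 T h2 u0 u2 u5 (by norm_num) 1 2 3 (by norm_num) (by norm_num)
        linarith only [key, tap_0_2, taq_0_2, z_0_5, tap_2_5, taq_2_5, T.w_pos u0, T.w_pos u2, T.w_pos u5]
    · push Not at hx
      have cl_2 := hx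
      clear hx
      by_cases hx : ∃ j, (j ≠ u0 ∧ j ≠ u1 ∧ j ≠ u2 ∧ j ≠ u3 ∧ j ≠ u4) ∧ T.a u3 j ≠ 0
      · obtain ⟨u5, ⟨hn_5_0, hn_5_1, hn_5_2, hn_5_3, hn_5_4⟩, e_3_5⟩ := hx
        have z_0_5 : T.a u0 u5 = 0 := cl_0 u5 ⟨hn_5_0, hn_5_1, hn_5_2⟩
        have z_1_5 : T.a u1 u5 = 0 := cl_1 u5 ⟨hn_5_0, hn_5_1, hn_5_2, hn_5_3, hn_5_4⟩
        have z_2_5 : T.a u2 u5 = 0 := cl_2 u5 ⟨hn_5_0, hn_5_1, hn_5_2, hn_5_3, hn_5_4⟩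
        rcases Groth.Agent.Helper6.NT.edge5 T h2 (by norm_num) u3 u5 hn_5_3.symm e_3_5 with ⟨tw_3_5, tap_3_5, taq_3_5⟩ | ⟨tw_3_5, tap_3_5, taq_3_5⟩ | ⟨tw_3_5, tap_3_5, taq_3_5⟩ | ⟨tw_3_5, tap_3_5, taq_3_5⟩ | ⟨tw_3_5, tap_3_5, taq_3_5⟩
        · -- (3,5) S
          rcases eq_or_ne (T.a u4 u5) 0 with z_4_5 | nz_4_5
          · -- (4,5) zero
            by_cases hx : ∃ j, (j ≠ u0 ∧ j ≠ u1 ∧ j ≠ u2 ∧ j ≠ u3 ∧ j ≠ u4 ∧ j ≠ u5) ∧ T.a u3 j ≠ 0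
            · obtain ⟨u6, ⟨hn_6_0, hn_6_1, hn_6_2, hn_6_3, hn_6_4, hn_6_5⟩, e_3_6⟩ := hx
              have z_0_6 : T.a u0 u6 = 0 := cl_0 u6 ⟨hn_6_0, hn_6_1, hn_6_2⟩
              have z_1_6 : T.a u1 u6 = 0 := cl_1 u6 ⟨hn_6_0, hn_6_1, hn_6_2, hn_6_3, hn_6_4⟩
              have z_2_6 : T.a u2 u6 = 0 := cl_2 u6 ⟨hn_6_0, hn_6_1, hn_6_2, hn_6_3, hn_6_4⟩
              rcases Groth.Agent.Helper6.NT.edge5 T h2 (by norm_num) u3 u6 hn_6_3.symm e_3_6 with ⟨tw_3_6, tap_3_6, taq_3_6⟩ | ⟨tw_3_6, tap_3_6, taq_3_6⟩ | ⟨tw_3_6, tap_3_6, taq_3_6⟩ | ⟨tw_3_6, tap_3_6, taq_3_6⟩ | ⟨tw_3_6, tap_3_6, taq_3_6⟩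
              · -- (3,6) S
                exfalso
                have key := Groth.Agent.Helper6.NT.negfun6 T h2 u0 u1 u3 u4 u5 u6 (by norm_num) 1 2 2 1 1 1 (by norm_num) (by norm_num)
                linarith only [key, tap_0_1, taq_0_1, z_0_3, z_0_4, z_0_5, z_0_6, tap_1_3, taq_1_3, tap_1_4, taq_1_4, z_1_5, z_1_6, z_3_4, tap_3_5, taq_3_5, tap_3_6, taq_3_6, z_4_5, T.offDiag_nonneg u4 u6 hn_6_4.symm, T.offDiag_nonneg u5 u6 hn_6_5.symm, T.w_pos u0, T.w_pos u1, T.w_pos u3, T.w_pos u4, T.w_pos u5, T.w_pos u6]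
              · -- (3,6) Dp
                exfalso
                have key := Groth.Agent.Helper6.NT.negfun4 T h2 u1 u3 u5 u6 (by norm_num) 1 2 1 1 (by norm_num) (by norm_num)
                linarith only [key, tap_1_3, taq_1_3, z_1_5, z_1_6, tap_3_5, taq_3_5, tap_3_6, taq_3_6, T.offDiag_nonneg u5 u6 hn_6_5.symm, T.w_pos u1, T.w_pos u3, T.w_pos u5, T.w_pos u6]
              · -- (3,6) Dm
                exfalso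
                have key := Groth.Agent.Helper6.NT.negfun4 T h2 u1 u3 u5 u6 (by norm_num) 1 2 1 2 (by norm_num) (by norm_num)
                linarith only [key, tap_1_3, taq_1_3, z_1_5, z_1_6, tap_3_5, taq_3_5, tap_3_6, taq_3_6, T.offDiag_nonneg u5 u6 hn_6_5.symm, T.w_pos u1, T.w_pos u3, T.w_pos u5, T.w_pos u6]
              · -- (3,6) Tp
                exfalso
                have key := Groth.Agent.Helper6.NT.negfun3 T h2 u3 u5 u6 (by norm_num) 2 1 1 (by norm_num) (by norm_num)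
                linarith only [key, tap_3_5, taq_3_5, tap_3_6, taq_3_6, T.offDiag_nonneg u5 u6 hn_6_5.symm, T.w_pos u3, T.w_pos u5, T.w_pos u6]
              · -- (3,6) Tm
                exfalso
                have key := Groth.Agent.Helper6.NT.negfun3 T h2 u3 u5 u6 (by norm_num) 2 1 3 (by norm_num) (by norm_num)
                linarith only [key, tap_3_5, taq_3_5, tap_3_6, taq_3_6, T.offDiag_nonneg u5 u6 hn_6_5.symm, T.w_pos u3, T.w_pos u5, T.w_pos u6]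
            · push Not at hx
              have cl_3 := hx
              clear hx
              by_cases hx : ∃ j, (j ≠ u0 ∧ j ≠ u1 ∧ j ≠ u2 ∧ j ≠ u3 ∧ j ≠ u4 ∧ j ≠ u5) ∧ T.a u4 j ≠ 0
              · obtain ⟨u6, ⟨hn_6_0, hn_6_1, hn_6_2, hn_6_3, hn_6_4, hn_6_5⟩, e_4_6⟩ := hx
                have z_0_6 : T.a u0 u6 = 0 := cl_0 u6 ⟨hn_6_0, hn_6_1, hn_6_2⟩
                have z_1_6 : T.a u1 u6 = 0 := cl_1 u6 ⟨hn_6_0, hn_6_1, hn_6_2, hn_6_3, hn_6_4⟩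
                have z_2_6 : T.a u2 u6 = 0 := cl_2 u6 ⟨hn_6_0, hn_6_1, hn_6_2, hn_6_3, hn_6_4⟩
                have z_3_6 : T.a u3 u6 = 0 := cl_3 u6 ⟨hn_6_0, hn_6_1, hn_6_2, hn_6_3, hn_6_4, hn_6_5⟩
                rcases Groth.Agent.Helper6.NT.edge5 T h2 (by norm_num) u4 u6 hn_6_4.symm e_4_6 with ⟨tw_4_6, tap_4_6, taq_4_6⟩ | ⟨tw_4_6, tap_4_6, taq_4_6⟩ | ⟨tw_4_6, tap_4_6, taq_4_6⟩ | ⟨tw_4_6, tap_4_6, taq_4_6⟩ | ⟨tw_4_6, tap_4_6, taq_4_6⟩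
                · -- (4,6) S
                  exfalso
                  have key := Groth.Agent.Helper6.NT.negfun7 T h2 u0 u1 u2 u3 u4 u5 u6 (by norm_num) 2 3 1 2 2 1 1 (by norm_num) (by norm_num)
                  linarith only [key, tap_0_1, taq_0_1, tap_0_2, taq_0_2, z_0_3, z_0_4, z_0_5, z_0_6, z_1_2, tap_1_3, taq_1_3, tap_1_4, taq_1_4, z_1_5, z_1_6, z_2_3, z_2_4, z_2_5, z_2_6, z_3_4, tap_3_5, taq_3_5, z_3_6, z_4_5, tap_4_6, taq_4_6, T.offDiag_nonneg u5 u6 hn_6_5.symm, T.w_pos u0, T.w_pos u1, T.w_pos u2, T.w_pos u3, T.w_pos u4, T.w_pos u5, T.w_pos u6]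
                · -- (4,6) Dp
                  exfalso
                  have key := Groth.Agent.Helper6.NT.negfun5 T h2 u0 u1 u3 u4 u6 (by norm_num) 1 2 1 2 1 (by norm_num) (by norm_num)
                  linarith only [key, tap_0_1, taq_0_1, z_0_3, z_0_4, z_0_6, tap_1_3, taq_1_3, tap_1_4, taq_1_4, z_1_6, z_3_4, z_3_6, tap_4_6, taq_4_6, T.w_pos u0, T.w_pos u1, T.w_pos u3, T.w_pos u4, T.w_pos u6]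
                · -- (4,6) Dm
                  exfalso
                  have key := Groth.Agent.Helper6.NT.negfun5 T h2 u0 u1 u3 u4 u6 (by norm_num) 1 2 1 2 2 (by norm_num) (by norm_num)
                  linarith only [key, tap_0_1, taq_0_1, z_0_3, z_0_4, z_0_6, tap_1_3, taq_1_3, tap_1_4, taq_1_4, z_1_6, z_3_4, z_3_6, tap_4_6, taq_4_6, T.w_pos u0, T.w_pos u1, T.w_pos u3, T.w_pos u4, T.w_pos u6]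
                · -- (4,6) Tp
                  exfalso
                  have key := Groth.Agent.Helper6.NT.negfun3 T h2 u1 u4 u6 (by norm_num) 1 2 1 (by norm_num) (by norm_num)
                  linarith only [key, tap_1_4, taq_1_4, z_1_6, tap_4_6, taq_4_6, T.w_pos u1, T.w_pos u4, T.w_pos u6]
                · -- (4,6) Tm
                  exfalso
                  have key := Groth.Agent.Helper6.NT.negfun3 T h2 u1 u4 u6 (by norm_num) 1 2 3 (by norm_num) (by norm_num)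
                  linarith only [key, tap_1_4, taq_1_4, z_1_6, tap_4_6, taq_4_6, T.w_pos u1, T.w_pos u4, T.w_pos u6]
              · push Not at hx
                have cl_4 := hx
                clear hx
                by_cases hx : ∃ j, (j ≠ u0 ∧ j ≠ u1 ∧ j ≠ u2 ∧ j ≠ u3 ∧ j ≠ u4 ∧ j ≠ u5) ∧ T.a u5 j ≠ 0
                · obtain ⟨u6, ⟨hn_6_0, hn_6_1, hn_6_2, hn_6_3, hn_6_4, hn_6_5⟩, e_5_6⟩ := hx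
                  have z_0_6 : T.a u0 u6 = 0 := cl_0 u6 ⟨hn_6_0, hn_6_1, hn_6_2⟩
                  have z_1_6 : T.a u1 u6 = 0 := cl_1 u6 ⟨hn_6_0, hn_6_1, hn_6_2, hn_6_3, hn_6_4⟩
                  have z_2_6 : T.a u2 u6 = 0 := cl_2 u6 ⟨hn_6_0, hn_6_1, hn_6_2, hn_6_3, hn_6_4⟩
                  have z_3_6 : T.a u3 u6 = 0 := cl_3 u6 ⟨hn_6_0, hn_6_1, hn_6_2, hn_6_3, hn_6_4, hn_6_5⟩
                  have z_4_6 : T.a u4 u6 = 0 := cl_4 u6 ⟨hn_6_0, hn_6_1, hn_6_2, hn_6_3, hn_6_4, hn_6_5⟩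
                  rcases Groth.Agent.Helper6.NT.edge5 T h2 (by norm_num) u5 u6 hn_6_5.symm e_5_6 with ⟨tw_5_6, tap_5_6, taq_5_6⟩ | ⟨tw_5_6, tap_5_6, taq_5_6⟩ | ⟨tw_5_6, tap_5_6, taq_5_6⟩ | ⟨tw_5_6, tap_5_6, taq_5_6⟩ | ⟨tw_5_6, tap_5_6, taq_5_6⟩
                  · -- (5,6) S
                    exact Groth.Agent.Helper6.G1.cut9_18 T h2 u0 u1 u2 u3 u4 u5 u6 hn_1_0 e_0_1 tw_0_1 tap_0_1 taq_0_1 hn_2_0 hn_2_1 e_0_2 tw_0_2 tap_0_2 taq_0_2 z_1_2 cl_0 hn_3_0 hn_3_1 hn_3_2 e_1_3 z_0_3 tw_1_3 tap_1_3 taq_1_3 z_2_3 hn_4_0 hn_4_1 hn_4_2 hn_4_3 e_1_4 z_0_4 tw_1_4 tap_1_4 taq_1_4 z_2_4 z_3_4 cl_1 cl_2 hn_5_0 hn_5_1 hn_5_2 hn_5_3 hn_5_4 e_3_5 z_0_5 z_1_5 z_2_5 tw_3_5 tap_3_5 taq_3_5 z_4_5 cl_3 cl_4 hn_6_0 hn_6_1 hn_6_2 hn_6_3 hn_6_4 hn_6_5 e_5_6 z_0_6 z_1_6 z_2_6 z_3_6 z_4_6 tw_5_6 tap_5_6 taq_5_6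
                  · -- (5,6) Dp
                    exfalso
                    have key := Groth.Agent.Helper6.NT.negfun6 T h2 u0 u1 u3 u4 u5 u6 (by norm_num) 1 2 2 1 2 1 (by norm_num) (by norm_num)
                    linarith only [key, tap_0_1, taq_0_1, z_0_3, z_0_4, z_0_5, z_0_6, tap_1_3, taq_1_3, tap_1_4, taq_1_4, z_1_5, z_1_6, z_3_4, tap_3_5, taq_3_5, z_3_6, z_4_5, z_4_6, tap_5_6, taq_5_6, T.w_pos u0, T.w_pos u1, T.w_pos u3, T.w_pos u4, T.w_pos u5, T.w_pos u6]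
                  · -- (5,6) Dm
                    exfalso
                    have key := Groth.Agent.Helper6.NT.negfun6 T h2 u0 u1 u3 u4 u5 u6 (by norm_num) 1 2 2 1 2 2 (by norm_num) (by norm_num)
                    linarith only [key, tap_0_1, taq_0_1, z_0_3, z_0_4, z_0_5, z_0_6, tap_1_3, taq_1_3, tap_1_4, taq_1_4, z_1_5, z_1_6, z_3_4, tap_3_5, taq_3_5, z_3_6, z_4_5, z_4_6, tap_5_6, taq_5_6, T.w_pos u0, T.w_pos u1, T.w_pos u3, T.w_pos u4, T.w_pos u5, T.w_pos u6]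
                  · -- (5,6) Tp
                    exfalso
                    have key := Groth.Agent.Helper6.NT.negfun3 T h2 u3 u5 u6 (by norm_num) 1 2 1 (by norm_num) (by norm_num)
                    linarith only [key, tap_3_5, taq_3_5, z_3_6, tap_5_6, taq_5_6, T.w_pos u3, T.w_pos u5, T.w_pos u6]
                  · -- (5,6) Tm
                    exfalso
                    have key := Groth.Agent.Helper6.NT.negfun3 T h2 u3 u5 u6 (by norm_num) 1 2 3 (by norm_num) (by norm_num)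
                    linarith only [key, tap_3_5, taq_3_5, z_3_6, tap_5_6, taq_5_6, T.w_pos u3, T.w_pos u5, T.w_pos u6]
                · push Not at hx
                  have cl_5 := hx
                  clear hx
                  exfalso
                  refine Groth.Agent.Helper6.NT.closed_contra T [u0, u1, u2, u3, u4, u5] (by simp) (by simp) ?_
                  intro i hi j hj
                  simp only [List.mem_cons, List.not_mem_nil, or_false, not_or] at hi hj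
                  rcases hi with rfl | rfl | rfl | rfl | rfl | rfl
                  · exact cl_0 j ⟨hj.1, hj.2.1, hj.2.2.1⟩
                  · exact cl_1 j ⟨hj.1, hj.2.1, hj.2.2.1, hj.2.2.2.1, hj.2.2.2.2.1⟩
                  · exact cl_2 j ⟨hj.1, hj.2.1, hj.2.2.1, hj.2.2.2.1, hj.2.2.2.2.1⟩
                  · exact cl_3 j ⟨hj.1, hj.2.1, hj.2.2.1, hj.2.2.2.1, hj.2.2.2.2.1, hj.2.2.2.2.2⟩
                  · exact cl_4 j ⟨hj.1, hj.2.1, hj.2.2.1, hj.2.2.2.1, hj.2.2.2.2.1, hj.2.2.2.2.2⟩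
                  · exact cl_5 j ⟨hj.1, hj.2.1, hj.2.2.1, hj.2.2.2.1, hj.2.2.2.2.1, hj.2.2.2.2.2⟩
          · -- (4,5) nonzero
            obtain ⟨lbp_4_5, lbq_4_5⟩ := Groth.Agent.Helper6.NT.lb T u4 u5 hn_5_4.symm nz_4_5
            exfalso
            have key := Groth.Agent.Helper6.NT.negfun4 T h2 u1 u3 u4 u5 (by norm_num) 1 1 1 1 (by norm_num) (by norm_num)
            linarith only [key, tap_1_3, taq_1_3, tap_1_4, taq_1_4, z_1_5, z_3_4, tap_3_5, taq_3_5, lbp_4_5, lbq_4_5, T.w_pos u1, T.w_pos u3, T.w_pos u4, T.w_pos u5]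
        · -- (3,5) Dp
          exfalso
          have key := Groth.Agent.Helper6.NT.negfun5 T h2 u0 u1 u3 u4 u5 (by norm_num) 1 2 2 1 1 (by norm_num) (by norm_num)
          linarith only [key, tap_0_1, taq_0_1, z_0_3, z_0_4, z_0_5, tap_1_3, taq_1_3, tap_1_4, taq_1_4, z_1_5, z_3_4, tap_3_5, taq_3_5, T.offDiag_nonneg u4 u5 hn_5_4.symm, T.w_pos u0, T.w_pos u1, T.w_pos u3, T.w_pos u4, T.w_pos u5]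
        · -- (3,5) Dm
          exfalso
          have key := Groth.Agent.Helper6.NT.negfun5 T h2 u0 u1 u3 u4 u5 (by norm_num) 1 2 2 1 2 (by norm_num) (by norm_num)
          linarith only [key, tap_0_1, taq_0_1, z_0_3, z_0_4, z_0_5, tap_1_3, taq_1_3, tap_1_4, taq_1_4, z_1_5, z_3_4, tap_3_5, taq_3_5, T.offDiag_nonneg u4 u5 hn_5_4.symm, T.w_pos u0, T.w_pos u1, T.w_pos u3, T.w_pos u4, T.w_pos u5]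
        · -- (3,5) Tp
          exfalso
          have key := Groth.Agent.Helper6.NT.negfun3 T h2 u1 u3 u5 (by norm_num) 1 2 1 (by norm_num) (by norm_num)
          linarith only [key, tap_1_3, taq_1_3, z_1_5, tap_3_5, taq_3_5, T.w_pos u1, T.w_pos u3, T.w_pos u5]
        · -- (3,5) Tm
          exfalso
          have key := Groth.Agent.Helper6.NT.negfun3 T h2 u1 u3 u5 (by norm_num) 1 2 3 (by norm_num) (by norm_num)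
          linarith only [key, tap_1_3, taq_1_3, z_1_5, tap_3_5, taq_3_5, T.w_pos u1, T.w_pos u3, T.w_pos u5]
      · push Not at hx
        have cl_3 := hx
        clear hx
        by_cases hx : ∃ j, (j ≠ u0 ∧ j ≠ u1 ∧ j ≠ u2 ∧ j ≠ u3 ∧ j ≠ u4) ∧ T.a u4 j ≠ 0
        · obtain ⟨u5, ⟨hn_5_0, hn_5_1, hn_5_2, hn_5_3, hn_5_4⟩, e_4_5⟩ := hx
          have z_0_5 : T.a u0 u5 = 0 := cl_0 u5 ⟨hn_5_0, hn_5_1, hn_5_2⟩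
          have z_1_5 : T.a u1 u5 = 0 := cl_1 u5 ⟨hn_5_0, hn_5_1, hn_5_2, hn_5_3, hn_5_4⟩
          have z_2_5 : T.a u2 u5 = 0 := cl_2 u5 ⟨hn_5_0, hn_5_1, hn_5_2, hn_5_3, hn_5_4⟩
          have z_3_5 : T.a u3 u5 = 0 := cl_3 u5 ⟨hn_5_0, hn_5_1, hn_5_2, hn_5_3, hn_5_4⟩
          rcases Groth.Agent.Helper6.NT.edge5 T h2 (by norm_num) u4 u5 hn_5_4.symm e_4_5 with ⟨tw_4_5, tap_4_5, taq_4_5⟩ | ⟨tw_4_5, tap_4_5, taq_4_5⟩ | ⟨tw_4_5, tap_4_5, taq_4_5⟩ | ⟨tw_4_5, tap_4_5, taq_4_5⟩ | ⟨tw_4_5, tap_4_5, taq_4_5⟩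
          · -- (4,5) S
            by_cases hx : ∃ j, (j ≠ u0 ∧ j ≠ u1 ∧ j ≠ u2 ∧ j ≠ u3 ∧ j ≠ u4 ∧ j ≠ u5) ∧ T.a u4 j ≠ 0
            · obtain ⟨u6, ⟨hn_6_0, hn_6_1, hn_6_2, hn_6_3, hn_6_4, hn_6_5⟩, e_4_6⟩ := hx
              have z_0_6 : T.a u0 u6 = 0 := cl_0 u6 ⟨hn_6_0, hn_6_1, hn_6_2⟩
              have z_1_6 : T.a u1 u6 = 0 := cl_1 u6 ⟨hn_6_0, hn_6_1, hn_6_2, hn_6_3, hn_6_4⟩
              have z_2_6 : T.a u2 u6 = 0 := cl_2 u6 ⟨hn_6_0, hn_6_1, hn_6_2, hn_6_3, hn_6_4⟩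
              have z_3_6 : T.a u3 u6 = 0 := cl_3 u6 ⟨hn_6_0, hn_6_1, hn_6_2, hn_6_3, hn_6_4⟩
              rcases Groth.Agent.Helper6.NT.edge5 T h2 (by norm_num) u4 u6 hn_6_4.symm e_4_6 with ⟨tw_4_6, tap_4_6, taq_4_6⟩ | ⟨tw_4_6, tap_4_6, taq_4_6⟩ | ⟨tw_4_6, tap_4_6, taq_4_6⟩ | ⟨tw_4_6, tap_4_6, taq_4_6⟩ | ⟨tw_4_6, tap_4_6, taq_4_6⟩
              · -- (4,6) S
                exfalso
                have key := Groth.Agent.Helper6.NT.negfun6 T h2 u0 u1 u3 u4 u5 u6 (by norm_num) 1 2 1 2 1 1 (by norm_num) (by norm_num)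
                linarith only [key, tap_0_1, taq_0_1, z_0_3, z_0_4, z_0_5, z_0_6, tap_1_3, taq_1_3, tap_1_4, taq_1_4, z_1_5, z_1_6, z_3_4, z_3_5, z_3_6, tap_4_5, taq_4_5, tap_4_6, taq_4_6, T.offDiag_nonneg u5 u6 hn_6_5.symm, T.w_pos u0, T.w_pos u1, T.w_pos u3, T.w_pos u4, T.w_pos u5, T.w_pos u6]
              · -- (4,6) Dp
                exfalso
                have key := Groth.Agent.Helper6.NT.negfun4 T h2 u1 u4 u5 u6 (by norm_num) 1 2 1 1 (by norm_num) (by norm_num)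
                linarith only [key, tap_1_4, taq_1_4, z_1_5, z_1_6, tap_4_5, taq_4_5, tap_4_6, taq_4_6, T.offDiag_nonneg u5 u6 hn_6_5.symm, T.w_pos u1, T.w_pos u4, T.w_pos u5, T.w_pos u6]
              · -- (4,6) Dm
                exfalso
                have key := Groth.Agent.Helper6.NT.negfun4 T h2 u1 u4 u5 u6 (by norm_num) 1 2 1 2 (by norm_num) (by norm_num)
                linarith only [key, tap_1_4, taq_1_4, z_1_5, z_1_6, tap_4_5, taq_4_5, tap_4_6, taq_4_6, T.offDiag_nonneg u5 u6 hn_6_5.symm, T.w_pos u1, T.w_pos u4, T.w_pos u5, T.w_pos u6]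
              · -- (4,6) Tp
                exfalso
                have key := Groth.Agent.Helper6.NT.negfun3 T h2 u4 u5 u6 (by norm_num) 2 1 1 (by norm_num) (by norm_num)
                linarith only [key, tap_4_5, taq_4_5, tap_4_6, taq_4_6, T.offDiag_nonneg u5 u6 hn_6_5.symm, T.w_pos u4, T.w_pos u5, T.w_pos u6]
              · -- (4,6) Tm
                exfalso
                have key := Groth.Agent.Helper6.NT.negfun3 T h2 u4 u5 u6 (by norm_num) 2 1 3 (by norm_num) (by norm_num)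
                linarith only [key, tap_4_5, taq_4_5, tap_4_6, taq_4_6, T.offDiag_nonneg u5 u6 hn_6_5.symm, T.w_pos u4, T.w_pos u5, T.w_pos u6]
            · push Not at hx
              have cl_4 := hx
              clear hx
              by_cases hx : ∃ j, (j ≠ u0 ∧ j ≠ u1 ∧ j ≠ u2 ∧ j ≠ u3 ∧ j ≠ u4 ∧ j ≠ u5) ∧ T.a u5 j ≠ 0
              · obtain ⟨u6, ⟨hn_6_0, hn_6_1, hn_6_2, hn_6_3, hn_6_4, hn_6_5⟩, e_5_6⟩ := hx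
                have z_0_6 : T.a u0 u6 = 0 := cl_0 u6 ⟨hn_6_0, hn_6_1, hn_6_2⟩
                have z_1_6 : T.a u1 u6 = 0 := cl_1 u6 ⟨hn_6_0, hn_6_1, hn_6_2, hn_6_3, hn_6_4⟩
                have z_2_6 : T.a u2 u6 = 0 := cl_2 u6 ⟨hn_6_0, hn_6_1, hn_6_2, hn_6_3, hn_6_4⟩
                have z_3_6 : T.a u3 u6 = 0 := cl_3 u6 ⟨hn_6_0, hn_6_1, hn_6_2, hn_6_3, hn_6_4⟩
                have z_4_6 : T.a u4 u6 = 0 := cl_4 u6 ⟨hn_6_0, hn_6_1, hn_6_2, hn_6_3, hn_6_4, hn_6_5⟩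
                rcases Groth.Agent.Helper6.NT.edge5 T h2 (by norm_num) u5 u6 hn_6_5.symm e_5_6 with ⟨tw_5_6, tap_5_6, taq_5_6⟩ | ⟨tw_5_6, tap_5_6, taq_5_6⟩ | ⟨tw_5_6, tap_5_6, taq_5_6⟩ | ⟨tw_5_6, tap_5_6, taq_5_6⟩ | ⟨tw_5_6, tap_5_6, taq_5_6⟩
                · -- (5,6) S
                  exact Groth.Agent.Helper6.G1.cut9_19 T h2 u0 u1 u2 u3 u4 u5 u6 hn_1_0 e_0_1 tw_0_1 tap_0_1 taq_0_1 hn_2_0 hn_2_1 e_0_2 tw_0_2 tap_0_2 taq_0_2 z_1_2 cl_0 hn_3_0 hn_3_1 hn_3_2 e_1_3 z_0_3 tw_1_3 tap_1_3 taq_1_3 z_2_3 hn_4_0 hn_4_1 hn_4_2 hn_4_3 e_1_4 z_0_4 tw_1_4 tap_1_4 taq_1_4 z_2_4 z_3_4 cl_1 cl_2 cl_3 hn_5_0 hn_5_1 hn_5_2 hn_5_3 hn_5_4 e_4_5 z_0_5 z_1_5 z_2_5 z_3_5 tw_4_5 tap_4_5 taq_4_5 cl_4 hn_6_0 hn_6_1 hn_6_2 hn_6_3 hn_6_4 hn_6_5 e_5_6 z_0_6 z_1_6 z_2_6 z_3_6 z_4_6 tw_5_6 tap_5_6 taq_5_6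
                · -- (5,6) Dp
                  exfalso
                  have key := Groth.Agent.Helper6.NT.negfun6 T h2 u0 u1 u3 u4 u5 u6 (by norm_num) 1 2 1 2 2 1 (by norm_num) (by norm_num)
                  linarith only [key, tap_0_1, taq_0_1, z_0_3, z_0_4, z_0_5, z_0_6, tap_1_3, taq_1_3, tap_1_4, taq_1_4, z_1_5, z_1_6, z_3_4, z_3_5, z_3_6, tap_4_5, taq_4_5, z_4_6, tap_5_6, taq_5_6, T.w_pos u0, T.w_pos u1, T.w_pos u3, T.w_pos u4, T.w_pos u5, T.w_pos u6]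
                · -- (5,6) Dm
                  exfalso
                  have key := Groth.Agent.Helper6.NT.negfun6 T h2 u0 u1 u3 u4 u5 u6 (by norm_num) 1 2 1 2 2 2 (by norm_num) (by norm_num)
                  linarith only [key, tap_0_1, taq_0_1, z_0_3, z_0_4, z_0_5, z_0_6, tap_1_3, taq_1_3, tap_1_4, taq_1_4, z_1_5, z_1_6, z_3_4, z_3_5, z_3_6, tap_4_5, taq_4_5, z_4_6, tap_5_6, taq_5_6, T.w_pos u0, T.w_pos u1, T.w_pos u3, T.w_pos u4, T.w_pos u5, T.w_pos u6]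
                · -- (5,6) Tp
                  exfalso
                  have key := Groth.Agent.Helper6.NT.negfun3 T h2 u4 u5 u6 (by norm_num) 1 2 1 (by norm_num) (by norm_num)
                  linarith only [key, tap_4_5, taq_4_5, z_4_6, tap_5_6, taq_5_6, T.w_pos u4, T.w_pos u5, T.w_pos u6]
                · -- (5,6) Tm
                  exfalso
                  have key := Groth.Agent.Helper6.NT.negfun3 T h2 u4 u5 u6 (by norm_num) 1 2 3 (by norm_num) (by norm_num)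
                  linarith only [key, tap_4_5, taq_4_5, z_4_6, tap_5_6, taq_5_6, T.w_pos u4, T.w_pos u5, T.w_pos u6]
              · push Not at hx
                have cl_5 := hx
                clear hx
                exfalso
                refine Groth.Agent.Helper6.NT.closed_contra T [u0, u1, u2, u3, u4, u5] (by simp) (by simp) ?_
                intro i hi j hj
                simp only [List.mem_cons, List.not_mem_nil, or_false, not_or] at hi hj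
                rcases hi with rfl | rfl | rfl | rfl | rfl | rfl
                · exact cl_0 j ⟨hj.1, hj.2.1, hj.2.2.1⟩
                · exact cl_1 j ⟨hj.1, hj.2.1, hj.2.2.1, hj.2.2.2.1, hj.2.2.2.2.1⟩
                · exact cl_2 j ⟨hj.1, hj.2.1, hj.2.2.1, hj.2.2.2.1, hj.2.2.2.2.1⟩
                · exact cl_3 j ⟨hj.1, hj.2.1, hj.2.2.1, hj.2.2.2.1, hj.2.2.2.2.1⟩
                · exact cl_4 j ⟨hj.1, hj.2.1, hj.2.2.1, hj.2.2.2.1, hj.2.2.2.2.1, hj.2.2.2.2.2⟩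
                · exact cl_5 j ⟨hj.1, hj.2.1, hj.2.2.1, hj.2.2.2.1, hj.2.2.2.2.1, hj.2.2.2.2.2⟩
          · -- (4,5) Dp
            exfalso
            have key := Groth.Agent.Helper6.NT.negfun5 T h2 u0 u1 u3 u4 u5 (by norm_num) 1 2 1 2 1 (by norm_num) (by norm_num)
            linarith only [key, tap_0_1, taq_0_1, z_0_3, z_0_4, z_0_5, tap_1_3, taq_1_3, tap_1_4, taq_1_4, z_1_5, z_3_4, z_3_5, tap_4_5, taq_4_5, T.w_pos u0, T.w_pos u1, T.w_pos u3, T.w_pos u4, T.w_pos u5]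
          · -- (4,5) Dm
            exfalso
            have key := Groth.Agent.Helper6.NT.negfun5 T h2 u0 u1 u3 u4 u5 (by norm_num) 1 2 1 2 2 (by norm_num) (by norm_num)
            linarith only [key, tap_0_1, taq_0_1, z_0_3, z_0_4, z_0_5, tap_1_3, taq_1_3, tap_1_4, taq_1_4, z_1_5, z_3_4, z_3_5, tap_4_5, taq_4_5, T.w_pos u0, T.w_pos u1, T.w_pos u3, T.w_pos u4, T.w_pos u5]
          · -- (4,5) Tp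
            exfalso
            have key := Groth.Agent.Helper6.NT.negfun3 T h2 u1 u4 u5 (by norm_num) 1 2 1 (by norm_num) (by norm_num)
            linarith only [key, tap_1_4, taq_1_4, z_1_5, tap_4_5, taq_4_5, T.w_pos u1, T.w_pos u4, T.w_pos u5]
          · -- (4,5) Tm
            exfalso
            have key := Groth.Agent.Helper6.NT.negfun3 T h2 u1 u4 u5 (by norm_num) 1 2 3 (by norm_num) (by norm_num)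
            linarith only [key, tap_1_4, taq_1_4, z_1_5, tap_4_5, taq_4_5, T.w_pos u1, T.w_pos u4, T.w_pos u5]
        · push Not at hx
          have cl_4 := hx
          clear hx
          exfalso
          refine Groth.Agent.Helper6.NT.closed_contra T [u0, u1, u2, u3, u4] (by simp) (by simp) ?_
          intro i hi j hj
          simp only [List.mem_cons, List.not_mem_nil, or_false, not_or] at hi hj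
          rcases hi with rfl | rfl | rfl | rfl | rfl
          · exact cl_0 j ⟨hj.1, hj.2.1, hj.2.2.1⟩
          · exact cl_1 j ⟨hj.1, hj.2.1, hj.2.2.1, hj.2.2.2.1, hj.2.2.2.2⟩
          · exact cl_2 j ⟨hj.1, hj.2.1, hj.2.2.1, hj.2.2.2.1, hj.2.2.2.2⟩
          · exact cl_3 j ⟨hj.1, hj.2.1, hj.2.2.1, hj.2.2.2.1, hj.2.2.2.2⟩
          · exact cl_4 j ⟨hj.1, hj.2.1, hj.2.2.1, hj.2.2.2.1, hj.2.2.2.2⟩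

end Groth.Agent.Helper6.G1
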